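import Mathlib.GroupTheory.Sylow
import Mathlib.GroupTheory.Nilpotent
import Mathlib.GroupTheory.PGroup
import Mathlib.GroupTheory.IndexNormal
import Mathlib.GroupTheory.SpecificGroups.Cyclic

/-!
# Toolbox for finite `p`-groups

* `card_eq_pow`, `mul_card_le_card`, `lt_normalizer`, `normal_of_index_eq`
* `inf_center_ne_bot`, `exists_orderOf_eq_mem_center`, `le_center_of_card_eq`
* `normal_of_isCoatom`, `index_of_isCoatom`, `isCoatom_of_index_eq`
* `exists_normal_card_between` (normal subgroups of every order between two normal subgroups)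
* `commutator_top_lt` (`[N,G] < N` for a nontrivial normal subgroup `N`)
-/

set_option autoImplicit false

namespace Cfsg.Agent.PGroup

open scoped commutatorElement

universe u

variable {G : Type u} [Group G] {p : ℕ}

/-- The order of `H ⊔ zpowers x` when `H` is normal and the image of `x` has prime order. -/
theorem card_sup_zpowers [Finite G] [Fact p.Prime] (H : Subgroup G) [H.Normal] {x : G}
    (hx : x ∉ H) (hxp : x ^ p ∈ H) :
    Nat.card ↥(H ⊔ Subgroup.zpowers x) = Nat.card ↥H * p := by
  set K : Subgroup G := (Subgroup.zpowers (QuotientGroup.mk' H x)).comap (QuotientGroup.mk' H) with hK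
  have hKeq : H ⊔ Subgroup.zpowers x = K := by
    rw [hK, ← MonoidHom.map_zpowers, Subgroup.comap_map_eq, QuotientGroup.ker_mk', sup_comm]
  rw [hKeq]
  have ho : orderOf (QuotientGroup.mk' H x) = p := by
    refine orderOf_eq_prime ?_ ?_
    · rw [← map_pow]
      exact (QuotientGroup.eq_one_iff _).mpr hxp
    · exact fun h => hx ((QuotientGroup.eq_one_iff _).mp h)
  have h1 := Subgroup.card_mul_index K
  rw [hK, Subgroup.index_comap_of_surjective _ (QuotientGroup.mk'_surjective H), ← hK] at h1
  have h2 := Subgroup.card_mul_index (Subgroup.zpowers (QuotientGroup.mk' H x))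
  rw [Nat.card_zpowers, ho, ← Subgroup.index_eq_card H] at h2
  have h3 := Subgroup.card_mul_index H
  have hne : (Subgroup.zpowers (QuotientGroup.mk' H x)).index ≠ 0 := Subgroup.index_ne_zero_of_finite
  refine Nat.eq_of_mul_eq_mul_right (Nat.pos_of_ne_zero hne) ?_
  rw [h1, mul_assoc, h2, h3]

theorem card_eq_pow [Finite G] [Fact p.Prime] (hG : IsPGroup p G) (H : Subgroup G) :
    ∃ n : ℕ, Nat.card ↥H = p ^ n :=
  IsPGroup.iff_card.mp (hG.to_subgroup H)

theorem index_eq_pow [Finite G] [Fact p.Prime] (hG : IsPGroup p G) (H : Subgroup G) :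
    ∃ n : ℕ, H.index = p ^ n :=
  hG.index H

/-- A proper inclusion in a finite `p`-group multiplies the order by at least `p`. -/
theorem mul_card_le_card [Finite G] [Fact p.Prime] (hG : IsPGroup p G) {H K : Subgroup G}
    (h : H < K) : p * Nat.card ↥H ≤ Nat.card ↥K := by
  obtain ⟨a, ha⟩ := card_eq_pow hG H
  obtain ⟨b, hb⟩ := card_eq_pow hG K
  have hlt : Nat.card ↥H < Nat.card ↥K := by
    by_contra hcon
    exact h.ne (Subgroup.eq_of_le_of_card_ge h.le (not_lt.mp hcon))
  rw [ha, hb] at hlt ⊢
  have hab : a < b := (Nat.pow_lt_pow_iff_right (Fact.out (p := p.Prime)).one_lt).mp hlt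
  calc p * p ^ a = p ^ (a + 1) := by ring
    _ ≤ p ^ b := Nat.pow_le_pow_right (Fact.out (p := p.Prime)).pos hab

/-- The normalizer condition in a finite `p`-group. -/
theorem lt_normalizer [Finite G] [Fact p.Prime] (hG : IsPGroup p G) {H : Subgroup G}
    (hH : H ≠ ⊤) : H < Subgroup.normalizer (H : Set G) := by
  have := hG.isNilpotent
  exact Group.normalizerCondition_of_isNilpotent H (lt_top_iff_ne_top.mpr hH)

/-- A nontrivial normal subgroup of a finite `p`-group meets the centre nontrivially. -/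
theorem inf_center_ne_bot [Finite G] [Fact p.Prime] (hG : IsPGroup p G) (N : Subgroup G) [N.Normal]
    (hN : N ≠ ⊥) : N ⊓ Subgroup.center G ≠ ⊥ := by
  have hG' : IsPGroup p (ConjAct G) := hG
  have hp : p ∣ Nat.card ↥N := by
    obtain ⟨n, hn⟩ := card_eq_pow hG N
    rcases n with _ | n
    · exact absurd (Subgroup.card_eq_one.mp (by simpa using hn)) hN
    · exact ⟨p ^ n, by rw [hn]; ring⟩
  obtain ⟨b, hb, hne⟩ := hG'.exists_fixed_point_of_prime_dvd_card_of_fixed_point (↥N) hp
    (a := (1 : ↥N)) (fun g => smul_one g)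
  intro hbot
  have hbc : (b : G) ∈ Subgroup.center G := by
    rw [Subgroup.mem_center_iff]
    intro g
    have := congrArg (Subtype.val) (hb (ConjAct.toConjAct g))
    rw [ConjAct.Subgroup.val_conj_smul, ConjAct.toConjAct_smul] at this
    exact mul_inv_eq_iff_eq_mul.mp this
  have hmem : (b : G) ∈ N ⊓ Subgroup.center G := ⟨b.2, hbc⟩
  rw [hbot, Subgroup.mem_bot] at hmem
  exact hne (Subtype.ext hmem.symm)

/-- A nontrivial normal subgroup of a finite `p`-group contains a central element of order `p`. -/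
theorem exists_orderOf_eq_mem_center [Finite G] [Fact p.Prime] (hG : IsPGroup p G) (N : Subgroup G)
    [N.Normal] (hN : N ≠ ⊥) : ∃ z : G, z ∈ N ∧ z ∈ Subgroup.center G ∧ orderOf z = p := by
  have h := inf_center_ne_bot hG N hN
  have hd : p ∣ Nat.card ↥(N ⊓ Subgroup.center G) := by
    obtain ⟨n, hn⟩ := card_eq_pow hG (N ⊓ Subgroup.center G)
    rcases n with _ | n
    · exact absurd (Subgroup.card_eq_one.mp (by simpa using hn)) h
    · exact ⟨p ^ n, by rw [hn]; ring⟩
  obtain ⟨z, hz⟩ := exists_prime_orderOf_dvd_card' p hd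
  exact ⟨z, (Subgroup.mem_inf.mp z.2).1, (Subgroup.mem_inf.mp z.2).2, by rw [Subgroup.orderOf_coe, hz]⟩

/-- A normal subgroup of order `p` of a finite `p`-group is central. -/
theorem le_center_of_card_eq [Finite G] [Fact p.Prime] (hG : IsPGroup p G) (N : Subgroup G)
    [N.Normal] (hN : Nat.card ↥N = p) : N ≤ Subgroup.center G := by
  have hne : N ≠ ⊥ := fun h => (Fact.out (p := p.Prime)).ne_one (hN.symm.trans (by rw [h]; simp))
  have hlt := inf_center_ne_bot hG N hne
  have hdvd : Nat.card ↥(N ⊓ Subgroup.center G) ∣ p := hN ▸ Subgroup.card_dvd_of_le inf_le_left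
  rcases (Nat.dvd_prime (Fact.out (p := p.Prime))).mp hdvd with h | h
  · exact absurd (Subgroup.card_eq_one.mp h) hlt
  · exact inf_eq_left.mp (Subgroup.eq_of_le_of_card_ge inf_le_left (by rw [h, hN]))

theorem normal_of_isCoatom [Finite G] [Fact p.Prime] (hG : IsPGroup p G) {M : Subgroup G}
    (hM : IsCoatom M) : M.Normal :=
  Subgroup.normalizer_eq_top_iff.mp (hM.2 _ (lt_normalizer hG hM.1))

theorem index_of_isCoatom [Finite G] [Fact p.Prime] (hG : IsPGroup p G) {M : Subgroup G}
    (hM : IsCoatom M) : M.index = p := by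
  have := normal_of_isCoatom hG hM
  have hd : p ∣ Nat.card (G ⧸ M) := by
    obtain ⟨n, hn⟩ := IsPGroup.iff_card.mp (hG.to_quotient M)
    rcases n with _ | n
    · exact absurd (Subgroup.index_eq_one.mp (by rw [Subgroup.index_eq_card]; simpa using hn)) hM.1
    · exact ⟨p ^ n, by rw [hn]; ring⟩
  obtain ⟨q, hq⟩ := exists_prime_orderOf_dvd_card' p hd
  obtain ⟨x, rfl⟩ := QuotientGroup.mk'_surjective M q
  have hx : x ∉ M := fun h => by
    rw [show QuotientGroup.mk' M x = 1 from (QuotientGroup.eq_one_iff x).mpr h] at hq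
    simp at hq
    exact (Fact.out (p := p.Prime)).ne_one hq.symm
  have hxp : x ^ p ∈ M := by
    refine (QuotientGroup.eq_one_iff _).mp ?_
    have := pow_orderOf_eq_one (QuotientGroup.mk' M x)
    rwa [hq, ← map_pow] at this
  have htop : M ⊔ Subgroup.zpowers x = ⊤ := hM.2 _ (by
    rw [left_lt_sup]
    exact fun h => hx (h (Subgroup.mem_zpowers x)))
  have h1 := card_sup_zpowers M hx hxp
  rw [htop, Subgroup.card_top, ← Subgroup.card_mul_index M] at h1
  exact Nat.eq_of_mul_eq_mul_left Nat.card_pos h1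

theorem isCoatom_of_index_eq [Finite G] [Fact p.Prime] {M : Subgroup G} (hM : M.index = p) :
    IsCoatom M := by
  refine ⟨fun h => ?_, fun K hK => ?_⟩
  · rw [h, Subgroup.index_top] at hM
    exact (Fact.out (p := p.Prime)).ne_one hM.symm
  · have h1 := Subgroup.relIndex_mul_index hK.le
    rw [hM] at h1
    have hdvd : K.index ∣ p := ⟨M.relIndex K, by rw [← h1]; ring⟩
    rcases (Nat.dvd_prime (Fact.out (p := p.Prime))).mp hdvd with h | h
    · exact Subgroup.index_eq_one.mp h
    · rw [h] at h1
      have : M.relIndex K = 1 := Nat.eq_of_mul_eq_mul_right (Fact.out (p := p.Prime)).pos (by rw [h1, one_mul])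
      exact absurd (Subgroup.relIndex_eq_one.mp this) hK.not_ge

theorem normal_of_index_eq [Finite G] [Fact p.Prime] (hG : IsPGroup p G) {M : Subgroup G}
    (hM : M.index = p) : M.Normal :=
  normal_of_isCoatom hG (isCoatom_of_index_eq hM)

/-- A normal subgroup of index `p` contains the derived subgroup and all `p`-th powers. -/
theorem commutator_le_of_index_eq [Fact p.Prime] (M : Subgroup G) [M.Normal]
    (hM : M.index = p) : commutator G ≤ M := by
  have : IsCyclic (G ⧸ M) := isCyclic_of_prime_card (p := p) (by rw [← Subgroup.index_eq_card, hM])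
  have : Subgroup.Normal M := inferInstance
  rw [commutator_def, Subgroup.commutator_le]
  intro a _ b _
  refine (QuotientGroup.eq_one_iff _).mp ?_
  show QuotientGroup.mk' M ⁅a, b⁆ = 1
  rw [map_commutatorElement, commutatorElement_eq_one_iff_mul_comm]
  exact Std.Commutative.comm (op := (· * ·)) _ _

theorem pow_mem_of_index_eq (M : Subgroup G) [M.Normal] (hM : M.index = p) (x : G) :
    x ^ p ∈ M := by
  refine (QuotientGroup.eq_one_iff _).mp ?_
  show QuotientGroup.mk' M (x ^ p) = 1
  rw [map_pow, ← hM, Subgroup.index_eq_card]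
  exact pow_card_eq_one'

/-- Between two normal subgroups `N < M` there is a normal subgroup of order `p·|N|`. -/
theorem exists_normal_step [Finite G] [Fact p.Prime] (hG : IsPGroup p G) (N M : Subgroup G)
    [N.Normal] [M.Normal] (h : N < M) :
    ∃ L : Subgroup G, L.Normal ∧ N < L ∧ L ≤ M ∧ Nat.card ↥L = Nat.card ↥N * p := by
  have hne : M.map (QuotientGroup.mk' N) ≠ ⊥ := by
    rw [Ne, Subgroup.map_eq_bot_iff, QuotientGroup.ker_mk']
    exact h.not_ge
  have : (M.map (QuotientGroup.mk' N)).Normal :=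
    Subgroup.Normal.map inferInstance _ (QuotientGroup.mk'_surjective N)
  obtain ⟨z, hzM, hzc, hzo⟩ := exists_orderOf_eq_mem_center (hG.to_quotient N) _ hne
  obtain ⟨x, hxM, rfl⟩ := Subgroup.mem_map.mp hzM
  have hx : x ∉ N := fun hh => by
    rw [show QuotientGroup.mk' N x = 1 from (QuotientGroup.eq_one_iff x).mpr hh] at hzo
    simp at hzo
    exact (Fact.out (p := p.Prime)).ne_one hzo.symm
  have hxp : x ^ p ∈ N := by
    refine (QuotientGroup.eq_one_iff _).mp ?_
    have := pow_orderOf_eq_one (QuotientGroup.mk' N x)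
    rwa [hzo, ← map_pow] at this
  refine ⟨N ⊔ Subgroup.zpowers x, ?_, ?_, ?_, card_sup_zpowers N hx hxp⟩
  · have hnormal : (Subgroup.zpowers (QuotientGroup.mk' N x)).Normal := by
      constructor
      intro a ha g
      have hac : a ∈ Subgroup.center (G ⧸ N) := Subgroup.zpowers_le.mpr hzc ha
      rw [Subgroup.mem_center_iff.mp hac g, mul_inv_cancel_right]
      exact ha
    have := hnormal.comap (QuotientGroup.mk' N)
    rwa [← MonoidHom.map_zpowers, Subgroup.comap_map_eq, QuotientGroup.ker_mk', sup_comm] at this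
  · rw [left_lt_sup]
    exact fun h => hx (h (Subgroup.mem_zpowers x))
  · exact sup_le h.le (Subgroup.zpowers_le.mpr hxM)

/-- Normal subgroups of every order between two normal subgroups. -/
theorem exists_normal_card_between [Finite G] [Fact p.Prime] (hG : IsPGroup p G) (N M : Subgroup G)
    [N.Normal] [M.Normal] (hNM : N ≤ M) (k : ℕ) (hk : Nat.card ↥N ≤ p ^ k)
    (hk' : p ^ k ≤ Nat.card ↥M) :
    ∃ L : Subgroup G, L.Normal ∧ N ≤ L ∧ L ≤ M ∧ Nat.card ↥L = p ^ k := by
  suffices H : ∀ d : ℕ, ∀ N : Subgroup G, N.Normal → N ≤ M → ∀ a : ℕ, Nat.card ↥N = p ^ a →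
      a + d = k → ∃ L : Subgroup G, L.Normal ∧ N ≤ L ∧ L ≤ M ∧ Nat.card ↥L = p ^ k by
    obtain ⟨a, ha⟩ := card_eq_pow hG N
    have hak : a ≤ k := by
      rw [ha] at hk
      exact (Nat.pow_le_pow_iff_right (Fact.out (p := p.Prime)).one_lt).mp hk
    exact H (k - a) N inferInstance hNM a ha (by omega)
  intro d
  induction d with
  | zero =>
    intro N hN hle a ha had
    exact ⟨N, hN, le_rfl, hle, by rw [ha, ← had, add_zero]⟩
  | succ d ih =>
    intro N hN hle a ha had
    have hlt : N < M := lt_of_le_of_ne hle fun he => by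
      rw [← he, ha] at hk'
      have := (Nat.pow_le_pow_iff_right (Fact.out (p := p.Prime)).one_lt).mp hk'
      omega
    obtain ⟨L, hL, hNL, hLM, hcard⟩ := exists_normal_step hG N M hlt
    obtain ⟨L', h1, h2, h3, h4⟩ := ih L hL hLM (a + 1) (by rw [hcard, ha]; ring) (by omega)
    exact ⟨L', h1, hNL.le.trans h2, h3, h4⟩

/-- `[N, G] < N` for a nontrivial normal subgroup `N` of a finite `p`-group. -/
theorem commutator_top_lt [Finite G] [Fact p.Prime] (hG : IsPGroup p G) (N : Subgroup G) [N.Normal]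
    (hN : N ≠ ⊥) : ⁅N, (⊤ : Subgroup G)⁆ < N := by
  obtain ⟨n, hn⟩ := card_eq_pow hG N
  have hn0 : n ≠ 0 := fun h => hN (Subgroup.card_eq_one.mp (by rw [hn, h, pow_zero]))
  obtain ⟨L, hL, -, hLN, hLc⟩ := exists_normal_card_between hG ⊥ N bot_le (n - 1)
    (by simpa using Nat.one_le_pow _ _ (Fact.out (p := p.Prime)).pos)
    (by rw [hn]; exact Nat.pow_le_pow_right (Fact.out (p := p.Prime)).pos (by omega))
  have hlt : L < N := lt_of_le_of_ne hLN fun he => by
    rw [he, hn] at hLc
    have := Nat.pow_right_injective (Fact.out (p := p.Prime)).two_le hLc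
    omega
  refine lt_of_le_of_lt ?_ hlt
  have hc : N.map (QuotientGroup.mk' L) ≤ Subgroup.center (G ⧸ L) := by
    have : (N.map (QuotientGroup.mk' L)).Normal :=
      Subgroup.Normal.map inferInstance _ (QuotientGroup.mk'_surjective L)
    refine le_center_of_card_eq (hG.to_quotient L) _ ?_
    rw [← Subgroup.relIndex_bot_left, ← QuotientGroup.map_mk'_self L, Subgroup.relIndex_map_map,
      QuotientGroup.ker_mk', sup_idem, sup_eq_left.mpr hLN]
    have h1 : Nat.card ↥L * L.relIndex N = Nat.card ↥N := by rw [← Subgroup.relIndex_bot_left L, Subgroup.relIndex_mul_relIndex _ _ _ bot_le hLN, Subgroup.relIndex_bot_left]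
    rw [hLc, hn, show p ^ n = p ^ (n - 1) * p by rw [← pow_succ]; congr 1; omega] at h1
    exact Nat.eq_of_mul_eq_mul_left (Nat.pow_pos (Fact.out (p := p.Prime)).pos) h1
  rw [Subgroup.commutator_le]
  intro a ha b _
  refine (QuotientGroup.eq_one_iff _).mp ?_
  show QuotientGroup.mk' L ⁅a, b⁆ = 1
  rw [map_commutatorElement, commutatorElement_eq_one_iff_mul_comm]
  exact (Subgroup.mem_center_iff.mp (hc (Subgroup.mem_map_of_mem _ ha)) _).symm

end Cfsg.Agent.PGroup
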