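import Mathlib.GroupTheory.Frattini
import Mathlib.Data.Finset.Card
import Cfsg.Agent.Lib.PGroup.Basic

/-!
# The Frattini subgroup of a finite `p`-group

* `commutator_le_frattini`, `pow_mem_frattini`, `frattini_le`, `frattini_eq` (`Φ = G'G^p`)
* `frattini_quotient_le_iff`, `map_frattini` (surjections), `map_frattini_le` (subgroups),
* `frattini_eq_bot_iff`, `closure_eq_top_of_sup_frattini`, `exists_basis` (Burnside)
-/

set_option autoImplicit false

namespace Cfsg.Agent.PGroup

open scoped commutatorElement

universe u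

variable {G : Type u} [Group G] {p : ℕ}

theorem le_frattini_of_forall_coatom {H : Subgroup G} (h : ∀ M : Subgroup G, IsCoatom M → H ≤ M) :
    H ≤ frattini G :=
  le_iInf₂ fun M hM => h M hM

/-- `P' ≤ Φ(P)`. -/
theorem commutator_le_frattini [Finite G] [Fact p.Prime] (hG : IsPGroup p G) :
    commutator G ≤ frattini G :=
  le_frattini_of_forall_coatom fun M hM => by
    have := normal_of_isCoatom hG hM
    exact commutator_le_of_index_eq M (index_of_isCoatom hG hM)

/-- `p`-th powers lie in `Φ(P)`. -/
theorem pow_mem_frattini [Finite G] [Fact p.Prime] (hG : IsPGroup p G) (x : G) :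
    x ^ p ∈ frattini G := by
  have h : Subgroup.zpowers (x ^ p) ≤ frattini G := le_frattini_of_forall_coatom fun M hM => by
    have := normal_of_isCoatom hG hM
    exact Subgroup.zpowers_le.mpr (pow_mem_of_index_eq M (index_of_isCoatom hG hM) x)
  exact h (Subgroup.mem_zpowers _)

/-- A subgroup containing the derived subgroup and all `p`-th powers contains `Φ(G)`. -/
theorem frattini_le [Finite G] [Fact p.Prime] {N : Subgroup G} (hc : commutator G ≤ N)
    (hp : ∀ x : G, x ^ p ∈ N) : frattini G ≤ N := by
  intro x hx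
  by_contra hxN
  -- a maximal subgroup containing `N` but not `x`
  obtain ⟨M, hM⟩ := (Set.toFinite {M : Subgroup G | N ≤ M ∧ x ∉ M}).exists_maximal ⟨N, le_rfl, hxN⟩
  obtain ⟨⟨hNM, hxM⟩, hmax⟩ := hM
  have hMn : M.Normal := Subgroup.Normal.of_commutator_le G (hc.trans hNM)
  have htop : M ⊔ Subgroup.zpowers x = ⊤ := by
    rw [eq_top_iff]
    intro y _
    by_contra hy
    have hyM : y ∉ M := fun h => hy ((le_sup_left : M ≤ M ⊔ Subgroup.zpowers x) h)
    have h1 := card_sup_zpowers M hxM (hNM (hp x))
    have h2 := card_sup_zpowers M hyM (hNM (hp y))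
    have hxy : x ∈ M ⊔ Subgroup.zpowers y := by
      by_contra hc'
      have hlt : M < M ⊔ Subgroup.zpowers y := left_lt_sup.mpr fun h => hyM (h (Subgroup.mem_zpowers y))
      exact hlt.not_ge (hmax (show M ⊔ Subgroup.zpowers y ∈ {M : Subgroup G | N ≤ M ∧ x ∉ M} from
        ⟨hNM.trans hlt.le, hc'⟩) hlt.le)
    have heq : M ⊔ Subgroup.zpowers x = M ⊔ Subgroup.zpowers y :=
      Subgroup.eq_of_le_of_card_ge (sup_le le_sup_left (Subgroup.zpowers_le.mpr hxy))
        (by rw [h1, h2])
    rw [heq] at hy
    exact hy ((le_sup_right : Subgroup.zpowers y ≤ M ⊔ Subgroup.zpowers y) (Subgroup.mem_zpowers y))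
  have hcoatom : IsCoatom M := by
    refine ⟨fun h => hxM (h ▸ Subgroup.mem_top x), fun K hK => ?_⟩
    by_contra hKtop
    have hxK : x ∉ K := fun h => hKtop (top_le_iff.mp (htop ▸ sup_le hK.le (Subgroup.zpowers_le.mpr h)))
    exact hK.not_ge (hmax (show K ∈ {M : Subgroup G | N ≤ M ∧ x ∉ M} from ⟨hNM.trans hK.le, hxK⟩) hK.le)
  exact hxM (frattini_le_coatom hcoatom hx)

/-- In a finite `p`-group `Φ(G) = G'·⟨x^p⟩`. -/
theorem frattini_eq [Finite G] [Fact p.Prime] (hG : IsPGroup p G) :
    frattini G = commutator G ⊔ Subgroup.closure (Set.range fun x : G => x ^ p) := by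
  refine le_antisymm (frattini_le (p := p) le_sup_left fun x => ?_) (sup_le (commutator_le_frattini hG) ?_)
  · exact Subgroup.mem_sup_right (Subgroup.subset_closure ⟨x, rfl⟩)
  · rw [Subgroup.closure_le]
    rintro _ ⟨x, rfl⟩
    exact pow_mem_frattini hG x

theorem frattini_eq_bot_iff [Finite G] [Fact p.Prime] (hG : IsPGroup p G) :
    frattini G = ⊥ ↔ IsMulCommutative G ∧ ∀ x : G, x ^ p = 1 := by
  constructor
  · intro h
    refine ⟨(commutator_eq_bot_iff G).mp (le_bot_iff.mp (h ▸ commutator_le_frattini hG)), fun x => ?_⟩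
    exact Subgroup.mem_bot.mp (h ▸ pow_mem_frattini hG x)
  · rintro ⟨hc, hp⟩
    exact le_bot_iff.mp (frattini_le ((commutator_eq_bot_iff G).mpr hc).le fun x => Subgroup.mem_bot.mpr (hp x))

/-- Surjections map the Frattini subgroup of a finite `p`-group onto the Frattini subgroup. -/
theorem map_frattini [Finite G] [Fact p.Prime] (hG : IsPGroup p G) {H : Type*} [Group H]
    (f : G →* H) (hf : Function.Surjective f) : (frattini G).map f = frattini H := by
  have : Finite H := Finite.of_surjective f hf
  refine le_antisymm (Subgroup.map_le_iff_le_comap.mpr (frattini_le_comap_frattini_of_surjective hf)) ?_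
  refine frattini_le (p := p) ?_ fun y => ?_
  · rw [commutator_def, ← Subgroup.map_top_of_surjective f hf, ← Subgroup.map_commutator, ← commutator_def]
    exact Subgroup.map_mono (commutator_le_frattini hG)
  · obtain ⟨x, rfl⟩ := hf y
    exact ⟨x ^ p, pow_mem_frattini hG x, map_pow f x p⟩

/-- For a subgroup `H` of a finite `p`-group, `Φ(H) ≤ Φ(G)`. -/
theorem map_frattini_le [Finite G] [Fact p.Prime] (hG : IsPGroup p G) (H : Subgroup G) :
    (frattini ↥H).map H.subtype ≤ frattini G := by
  rw [Subgroup.map_le_iff_le_comap]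
  refine frattini_le (p := p) ?_ fun x => ?_
  · rw [← Subgroup.map_le_iff_le_comap, Subgroup.map_subtype_commutator]
    refine le_trans ?_ (commutator_le_frattini hG)
    rw [commutator_def]
    exact Subgroup.commutator_mono le_top le_top
  · exact pow_mem_frattini hG (x : G)

/-- A set generates a finite group as soon as it does so modulo the Frattini subgroup. -/
theorem closure_eq_top_of_sup_frattini [Finite G] {S : Set G}
    (h : Subgroup.closure S ⊔ frattini G = ⊤) : Subgroup.closure S = ⊤ :=
  frattini_nongenerating h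

theorem card_sup_zpowers_frattini [Finite G] [Fact p.Prime] (hG : IsPGroup p G) {H : Subgroup G}
    (hH : frattini G ≤ H) {x : G} (hx : x ∉ H) :
    Nat.card ↥(H ⊔ Subgroup.zpowers x) = Nat.card ↥H * p := by
  have : H.Normal := Subgroup.Normal.of_commutator_le G ((commutator_le_frattini hG).trans hH)
  exact card_sup_zpowers H hx (hH (pow_mem_frattini hG x))

/-- `|⟨T⟩Φ(G)| ≤ p^|T| |Φ(G)|`. -/
theorem card_closure_sup_frattini_le [Finite G] [Fact p.Prime] (hG : IsPGroup p G) (T : Finset G) :
    Nat.card ↥(Subgroup.closure (T : Set G) ⊔ frattini G) ≤ Nat.card ↥(frattini G) * p ^ T.card := by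
  classical
  induction T using Finset.induction_on with
  | empty => simp
  | insert a T ha ih =>
    have heq : Subgroup.closure ((insert a T : Finset G) : Set G) ⊔ frattini G =
        (Subgroup.closure (T : Set G) ⊔ frattini G) ⊔ Subgroup.zpowers a := by
      rw [Finset.coe_insert, Set.insert_eq, Subgroup.closure_union, ← Subgroup.zpowers_eq_closure]
      ac_rfl
    rw [heq, Finset.card_insert_of_notMem ha, pow_succ, ← mul_assoc]
    by_cases hmem : a ∈ Subgroup.closure (T : Set G) ⊔ frattini G
    · rw [sup_eq_left.mpr (Subgroup.zpowers_le.mpr hmem)]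
      exact ih.trans (Nat.le_mul_of_pos_right _ (Fact.out (p := p.Prime)).pos)
    · rw [card_sup_zpowers_frattini hG le_sup_right hmem]
      exact Nat.mul_le_mul_right _ ih

/-- Any finite set contains a subset which is a basis of the subgroup it spans modulo `Φ(G)`. -/
theorem exists_basis [Finite G] [Fact p.Prime] (hG : IsPGroup p G) (S : Finset G) :
    ∃ T : Finset G, T ⊆ S ∧
      Subgroup.closure (T : Set G) ⊔ frattini G = Subgroup.closure (S : Set G) ⊔ frattini G ∧
      Nat.card ↥(Subgroup.closure (T : Set G) ⊔ frattini G) = Nat.card ↥(frattini G) * p ^ T.card := by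
  classical
  induction S using Finset.induction_on with
  | empty => exact ⟨∅, subset_rfl, rfl, by simp⟩
  | insert a S ha ih =>
    obtain ⟨T, hTS, hTe, hTc⟩ := ih
    have heq : ∀ U : Finset G, Subgroup.closure ((insert a U : Finset G) : Set G) ⊔ frattini G =
        (Subgroup.closure (U : Set G) ⊔ frattini G) ⊔ Subgroup.zpowers a := by
      intro U
      rw [Finset.coe_insert, Set.insert_eq, Subgroup.closure_union, ← Subgroup.zpowers_eq_closure]
      ac_rfl
    by_cases hmem : a ∈ Subgroup.closure (T : Set G) ⊔ frattini G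
    · refine ⟨T, hTS.trans (Finset.subset_insert a S), ?_, hTc⟩
      rw [heq, ← hTe, sup_eq_left.mpr (Subgroup.zpowers_le.mpr hmem)]
    · refine ⟨insert a T, Finset.insert_subset_insert a hTS, by rw [heq, heq, hTe], ?_⟩
      rw [heq, card_sup_zpowers_frattini hG le_sup_right hmem, hTc, mul_assoc, ← pow_succ,
        Finset.card_insert_of_notMem fun h => hmem (Subgroup.mem_sup_left (Subgroup.subset_closure h))]

end Cfsg.Agent.PGroup
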