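import Mathlib.GroupTheory.Commutator.Basic
import Mathlib.GroupTheory.Nilpotent
import Mathlib.Data.Nat.Choose.Basic
import Mathlib.Data.Nat.Choose.Dvd

/-!
# Identities for central commutators and groups of class at most 2

Convention: `⁅x, y⁆ = x * y * x⁻¹ * y⁻¹`.

* `commutator_mul_left/right`, `commutator_pow_left/right`, `commutator_zpow_left`, `mul_pow_class_two`
* `commHom` (the homomorphism `x ↦ ⁅x, y⁆`), `pow_eq_one_of_mem_closure` (Ω₁ has exponent p for p odd)
* `powHom` (`x ↦ x^p` is a homomorphism if `p` is odd and commutators have order dividing `p`)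
-/

set_option autoImplicit false

namespace Cfsg.Agent.PGroup

open scoped commutatorElement

universe u

variable {G : Type u} [Group G]

theorem mem_center_of_class_two (h : commutator G ≤ Subgroup.center G) (a b : G) :
    ⁅a, b⁆ ∈ Subgroup.center G :=
  h (Subgroup.commutator_mem_commutator (Subgroup.mem_top a) (Subgroup.mem_top b))

theorem class_two_iff : commutator G ≤ Subgroup.center G ↔ ⁅commutator G, (⊤ : Subgroup G)⁆ = ⊥ :=
  Subgroup.commutator_top_right_eq_bot_iff_le_center.symm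

/-- `⁅a * b, c⁆ = ⁅a, c⁆ * ⁅b, c⁆` if `⁅b, c⁆` is central. -/
theorem commutator_mul_left {a b c : G} (h : ⁅b, c⁆ ∈ Subgroup.center G) :
    ⁅a * b, c⁆ = ⁅a, c⁆ * ⁅b, c⁆ := by
  have hc := Subgroup.mem_center_iff.mp h
  rw [commutatorElement_mul_left_eq_conj_mul, hc a, mul_inv_cancel_right,
    ← hc ⁅a, c⁆]

/-- `⁅a, b * c⁆ = ⁅a, b⁆ * ⁅a, c⁆` if `⁅a, c⁆` is central. -/
theorem commutator_mul_right {a b c : G} (h : ⁅a, c⁆ ∈ Subgroup.center G) :
    ⁅a, b * c⁆ = ⁅a, b⁆ * ⁅a, c⁆ := by
  have hc := Subgroup.mem_center_iff.mp h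
  rw [commutatorElement_mul_right_eq_mul_conj, mul_assoc _ b, hc b, mul_assoc, mul_inv_cancel_right]

theorem commutator_pow_left {a b : G} (h : ⁅a, b⁆ ∈ Subgroup.center G) (n : ℕ) :
    ⁅a ^ n, b⁆ = ⁅a, b⁆ ^ n := by
  induction n with
  | zero => simp
  | succ n ih => rw [pow_succ, commutator_mul_left h, ih, pow_succ]

theorem commutator_pow_right {a b : G} (h : ⁅a, b⁆ ∈ Subgroup.center G) (n : ℕ) :
    ⁅a, b ^ n⁆ = ⁅a, b⁆ ^ n := by
  induction n with
  | zero => simp
  | succ n ih => rw [pow_succ, commutator_mul_right h, ih, pow_succ]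

theorem commutator_inv_left {a b : G} (h : ⁅a, b⁆ ∈ Subgroup.center G) :
    ⁅a⁻¹, b⁆ = ⁅a, b⁆⁻¹ := by
  refine eq_inv_of_mul_eq_one_left ?_
  rw [← commutator_mul_left h, inv_mul_cancel, commutatorElement_one_left]

theorem commutator_zpow_left {a b : G} (h : ⁅a, b⁆ ∈ Subgroup.center G) (n : ℤ) :
    ⁅a ^ n, b⁆ = ⁅a, b⁆ ^ n := by
  cases n with
  | ofNat n => rw [Int.ofNat_eq_natCast, zpow_natCast, zpow_natCast, commutator_pow_left h]
  | negSucc n =>
    have hn : ⁅a ^ (n + 1), b⁆ ∈ Subgroup.center G := by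
      rw [commutator_pow_left h]
      exact Subgroup.pow_mem _ h _
    rw [zpow_negSucc, zpow_negSucc, commutator_inv_left hn, commutator_pow_left h]

/-- `(xy)^n = x^n y^n ⁅y, x⁆^(n choose 2)` if `⁅y, x⁆` is central. -/
theorem mul_pow_of_central {x y : G} (h : ⁅y, x⁆ ∈ Subgroup.center G) (n : ℕ) :
    (x * y) ^ n = x ^ n * y ^ n * ⁅y, x⁆ ^ n.choose 2 := by
  induction n with
  | zero => simp
  | succ n ih =>
    set c := ⁅y, x⁆ with hc'
    have hc : ∀ g : G, Commute (c ^ n.choose 2) g := fun g =>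
      (Subgroup.mem_center_iff.mp (Subgroup.pow_mem _ h _) g).symm
    have hn : Commute (c ^ n) (x * y ^ n) :=
      (Subgroup.mem_center_iff.mp (Subgroup.pow_mem _ h _) _).symm
    have h1 : y ^ n * x = x * y ^ n * c ^ n := by
      rw [← hn.eq, hc', ← commutator_pow_left h, commutatorElement_def]
      group
    calc (x * y) ^ (n + 1) = x ^ n * y ^ n * c ^ n.choose 2 * (x * y) := by rw [pow_succ, ih]
      _ = x ^ n * (y ^ n * x) * y * c ^ n.choose 2 := by
        rw [mul_assoc (x ^ n * y ^ n), (hc (x * y)).eq]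
        group
      _ = x ^ n * (x * y ^ n * c ^ n) * y * c ^ n.choose 2 := by rw [h1]
      _ = x ^ (n + 1) * y ^ (n + 1) * c ^ (n + 1).choose 2 := by
        have hcy : Commute (c ^ n) y := (Subgroup.mem_center_iff.mp (Subgroup.pow_mem _ h _) y).symm
        rw [Nat.choose_succ_succ', Nat.choose_one_right, pow_succ, pow_succ, pow_add]
        calc x ^ n * (x * y ^ n * c ^ n) * y * c ^ n.choose 2
            = x ^ n * x * y ^ n * (c ^ n * y) * c ^ n.choose 2 := by group
          _ = x ^ n * x * y ^ n * (y * c ^ n) * c ^ n.choose 2 := by rw [hcy.eq]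
          _ = _ := by group

/-- The homomorphism `x ↦ ⁅x, y⁆` on a subgroup whose commutators with `y` are central. -/
def commHom (H : Subgroup G) (y : G) (h : ∀ x ∈ H, ⁅x, y⁆ ∈ Subgroup.center G) :
    ↥H →* ↥(Subgroup.center G) where
  toFun x := ⟨⁅(x : G), y⁆, h x x.2⟩
  map_one' := Subtype.ext (commutatorElement_one_left y)
  map_mul' a b := Subtype.ext (commutator_mul_left (h b b.2))

@[simp]
theorem commHom_apply (H : Subgroup G) (y : G) (h : ∀ x ∈ H, ⁅x, y⁆ ∈ Subgroup.center G) (x : ↥H) :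
    ((commHom H y h x : ↥(Subgroup.center G)) : G) = ⁅(x : G), y⁆ := rfl

variable {p : ℕ}

theorem dvd_choose_two (hp : p.Prime) (h2 : p ≠ 2) : p ∣ p.choose 2 :=
  hp.dvd_choose_self two_ne_zero (lt_of_le_of_ne hp.two_le (Ne.symm h2))

/-- For `p` odd: `(xy)^p = x^p y^p` if `⁅y, x⁆` is central of order dividing `p`. -/
theorem mul_pow_prime (hp : p.Prime) (h2 : p ≠ 2) {x y : G} (h : ⁅y, x⁆ ∈ Subgroup.center G)
    (hc : ⁅y, x⁆ ^ p = 1) : (x * y) ^ p = x ^ p * y ^ p := by
  obtain ⟨k, hk⟩ := dvd_choose_two hp h2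
  rw [mul_pow_of_central h, hk, pow_mul, hc, one_pow, mul_one]

/-- For `p` odd and class at most 2, the subgroup generated by elements of order dividing `p` has
exponent dividing `p`. -/
theorem pow_eq_one_of_mem_closure (hp : p.Prime) (h2 : p ≠ 2)
    (hcl : commutator G ≤ Subgroup.center G) {s : Set G} (hs : ∀ x ∈ s, x ^ p = 1) {g : G}
    (hg : g ∈ Subgroup.closure s) : g ^ p = 1 := by
  induction hg using Subgroup.closure_induction with
  | mem x hx => exact hs x hx
  | one => exact one_pow p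
  | mul x y _ _ hx hy =>
    have hc := mem_center_of_class_two hcl y x
    rw [mul_pow_prime hp h2 hc (by rw [← commutator_pow_left hc, hy, commutatorElement_one_left]),
      hx, hy, one_mul]
  | inv x _ hx => rw [inv_pow, hx, inv_one]

/-- The `p`-th power homomorphism of a class `≤ 2` group with `p` odd and commutators of order
dividing `p`. -/
def powHom (hp : p.Prime) (h2 : p ≠ 2) (hcl : commutator G ≤ Subgroup.center G)
    (hc : ∀ a b : G, ⁅a, b⁆ ^ p = 1) : G →* G where
  toFun x := x ^ p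
  map_one' := one_pow p
  map_mul' x y := mul_pow_prime hp h2 (mem_center_of_class_two hcl y x) (hc y x)

@[simp]
theorem powHom_apply (hp : p.Prime) (h2 : p ≠ 2) (hcl : commutator G ≤ Subgroup.center G)
    (hc : ∀ a b : G, ⁅a, b⁆ ^ p = 1) (x : G) : powHom hp h2 hcl hc x = x ^ p := rfl

/-- In a group of class at most 2 with central `p`-th powers, commutators have order dividing `p`. -/
theorem commutator_pow_eq_one (hcl : commutator G ≤ Subgroup.center G)
    (hpow : ∀ x : G, x ^ p ∈ Subgroup.center G) (a b : G) : ⁅a, b⁆ ^ p = 1 := by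
  rw [← commutator_pow_left (mem_center_of_class_two hcl a b), commutatorElement_eq_one_iff_mul_comm]
  exact (Subgroup.mem_center_iff.mp (hpow a) b).symm

end Cfsg.Agent.PGroup
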