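import Cfsg.Prelude.Def_Transfer
import Cfsg.Prelude.Def_PLocal
import Cfsg.Agent.Lib.PGroup.Basic

/-!
# Elementary abelian subgroups, `Ω₁` and the power subgroups

* `isElementaryAbelian_bot/mono/map/comap/subgroupOf/zpowers/sup`, `IsElementaryAbelian` is a `p`-group
* `exists_maxElementaryAbelian`, `omegaOne` API (`mem_omegaOne_of_pow_eq_one`, `omegaOne_le`, `omegaOne_mono`,
  `map_omegaOne_le`, `omegaOne_map_equiv`, `omegaOne_characteristic`, `isElementaryAbelian_omegaOne`)
* `powerClosure` API.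
-/

set_option autoImplicit false

namespace Cfsg.Agent.PGroup

open scoped commutatorElement

universe u

variable {G : Type u} [Group G] {p : ℕ}

theorem mul_comm_of_elementaryAbelian {A : Subgroup G} (hA : IsElementaryAbelian p A) {a b : G}
    (ha : a ∈ A) (hb : b ∈ A) : a * b = b * a := by
  have := hA.1.is_comm.comm ⟨a, ha⟩ ⟨b, hb⟩
  exact congrArg Subtype.val this

theorem isMulCommutative_of_forall {A : Subgroup G} (h : ∀ a ∈ A, ∀ b ∈ A, a * b = b * a) :
    IsMulCommutative A :=
  ⟨⟨fun a b => Subtype.ext (h a a.2 b b.2)⟩⟩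

theorem mul_comm_of_isMulCommutative {A : Subgroup G} (hA : IsMulCommutative A) {a b : G}
    (ha : a ∈ A) (hb : b ∈ A) : a * b = b * a :=
  congrArg Subtype.val (hA.is_comm.comm ⟨a, ha⟩ ⟨b, hb⟩)

theorem isElementaryAbelian_of_forall {A : Subgroup G} (h : ∀ a ∈ A, ∀ b ∈ A, a * b = b * a)
    (hp : ∀ a ∈ A, a ^ p = 1) : IsElementaryAbelian p A :=
  ⟨isMulCommutative_of_forall h, hp⟩

theorem isElementaryAbelian_bot : IsElementaryAbelian p (⊥ : Subgroup G) := by
  refine isElementaryAbelian_of_forall (fun a ha b hb => ?_) fun a ha => ?_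
  · rw [Subgroup.mem_bot.mp ha, Subgroup.mem_bot.mp hb]
  · rw [Subgroup.mem_bot.mp ha, one_pow]

theorem isElementaryAbelian_mono {A B : Subgroup G} (hA : IsElementaryAbelian p A) (h : B ≤ A) :
    IsElementaryAbelian p B :=
  isElementaryAbelian_of_forall (fun _ ha _ hb => mul_comm_of_elementaryAbelian hA (h ha) (h hb))
    fun a ha => hA.2 a (h ha)

theorem isElementaryAbelian_map {H : Type*} [Group H] {A : Subgroup G}
    (hA : IsElementaryAbelian p A) (f : G →* H) : IsElementaryAbelian p (A.map f) := by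
  refine ⟨isMulCommutative_of_forall ?_, ?_⟩
  · rintro _ ⟨a, ha, rfl⟩ _ ⟨b, hb, rfl⟩
    rw [← map_mul, ← map_mul, mul_comm_of_elementaryAbelian hA ha hb]
  · rintro _ ⟨a, ha, rfl⟩
    rw [← map_pow, hA.2 a ha, map_one]

theorem isElementaryAbelian_comap {H : Type*} [Group H] {A : Subgroup H}
    (hA : IsElementaryAbelian p A) {f : G →* H} (hf : Function.Injective f) :
    IsElementaryAbelian p (A.comap f) := by
  refine ⟨isMulCommutative_of_forall fun a ha b hb => hf ?_, fun a ha => hf ?_⟩
  · rw [map_mul, map_mul]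
    exact congrArg Subtype.val (hA.1.is_comm.comm ⟨f a, ha⟩ ⟨f b, hb⟩)
  · rw [map_pow, hA.2 _ ha, map_one]

theorem isElementaryAbelian_map_iff {H : Type*} [Group H] {A : Subgroup G} {f : G →* H}
    (hf : Function.Injective f) : IsElementaryAbelian p (A.map f) ↔ IsElementaryAbelian p A := by
  refine ⟨fun h => ?_, fun h => isElementaryAbelian_map h f⟩
  have := isElementaryAbelian_comap h hf
  rwa [Subgroup.comap_map_eq_self_of_injective hf] at this

theorem isPGroup_of_elementaryAbelian {A : Subgroup G} (hA : IsElementaryAbelian p A) :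
    IsPGroup p A :=
  fun a => ⟨1, Subtype.ext (by simpa using hA.2 a a.2)⟩

theorem isElementaryAbelian_zpowers {x : G} (hx : x ^ p = 1) :
    IsElementaryAbelian p (Subgroup.zpowers x) := by
  refine isElementaryAbelian_of_forall ?_ ?_
  · rintro _ ⟨i, rfl⟩ _ ⟨j, rfl⟩
    exact (Commute.refl x).zpow_zpow i j
  · rintro _ ⟨i, rfl⟩
    show (x ^ i) ^ p = 1
    rw [← zpow_natCast, ← zpow_mul, mul_comm, zpow_mul, zpow_natCast, hx, one_zpow]

/-- Two commuting elementary abelian subgroups generate an elementary abelian subgroup. -/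
theorem isElementaryAbelian_sup {A B : Subgroup G} (hA : IsElementaryAbelian p A)
    (hB : IsElementaryAbelian p B) (h : ∀ a ∈ A, ∀ b ∈ B, a * b = b * a) :
    IsElementaryAbelian p (A ⊔ B) := by
  have hAB : A ≤ Subgroup.centralizer (B : Set G) := fun a ha b hb => (h a ha b hb).symm
  have hcomm : ∀ x ∈ A ⊔ B, ∀ y ∈ A ⊔ B, x * y = y * x := by
    have hle : A ⊔ B ≤ Subgroup.centralizer ((A ⊔ B : Subgroup G) : Set G) := by
      have hA' : A ≤ Subgroup.centralizer (A : Set G) := fun a ha b hb =>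
        mul_comm_of_elementaryAbelian hA hb ha
      have hB' : B ≤ Subgroup.centralizer (B : Set G) := fun a ha b hb =>
        mul_comm_of_elementaryAbelian hB hb ha
      rw [Subgroup.le_centralizer_iff]
      refine sup_le ?_ ?_ <;> rw [Subgroup.le_centralizer_iff] <;> refine sup_le ?_ ?_
      · exact hA'
      · exact Subgroup.le_centralizer_iff.mp hAB
      · exact hAB
      · exact hB'
    intro x hx y hy
    exact (hle hx y hy).symm
  refine isElementaryAbelian_of_forall hcomm fun x hx => ?_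

  rw [← Subgroup.closure_eq A, ← Subgroup.closure_eq B, ← Subgroup.closure_union] at hx
  induction hx using Subgroup.closure_induction with
  | mem x hx => rcases hx with hx | hx
                exacts [hA.2 x hx, hB.2 x hx]
  | one => exact one_pow p
  | mul x y hx hy ihx ihy =>
    have hc : Commute x y := hcomm x (by rwa [← Subgroup.closure_eq A, ← Subgroup.closure_eq B,
      ← Subgroup.closure_union]) y (by rwa [← Subgroup.closure_eq A, ← Subgroup.closure_eq B,
      ← Subgroup.closure_union])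
    rw [hc.mul_pow, ihx, ihy, one_mul]
  | inv x _ ih => rw [inv_pow, ih, inv_one]

theorem exists_maxElementaryAbelian [Finite G] :
    (maxElementaryAbelianSubgroups p G).Nonempty := by
  obtain ⟨A, hA⟩ := (Set.toFinite {A : Subgroup G | IsElementaryAbelian p A}).exists_maximalFor
    (fun A : Subgroup G => Nat.card ↥A) _ ⟨⊥, isElementaryAbelian_bot⟩
  refine ⟨A, hA.1, fun B hB => ?_⟩
  rcases le_total (Nat.card ↥B) (Nat.card ↥A) with h | h
  · exact h
  · exact hA.2 hB h

/-- Every elementary abelian subgroup lies in a maximal one. -/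
theorem exists_le_maximal_elementaryAbelian [Finite G] {A : Subgroup G}
    (hA : IsElementaryAbelian p A) :
    ∃ B : Subgroup G, A ≤ B ∧ IsElementaryAbelian p B ∧
      ∀ C : Subgroup G, IsElementaryAbelian p C → B ≤ C → C = B := by
  obtain ⟨B, hB⟩ := (Set.toFinite {B : Subgroup G | A ≤ B ∧ IsElementaryAbelian p B}).exists_maximal
    ⟨A, le_rfl, hA⟩
  exact ⟨B, hB.1.1, hB.1.2, fun C hC hBC => le_antisymm (hB.2 ⟨hB.1.1.trans hBC, hC⟩ hBC) hBC⟩

/-! ### `Ω₁` -/

theorem mem_omegaOne_of_pow_eq_one {H : Subgroup G} {x : G} (hx : x ∈ H) (hp : x ^ p = 1) :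
    x ∈ omegaOne p H :=
  Subgroup.subset_closure ⟨hx, hp⟩

theorem omegaOne_le (H : Subgroup G) : omegaOne p H ≤ H :=
  (Subgroup.closure_le _).mpr fun _ hx => hx.1

theorem omegaOne_mono {H K : Subgroup G} (h : H ≤ K) : omegaOne p H ≤ omegaOne p K :=
  Subgroup.closure_mono fun _ hx => ⟨h hx.1, hx.2⟩

theorem omegaOne_le_iff {H K : Subgroup G} :
    omegaOne p H ≤ K ↔ ∀ x ∈ H, x ^ p = 1 → x ∈ K :=
  (Subgroup.closure_le _).trans ⟨fun h _ hx hp => h ⟨hx, hp⟩, fun h _ hx => h _ hx.1 hx.2⟩

theorem omegaOne_eq_self {H : Subgroup G} (h : ∀ x ∈ H, x ^ p = 1) : omegaOne p H = H :=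
  le_antisymm (omegaOne_le H) fun x hx => mem_omegaOne_of_pow_eq_one hx (h x hx)

theorem map_omegaOne_le {H : Type*} [Group H] (f : G →* H) (K : Subgroup G) :
    (omegaOne p K).map f ≤ omegaOne p (K.map f) := by
  rw [Subgroup.map_le_iff_le_comap, omegaOne_le_iff]
  intro x hx hp
  exact mem_omegaOne_of_pow_eq_one (Subgroup.mem_map_of_mem f hx) (by rw [← map_pow, hp, map_one])

theorem map_omegaOne_of_injective {H : Type*} [Group H] {f : G →* H} (hf : Function.Injective f)
    (K : Subgroup G) : (omegaOne p K).map f = omegaOne p (K.map f) := by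
  refine le_antisymm (map_omegaOne_le f K) ?_
  rw [omegaOne_le_iff]
  rintro _ ⟨x, hx, rfl⟩ hp
  refine Subgroup.mem_map_of_mem f (mem_omegaOne_of_pow_eq_one hx (hf ?_))
  rw [map_pow, hp, map_one]

theorem omegaOne_characteristic (H : Subgroup G) [hH : H.Characteristic] :
    (omegaOne p H).Characteristic := by
  rw [Subgroup.characteristic_iff_map_eq]
  intro φ
  rw [map_omegaOne_of_injective φ.injective, Subgroup.characteristic_iff_map_eq.mp hH φ]

theorem omegaOne_normal (H : Subgroup G) [hH : H.Normal] : (omegaOne p H).Normal := by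
  constructor
  intro x hx g
  have h := Subgroup.mem_map_of_mem (MulAut.conj g).toMonoidHom hx
  rw [map_omegaOne_of_injective (MulAut.conj g).injective] at h
  refine omegaOne_mono ?_ (by simpa using h)
  rintro _ ⟨y, hy, rfl⟩
  simpa using hH.conj_mem y hy g

/-- `Ω₁` of a commutative subgroup is elementary abelian. -/
theorem isElementaryAbelian_omegaOne {H : Subgroup G} (hH : IsMulCommutative H) :
    IsElementaryAbelian p (omegaOne p H) := by
  have hc : ∀ a ∈ omegaOne p H, ∀ b ∈ omegaOne p H, a * b = b * a := fun a ha b hb =>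
    mul_comm_of_isMulCommutative hH (omegaOne_le H ha) (omegaOne_le H hb)
  refine isElementaryAbelian_of_forall hc fun x hx => ?_
  induction hx using Subgroup.closure_induction with
  | mem x hx => exact hx.2
  | one => exact one_pow p
  | mul x y hx hy ihx ihy => rw [Commute.mul_pow (hc x hx y hy), ihx, ihy, one_mul]
  | inv x _ ih => rw [inv_pow, ih, inv_one]

theorem omegaOne_ne_bot [Finite G] [Fact p.Prime] {H : Subgroup G} (h : p ∣ Nat.card ↥H) :
    omegaOne p H ≠ ⊥ := by
  obtain ⟨x, hx⟩ := exists_prime_orderOf_dvd_card' p h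
  intro hbot
  have hmem : (x : G) ∈ omegaOne p H :=
    mem_omegaOne_of_pow_eq_one x.2 (by rw [← Subgroup.coe_pow, ← hx, pow_orderOf_eq_one]; rfl)
  rw [hbot, Subgroup.mem_bot] at hmem
  rw [show x = 1 from Subtype.ext hmem, orderOf_one] at hx
  exact (Fact.out (p := p.Prime)).ne_one hx.symm

/-! ### Power subgroups -/

theorem pow_mem_powerClosure {H : Subgroup G} {x : G} (hx : x ∈ H) (n : ℕ) :
    x ^ (p ^ n) ∈ powerClosure p n H :=
  Subgroup.subset_closure ⟨x, hx, rfl⟩

theorem powerClosure_le (H : Subgroup G) (n : ℕ) : powerClosure p n H ≤ H :=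
  (Subgroup.closure_le _).mpr fun _ ⟨_, hx, he⟩ => he ▸ H.pow_mem hx _

theorem powerClosure_le_iff {H K : Subgroup G} {n : ℕ} :
    powerClosure p n H ≤ K ↔ ∀ x ∈ H, x ^ (p ^ n) ∈ K :=
  (Subgroup.closure_le _).trans
    ⟨fun h x hx => h ⟨x, hx, rfl⟩, fun h _ ⟨x, hx, he⟩ => he ▸ h x hx⟩

theorem powerClosure_mono {H K : Subgroup G} (h : H ≤ K) (n : ℕ) :
    powerClosure p n H ≤ powerClosure p n K :=
  powerClosure_le_iff.mpr fun _ hx => pow_mem_powerClosure (h hx) n

theorem map_powerClosure {H : Type*} [Group H] (f : G →* H) (K : Subgroup G) (n : ℕ) :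
    (powerClosure p n K).map f = powerClosure p n (K.map f) := by
  refine le_antisymm (Subgroup.map_le_iff_le_comap.mpr (powerClosure_le_iff.mpr fun x hx => ?_))
    (powerClosure_le_iff.mpr ?_)
  · rw [Subgroup.mem_comap, map_pow]
    exact pow_mem_powerClosure (Subgroup.mem_map_of_mem f hx) n
  · rintro _ ⟨x, hx, rfl⟩
    exact ⟨_, pow_mem_powerClosure hx n, map_pow f x _⟩

end Cfsg.Agent.PGroup
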