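import Cfsg.Prelude.Def_OddOrderLocal
import Cfsg.Agent.Lib.PGroup.ElementaryAbelian

/-!
# Maximal abelian normal subgroups, maximal (elementary) abelian subgroups

* `exists_maximal_abelian_normal_ge`, `centralizer_eq_of_maximal_abelian_normal`, `isSCN_top`
* `centralizer_eq_of_maximal_abelian`, `omegaOne_centralizer_eq_of_maximal`
-/

set_option autoImplicit false

namespace Cfsg.Agent.PGroup

open scoped commutatorElement

universe u

variable {G : Type u} [Group G] {p : ℕ}

theorem le_centralizer_of_isMulCommutative {A : Subgroup G} (hA : IsMulCommutative A) :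
    A ≤ Subgroup.centralizer (A : Set G) :=
  fun _ ha _ hb => mul_comm_of_isMulCommutative hA hb ha

/-- Adjoining a centralizing element to an abelian subgroup keeps it abelian. -/
theorem isMulCommutative_sup_zpowers {A : Subgroup G} (hA : IsMulCommutative A) {x : G}
    (hx : x ∈ Subgroup.centralizer (A : Set G)) : IsMulCommutative ↥(A ⊔ Subgroup.zpowers x) := by
  rw [Subgroup.zpowers_eq_closure, ← Subgroup.closure_eq A, ← Subgroup.closure_union]
  refine Subgroup.isMulCommutative_closure ?_
  rintro a (ha | rfl) b (hb | rfl)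
  · exact mul_comm_of_isMulCommutative hA ha hb
  · exact hx a ha
  · exact (hx b hb).symm
  · rfl

theorem exists_maximal_abelian_normal_ge [Finite G] (A : Subgroup G) [A.Normal]
    (hA : IsMulCommutative A) :
    ∃ B : Subgroup G, A ≤ B ∧ B.Normal ∧ IsMulCommutative B ∧
      ∀ C : Subgroup G, C.Normal → IsMulCommutative C → B ≤ C → C = B := by
  obtain ⟨B, hB⟩ := (Set.toFinite {B : Subgroup G | A ≤ B ∧ B.Normal ∧ IsMulCommutative B}).exists_maximal
    ⟨A, le_rfl, inferInstance, hA⟩
  exact ⟨B, hB.1.1, hB.1.2.1, hB.1.2.2, fun C hC hC' hBC =>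
    le_antisymm (hB.2 ⟨hB.1.1.trans hBC, hC, hC'⟩ hBC) hBC⟩

theorem exists_maximal_abelian_normal [Finite G] :
    ∃ B : Subgroup G, B.Normal ∧ IsMulCommutative B ∧
      ∀ C : Subgroup G, C.Normal → IsMulCommutative C → B ≤ C → C = B := by
  obtain ⟨B, -, hB⟩ := exists_maximal_abelian_normal_ge (⊥ : Subgroup G) inferInstance
  exact ⟨B, hB⟩

/-- A maximal abelian normal subgroup of a finite `p`-group is its own centralizer. -/
theorem centralizer_eq_of_maximal_abelian_normal [Finite G] [Fact p.Prime] (hG : IsPGroup p G)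
    {A : Subgroup G} [A.Normal] (hA : IsMulCommutative A)
    (hmax : ∀ B : Subgroup G, B.Normal → IsMulCommutative B → A ≤ B → B = A) :
    Subgroup.centralizer (A : Set G) = A := by
  refine le_antisymm ?_ (le_centralizer_of_isMulCommutative hA)
  by_contra hne
  have hlt : A < Subgroup.centralizer (A : Set G) :=
    lt_of_le_not_ge (le_centralizer_of_isMulCommutative hA) hne
  obtain ⟨L, hL, hAL, hLC, hcard⟩ := exists_normal_step hG A _ hlt
  obtain ⟨x, hxL, hxA⟩ := SetLike.exists_of_lt hAL
  have hle : A ⊔ Subgroup.zpowers x ≤ L := sup_le hAL.le (Subgroup.zpowers_le.mpr hxL)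
  have heq : A ⊔ Subgroup.zpowers x = L := by
    refine Subgroup.eq_of_le_of_card_ge hle ?_
    rw [hcard, mul_comm]
    exact mul_card_le_card hG (left_lt_sup.mpr fun h => hxA (h (Subgroup.mem_zpowers x)))
  have hLab : IsMulCommutative ↥L := heq ▸ isMulCommutative_sup_zpowers hA (hLC hxL)
  exact hAL.ne (hmax L hL hLab hAL.le).symm

theorem isSCN_top [Finite G] [Fact p.Prime] (hG : IsPGroup p G) {A : Subgroup G} [hn : A.Normal]
    (hA : IsMulCommutative A)
    (hmax : ∀ B : Subgroup G, B.Normal → IsMulCommutative B → A ≤ B → B = A) : IsSCN ⊤ A :=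
  ⟨le_top, (Subgroup.normalizer_eq_top_iff.mpr hn).ge,
    by rw [top_inf_eq, centralizer_eq_of_maximal_abelian_normal hG hA hmax]⟩

/-- A maximal abelian subgroup is its own centralizer. -/
theorem centralizer_eq_of_maximal_abelian {A : Subgroup G} (hA : IsMulCommutative A)
    (hmax : ∀ B : Subgroup G, IsMulCommutative B → A ≤ B → B = A) :
    Subgroup.centralizer (A : Set G) = A := by
  refine le_antisymm (fun x hx => ?_) (le_centralizer_of_isMulCommutative hA)
  rw [← hmax _ (isMulCommutative_sup_zpowers hA hx) le_sup_left]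
  exact Subgroup.mem_sup_right (Subgroup.mem_zpowers x)

/-- A maximal elementary abelian subgroup contains every element of order dividing `p` that
centralizes it. -/
theorem omegaOne_centralizer_le_of_maximal {A : Subgroup G} (hA : IsElementaryAbelian p A)
    (hmax : ∀ B : Subgroup G, IsElementaryAbelian p B → A ≤ B → B = A) :
    omegaOne p (Subgroup.centralizer (A : Set G)) ≤ A := by
  rw [omegaOne_le_iff]
  intro x hx hxp
  rw [← hmax (A ⊔ Subgroup.zpowers x) ?_ le_sup_left]
  · exact Subgroup.mem_sup_right (Subgroup.mem_zpowers x)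
  · refine isElementaryAbelian_sup hA (isElementaryAbelian_zpowers hxp) ?_
    rintro a ha _ ⟨i, rfl⟩
    exact Commute.zpow_right (hx a ha) i

end Cfsg.Agent.PGroup
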