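import Cfsg.Agent.Lib.PGroup.Frattini
import Cfsg.Agent.Lib.PGroup.ElementaryAbelian
import Cfsg.Agent.Lib.PGroup.SCN

/-!
# Critical subgroups

* `exists_critical` : Thompson's critical subgroup.
* `aut_eq_one_of_centralizer_le` : a coprime automorphism fixing pointwise a normal `H` with
  `C(H) ≤ H` is trivial.
-/

set_option autoImplicit false

namespace Cfsg.Agent.PGroup

open scoped commutatorElement

universe u

variable {P : Type u} [Group P] {p : ℕ}

theorem exists_maximal_abelian_characteristic [Finite P] :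
    ∃ D : Subgroup P, D.Characteristic ∧ IsMulCommutative D ∧
      ∀ C : Subgroup P, C.Characteristic → IsMulCommutative C → D ≤ C → C = D := by
  obtain ⟨D, hD⟩ := (Set.toFinite {D : Subgroup P | D.Characteristic ∧ IsMulCommutative D}).exists_maximal
    ⟨⊥, Subgroup.botCharacteristic, inferInstance⟩
  exact ⟨D, hD.1.1, hD.1.2, fun C hC hC' hle => le_antisymm (hD.2 ⟨hC, hC'⟩ hle) hle⟩

theorem inf_centralizer_characteristic (H : Subgroup P) [hH : H.Characteristic] :
    (H ⊓ Subgroup.centralizer (H : Set P)).Characteristic := by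
  rw [Subgroup.characteristic_iff_map_le]
  intro φ
  exact (Subgroup.map_inf_le _ _ _).trans (inf_le_inf (Subgroup.characteristic_iff_map_le.mp hH φ)
    (Subgroup.characteristic_iff_map_le.mp inferInstance φ))

/-- A critical subgroup: characteristic, `Φ(H) ≤ Z(H)`, `[H,P] ≤ Z(H)`, `C_P(H) ≤ H`. -/
theorem exists_critical [Finite P] [Fact p.Prime] (hP : IsPGroup p P) :
    ∃ H : Subgroup P, H.Characteristic ∧
      (frattini ↥H).map H.subtype ≤ Subgroup.centralizer (H : Set P) ∧
      ⁅H, (⊤ : Subgroup P)⁆ ≤ H ⊓ Subgroup.centralizer (H : Set P) ∧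
      Subgroup.centralizer (H : Set P) ≤ H := by
  obtain ⟨D, hD, hDab, hmax⟩ := exists_maximal_abelian_characteristic (P := P)
  have hDn : D.Normal := inferInstance
  set C := Subgroup.centralizer (D : Set P) with hCdef
  have hDC : D ≤ C := le_centralizer_of_isMulCommutative hDab
  by_cases hCD : C ≤ D
  · refine ⟨D, hD, le_trans (Subgroup.map_subtype_le _) hDC, ?_, hCD⟩
    exact le_inf (Subgroup.commutator_le_left _ _) ((Subgroup.commutator_le_left _ _).trans hDC)
  -- the members of `C` of order dividing `p` and central modulo `D`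
  let K : Subgroup P := C ⊓ (omegaOne p (Subgroup.center (P ⧸ D))).comap (QuotientGroup.mk' D)
  have hmemK : ∀ x, x ∈ K ↔ x ∈ C ∧ x ^ p ∈ D ∧ ∀ g : P, ⁅x, g⁆ ∈ D := by
    intro x
    have hmk : ∀ y : P, QuotientGroup.mk' D y = 1 ↔ y ∈ D := fun y => QuotientGroup.eq_one_iff y
    refine and_congr_right fun _ => ⟨fun hx => ?_, fun ⟨hxp, hxc⟩ => ?_⟩
    · refine ⟨(hmk _).mp ?_, fun g => (hmk _).mp ?_⟩
      · rw [map_pow]
        exact (isElementaryAbelian_omegaOne inferInstance).2 _ hx
      · rw [map_commutatorElement, commutatorElement_eq_one_iff_mul_comm]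
        exact (Subgroup.mem_center_iff.mp (omegaOne_le _ hx) _).symm
    · refine mem_omegaOne_of_pow_eq_one (Subgroup.mem_center_iff.mpr fun y => ?_) ?_
      · obtain ⟨g, rfl⟩ := QuotientGroup.mk'_surjective D y
        have h1 := (hmk _).mpr (hxc g)
        rw [map_commutatorElement, commutatorElement_eq_one_iff_mul_comm] at h1
        exact h1.symm
      · rw [← map_pow]
        exact (hmk _).mpr hxp
  have hKC : K ≤ C := inf_le_left
  have hDK : D ≤ K := fun x hx => (hmemK x).mpr
    ⟨hDC hx, D.pow_mem hx p, fun g => Subgroup.commutator_le_left D ⊤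
      (Subgroup.commutator_mem_commutator hx (Subgroup.mem_top g))⟩
  have hKchar : K.Characteristic := by
    rw [Subgroup.characteristic_iff_map_le]
    rintro φ _ ⟨x, hx, rfl⟩
    obtain ⟨hxC, hxp, hxc⟩ := (hmemK x).mp hx
    have hDφ : ∀ y ∈ D, φ y ∈ D := fun y hy =>
      Subgroup.characteristic_iff_map_le.mp hD φ (Subgroup.mem_map_of_mem _ hy)
    refine (hmemK _).mpr ⟨?_, ?_, fun g => ?_⟩
    · exact Subgroup.characteristic_iff_map_le.mp (inferInstanceAs C.Characteristic) φ
        (Subgroup.mem_map_of_mem _ hxC)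
    · have := hDφ _ hxp
      rwa [map_pow] at this
    · have := hDφ _ (hxc (φ.symm g))
      rwa [map_commutatorElement, MulEquiv.apply_symm_apply] at this
  have hDZ : D ≤ Subgroup.centralizer (K : Set P) := Subgroup.le_centralizer_iff.mp hKC
  have hcomm : ⁅K, (⊤ : Subgroup P)⁆ ≤ D :=
    Subgroup.commutator_le.mpr fun x hx g _ => ((hmemK x).mp hx).2.2 g
  refine ⟨K, hKchar, ?_, le_inf (hcomm.trans hDK) (hcomm.trans hDZ), ?_⟩
  · refine le_trans ?_ hDZ
    rw [Subgroup.map_le_iff_le_comap]
    refine frattini_le (p := p) ?_ fun x => ((hmemK x).mp x.2).2.1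
    rw [← Subgroup.map_le_iff_le_comap, Subgroup.map_subtype_commutator]
    exact (Subgroup.commutator_mono le_rfl le_top).trans hcomm
  · set Q := Subgroup.centralizer (K : Set P)
    have hQC : Q ≤ C := Subgroup.centralizer_le hDK
    have hZK : K ⊓ Q = D := hmax _ (inf_centralizer_characteristic K)
      (isMulCommutative_of_forall fun a ha b hb => (ha.2 b hb.1).symm) (le_inf hDK hDZ)
    suffices hQD : Q ≤ D from hQD.trans hDK
    by_contra hne
    have hne' : Q.map (QuotientGroup.mk' D) ≠ ⊥ := by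
      rw [Ne, Subgroup.map_eq_bot_iff, QuotientGroup.ker_mk']
      exact hne
    have : (Q.map (QuotientGroup.mk' D)).Normal :=
      Subgroup.Normal.map inferInstance _ (QuotientGroup.mk'_surjective D)
    obtain ⟨z, ⟨q, hq, rfl⟩, hzc, hzo⟩ := exists_orderOf_eq_mem_center (hP.to_quotient D) _ hne'
    have hqK : q ∈ K := ⟨hQC hq, mem_omegaOne_of_pow_eq_one hzc (hzo ▸ pow_orderOf_eq_one _)⟩
    have hqD : q ∈ D := hZK ▸ ⟨hqK, hq⟩
    rw [show QuotientGroup.mk' D q = 1 from (QuotientGroup.eq_one_iff q).mpr hqD, orderOf_one] at hzo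
    exact (Fact.out (p := p.Prime)).ne_one hzo.symm

/-- An automorphism of order prime to `p` of a `p`-group which fixes a normal subgroup `H` with
`C(H) ≤ H` pointwise is the identity. -/
theorem aut_eq_one_of_centralizer_le [Finite P] [Fact p.Prime] (hP : IsPGroup p P) (H : Subgroup P)
    [H.Normal] (hC : Subgroup.centralizer (H : Set P) ≤ H) (φ : MulAut P)
    (hcop : (orderOf φ).Coprime p) (hfix : ∀ h ∈ H, φ h = h) : φ = 1 := by
  ext g
  set c := g⁻¹ * φ g with hc
  have hcC : c ∈ Subgroup.centralizer (H : Set P) := by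
    intro h hh
    have h1 : g * h * g⁻¹ ∈ H := Subgroup.Normal.conj_mem inferInstance h hh g
    have h2 : φ g * h * (φ g)⁻¹ = g * h * g⁻¹ := by
      have := hfix _ h1
      rwa [map_mul, map_mul, map_inv, hfix h hh] at this
    rw [hc]
    calc h * (g⁻¹ * φ g) = g⁻¹ * (g * h * g⁻¹) * φ g := by group
      _ = g⁻¹ * (φ g * h * (φ g)⁻¹) * φ g := by rw [h2]
      _ = g⁻¹ * φ g * h := by group
  have hfixc : φ c = c := hfix c (hC hcC)
  have hiter : ∀ n : ℕ, (φ ^ n) g = g * c ^ n := by
    intro n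
    induction n with
    | zero => simp
    | succ n ih =>
      rw [pow_succ', MulAut.mul_apply, ih, map_mul, map_pow, hfixc, pow_succ', ← mul_assoc]
      congr 1
      rw [hc, mul_inv_cancel_left]
  have h1 := hiter (orderOf φ)
  rw [pow_orderOf_eq_one, MulAut.one_apply, left_eq_mul] at h1
  obtain ⟨k, hk⟩ := IsPGroup.iff_orderOf.mp hP c
  have hc1 : c = 1 := orderOf_eq_one_iff.mp
    (Nat.eq_one_of_dvd_coprimes (hcop.pow_right k) (orderOf_dvd_of_pow_eq_one h1) (hk ▸ dvd_rfl))
  rw [MulAut.one_apply, ← inv_mul_eq_one.mp hc1]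

end Cfsg.Agent.PGroup
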