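import Cfsg.Prelude.Def_Transfer
import Mathlib.GroupTheory.FiniteAbelian.Duality
import Mathlib.RingTheory.RootsOfUnity.Complex
import Mathlib.RingTheory.RootsOfUnity.AlgebraicallyClosed
import Mathlib.Analysis.Complex.Polynomial.Basic
import Mathlib.GroupTheory.Index

/-!
Counting homomorphisms into a group of prime order, and the resulting bound on centralizers:
if `[D, B] ≤ Z`, `Z` central of prime order and `B / Z` commutative, then `|D : C_D(B)| ≤ |B : Z|`.
-/

namespace Cfsg.Agent.PGroup

open Subgroup
open scoped commutatorElement IsMulCommutative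

/-- A finite commutative group has at most as many homomorphisms into a group of prime order as elements. -/
theorem card_monoidHom_prime_le {A Z : Type*} [CommGroup A] [Finite A] [CommGroup Z] {p : ℕ}
    [Fact p.Prime] (hZ : Nat.card Z = p) : Finite (A →* Z) ∧ Nat.card (A →* Z) ≤ Nat.card A := by
  haveI : IsCyclic Z := isCyclic_of_prime_card hZ
  haveI : NeZero p := ⟨(Fact.out : p.Prime).ne_zero⟩
  have hc : Nat.card Z = Nat.card (rootsOfUnity p ℂ) := by rw [hZ, Complex.card_rootsOfUnity]
  let e := mulEquivOfCyclicCardEq hc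
  let ι : Z →* ℂˣ := (rootsOfUnity p ℂ).subtype.comp e.toMonoidHom
  have hι : Function.Injective ι := Subtype.coe_injective.comp e.injective
  haveI : NeZero (Monoid.exponent A) := ⟨Monoid.exponent_ne_zero_of_finite⟩
  obtain ⟨d⟩ := CommGroup.monoidHom_mulEquiv_of_hasEnoughRootsOfUnity A ℂ
  have hinj : Function.Injective fun f : A →* Z => d (ι.comp f) := by
    intro f g h
    ext a
    exact hι (DFunLike.congr_fun (d.injective h) a)
  exact ⟨Finite.of_injective _ hinj, Nat.card_le_card_of_injective _ hinj⟩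

variable {G : Type*} [Group G] [Finite G] {p : ℕ} [Fact p.Prime]

/-- If `[D, B] ≤ Z` with `Z ≤ B` central of order p and `B' ≤ Z`, then `|D : C_D(B)| ≤ |B : Z|`. -/
theorem relIndex_centralizer_le_of_bracket (D B Z : Subgroup G) (hZB : Z ≤ B) (hZ : Z ≤ center G)
    (hZp : Nat.card Z = p) (hB : ⁅B, B⁆ ≤ Z) (hDB : ⁅D, B⁆ ≤ Z) :
    (centralizer (B : Set G)).relIndex D ≤ Z.relIndex B := by
  haveI hZn : (Z.subgroupOf B).Normal := ⟨fun n hn g => by
    rw [mem_subgroupOf] at hn ⊢
    simp only [Subgroup.coe_mul, Subgroup.coe_inv]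
    rw [mem_center_iff.1 (hZ hn) (g : G), mul_inv_cancel_right]
    exact hn⟩
  letI : CommGroup (B ⧸ Z.subgroupOf B) :=
    { (inferInstance : Group (B ⧸ Z.subgroupOf B)) with
      mul_comm := by
        intro a b
        induction a using QuotientGroup.induction_on with | _ a =>
        induction b using QuotientGroup.induction_on with | _ b =>
        rw [← commutatorElement_eq_one_iff_mul_comm]
        have : ⁅a, b⁆ ∈ Z.subgroupOf B := by
          rw [mem_subgroupOf]
          exact hB (commutator_mem_commutator a.2 b.2)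
        simpa [commutatorElement_def] using (QuotientGroup.eq_one_iff _).2 this }
  letI : CommGroup Z :=
    { (inferInstance : Group Z) with
      mul_comm := fun a b => Subtype.ext (mem_center_iff.1 (hZ b.2) a) }
  have cen : ∀ {c : G}, c ∈ Z → ∀ g : G, g * c = c * g := fun hc g => mem_center_iff.1 (hZ hc) g
  let f : D → (B →* Z) := fun g =>
    { toFun := fun b => ⟨⁅(g : G), (b : G)⁆, hDB (commutator_mem_commutator g.2 b.2)⟩
      map_one' := Subtype.ext (by simp)
      map_mul' := fun a b => by
        apply Subtype.ext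
        show ⁅(g : G), (a : G) * b⁆ = ⁅(g : G), (a : G)⁆ * ⁅(g : G), (b : G)⁆
        have hc := cen (hDB (commutator_mem_commutator g.2 b.2)) (a : G)
        have : ⁅(g : G), (a : G) * b⁆ = ⁅(g : G), (a : G)⁆ * ((a : G) * ⁅(g : G), (b : G)⁆ * (a : G)⁻¹) := by
          simp only [commutatorElement_def]; group
        rw [this, hc, mul_inv_cancel_right] }
  have hker : ∀ g : D, Z.subgroupOf B ≤ (f g).ker := by
    intro g b hb
    exact Subtype.ext (commutatorElement_eq_one_iff_mul_comm.2 (cen (mem_subgroupOf.1 hb) g))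
  let Φ : D →* (B ⧸ Z.subgroupOf B →* Z) :=
    { toFun := fun g => QuotientGroup.lift (Z.subgroupOf B) (f g) (hker g)
      map_one' := by
        apply QuotientGroup.monoidHom_ext
        ext b
        simp [f]
      map_mul' := fun g h => by
        apply QuotientGroup.monoidHom_ext
        ext b
        show ⁅(g : G) * h, (b : G)⁆ = ⁅(g : G), (b : G)⁆ * ⁅(h : G), (b : G)⁆
        have hc := cen (hDB (commutator_mem_commutator h.2 b.2))
        have : ⁅(g : G) * h, (b : G)⁆ = (g : G) * ⁅(h : G), (b : G)⁆ * (g : G)⁻¹ * ⁅(g : G), (b : G)⁆ := by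
          simp only [commutatorElement_def]; group
        rw [this, hc, mul_inv_cancel_right, ← hc ⁅(g : G), (b : G)⁆] }
  have hk : Φ.ker ≤ (centralizer (B : Set G)).subgroupOf D := by
    intro g hg
    rw [mem_subgroupOf, mem_centralizer_iff]
    intro b hb
    have h1 : (Φ g) ((⟨b, hb⟩ : B) : B ⧸ Z.subgroupOf B) = 1 := by rw [MonoidHom.mem_ker.1 hg]; rfl
    exact (commutatorElement_eq_one_iff_mul_comm.1 (congrArg Subtype.val h1)).symm
  obtain ⟨hfin, hcard⟩ := card_monoidHom_prime_le (A := B ⧸ Z.subgroupOf B) hZp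
  haveI := hfin
  calc (centralizer (B : Set G)).relIndex D
      ≤ Φ.ker.index := Nat.le_of_dvd (Nat.pos_of_ne_zero Subgroup.index_ne_zero_of_finite) (index_dvd_of_le hk)
    _ = Nat.card Φ.range := Subgroup.index_ker Φ
    _ ≤ Nat.card (B ⧸ Z.subgroupOf B →* Z) := Subgroup.card_le_card_group _
    _ ≤ Nat.card (B ⧸ Z.subgroupOf B) := hcard
    _ = Z.relIndex B := rfl

end Cfsg.Agent.PGroup
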