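import Cfsg.Prelude.Def_Transfer
import Cfsg.Prelude.Def_PLocal
import Cfsg.Agent.Lib.PGroup.ElementaryAbelian
import Cfsg.Agent.Lib.PGroup.SCN

/-!
# Thompson subgroups

`IsMaxEA p P A` : `A ≤ P` is elementary abelian of largest order in `P` (ambient version).
`IsMaxAb P A` : `A ≤ P` is abelian of largest order in `P`.

* `thompsonSubgroupOf_eq`, `thompsonSubgroupAOf_eq` (both are the join of these),
* `thompsonSubgroupOf_le`, `thompsonSubgroupOf_map_equiv`, `normalizer_le_normalizer_thompsonOf`,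
* `thompsonSubgroup_characteristic`, `thompsonSubgroupA_characteristic`, and `…_ne_bot`,
* `thompsonSubgroupOf_eq_of_le` (`J(P) ≤ Q ≤ P → J(Q) = J(P)`), same for the abelian version,
* `omegaOne_center_le`, `omegaOne_centralizer_le_of_isMaxEA`, `centralizer_thompsonA_le`.
-/

set_option autoImplicit false

namespace Cfsg.Agent.PGroup

open scoped commutatorElement

universe u

variable {G : Type u} [Group G] {p : ℕ}

/-- `A ≤ P` is elementary abelian of largest order among those in `P`. -/
def IsMaxEA (p : ℕ) (P A : Subgroup G) : Prop :=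
  A ≤ P ∧ IsElementaryAbelian p A ∧
    ∀ B : Subgroup G, B ≤ P → IsElementaryAbelian p B → Nat.card ↥B ≤ Nat.card ↥A

/-- `A ≤ P` is abelian of largest order among those in `P`. -/
def IsMaxAb (P A : Subgroup G) : Prop :=
  A ≤ P ∧ IsMulCommutative A ∧
    ∀ B : Subgroup G, B ≤ P → IsMulCommutative B → Nat.card ↥B ≤ Nat.card ↥A

theorem isMaxEA_map_subtype_iff (P : Subgroup G) (A : Subgroup ↥P) :
    IsMaxEA p P (A.map P.subtype) ↔ A ∈ maxElementaryAbelianSubgroups p ↥P := by
  have hc : ∀ B : Subgroup ↥P, Nat.card ↥(B.map P.subtype) = Nat.card ↥B := fun B =>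
    Subgroup.card_map_of_injective P.subtype_injective
  constructor
  · rintro ⟨-, hA, hmax⟩
    refine ⟨(isElementaryAbelian_map_iff P.subtype_injective).mp hA, fun B hB => ?_⟩
    have := hmax (B.map P.subtype) (Subgroup.map_subtype_le B) (isElementaryAbelian_map hB _)
    rwa [hc, hc] at this
  · rintro ⟨hA, hmax⟩
    refine ⟨Subgroup.map_subtype_le A, isElementaryAbelian_map hA _, fun B hBP hB => ?_⟩
    have := hmax (B.subgroupOf P) (isElementaryAbelian_comap hB P.subtype_injective)
    rwa [← hc, Subgroup.map_subgroupOf_eq_of_le hBP, ← hc A] at this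

theorem isMulCommutative_map {H : Type*} [Group H] {A : Subgroup G} (hA : IsMulCommutative A)
    (f : G →* H) : IsMulCommutative ↥(A.map f) :=
  isMulCommutative_of_forall (by
    rintro _ ⟨a, ha, rfl⟩ _ ⟨b, hb, rfl⟩
    rw [← map_mul, ← map_mul, mul_comm_of_isMulCommutative hA ha hb])

theorem isMulCommutative_comap {H : Type*} [Group H] {A : Subgroup H} (hA : IsMulCommutative A)
    {f : G →* H} (hf : Function.Injective f) : IsMulCommutative ↥(A.comap f) :=
  isMulCommutative_of_forall fun a ha b hb => hf (by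
    rw [map_mul, map_mul]; exact mul_comm_of_isMulCommutative hA ha hb)

theorem isMaxAb_map_subtype_iff (P : Subgroup G) (A : Subgroup ↥P) :
    IsMaxAb P (A.map P.subtype) ↔ A ∈ maxAbelianSubgroups ↥P := by
  have hc : ∀ B : Subgroup ↥P, Nat.card ↥(B.map P.subtype) = Nat.card ↥B := fun B =>
    Subgroup.card_map_of_injective P.subtype_injective
  constructor
  · rintro ⟨-, hA, hmax⟩
    refine ⟨?_, fun B hB => ?_⟩
    · have := isMulCommutative_comap hA P.subtype_injective
      rwa [Subgroup.comap_map_eq_self_of_injective P.subtype_injective] at this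
    · have := hmax (B.map P.subtype) (Subgroup.map_subtype_le B) (isMulCommutative_map hB _)
      rwa [hc, hc] at this
  · rintro ⟨hA, hmax⟩
    refine ⟨Subgroup.map_subtype_le A, isMulCommutative_map hA _, fun B hBP hB => ?_⟩
    have := hmax (B.subgroupOf P) (isMulCommutative_comap hB P.subtype_injective)
    rwa [← hc, Subgroup.map_subgroupOf_eq_of_le hBP, ← hc A] at this

theorem thompsonSubgroupOf_eq (P : Subgroup G) :
    thompsonSubgroupOf p P = sSup {A : Subgroup G | IsMaxEA p P A} := by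
  refine le_antisymm ?_ (sSup_le fun A hA => ?_)
  · rw [thompsonSubgroupOf, thompsonSubgroup, Subgroup.map_le_iff_le_comap]
    refine sSup_le fun A hA => ?_
    rw [← Subgroup.map_le_iff_le_comap]
    exact le_sSup ((isMaxEA_map_subtype_iff P A).mpr hA)
  · rw [← Subgroup.map_subgroupOf_eq_of_le hA.1]
    refine Subgroup.map_mono (le_sSup ((isMaxEA_map_subtype_iff P _).mp ?_))
    rwa [Subgroup.map_subgroupOf_eq_of_le hA.1]

theorem thompsonSubgroupAOf_eq (P : Subgroup G) :
    thompsonSubgroupAOf P = sSup {A : Subgroup G | IsMaxAb P A} := by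
  refine le_antisymm ?_ (sSup_le fun A hA => ?_)
  · rw [thompsonSubgroupAOf, thompsonSubgroupA, Subgroup.map_le_iff_le_comap]
    refine sSup_le fun A hA => ?_
    rw [← Subgroup.map_le_iff_le_comap]
    exact le_sSup ((isMaxAb_map_subtype_iff P A).mpr hA)
  · rw [← Subgroup.map_subgroupOf_eq_of_le hA.1]
    refine Subgroup.map_mono (le_sSup ((isMaxAb_map_subtype_iff P _).mp ?_))
    rwa [Subgroup.map_subgroupOf_eq_of_le hA.1]

theorem le_thompsonSubgroupOf {P A : Subgroup G} (hA : IsMaxEA p P A) :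
    A ≤ thompsonSubgroupOf p P := by
  rw [thompsonSubgroupOf_eq]; exact le_sSup hA

theorem le_thompsonSubgroupAOf {P A : Subgroup G} (hA : IsMaxAb P A) :
    A ≤ thompsonSubgroupAOf P := by
  rw [thompsonSubgroupAOf_eq]; exact le_sSup hA

theorem thompsonSubgroupOf_le (P : Subgroup G) : thompsonSubgroupOf p P ≤ P :=
  Subgroup.map_subtype_le _

theorem thompsonSubgroupAOf_le (P : Subgroup G) : thompsonSubgroupAOf P ≤ P :=
  Subgroup.map_subtype_le _

theorem exists_isMaxEA [Finite G] (P : Subgroup G) : ∃ A, IsMaxEA p P A := by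
  obtain ⟨A, hA⟩ := exists_maxElementaryAbelian (G := ↥P) (p := p)
  exact ⟨_, (isMaxEA_map_subtype_iff P A).mpr hA⟩

theorem exists_isMaxAb [Finite G] (P : Subgroup G) : ∃ A, IsMaxAb P A := by
  obtain ⟨A, hA⟩ := (Set.toFinite {A : Subgroup G | A ≤ P ∧ IsMulCommutative A}).exists_maximalFor
    (fun A : Subgroup G => Nat.card ↥A) _ ⟨⊥, bot_le, inferInstance⟩
  refine ⟨A, hA.1.1, hA.1.2, fun B hBP hB => ?_⟩
  rcases le_total (Nat.card ↥B) (Nat.card ↥A) with h | h
  · exact h
  · exact hA.2 ⟨hBP, hB⟩ h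

theorem isMaxEA_map_equiv {H : Type*} [Group H] (e : G ≃* H) {P A : Subgroup G}
    (hA : IsMaxEA p P A) : IsMaxEA p (P.map e.toMonoidHom) (A.map e.toMonoidHom) := by
  refine ⟨Subgroup.map_mono hA.1, isElementaryAbelian_map hA.2.1 _, fun B hB hBe => ?_⟩
  have h1 := hA.2.2 (B.comap e.toMonoidHom)
    ((Subgroup.comap_mono hB).trans_eq (Subgroup.comap_map_eq_self_of_injective e.injective P))
    (isElementaryAbelian_comap hBe e.injective)
  rw [Subgroup.card_map_of_injective e.injective]
  refine le_trans (le_of_eq ?_) h1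
  conv_lhs => rw [← Subgroup.map_comap_eq_self_of_surjective (f := e.toMonoidHom) e.surjective B]
  exact Subgroup.card_map_of_injective e.injective

theorem thompsonSubgroupOf_map_equiv {H : Type*} [Group H] (e : G ≃* H) (P : Subgroup G) :
    (thompsonSubgroupOf p P).map e.toMonoidHom = thompsonSubgroupOf p (P.map e.toMonoidHom) := by
  rw [thompsonSubgroupOf_eq P]
  refine le_antisymm ?_ ?_
  · rw [Subgroup.map_le_iff_le_comap]
    exact sSup_le fun A hA => Subgroup.map_le_iff_le_comap.mp
      (le_thompsonSubgroupOf (isMaxEA_map_equiv e hA))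
  · rw [thompsonSubgroupOf_eq]
    refine sSup_le fun B hB => ?_
    have h := isMaxEA_map_equiv e.symm hB
    rw [Subgroup.map_map, show e.symm.toMonoidHom.comp e.toMonoidHom = MonoidHom.id G from
      MonoidHom.ext e.symm_apply_apply, Subgroup.map_id] at h
    refine le_trans (le_of_eq ?_) (Subgroup.map_mono (le_sSup h))
    rw [Subgroup.map_map, show e.toMonoidHom.comp e.symm.toMonoidHom = MonoidHom.id H from
      MonoidHom.ext e.apply_symm_apply, Subgroup.map_id]

theorem isMaxAb_map_equiv {H : Type*} [Group H] (e : G ≃* H) {P A : Subgroup G}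
    (hA : IsMaxAb P A) : IsMaxAb (P.map e.toMonoidHom) (A.map e.toMonoidHom) := by
  refine ⟨Subgroup.map_mono hA.1, isMulCommutative_map hA.2.1 _, fun B hB hBe => ?_⟩
  have h1 := hA.2.2 (B.comap e.toMonoidHom)
    ((Subgroup.comap_mono hB).trans_eq (Subgroup.comap_map_eq_self_of_injective e.injective P))
    (isMulCommutative_comap hBe e.injective)
  rw [Subgroup.card_map_of_injective e.injective]
  refine le_trans (le_of_eq ?_) h1
  conv_lhs => rw [← Subgroup.map_comap_eq_self_of_surjective (f := e.toMonoidHom) e.surjective B]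
  exact Subgroup.card_map_of_injective e.injective

theorem thompsonSubgroupAOf_map_equiv {H : Type*} [Group H] (e : G ≃* H) (P : Subgroup G) :
    (thompsonSubgroupAOf P).map e.toMonoidHom = thompsonSubgroupAOf (P.map e.toMonoidHom) := by
  rw [thompsonSubgroupAOf_eq P]
  refine le_antisymm ?_ ?_
  · rw [Subgroup.map_le_iff_le_comap]
    exact sSup_le fun A hA => Subgroup.map_le_iff_le_comap.mp
      (le_thompsonSubgroupAOf (isMaxAb_map_equiv e hA))
  · rw [thompsonSubgroupAOf_eq]
    refine sSup_le fun B hB => ?_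
    have h := isMaxAb_map_equiv e.symm hB
    rw [Subgroup.map_map, show e.symm.toMonoidHom.comp e.toMonoidHom = MonoidHom.id G from
      MonoidHom.ext e.symm_apply_apply, Subgroup.map_id] at h
    refine le_trans (le_of_eq ?_) (Subgroup.map_mono (le_sSup h))
    rw [Subgroup.map_map, show e.toMonoidHom.comp e.symm.toMonoidHom = MonoidHom.id H from
      MonoidHom.ext e.apply_symm_apply, Subgroup.map_id]

theorem mem_normalizer_of_map_conj_eq {H : Subgroup G} {g : G}
    (h : H.map (MulAut.conj g).toMonoidHom = H) : g ∈ Subgroup.normalizer (H : Set G) := by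
  rw [Subgroup.mem_normalizer_iff]
  intro x
  constructor
  · intro hx
    rw [← h]
    exact ⟨x, hx, rfl⟩
  · intro hx
    rw [← h] at hx
    obtain ⟨y, hy, hyx⟩ := hx
    rw [show y = x from (MulAut.conj g).injective hyx] at hy
    exact hy

theorem map_conj_eq_of_mem_normalizer {H : Subgroup G} {g : G}
    (hg : g ∈ Subgroup.normalizer (H : Set G)) : H.map (MulAut.conj g).toMonoidHom = H := by
  ext x
  constructor
  · rintro ⟨y, hy, rfl⟩
    exact (Subgroup.mem_normalizer_iff.mp hg y).mp hy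
  · intro hx
    refine ⟨g⁻¹ * x * g, (Subgroup.mem_normalizer_iff.mp hg _).mpr ?_, ?_⟩
    · simpa [mul_assoc] using hx
    · simp [mul_assoc]

theorem normalizer_le_normalizer_thompsonOf (P : Subgroup G) :
    Subgroup.normalizer (P : Set G) ≤
      Subgroup.normalizer (thompsonSubgroupOf p P : Set G) :=
  fun _ hg => mem_normalizer_of_map_conj_eq
    (by rw [thompsonSubgroupOf_map_equiv, map_conj_eq_of_mem_normalizer hg])

theorem normalizer_le_normalizer_thompsonAOf (P : Subgroup G) :
    Subgroup.normalizer (P : Set G) ≤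
      Subgroup.normalizer (thompsonSubgroupAOf P : Set G) :=
  fun _ hg => mem_normalizer_of_map_conj_eq
    (by rw [thompsonSubgroupAOf_map_equiv, map_conj_eq_of_mem_normalizer hg])

theorem thompsonSubgroupOf_top : thompsonSubgroupOf p (⊤ : Subgroup G) = thompsonSubgroup p G := by
  rw [thompsonSubgroupOf_eq, thompsonSubgroup]
  congr 1
  ext A
  exact ⟨fun h => ⟨h.2.1, fun B hB => h.2.2 B le_top hB⟩, fun h => ⟨le_top, h.1, fun B _ hB => h.2 B hB⟩⟩

theorem thompsonSubgroupAOf_top : thompsonSubgroupAOf (⊤ : Subgroup G) = thompsonSubgroupA G := by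
  rw [thompsonSubgroupAOf_eq, thompsonSubgroupA]
  congr 1
  ext A
  exact ⟨fun h => ⟨h.2.1, fun B hB => h.2.2 B le_top hB⟩, fun h => ⟨le_top, h.1, fun B _ hB => h.2 B hB⟩⟩

theorem thompsonSubgroup_characteristic : (thompsonSubgroup p G).Characteristic := by
  rw [Subgroup.characteristic_iff_map_eq]
  intro φ
  rw [← thompsonSubgroupOf_top, thompsonSubgroupOf_map_equiv,
    Subgroup.map_top_of_surjective φ.toMonoidHom φ.surjective]

theorem thompsonSubgroupA_characteristic : (thompsonSubgroupA G).Characteristic := by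
  rw [Subgroup.characteristic_iff_map_eq]
  intro φ
  rw [← thompsonSubgroupAOf_top, thompsonSubgroupAOf_map_equiv,
    Subgroup.map_top_of_surjective φ.toMonoidHom φ.surjective]

theorem thompsonSubgroupOf_ne_bot [Finite G] [Fact p.Prime] {P : Subgroup G}
    (hP : p ∣ Nat.card ↥P) : thompsonSubgroupOf p P ≠ ⊥ := by
  intro h
  obtain ⟨A, hA⟩ := exists_isMaxEA (p := p) P
  have hAbot : A = ⊥ := le_bot_iff.mp (h ▸ le_thompsonSubgroupOf hA)
  obtain ⟨x, hx⟩ := exists_prime_orderOf_dvd_card' p hP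
  have hxp : (x : G) ^ p = 1 := by rw [← Subgroup.coe_pow, ← hx, pow_orderOf_eq_one]; rfl
  have hle := hA.2.2 _ (Subgroup.zpowers_le.mpr x.2) (isElementaryAbelian_zpowers hxp)
  rw [Nat.card_zpowers, Subgroup.orderOf_coe, hx, hAbot, Subgroup.card_bot] at hle
  exact absurd hle (not_le.mpr (Fact.out (p := p.Prime)).one_lt)

/-- If `J(P) ≤ Q ≤ P` then `J(Q) = J(P)`. -/
theorem thompsonSubgroupOf_eq_of_le [Finite G] {P Q : Subgroup G}
    (hJ : thompsonSubgroupOf p P ≤ Q) (hQP : Q ≤ P) :
    thompsonSubgroupOf p Q = thompsonSubgroupOf p P := by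
  obtain ⟨A, hA⟩ := exists_isMaxEA (p := p) P
  have hAQ : A ≤ Q := (le_thompsonSubgroupOf hA).trans hJ
  rw [thompsonSubgroupOf_eq, thompsonSubgroupOf_eq P]
  congr 1
  ext B
  refine ⟨fun hB => ⟨hB.1.trans hQP, hB.2.1, fun C hC hCe => ?_⟩,
    fun hB => ⟨(le_thompsonSubgroupOf hB).trans hJ, hB.2.1, fun C hC hCe => hB.2.2 C (hC.trans hQP) hCe⟩⟩
  exact (hA.2.2 C hC hCe).trans (hB.2.2 A hAQ hA.2.1)

theorem thompsonSubgroupAOf_eq_of_le [Finite G] {P Q : Subgroup G}
    (hJ : thompsonSubgroupAOf P ≤ Q) (hQP : Q ≤ P) :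
    thompsonSubgroupAOf Q = thompsonSubgroupAOf P := by
  obtain ⟨A, hA⟩ := exists_isMaxAb P
  have hAQ : A ≤ Q := (le_thompsonSubgroupAOf hA).trans hJ
  rw [thompsonSubgroupAOf_eq, thompsonSubgroupAOf_eq P]
  congr 1
  ext B
  refine ⟨fun hB => ⟨hB.1.trans hQP, hB.2.1, fun C hC hCe => ?_⟩,
    fun hB => ⟨(le_thompsonSubgroupAOf hB).trans hJ, hB.2.1, fun C hC hCe => hB.2.2 C (hC.trans hQP) hCe⟩⟩
  exact (hA.2.2 C hC hCe).trans (hB.2.2 A hAQ hA.2.1)

/-- An elementary abelian subgroup of largest order contains every element of order dividing `p`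
that centralizes it in `P`. -/
theorem omegaOne_centralizer_le_of_isMaxEA [Finite G] {P A : Subgroup G} (hA : IsMaxEA p P A) :
    omegaOne p (P ⊓ Subgroup.centralizer (A : Set G)) ≤ A := by
  rw [omegaOne_le_iff]
  rintro x ⟨hxP, hxC⟩ hxp
  have hB : IsElementaryAbelian p (A ⊔ Subgroup.zpowers x) := by
    refine isElementaryAbelian_sup hA.2.1 (isElementaryAbelian_zpowers hxp) ?_
    rintro a ha _ ⟨i, rfl⟩
    exact Commute.zpow_right (hxC a ha) i
  have hle := hA.2.2 _ (sup_le hA.1 (Subgroup.zpowers_le.mpr hxP)) hB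
  rw [Subgroup.eq_of_le_of_card_ge le_sup_left hle]
  exact Subgroup.mem_sup_right (Subgroup.mem_zpowers x)

/-- An abelian subgroup of largest order is self-centralizing in `P`. -/
theorem inf_centralizer_eq_of_isMaxAb [Finite G] {P A : Subgroup G} (hA : IsMaxAb P A) :
    P ⊓ Subgroup.centralizer (A : Set G) = A := by
  refine le_antisymm ?_ (le_inf hA.1 (le_centralizer_of_isMulCommutative hA.2.1))
  rintro x ⟨hxP, hxC⟩
  have hle := hA.2.2 _ (sup_le hA.1 (Subgroup.zpowers_le.mpr hxP))
    (isMulCommutative_sup_zpowers hA.2.1 hxC)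
  rw [Subgroup.eq_of_le_of_card_ge le_sup_left hle]
  exact Subgroup.mem_sup_right (Subgroup.mem_zpowers x)

/-- `Ω₁(Z(P)) ≤ J(P)`. -/
theorem omegaOne_center_le [Finite G] :
    omegaOne p (Subgroup.center G) ≤ thompsonSubgroup p G := by
  obtain ⟨A, hA⟩ := exists_isMaxEA (p := p) (⊤ : Subgroup G)
  rw [← thompsonSubgroupOf_top]
  refine le_trans (le_trans (omegaOne_mono ?_) (omegaOne_centralizer_le_of_isMaxEA hA))
    (le_thompsonSubgroupOf hA)
  exact le_inf le_top fun z hz a _ => Subgroup.mem_center_iff.mp hz a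

/-- `C_P(J(P)) ≤ J(P)` for the abelian version. -/
theorem centralizer_thompsonA_le [Finite G] (P : Subgroup G) :
    P ⊓ Subgroup.centralizer (thompsonSubgroupAOf P : Set G) ≤ thompsonSubgroupAOf P := by
  obtain ⟨A, hA⟩ := exists_isMaxAb P
  calc P ⊓ Subgroup.centralizer (thompsonSubgroupAOf P : Set G)
      ≤ P ⊓ Subgroup.centralizer (A : Set G) :=
        inf_le_inf_left _ (Subgroup.centralizer_le (le_thompsonSubgroupAOf hA))
    _ = A := inf_centralizer_eq_of_isMaxAb hA
    _ ≤ _ := le_thompsonSubgroupAOf hA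

end Cfsg.Agent.PGroup
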