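import Cfsg.Agent.Lib.PGroup.CyclicMaximal
import Cfsg.Agent.Lib.Abelian.Cyclic

/-!
# `p`-groups with a unique subgroup of order `p`

* `isCyclic_of_unique_of_isMulCommutative`
* `cyclic_or_quaternion_of_unique` : cyclic, or `p = 2` and generalized quaternion.
-/

set_option autoImplicit false

namespace Cfsg.Agent.PGroup

universe u

variable {G : Type u} [Group G] {p : ℕ}

/-- In a `p`-group with at most one subgroup of order `p`, every element of order `p` lies in every
nontrivial subgroup. -/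
theorem mem_of_unique [Finite G] [Fact p.Prime] (hG : IsPGroup p G)
    (huniq : ∀ H K : Subgroup G, Nat.card H = p → Nat.card K = p → H = K)
    {x : G} (hx : orderOf x = p) {H : Subgroup G} (hH : H ≠ ⊥) : x ∈ H := by
  obtain ⟨n, hn⟩ := card_eq_pow hG H
  have hn0 : n ≠ 0 := fun h => hH (Subgroup.card_eq_one.mp (by rw [hn, h, pow_zero]))
  obtain ⟨y, hy⟩ := exists_prime_orderOf_dvd_card' p (hn ▸ dvd_pow_self p hn0 : p ∣ Nat.card ↥H)
  have h1 := huniq (Subgroup.zpowers x) (Subgroup.zpowers (y : G))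
    (by rw [Nat.card_zpowers, hx]) (by rw [Nat.card_zpowers, Subgroup.orderOf_coe, hy])
  have h2 : x ∈ Subgroup.zpowers (y : G) := h1 ▸ Subgroup.mem_zpowers x
  exact Subgroup.zpowers_le.mpr y.2 h2

theorem unique_subgroup (huniq : ∀ H K : Subgroup G, Nat.card H = p → Nat.card K = p → H = K)
    (M : Subgroup G) : ∀ H K : Subgroup ↥M, Nat.card H = p → Nat.card K = p → H = K := fun H K h h' =>
  Subgroup.map_injective M.subtype_injective (huniq _ _
    (by rw [Subgroup.card_map_of_injective M.subtype_injective, h])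
    (by rw [Subgroup.card_map_of_injective M.subtype_injective, h']))

theorem isCyclic_of_unique_of_isMulCommutative [Finite G] [Fact p.Prime] (hG : IsPGroup p G)
    (huniq : ∀ H K : Subgroup G, Nat.card H = p → Nat.card K = p → H = K)
    (hc : IsMulCommutative G) : IsCyclic G := by
  by_contra h
  let inst : CommGroup G := { (inferInstance : Group G) with mul_comm := hc.is_comm.comm }
  obtain ⟨q, b, c, hq, hb, hc', hbc⟩ := Abelian.exists_independent_of_not_isCyclic (G := G) h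
  obtain ⟨k, hk⟩ := IsPGroup.iff_orderOf.mp hG b
  have hqp : q = p := (Nat.prime_dvd_prime_iff_eq hq Fact.out).mp
    (hq.dvd_of_dvd_pow (show q ∣ p ^ k by rw [← hk, hb]))
  subst hqp
  refine hbc (mem_of_unique hG huniq hb fun hbot => ?_)
  rw [Subgroup.zpowers_eq_bot] at hbot
  rw [hbot, orderOf_one] at hc'
  exact hq.ne_one hc'.symm

/-- The key step: a cyclic self-centralizing normal `A`, `g ∉ A`, `g ^ p ∈ A`: then `p = 2` and `g`
inverts a generator of `A`. -/
theorem inverts_of_unique [Finite G] [Fact p.Prime] (hG : IsPGroup p G)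
    (huniq : ∀ H K : Subgroup G, Nat.card H = p → Nat.card K = p → H = K)
    {a : G} [(Subgroup.zpowers a).Normal]
    (hself : Subgroup.centralizer (Subgroup.zpowers a : Set G) = Subgroup.zpowers a)
    {g : G} (hg : g ∉ Subgroup.zpowers a) (hgp : g ^ p ∈ Subgroup.zpowers a) :
    p = 2 ∧ g * a * g⁻¹ = a⁻¹ ∧
      ∃ m : ℕ, 2 ≤ m ∧ orderOf a = 2 ^ m ∧ g ^ 2 = a ^ (2 ^ (m - 1)) := by
  have hp := Fact.out (p := p.Prime)
  set K : Subgroup G := Subgroup.zpowers a ⊔ Subgroup.zpowers g with hK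
  have hKc := card_sup_zpowers (Subgroup.zpowers a) hg hgp
  rw [← hK, Nat.card_zpowers] at hKc
  let a' : ↥K := ⟨a, Subgroup.mem_sup_left (Subgroup.mem_zpowers a)⟩
  let g' : ↥K := ⟨g, Subgroup.mem_sup_right (Subgroup.mem_zpowers g)⟩
  obtain ⟨m, hm⟩ := IsPGroup.iff_orderOf.mp hG a
  have hKcard : Nat.card ↥K = p ^ (m + 1) := by rw [hKc, hm, pow_succ]
  have hnab : ∃ x y : ↥K, x * y ≠ y * x := by
    refine ⟨g', a', fun h => hg ?_⟩
    rw [← hself]
    have hga : Commute g a := congrArg Subtype.val h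
    rintro _ ⟨i, rfl⟩
    exact (hga.zpow_right i).eq.symm
  have hCc : IsCyclic ↥(Subgroup.zpowers a') := inferInstance
  have ha' : orderOf a' = p ^ m := by rw [← hm, ← Subgroup.orderOf_coe]
  have hCi : (Subgroup.zpowers a').index = p := by
    have := Subgroup.card_mul_index (Subgroup.zpowers a')
    rw [Nat.card_zpowers, ha', hKcard, pow_succ] at this
    exact Nat.eq_of_mul_eq_mul_left (Nat.pow_pos hp.pos) this
  have hm1 : 1 ≤ m := by
    by_contra h
    obtain rfl : m = 0 := by omega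
    rw [pow_zero, orderOf_eq_one_iff] at hm
    subst hm
    obtain ⟨x, y, hxy⟩ := hnab
    have hK2 : K = Subgroup.zpowers g := by simp [hK]
    refine hxy (Subtype.ext ?_)
    exact mul_comm_of_isMulCommutative (inferInstance : IsMulCommutative ↥(Subgroup.zpowers g))
      (hK2 ▸ x.2) (hK2 ▸ y.2)
  have hne : Subgroup.zpowers a' ≠ ⊥ := by
    rw [Ne, Subgroup.zpowers_eq_bot]
    intro h
    rw [h, orderOf_one] at ha'
    exact absurd ha'.symm (Nat.one_lt_pow (by omega) hp.one_lt).ne'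
  have hnot : ∀ x : ↥K, orderOf x = p → x ∈ Subgroup.zpowers a' := fun x hx =>
    mem_of_unique (hG.to_subgroup K) (unique_subgroup huniq K) hx hne
  have hp2 : p = 2 := by
    by_contra h2
    have hnc : ¬ IsCyclic ↥K := fun h => by
      obtain ⟨x, y, hxy⟩ := hnab
      have := h.isMulCommutative
      exact hxy (Std.Commutative.comm (op := (· * ·)) x y)
    obtain ⟨c, b, r, hCeq, -, hb, hbA, -⟩ := cyclic_index_odd h2 hm1 hKcard _ hCc hCi hnc
    exact hbA (hCeq ▸ hnot b hb)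
  subst hp2
  have hm2 : 2 ≤ m := by
    by_contra h
    obtain rfl : m = 1 := by omega
    obtain ⟨x, y, hxy⟩ := hnab
    have := IsPGroup.isMulCommutative_of_card_eq_prime_sq hKcard
    exact hxy (Std.Commutative.comm (op := (· * ·)) x y)
  obtain ⟨c, b, hCeq, hc, hbA, -, h⟩ := cyclic_index_two hm2 hKcard _ hCc hCi hnab
  have hb1 : b ^ 2 ≠ 1 := fun h1 =>
    hbA (hCeq ▸ hnot b (orderOf_eq_prime h1 (fun h2 => hbA (h2 ▸ one_mem _))))
  have hq : b ^ 2 = c ^ (2 ^ (m - 1)) ∧ b * c * b⁻¹ = c⁻¹ := by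
    rcases h with ⟨h1, -⟩ | h | ⟨-, h1, -⟩ | ⟨-, h1, -⟩
    exacts [absurd h1 hb1, h, absurd h1 hb1, absurd h1 hb1]
  -- transfer to `a'` and `g'`
  have hmem : a' ∈ Subgroup.zpowers c := hCeq ▸ Subgroup.mem_zpowers a'
  obtain ⟨i, hi⟩ := hmem
  simp only at hi
  have hinv : b * a' * b⁻¹ = a'⁻¹ := by
    rw [← hi, ← _root_.conj_zpow, hq.2, inv_zpow]
  have hgb : ∃ j : ℤ, g' = b * a' ^ j := by
    have hidx := Subgroup.index_eq_two_iff.mp hCi
    have hg' : g' ∉ Subgroup.zpowers a' := fun hh => by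
      obtain ⟨j, hj⟩ := hh
      exact hg ⟨j, congrArg Subtype.val hj⟩
    have hb' : b⁻¹ * g' ∈ Subgroup.zpowers a' := by
      have h1 := Subgroup.mul_mem_iff_of_index_two hCi (a := b⁻¹) (b := g')
      rw [h1, inv_mem_iff]
      exact iff_of_false (hCeq ▸ hbA) hg'
    obtain ⟨j, hj⟩ := hb'
    exact ⟨j, by rw [show a' ^ j = b⁻¹ * g' from hj, mul_inv_cancel_left]⟩
  obtain ⟨j, hj⟩ := hgb
  have hginv : g' * a' * g'⁻¹ = a'⁻¹ := by
    rw [hj, ← hinv]; group
  refine ⟨rfl, congrArg Subtype.val hginv, m, hm2, hm, ?_⟩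
  have hsq : g' ^ 2 = b ^ 2 := by
    have h1 : b * a' ^ j * b⁻¹ = (a' ^ j)⁻¹ := by rw [← _root_.conj_zpow, hinv, inv_zpow]
    calc g' ^ 2 = (b * a' ^ j * b⁻¹) * b ^ 2 * a' ^ j := by rw [hj, pow_two, pow_two]; group
      _ = (a' ^ j)⁻¹ * b ^ 2 * a' ^ j := by rw [h1]
      _ = b ^ 2 := by
        have hcm : Commute (b ^ 2) (a' ^ j) := by
          rw [hq.1, ← hi]
          exact ((Commute.refl c).pow_left _).zpow_right _ |>.zpow_right _
        rw [mul_assoc, hcm.eq, inv_mul_cancel_left]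
  have hca : c ^ (2 ^ (m - 1)) = a' ^ (2 ^ (m - 1)) := by
    -- both are the involution of the cyclic group
    have hodd : i % 2 = 1 := by
      by_contra he
      have h1 : a' ^ (2 ^ (m - 1)) = 1 := by
        rw [← hi, ← zpow_natCast, ← zpow_mul]
        refine orderOf_dvd_iff_zpow_eq_one.mp ?_
        rw [hc]
        obtain ⟨k, rfl⟩ : ∃ k, m = k + 1 := ⟨m - 1, by omega⟩
        obtain ⟨q, rfl⟩ : ∃ q, i = 2 * q := ⟨i / 2, by omega⟩
        exact ⟨q, by rw [Nat.add_sub_cancel]; push_cast; ring⟩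
      have h2 := orderOf_dvd_of_pow_eq_one h1
      rw [ha', Nat.pow_dvd_pow_iff_le_right (by norm_num)] at h2
      omega
    rw [← hi, ← zpow_natCast, ← zpow_natCast, ← zpow_mul, zpow_eq_zpow_iff_dvd, hc]
    obtain ⟨k, rfl⟩ : ∃ k, m = k + 1 := ⟨m - 1, by omega⟩
    obtain ⟨q, rfl⟩ : ∃ q, i = 2 * q + 1 := ⟨i / 2, by omega⟩
    exact ⟨-q, by rw [Nat.add_sub_cancel]; push_cast; ring⟩
  have := congrArg Subtype.val (hsq.trans (hq.1.trans hca))
  simpa [a', g'] using this

/-- A finite `p`-group with a unique subgroup of order `p` is cyclic or generalized quaternion. -/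
theorem cyclic_or_quaternion_of_unique [Finite G] [Fact p.Prime] (hG : IsPGroup p G)
    (huniq : ∀ H K : Subgroup G, Nat.card H = p → Nat.card K = p → H = K) :
    IsCyclic G ∨ (p = 2 ∧ ∃ n : ℕ, 1 ≤ n ∧ Nat.card G = 2 ^ (n + 2) ∧
      Nonempty (G ≃* QuaternionGroup (2 ^ n))) := by
  obtain ⟨A, hAn, hA, hmax⟩ := exists_maximal_abelian_normal (G := G)
  have hself := centralizer_eq_of_maximal_abelian_normal hG hA hmax
  have hAc : IsCyclic ↥A :=
    isCyclic_of_unique_of_isMulCommutative (hG.to_subgroup A) (unique_subgroup huniq A) hA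
  obtain ⟨a, rfl⟩ := (Subgroup.isCyclic_iff_exists_zpowers_eq_top A).mp hAc
  by_cases htop : Subgroup.zpowers a = ⊤
  · exact Or.inl (isCyclic_iff_exists_zpowers_eq_top.mpr ⟨a, htop⟩)
  right
  obtain ⟨L, -, hAL, -, hLc⟩ := exists_normal_step hG _ ⊤ (lt_top_iff_ne_top.mpr htop)
  obtain ⟨g, hgL, hg⟩ := SetLike.exists_of_lt hAL
  have hgp : g ^ p ∈ Subgroup.zpowers a := by
    have h1 : ((Subgroup.zpowers a).subgroupOf L).index = p := by
      have h := Subgroup.card_mul_index ((Subgroup.zpowers a).subgroupOf L)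
      rw [Nat.card_congr (Subgroup.subgroupOfEquivOfLe hAL.le).toEquiv, hLc] at h
      exact Nat.eq_of_mul_eq_mul_left Nat.card_pos h
    have := pow_mem_of_index_eq ((Subgroup.zpowers a).subgroupOf L) h1 ⟨g, hgL⟩
    simpa [Subgroup.mem_subgroupOf] using this
  obtain ⟨hp2, hinv, m, hm, hma, hg2⟩ := inverts_of_unique hG huniq hself hg hgp
  subst hp2
  refine ⟨rfl, m - 1, by omega, ?_⟩
  have hall : ∀ x : G, x ^ 2 ∈ Subgroup.zpowers a := by
    intro x
    by_contra hx
    obtain ⟨k, hk⟩ := IsPGroup.iff_orderOf.mp (hG.to_quotient (Subgroup.zpowers a))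
      (QuotientGroup.mk' _ x)
    have hk2 : 2 ≤ k := by
      by_contra hh
      refine hx ((QuotientGroup.eq_one_iff _).mp ?_)
      show QuotientGroup.mk' (Subgroup.zpowers a) (x ^ 2) = 1
      rw [map_pow, ← orderOf_dvd_iff_pow_eq_one, hk]
      simpa using Nat.pow_dvd_pow 2 (show k ≤ 1 by omega)
    set y := x ^ (2 ^ (k - 2)) with hy
    have hyn : ∀ j, (y ^ 2 ^ j ∈ Subgroup.zpowers a ↔ 2 ≤ j) := by
      intro j
      rw [← QuotientGroup.eq_one_iff, ← QuotientGroup.mk'_apply, map_pow, hy, map_pow, ← pow_mul,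
        ← orderOf_dvd_iff_pow_eq_one, hk, ← pow_add, Nat.pow_dvd_pow_iff_le_right (by norm_num)]
      omega
    have h1 : y ^ 2 ∉ Subgroup.zpowers a := fun h => by simpa using (hyn 1).mp (by simpa using h)
    have h2 : (y ^ 2) ^ 2 ∈ Subgroup.zpowers a := by rw [← pow_mul]; exact (hyn 2).mpr le_rfl
    obtain ⟨-, hi2, -⟩ := inverts_of_unique hG huniq hself h1 h2
    obtain ⟨r, hr⟩ := hAn.conj_mem a (Subgroup.mem_zpowers a) y
    have h3 := conj_pow_zpow hr.symm 2
    rw [hi2, ← zpow_neg_one, zpow_eq_zpow_iff_dvd, hma] at h3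
    have h4 : (4 : ℤ) ∣ -1 - r ^ 2 := by
      refine dvd_trans ?_ h3
      exact ⟨2 ^ (m - 2), by push_cast; rw [show (4 : ℤ) = 2 ^ 2 by norm_num, ← pow_add]; congr 1; omega⟩
    rcases Int.emod_two_eq_zero_or_one r with h | h
    · obtain ⟨q, rfl⟩ : ∃ q, r = 2 * q := ⟨r / 2, by omega⟩
      rw [mul_pow] at h4
      omega
    · obtain ⟨q, rfl⟩ : ∃ q, r = 2 * q + 1 := ⟨r / 2, by omega⟩
      rw [show -1 - (2 * q + 1) ^ 2 = 4 * (-q ^ 2 - q) - 2 by ring] at h4
      omega
  have hidx : (Subgroup.zpowers a).index = 2 := by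
    refine Subgroup.index_eq_two_iff.mpr ⟨g, fun x => ?_⟩
    by_cases hx : x ∈ Subgroup.zpowers a
    · exact Or.inr ⟨hx, fun h => hg (by simpa using mul_mem (inv_mem hx) h)⟩
    · refine Or.inl ⟨?_, hx⟩
      obtain ⟨-, hix, -⟩ := inverts_of_unique hG huniq hself hx (hall x)
      rw [← hself]
      have hgi : g * a⁻¹ * g⁻¹ = a := by rw [← conj_inv, hinv, inv_inv]
      have hxga : Commute (x * g) a := by
        refine mul_inv_eq_iff_eq_mul.mp (?_ : x * g * a * (x * g)⁻¹ = a)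
        calc x * g * a * (x * g)⁻¹ = x * (g * a * g⁻¹) * x⁻¹ := by group
          _ = a := by rw [hinv, ← conj_inv, hix, inv_inv]
      rintro _ ⟨i, rfl⟩
      exact (hxga.zpow_right i).eq.symm
  have hcard : Nat.card G = 4 * 2 ^ (m - 1) := by
    rw [← Subgroup.card_mul_index (Subgroup.zpowers a), Nat.card_zpowers, hma, hidx,
      show (4 : ℕ) = 2 ^ 2 by norm_num, ← pow_add, ← pow_succ]
    congr 1
    omega
  refine ⟨?_, quaternionEquivOfRel (by rw [hma, ← pow_succ']; congr 1; omega) hg hg2 hinv hcard⟩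
  rw [hcard, pow_add, mul_comm]
  norm_num

end Cfsg.Agent.PGroup
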