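import Cfsg.Agent.Lib.PGroup.SCN
import Cfsg.Agent.Lib.PGroup.Class2
import Cfsg.Agent.Lib.PGroup.Basic
import Cfsg.Agent.Lib.Coprime.Basic
import Cfsg.Prelude.Def_OddOrderLocal

/-!
# Maximal normal elementary abelian subgroups, p odd

* `mem_of_centralizer_of_maximal_normal`: `Ω₁(C(E)) = E` for a maximal normal elementary abelian `E`;
* `card_le_sq`: if moreover `|E| ≤ p²` every elementary abelian subgroup has order at most `p²`;
* `exists_normal_elementary_cube_ge`: rank at least 3 gives a normal one of order at least `p³`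
  above any given normal one of order at most `p²`.
-/

set_option linter.style.haveILetI false

namespace Cfsg.Agent.PGroup

open Subgroup (centralizer center zpowers normalizer)
open scoped commutatorElement

variable {P : Type*} [Group P] {p : ℕ}

/-- Conjugation of an abelian normal subgroup by powers of `x`, two steps unipotent. -/
theorem pow_conj_eq {A : Subgroup P} [A.Normal] (hA : IsMulCommutative A) {x a : P} (ha : a ∈ A)
    (he : x * ⁅x, ⁅x, a⁆⁆ * x⁻¹ = ⁅x, ⁅x, a⁆⁆) (n : ℕ) :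
    x ^ n * a * (x ^ n)⁻¹ = ⁅x, ⁅x, a⁆⁆ ^ n.choose 2 * ⁅x, a⁆ ^ n * a := by
  have hmem : ∀ b ∈ A, ⁅x, b⁆ ∈ A := fun b hb => by
    rw [commutatorElement_def]
    exact mul_mem (‹A.Normal›.conj_mem b hb x) (inv_mem hb)
  set d := ⁅x, a⁆ with hd
  set e := ⁅x, d⁆ with he'
  have hxa : x * a * x⁻¹ = d * a := by rw [hd, commutatorElement_def, inv_mul_cancel_right]
  have hxd : x * d * x⁻¹ = e * d := by rw [he', commutatorElement_def, inv_mul_cancel_right]
  have hed : Commute e d := mul_comm_of_isMulCommutative hA (hmem _ (hmem a ha)) (hmem a ha)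
  induction n with
  | zero => simp
  | succ n ih =>
    calc x ^ (n + 1) * a * (x ^ (n + 1))⁻¹ = x * (x ^ n * a * (x ^ n)⁻¹) * x⁻¹ := by
          rw [pow_succ']; group
      _ = (x * e * x⁻¹) ^ n.choose 2 * (x * d * x⁻¹) ^ n * (x * a * x⁻¹) := by
          rw [ih, conj_pow, conj_pow]; group
      _ = e ^ n.choose 2 * (e ^ n * d ^ n) * (d * a) := by rw [he, hxd, hxa, hed.mul_pow]
      _ = _ := by
          rw [Nat.choose_succ_succ', Nat.choose_one_right, pow_succ, add_comm n, pow_add]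
          group

variable [Finite P] [Fact p.Prime]

/-- For `p` odd, the elements of order `p` centralising a maximal normal elementary abelian
subgroup lie in it. -/
theorem mem_of_centralizer_of_maximal_normal (hp : p ≠ 2) (hP : IsPGroup p P) {E : Subgroup P}
    [E.Normal] (hE : IsElementaryAbelian p E)
    (hmax : ∀ F : Subgroup P, F.Normal → IsElementaryAbelian p F → E ≤ F → F = E)
    {x : P} (hx : x ∈ centralizer (E : Set P)) (hxp : x ^ p = 1) : x ∈ E := by
  have hp' : p.Prime := Fact.out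
  obtain ⟨A, hEA, hAn, hAc, hAmax⟩ := exists_maximal_abelian_normal_ge E hE.1
  haveI := hAn
  have hCA := centralizer_eq_of_maximal_abelian_normal hP hAc hAmax
  have hAE : ∀ a ∈ A, a ^ p = 1 → a ∈ E := by
    intro a ha hap
    let F : Subgroup P :=
      { carrier := {a | a ∈ A ∧ a ^ p = 1}
        one_mem' := ⟨one_mem _, one_pow _⟩
        mul_mem' := fun {u v} hu hv => ⟨mul_mem hu.1 hv.1, by
          rw [(show Commute u v from mul_comm_of_isMulCommutative hAc hu.1 hv.1).mul_pow, hu.2, hv.2, one_mul]⟩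
        inv_mem' := fun {u} hu => ⟨inv_mem hu.1, by rw [inv_pow, hu.2, inv_one]⟩ }
    have hF : F = E := hmax F ⟨fun u hu c => ⟨hAn.conj_mem u hu.1 c, by
        rw [conj_pow, hu.2, mul_one, mul_inv_cancel]⟩⟩
      (isElementaryAbelian_of_forall (fun u hu v hv => mul_comm_of_isMulCommutative hAc hu.1 hv.1)
        fun u hu => hu.2) (fun u hu => ⟨hEA hu, hE.2 u hu⟩)
    exact hF.le ⟨ha, hap⟩
  have hcm : ∀ (y : P), ∀ a ∈ A, ⁅y, a⁆ ∈ A := fun y a ha => by
    rw [commutatorElement_def]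
    exact mul_mem (hAn.conj_mem a ha y) (inv_mem ha)
  have hfixE : ∀ y ∈ centralizer (E : Set P), ∀ e ∈ E, ⁅y, e⁆ = 1 := fun y hy e he =>
    commutatorElement_eq_one_iff_mul_comm.2 (Subgroup.mem_centralizer_iff.1 hy e he).symm
  -- order-`p` elements of `C(E)` move `A` into `E`
  have key : ∀ y ∈ centralizer (E : Set P), y ^ p = 1 → ∀ a ∈ A, ⁅y, a⁆ ∈ E := by
    intro y hy hyp
    have hpow : ∀ b ∈ A, ⁅y, b ^ p⁆ = ⁅y, b⁆ ^ p := by
      intro b hb
      have h1 : y * b * y⁻¹ = ⁅y, b⁆ * b := by rw [commutatorElement_def, inv_mul_cancel_right]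
      rw [commutatorElement_def y (b ^ p), ← conj_pow, h1,
        (show Commute ⁅y, b⁆ b from mul_comm_of_isMulCommutative hAc (hcm y b hb) hb).mul_pow,
        mul_inv_cancel_right]
    suffices h : ∀ k, ∀ a ∈ A, a ^ p ^ k = 1 → ⁅y, a⁆ ∈ E by
      intro a ha
      obtain ⟨k, hk⟩ := hP a
      exact h k a ha hk
    intro k
    induction k with
    | zero =>
      intro a _ hk
      rw [pow_zero, pow_one] at hk
      rw [hk, commutatorElement_one_right]
      exact one_mem _
    | succ k ih =>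
      intro a ha hk
      set d := ⁅y, a⁆ with hd
      have h1 : d ^ p ∈ E := by
        rw [← hpow a ha]
        exact ih _ (pow_mem ha p) (by rwa [← pow_mul, ← pow_succ'])
      have h2 : ⁅y, d⁆ ∈ E := by
        refine hAE _ (hcm y d (hcm y a ha)) ?_
        rw [← hpow d (hcm y a ha)]
        exact hfixE y hy _ h1
      have he : y * ⁅y, d⁆ * y⁻¹ = ⁅y, d⁆ := by
        rw [mul_inv_eq_iff_eq_mul]
        exact (Subgroup.mem_centralizer_iff.1 hy _ h2).symm
      have h3 := pow_conj_eq hAc ha he p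
      rw [hyp, one_mul, inv_one, mul_one, ← hd] at h3
      obtain ⟨m, hm⟩ := dvd_choose_two hp' hp
      rw [hm, pow_mul, hE.2 _ h2, one_pow, one_mul] at h3
      exact hAE _ (hcm y a ha) (mul_eq_right.mp h3.symm)
  -- commutators of such elements lie in `E`
  have hcomm : ∀ y ∈ centralizer (E : Set P), y ^ p = 1 → ∀ z ∈ centralizer (E : Set P), z ^ p = 1 →
      ⁅y, z⁆ ∈ E := by
    intro y hy hyp z hz hzp
    have hA' : ⁅y, z⁆ ∈ A := by
      rw [← hCA]
      refine Subgroup.mem_centralizer_iff.2 fun a₀ ha₀ => ?_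
      have hyz : ∀ a ∈ A, y * (z * a * z⁻¹) * y⁻¹ = z * (y * a * y⁻¹) * z⁻¹ := by
        intro a ha
        have h1 : y * (⁅z, a⁆) * y⁻¹ = ⁅z, a⁆ := by
          rw [mul_inv_eq_iff_eq_mul]; exact (Subgroup.mem_centralizer_iff.1 hy _ (key z hz hzp a ha)).symm
        have h2 : z * (⁅y, a⁆) * z⁻¹ = ⁅y, a⁆ := by
          rw [mul_inv_eq_iff_eq_mul]; exact (Subgroup.mem_centralizer_iff.1 hz _ (key y hy hyp a ha)).symm
        have e1 : z * a * z⁻¹ = ⁅z, a⁆ * a := by rw [commutatorElement_def, inv_mul_cancel_right]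
        have e2 : y * a * y⁻¹ = ⁅y, a⁆ * a := by rw [commutatorElement_def, inv_mul_cancel_right]
        calc y * (z * a * z⁻¹) * y⁻¹ = (y * ⁅z, a⁆ * y⁻¹) * (y * a * y⁻¹) := by rw [e1]; group
          _ = ⁅z, a⁆ * (⁅y, a⁆ * a) := by rw [h1, e2]
          _ = ⁅y, a⁆ * (⁅z, a⁆ * a) := by
            rw [← mul_assoc, ← mul_assoc,
              mul_comm_of_isMulCommutative hAc (hcm z a ha) (hcm y a ha)]
          _ = (z * ⁅y, a⁆ * z⁻¹) * (z * a * z⁻¹) := by rw [h2, e1]
          _ = z * (y * a * y⁻¹) * z⁻¹ := by rw [e2]; group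
      have h3 := hyz _ (hAn.conj_mem a₀ ha₀ (y⁻¹ * z⁻¹))
      have e1 : y * (z * (y⁻¹ * z⁻¹ * a₀ * (y⁻¹ * z⁻¹)⁻¹) * z⁻¹) * y⁻¹ = ⁅y, z⁆ * a₀ * ⁅y, z⁆⁻¹ := by
        simp only [commutatorElement_def]; group
      have e2 : z * (y * (y⁻¹ * z⁻¹ * a₀ * (y⁻¹ * z⁻¹)⁻¹) * y⁻¹) * z⁻¹ = a₀ := by group
      rw [e1, e2, mul_inv_eq_iff_eq_mul] at h3
      exact h3.symm
    refine hAE _ hA' ?_
    set a := ⁅y, z⁆ with ha
    have hconj : a * z = y * z * y⁻¹ := by rw [ha, commutatorElement_def, inv_mul_cancel_right]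
    have hza : ⁅z, a⁆ ∈ E := key z hz hzp a hA'
    have hzc : z * ⁅z, a⁆ * z⁻¹ = ⁅z, a⁆ := by
      rw [mul_inv_eq_iff_eq_mul]; exact (Subgroup.mem_centralizer_iff.1 hz _ hza).symm
    have hpw : ∀ n : ℕ, (a * z) ^ n = ⁅z, a⁆ ^ n.choose 2 * a ^ n * z ^ n := by
      intro n
      induction n with
      | zero => simp
      | succ n ih =>
        have hz1 : z ^ n * a * (z ^ n)⁻¹ = ⁅z, a⁆ ^ n * a := by
          have he : z * ⁅z, ⁅z, a⁆⁆ * z⁻¹ = ⁅z, ⁅z, a⁆⁆ := by
            rw [hfixE z hz _ hza, mul_one, mul_inv_cancel]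
          rw [pow_conj_eq hAc hA' he n, hfixE z hz _ hza, one_pow, one_mul]
        have hca : Commute ⁅z, a⁆ a := mul_comm_of_isMulCommutative hAc (hEA hza) hA'
        calc (a * z) ^ (n + 1) = ⁅z, a⁆ ^ n.choose 2 * a ^ n * (z ^ n * a * (z ^ n)⁻¹) * z ^ (n + 1) := by
              rw [pow_succ, ih, pow_succ]; group
          _ = ⁅z, a⁆ ^ n.choose 2 * (⁅z, a⁆ ^ n * a ^ n) * a * z ^ (n + 1) := by
              simp only [hz1, mul_assoc, (hca.pow_pow n n).symm.left_comm]
          _ = _ := by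
              rw [Nat.choose_succ_succ', Nat.choose_one_right, add_comm n (n.choose (1 + 1)), pow_add, pow_succ a]; group
    have h1 := hpw p
    obtain ⟨m, hm⟩ := dvd_choose_two hp' hp
    rw [hconj, conj_pow, hzp, mul_one, mul_inv_cancel, mul_one, hm, pow_mul, hE.2 _ hza, one_pow,
      one_mul] at h1
    exact h1.symm
  -- the subgroup generated by these elements
  set s := {y : P | y ∈ centralizer (E : Set P) ∧ y ^ p = 1} with hs
  set X := Subgroup.closure s with hX
  have hXC : X ≤ centralizer (E : Set P) := (Subgroup.closure_le _).2 fun y hy => hy.1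
  haveI : (centralizer (E : Set P)).Normal := Subgroup.normal_centralizer
  haveI hXn : X.Normal := by
    refine ⟨fun u hu c => ?_⟩
    have h : X ≤ X.comap (MulAut.conj c).toMonoidHom := by
      rw [hX, Subgroup.closure_le]
      exact fun y hy => Subgroup.subset_closure
        ⟨‹(centralizer (E : Set P)).Normal›.conj_mem y hy.1 c, by rw [MulEquiv.coe_toMonoidHom, MulAut.conj_apply, conj_pow, hy.2, mul_one, mul_inv_cancel]⟩
    exact h hu
  have hXE : E ≤ X := fun e he => Subgroup.subset_closure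
    ⟨le_centralizer_of_isMulCommutative hE.1 he, hE.2 e he⟩
  have hXab : ∀ u ∈ X, ∀ v ∈ X, ⁅u, v⁆ ∈ E := by
    have h : IsMulCommutative ↥(Subgroup.closure ((QuotientGroup.mk' E) '' s)) := by
      refine Subgroup.isMulCommutative_closure ?_
      rintro _ ⟨y, hy, rfl⟩ _ ⟨z, hz, rfl⟩
      rw [← commutatorElement_eq_one_iff_mul_comm, ← map_commutatorElement]
      exact (QuotientGroup.eq_one_iff _).2 (hcomm y hy.1 hy.2 z hz.1 hz.2)
    rw [← MonoidHom.map_closure, ← hX] at h
    intro u hu v hv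
    rw [← QuotientGroup.eq_one_iff]
    show QuotientGroup.mk' E ⁅u, v⁆ = 1
    rw [map_commutatorElement, commutatorElement_eq_one_iff_mul_comm]
    exact mul_comm_of_isMulCommutative h ⟨u, hu, rfl⟩ ⟨v, hv, rfl⟩
  have hcl : commutator X ≤ center X := by
    rw [commutator_def, Subgroup.commutator_le]
    intro u _ v _
    refine Subgroup.mem_center_iff.2 fun w => Subtype.ext ?_
    exact (Subgroup.mem_centralizer_iff.1 (hXC w.2) _ (hXab u u.2 v v.2)).symm
  have hXp : ∀ u ∈ X, u ^ p = 1 := by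
    intro u hu
    have hmem : (⟨u, hu⟩ : X) ∈ Subgroup.closure (((↑) : X → P) ⁻¹' s) :=
      (Subgroup.closure_closure_coe_preimage (k := s)).ge (Subgroup.mem_top _)
    have := pow_eq_one_of_mem_closure hp' hp hcl (fun y hy => Subtype.ext hy.2) hmem
    exact congrArg Subtype.val this
  have hxX : x ∈ X := Subgroup.subset_closure ⟨hx, hxp⟩
  by_contra hxE
  obtain ⟨L, hL, hEL, hLX, hcard⟩ := exists_normal_step hP E X
    (lt_of_le_not_ge hXE fun h => hxE (h hxX))
  obtain ⟨w, hwL, hwE⟩ := SetLike.exists_of_lt hEL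
  have heq : E ⊔ zpowers w = L := by
    refine Subgroup.eq_of_le_of_card_ge (sup_le hEL.le (Subgroup.zpowers_le.2 hwL)) ?_
    rw [hcard, mul_comm]
    exact mul_card_le_card hP (left_lt_sup.mpr fun h => hwE (h (Subgroup.mem_zpowers w)))
  refine hEL.ne (hmax L hL (heq ▸ isElementaryAbelian_sup hE (isElementaryAbelian_zpowers
    (hXp w (hLX hwL))) ?_) hEL.le).symm
  rintro e he _ ⟨i, rfl⟩
  exact Commute.zpow_right (Subgroup.mem_centralizer_iff.1 (hXC (hLX hwL)) e he) i

omit [Fact p.Prime] [Finite P] in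
theorem isElementaryAbelian_inf_centralizer {F : Subgroup P} (hF : IsElementaryAbelian p F) (S : Subgroup P) :
    IsElementaryAbelian p (F ⊓ S : Subgroup P) :=
  isElementaryAbelian_mono hF inf_le_left

/-- A maximal normal elementary abelian subgroup of order at most `p²` bounds all elementary abelian
subgroups by `p²`. -/
theorem card_le_sq (hp : p ≠ 2) (hP : IsPGroup p P) {E : Subgroup P} [E.Normal]
    (hE : IsElementaryAbelian p E)
    (hmax : ∀ F : Subgroup P, F.Normal → IsElementaryAbelian p F → E ≤ F → F = E)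
    (hE2 : Nat.card E ≤ p ^ 2) {F : Subgroup P} (hF : IsElementaryAbelian p F) : Nat.card F ≤ p ^ 2 := by
  have hp' : p.Prime := Fact.out
  set C := centralizer (E : Set P) with hC
  set F₀ := F ⊓ C with hF₀
  have hF₀E : F₀ ≤ E := fun u hu =>
    mem_of_centralizer_of_maximal_normal hp hP hE hmax hu.2 (hF.2 u hu.1)
  by_cases hFC : F ≤ C
  · exact (Subgroup.card_le_of_le ((le_inf le_rfl hFC).trans hF₀E)).trans hE2
  obtain ⟨f, hfF, hfC⟩ := SetLike.not_le_iff_exists.1 hFC
  -- `f` moves `E`, so `F ∩ C(E)` is proper in `E`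
  have hlt : F₀ < E := lt_of_le_of_ne hF₀E fun e => hfC (Subgroup.mem_centralizer_iff.2 fun u hu =>
    mul_comm_of_elementaryAbelian hF (e.ge hu).1 hfF)
  -- the central line
  have hEne : E ≠ ⊥ := (lt_of_le_of_lt bot_le hlt).ne'
  set Z := E ⊓ center P with hZ
  have hZne : Z ≠ ⊥ := inf_center_ne_bot hP E hEne
  obtain ⟨e, heE, heC⟩ : ∃ e ∈ E, e ∉ center P := by
    by_contra h
    push Not at h
    exact hfC (Subgroup.mem_centralizer_iff.2 fun u hu => (Subgroup.mem_center_iff.1 (h u hu) f).symm)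
  have hpdvd : ∀ K : Subgroup P, K ≠ ⊥ → p ≤ Nat.card K := fun K hK => by
    obtain ⟨k, hk⟩ := (hP.to_subgroup K).exists_card_eq
    have hk0 : k ≠ 0 := fun h => hK (Subgroup.card_eq_one.1 (by rw [hk, h, pow_zero]))
    rw [hk]
    exact Nat.le_self_pow hk0 p
  have hstep : ∀ {K L : Subgroup P}, K < L → p * Nat.card K ≤ Nat.card L := fun h => mul_card_le_card hP h
  have hZcard : Nat.card Z = p := by
    refine le_antisymm ?_ (hpdvd Z hZne)
    have h1 := hstep (show Z < E from lt_of_le_of_ne inf_le_left fun h => heC (h.ge heE).2)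
    exact Nat.le_of_mul_le_mul_left ((h1.trans hE2).trans (pow_two p).le) hp'.pos
  -- `P` acts trivially on `E / Z`
  have hEcard : p * Nat.card Z ≤ Nat.card E :=
    hstep (lt_of_le_of_ne inf_le_left fun h => heC (h.ge heE).2)
  obtain ⟨L, hL, hZL, hLE, hLcard⟩ := exists_normal_step hP Z E
    (lt_of_le_of_ne inf_le_left fun h => heC (h.ge heE).2)
  have hLE' : L = E := Subgroup.eq_of_le_of_card_ge hLE (by
    rw [hLcard, hZcard, ← pow_two]; exact hE2)
  haveI : Z.Normal := inferInstance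
  have hcen : ∀ g : P, ⁅g, e⁆ ∈ Z := by
    intro g
    set π := QuotientGroup.mk' Z
    have hEb : E.map π ≠ ⊥ := fun h => heC ((QuotientGroup.eq_one_iff e).1
      (show π e = 1 from Subgroup.mem_bot.1 (h.le ⟨e, heE, rfl⟩))).2
    haveI : (E.map π).Normal := ‹E.Normal›.map π (QuotientGroup.mk'_surjective Z)
    have hne := inf_center_ne_bot (hP.to_quotient Z) (E.map π) hEb
    have hcard : Nat.card (E.map π) ≤ p := by
      have h1 : Nat.card (E.map π) = Z.relIndex E := by
        rw [← Subgroup.relIndex_ker, QuotientGroup.ker_mk']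
      have h2 := Subgroup.relIndex_mul_relIndex ⊥ Z E bot_le inf_le_left
      rw [Subgroup.relIndex_bot_left, Subgroup.relIndex_bot_left, hZcard] at h2
      rw [h1]
      exact Nat.le_of_mul_le_mul_left ((h2.le.trans hE2).trans (pow_two p).le) hp'.pos
    have heq : E.map π ⊓ center (P ⧸ Z) = E.map π :=
      Subgroup.eq_of_le_of_card_ge inf_le_left (hcard.trans (by
        obtain ⟨k, hk⟩ := ((hP.to_quotient Z).to_subgroup (E.map π ⊓ center (P ⧸ Z))).exists_card_eq
        have hk0 : k ≠ 0 := fun h => hne (Subgroup.card_eq_one.1 (by rw [hk, h, pow_zero]))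
        rw [hk]
        exact Nat.le_self_pow hk0 p))
    refine (QuotientGroup.eq_one_iff _).1 (show π ⁅g, e⁆ = 1 from ?_)
    rw [map_commutatorElement, commutatorElement_eq_one_iff_mul_comm]
    exact Subgroup.mem_center_iff.1 (heq.ge ⟨e, heE, rfl⟩).2 (π g)
  -- `F / F₀` embeds in `Z`
  have hgen : E ≤ Z ⊔ zpowers e := by
    refine (Subgroup.eq_of_le_of_card_ge (sup_le inf_le_left (Subgroup.zpowers_le.2 heE)) ?_).ge
    refine hE2.trans ?_
    rw [pow_two]
    refine le_trans ?_ (hstep (show Z < Z ⊔ zpowers e from left_lt_sup.mpr fun h =>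
      heC (h (Subgroup.mem_zpowers e)).2))
    rw [hZcard]
  have hidx : (F₀.subgroupOf F).index ≤ p := by
    rw [← hZcard, Subgroup.index_eq_card]
    refine Nat.card_le_card_of_injective
      (fun q : F ⧸ F₀.subgroupOf F => (⟨⁅(q.out : P), e⁆, hcen _⟩ : Z)) fun q q' h => ?_
    rw [← QuotientGroup.out_eq' q, ← QuotientGroup.out_eq' q', QuotientGroup.eq]
    have h1 : ⁅(q.out : P), e⁆ = ⁅(q'.out : P), e⁆ := congrArg Subtype.val h
    refine ⟨((q.out)⁻¹ * q'.out).2, Subgroup.mem_centralizer_iff.2 fun u hu => ?_⟩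
    have hcomm : Commute (((q.out)⁻¹ * q'.out : F) : P) e := by
      have h2 : (q.out : P) * e * (q.out : P)⁻¹ = (q'.out : P) * e * (q'.out : P)⁻¹ := by
        simpa [commutatorElement_def] using h1
      show _ * e = e * _
      rw [Subgroup.coe_mul, Subgroup.coe_inv]
      have h3 := congrArg (fun w => (q.out : P)⁻¹ * w * (q'.out : P)) h2
      simp only [mul_assoc, inv_mul_cancel_left, inv_mul_cancel, mul_one] at h3
      rw [mul_assoc]
      exact h3.symm
    have hle : E ≤ centralizer ({(((q.out)⁻¹ * q'.out : F) : P)} : Set P) :=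
      hgen.trans (sup_le (inf_le_right.trans (Subgroup.center_le_centralizer _))
        (Subgroup.zpowers_le.2 (Subgroup.mem_centralizer_singleton_iff.2 hcomm.eq.symm)))
    exact Subgroup.mem_centralizer_singleton_iff.1 (hle hu)
  have h1 := (F₀.subgroupOf F).card_mul_index
  rw [Coprime.card_subgroupOf inf_le_left] at h1
  rw [← h1]
  have h2 : p * Nat.card F₀ ≤ p ^ 2 := (hstep hlt).trans hE2
  calc Nat.card F₀ * (F₀.subgroupOf F).index ≤ Nat.card F₀ * p := Nat.mul_le_mul_left _ hidx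
    _ ≤ p ^ 2 := by rw [mul_comm]; exact h2

/-- In a p-group of rank at least 3 (p odd) a normal elementary abelian subgroup extends to one of order
at least `p³`. -/
theorem exists_normal_elementary_cube_ge (hp : p ≠ 2) (hP : IsPGroup p P) (hr : ¬ PRankLE p 2 P)
    {E : Subgroup P} [E.Normal] (hE : IsElementaryAbelian p E) :
    ∃ U : Subgroup P, E ≤ U ∧ U.Normal ∧ IsElementaryAbelian p U ∧ p ^ 3 ≤ Nat.card U := by
  obtain ⟨U, hU, hUmax⟩ := (Set.toFinite
    {U : Subgroup P | E ≤ U ∧ U.Normal ∧ IsElementaryAbelian p U}).exists_maximal ⟨E, le_rfl, ‹_›, hE⟩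
  refine ⟨U, hU.1, hU.2.1, hU.2.2, ?_⟩
  haveI := hU.2.1
  obtain ⟨k, hk⟩ := (hP.to_subgroup U).exists_card_eq
  by_contra hlt
  rw [hk, not_le, Nat.pow_lt_pow_iff_right (Fact.out : p.Prime).one_lt] at hlt
  refine hr fun F hF hFp => ?_
  exact card_le_sq hp hP hU.2.2 (fun V hV hV' hUV => le_antisymm (hUmax ⟨hU.1.trans hUV, hV, hV'⟩ hUV) hUV)
    (hk ▸ Nat.pow_le_pow_right (Fact.out : p.Prime).pos (by omega)) ⟨hF, hFp⟩

end Cfsg.Agent.PGroup
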