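import Cfsg.Agent.Lib.PGroup.Metacyclic
import Cfsg.Agent.Lib.PGroup.ElementaryAbelian

/-!
# Huppert's metacyclicity criterion, `p > 3`

* `card_omegaOne_quotient_le_of_central`, `card_omegaOne_quotient_le`: `|Ω₁| ≤ p²` passes to quotients.
* `isMetacyclic_of_card_omegaOne_le`: `|Ω₁(R)| ≤ p²` implies `R` metacyclic.
* `class_three_of_card_le`: class at most 3 if `|G'| ≤ p²`.
-/

set_option autoImplicit false

namespace Cfsg.Agent.PGroup

open scoped commutatorElement

universe u

variable {G : Type u} [Group G] [Finite G] {p : ℕ} [Fact p.Prime]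

/-- `|G'| ≤ p²` gives class at most 3. -/
theorem class_three_of_card_le (hG : IsPGroup p G) (h : Nat.card ↥(commutator G) ≤ p ^ 2) :
    ⁅⁅commutator G, (⊤ : Subgroup G)⁆, (⊤ : Subgroup G)⁆ = ⊥ := by
  by_cases h2 : ⁅commutator G, (⊤ : Subgroup G)⁆ = ⊥
  · rw [h2, Subgroup.commutator_bot_left]
  have h1 : commutator G ≠ ⊥ := fun h1 => h2 (by rw [h1, Subgroup.commutator_bot_left])
  have hlt1 := mul_card_le_card hG (commutator_top_lt hG _ h1)
  by_contra h3
  have hlt2 := mul_card_le_card hG (commutator_top_lt hG _ h2)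
  have hlt3 : 1 < Nat.card ↥⁅⁅commutator G, (⊤ : Subgroup G)⁆, (⊤ : Subgroup G)⁆ :=
    (Subgroup.one_lt_card_iff_ne_bot _).mpr h3
  have hp2 := (Fact.out (p := p.Prime)).two_le
  have h4 : p * (p * 2) ≤ p ^ 2 :=
    le_trans (Nat.mul_le_mul_left p (le_trans (Nat.mul_le_mul_left p hlt3) hlt2)) (hlt1.trans h)
  rw [pow_two] at h4
  have := Nat.le_of_mul_le_mul_left h4 (by omega)
  omega

/-- The derived subgroup of a group of order at most `p^4` has order at most `p^2`. -/
theorem card_commutator_le_of_card (hG : IsPGroup p G) (h : Nat.card G ≤ p ^ 4) :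
    Nat.card ↥(commutator G) ≤ p ^ 2 := by
  have hp := (Fact.out (p := p.Prime))
  obtain ⟨e, he⟩ := IsPGroup.iff_card.mp hG
  by_cases he2 : e ≤ 2
  · refine le_trans (Nat.le_of_dvd Nat.card_pos (Subgroup.card_subgroup_dvd_card _)) ?_
    rw [he]
    exact Nat.pow_le_pow_right hp.pos he2
  obtain ⟨L, hL, -, -, hLc⟩ := exists_normal_card_between hG ⊥ ⊤ bot_le (e - 2)
    (by simpa using Nat.one_le_pow _ _ hp.pos)
    (by rw [Subgroup.card_top, he]; exact Nat.pow_le_pow_right hp.pos (by omega))
  have hab : commutator G ≤ L := by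
    have hidx : Nat.card (G ⧸ L) = p ^ 2 := by
      have := Subgroup.card_mul_index L
      rw [Subgroup.index_eq_card, hLc, he, show e = e - 2 + 2 by omega, pow_add,
        show e - 2 + 2 - 2 = e - 2 by omega] at this
      exact Nat.eq_of_mul_eq_mul_left (Nat.pow_pos hp.pos) this
    refine Subgroup.commutator_le.mpr fun x _ y _ => ?_
    rw [← QuotientGroup.eq_one_iff]
    show QuotientGroup.mk' L ⁅x, y⁆ = 1
    rw [map_commutatorElement, commutatorElement_eq_one_iff_mul_comm]
    exact (IsPGroup.isMulCommutative_of_card_eq_prime_sq hidx).is_comm.comm _ _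
  refine le_trans (Subgroup.card_le_of_le hab) ?_
  rw [hLc]
  rw [he] at h
  exact Nat.pow_le_pow_right hp.pos (by have := (Nat.pow_le_pow_iff_right hp.one_lt).mp h; omega)

omit [Finite G] [Fact p.Prime] in
theorem commutatorElement_pow_eq_one_of_central (hG : IsRegularPGroup p G) [Finite G]
    [Fact p.Prime] {a : G} (ha : a ^ p ∈ Subgroup.center G) (b : G) : ⁅a, b⁆ ^ p = 1 := by
  have h : Commute (a ^ p ^ 1) b := by
    rw [pow_one]; exact (Subgroup.mem_center_iff.mp ha b).symm
  have := (commute_pow_iff hG a b 1).mp h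
  rwa [pow_one] at this

/-- In a quotient by a central subgroup of order `p`, `|Ω₁| ≤ p²` is preserved (`p > 3`). -/
theorem card_omegaOne_quotient_le_of_central (hp : 3 < p) (hG : IsPGroup p G)
    (hO : Nat.card ↥(omegaOne p (⊤ : Subgroup G)) ≤ p ^ 2) (T : Subgroup G) [T.Normal]
    (hTc : T ≤ Subgroup.center G) (hT : Nat.card ↥T = p) :
    Nat.card ↥(omegaOne p (⊤ : Subgroup (G ⧸ T))) ≤ p ^ 2 := by
  have hp0 := (Fact.out (p := p.Prime))
  set Q := G ⧸ T
  have hQ : IsPGroup p Q := hG.to_quotient T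
  by_contra hcon
  have hout : ∀ K : Subgroup Q, Nat.card ↥K ≤ p ^ 2 → ∃ x : Q, x ^ p = 1 ∧ x ∉ K := by
    intro K hK
    by_contra h
    push Not at h
    have hle : omegaOne p (⊤ : Subgroup Q) ≤ K := omegaOne_le_iff.mpr fun x _ hx => h x hx
    exact hcon ((Subgroup.card_le_of_le hle).trans hK)
  have hQne : (⊤ : Subgroup Q) ≠ ⊥ := by
    intro h
    obtain ⟨x, -, hx⟩ := hout ⊥ (by rw [Subgroup.card_bot]; exact Nat.one_le_pow _ _ hp0.pos)
    exact hx (h ▸ Subgroup.mem_top x)
  obtain ⟨z, -, hzc, hzo⟩ := exists_orderOf_eq_mem_center hQ ⊤ hQne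
  have hzp : z ^ p = 1 := hzo ▸ pow_orderOf_eq_one z
  have hZ : Nat.card ↥(Subgroup.zpowers z) = p := by rw [Nat.card_zpowers, hzo]
  have hzn : (Subgroup.zpowers z).Normal := by
    refine ⟨fun a ha g => ?_⟩
    rw [Subgroup.mem_center_iff.mp (Subgroup.zpowers_le.mpr hzc ha) g, mul_inv_cancel_right]
    exact ha
  obtain ⟨x, hxp, hxz⟩ := hout (Subgroup.zpowers z) (by rw [hZ, pow_two]; exact Nat.le_mul_self p)
  set K := Subgroup.zpowers z ⊔ Subgroup.zpowers x with hK
  have hKc : Nat.card ↥K = p * p := by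
    rw [hK, card_sup_zpowers _ hxz (by rw [hxp]; exact Subgroup.one_mem _), hZ]
  have hKexp : ∀ k ∈ K, k ^ p = 1 :=
    (isElementaryAbelian_sup (isElementaryAbelian_zpowers hzp) (isElementaryAbelian_zpowers hxp)
      (fun a ha b _ => (Subgroup.mem_center_iff.mp (Subgroup.zpowers_le.mpr hzc ha) b).symm)).2
  set N := Subgroup.normalizer (K : Set Q) with hN
  obtain ⟨y, hyp, hyK, hyN⟩ : ∃ y : Q, y ^ p = 1 ∧ y ∉ K ∧ y ∈ N := by
    by_cases hn : N = ⊤
    · obtain ⟨y, hy, hyK⟩ := hout K (by rw [hKc, pow_two])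
      exact ⟨y, hy, hyK, hn ▸ Subgroup.mem_top y⟩
    · have hlt := lt_normalizer hQ hn
      obtain ⟨g, hgN, hgn⟩ := SetLike.exists_of_lt hlt
      obtain ⟨k, hk, hgk⟩ : ∃ k ∈ K, g * k * g⁻¹ ∉ K := by
        by_contra h
        push Not at h
        refine hgn ?_
        rw [hN, Subgroup.mem_normalizer_iff]
        refine fun k => ⟨h k, fun hk => ?_⟩
        -- `g` maps the finite set `K` into, hence onto, itself
        have hinj : Function.Injective (fun k : ↥K => (⟨g * k * g⁻¹, h k k.2⟩ : ↥K)) :=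
          fun k k' hkk => Subtype.ext (mul_left_cancel (mul_right_cancel (congrArg Subtype.val hkk)))
        obtain ⟨k', hk'⟩ := (Finite.injective_iff_surjective.mp hinj) ⟨_, hk⟩
        have : (k' : Q) = k := mul_left_cancel (mul_right_cancel (congrArg Subtype.val hk'))
        exact this ▸ k'.2
      refine ⟨g * k * g⁻¹, ?_, hgk, ?_⟩
      · rw [conj_pow, hKexp k hk, mul_one, mul_inv_cancel]
      · exact ((Subgroup.mem_normalizer_iff.mp hgN) k).mp (Subgroup.le_normalizer hk)
  set X' := K ⊔ Subgroup.zpowers y with hX'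
  have hX'c : Nat.card ↥X' = p * p * p := by
    have hKN : K ≤ N := Subgroup.le_normalizer
    have hKn : (K.subgroupOf N).Normal := Subgroup.normal_in_normalizer
    have h1 := card_sup_zpowers (p := p) (K.subgroupOf N) (x := (⟨y, hyN⟩ : ↥N))
      (fun h => hyK h) (by
        rw [Subgroup.mem_subgroupOf, SubmonoidClass.coe_pow, hyp]
        exact Subgroup.one_mem _)
    rw [Nat.card_congr (Subgroup.subgroupOfEquivOfLe hKN).toEquiv, hKc,
      ← Subgroup.card_map_of_injective N.subtype_injective, Subgroup.map_sup,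
      MonoidHom.map_zpowers, Subgroup.map_subgroupOf_eq_of_le hKN] at h1
    exact h1
  set X := X'.comap (QuotientGroup.mk' T) with hX
  have hTX : T ≤ X := fun t ht => by
    rw [hX, Subgroup.mem_comap, show QuotientGroup.mk' T t = 1 from
      (QuotientGroup.eq_one_iff t).mpr ht]
    exact Subgroup.one_mem _
  have hXcard : Nat.card ↥X = p ^ 4 := by
    have h1 := Subgroup.card_mul_index X
    rw [hX, Subgroup.index_comap_of_surjective _ (QuotientGroup.mk'_surjective T), ← hX] at h1
    have h2 := Subgroup.card_mul_index X'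
    rw [hX'c, show Nat.card Q = T.index from (Subgroup.index_eq_card T).symm] at h2
    have h3 := Subgroup.card_mul_index T
    rw [hT] at h3
    refine Nat.eq_of_mul_eq_mul_right (Nat.pos_of_ne_zero (Subgroup.index_ne_zero_of_finite (H := X'))) ?_
    rw [h1, ← h3, ← h2]
    ring
  have hXp : IsPGroup p ↥X := hG.to_subgroup X
  have hreg : IsRegularPGroup p ↥X := isRegularPGroup_of_class_three hXp
    (Or.inr ⟨hp, class_three_of_card_le hXp (card_commutator_le_of_card hXp hXcard.le)⟩)
  -- `p`-th powers of elements of `X` are central in `X`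
  have hq : IsRegularPGroup p (↥X ⧸ Subgroup.center ↥X) := S0641.result hreg _
  let K₁ : Subgroup ↥X :=
    (S4225.omega hq 1).comap (QuotientGroup.mk' (Subgroup.center ↥X))
  have hK₁ : ∀ g : ↥X, g ∈ K₁ ↔ g ^ p ∈ Subgroup.center ↥X := fun g => by
    show QuotientGroup.mk' (Subgroup.center ↥X) g ^ p ^ 1 = 1 ↔ _
    rw [pow_one, ← map_pow]
    exact QuotientGroup.eq_one_iff _
  have hTcen : ∀ g : ↥X, (g : G) ∈ T → g ∈ Subgroup.center ↥X := fun g hg =>
    Subgroup.mem_center_iff.mpr fun w => Subtype.ext (Subgroup.mem_center_iff.mp (hTc hg) w)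
  let π : ↥X →* Q := (QuotientGroup.mk' T).comp X.subtype
  have hlift : ∀ q ∈ ({z, x, y} : Set Q), ∃ g : ↥X, π g = q ∧ ((g ^ p : ↥X) : G) ∈ T := by
    intro q hq'
    obtain ⟨g, rfl⟩ := QuotientGroup.mk'_surjective T q
    have hgX : g ∈ X := by
      rw [hX, Subgroup.mem_comap]
      rcases hq' with h | h | h
      · rw [h]; exact Subgroup.mem_sup_left (Subgroup.mem_sup_left (Subgroup.mem_zpowers z))
      · rw [h]; exact Subgroup.mem_sup_left (Subgroup.mem_sup_right (Subgroup.mem_zpowers x))
      · rw [h]; exact Subgroup.mem_sup_right (Subgroup.mem_zpowers y)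
    refine ⟨⟨g, hgX⟩, rfl, ?_⟩
    rw [SubmonoidClass.coe_pow]
    refine (QuotientGroup.eq_one_iff _).mp ?_
    show QuotientGroup.mk' T (g ^ p) = 1
    rw [map_pow]
    rcases hq' with h | h | h <;> rw [h]
    exacts [hzp, hxp, hyp]
  have hgenX : ∀ g : ↥X, π g ∈ Subgroup.closure ({z, x, y} : Set Q) := fun g => by
    have hle : X' ≤ Subgroup.closure ({z, x, y} : Set Q) :=
      sup_le (sup_le (Subgroup.zpowers_le.mpr (Subgroup.subset_closure (by simp)))
        (Subgroup.zpowers_le.mpr (Subgroup.subset_closure (by simp))))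
        (Subgroup.zpowers_le.mpr (Subgroup.subset_closure (by simp)))
    exact hle g.2
  have hker : ∀ g : ↥X, π g = 1 → (g : G) ∈ T := fun g hg => (QuotientGroup.eq_one_iff _).mp hg
  have hall : ∀ g : ↥X, g ∈ K₁ := by
    intro g
    have hmem : π g ∈ K₁.map π := by
      refine (Subgroup.closure_le _).mpr ?_ (hgenX g)
      intro q hq'
      obtain ⟨g', hg', hgp⟩ := hlift q hq'
      exact ⟨g', (hK₁ g').mpr (hTcen _ hgp), hg'⟩
    obtain ⟨g', hg', hgg⟩ := hmem
    have h1 : g * g'⁻¹ ∈ K₁ := by
      refine (hK₁ _).mpr (Subgroup.pow_mem _ (hTcen _ (hker _ ?_)) p)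
      rw [map_mul, map_inv, hgg, mul_inv_cancel]
    have := K₁.mul_mem h1 hg'
    rwa [inv_mul_cancel_right] at this
  have hcomm : ∀ w ∈ commutator ↥X, w ^ p ^ 1 = 1 := fun w hw =>
    ((Subgroup.commutator_le (H₁ := (⊤ : Subgroup ↥X)) (H₃ := S4225.omega hreg 1)).mpr
      fun a _ b _ => show ⁅a, b⁆ ^ p ^ 1 = 1 by
        rw [pow_one]
        exact commutatorElement_pow_eq_one_of_central hreg ((hK₁ a).mp (hall a)) b) hw
  let φ : ↥X →* ↥X :=
    { toFun := fun g => g ^ p
      map_one' := one_pow p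
      map_mul' := fun a b => by
        obtain ⟨c, hc, he⟩ := hreg.2 a b 1
        have hc1 : c = 1 := Subgroup.mem_bot.mp ((powerClosure_le_iff (p := p) (K := ⊥)).mpr
          (fun g hg => Subgroup.mem_bot.mpr
            (hcomm g ((Subgroup.commutator_mono le_top le_top : _ ≤ commutator ↥X) hg))) hc)
        rw [hc1, mul_one, pow_one] at he
        exact he }
  have hrange : Nat.card ↥φ.range ≤ p := by
    rw [← hT, ← Subgroup.card_map_of_injective X.subtype_injective]
    refine Subgroup.card_le_of_le ?_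
    rintro _ ⟨_, ⟨g, rfl⟩, rfl⟩
    have hmem : π g ∈ ((T.comap X.subtype).comap φ).map π := by
      refine (Subgroup.closure_le _).mpr ?_ (hgenX g)
      intro q hq'
      obtain ⟨g', hg', hgp⟩ := hlift q hq'
      exact ⟨g', hgp, hg'⟩
    obtain ⟨g', hg', hgg⟩ := hmem
    have h1 : ((φ (g * g'⁻¹) : ↥X) : G) ∈ T := by
      show (((g * g'⁻¹) ^ p : ↥X) : G) ∈ T
      rw [SubmonoidClass.coe_pow]
      exact T.pow_mem (hker _ (by rw [map_mul, map_inv, hgg, mul_inv_cancel])) p
    have h2 := T.mul_mem h1 hg'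
    change ((φ (g * g'⁻¹) * φ g' : ↥X) : G) ∈ T at h2
    rwa [← map_mul, inv_mul_cancel_right] at h2
  have hker' : Nat.card ↥φ.ker ≤ p ^ 2 := by
    refine le_trans ?_ hO
    rw [← Subgroup.card_map_of_injective X.subtype_injective]
    refine Subgroup.card_le_of_le ?_
    rintro _ ⟨g, hg, rfl⟩
    exact mem_omegaOne_of_pow_eq_one (Subgroup.mem_top _) (congrArg Subtype.val hg)
  have h1 := Subgroup.card_mul_index φ.ker
  rw [Subgroup.index_ker, hXcard] at h1
  have h2 : p ^ 4 ≤ p ^ 2 * p := h1 ▸ Nat.mul_le_mul hker' hrange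
  rw [← pow_succ] at h2
  have := (Nat.pow_le_pow_iff_right hp0.one_lt).mp h2
  omega

/-- `|Ω₁| ≤ p²` passes to quotients (`p > 3`). -/
theorem card_omegaOne_quotient_le (hp : 3 < p) (hG : IsPGroup p G)
    (hO : Nat.card ↥(omegaOne p (⊤ : Subgroup G)) ≤ p ^ 2) (N : Subgroup G) [N.Normal] :
    Nat.card ↥(omegaOne p (⊤ : Subgroup (G ⧸ N))) ≤ p ^ 2 := by
  suffices H : ∀ e : ℕ, ∀ (G : Type u) [Group G] [Finite G], Nat.card G ≤ e → IsPGroup p G →
      Nat.card ↥(omegaOne p (⊤ : Subgroup G)) ≤ p ^ 2 → ∀ (N : Subgroup G) [N.Normal],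
      Nat.card ↥(omegaOne p (⊤ : Subgroup (G ⧸ N))) ≤ p ^ 2 from H _ G le_rfl hG hO N
  intro e
  induction e with
  | zero => intro G _ _ hle; exact absurd hle (Nat.card_pos (α := G)).not_ge
  | succ e ih =>
    intro G _ _ hle hG hO N _
    rcases eq_or_ne N ⊥ with rfl | hN
    · let ι : G ≃* G ⧸ (⊥ : Subgroup G) := (QuotientGroup.quotientBot (G := G)).symm
      refine le_trans ?_ hO
      rw [← Subgroup.card_map_of_injective (f := ι.toMonoidHom) ι.injective]
      have hle : omegaOne p (⊤ : Subgroup (G ⧸ (⊥ : Subgroup G))) ≤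
          (omegaOne p (⊤ : Subgroup G)).map ι.toMonoidHom := by
        refine omegaOne_le_iff.mpr fun x _ hx => ?_
        have h1 : ι.symm x ^ p = 1 := by rw [← map_pow, hx, map_one]
        exact ⟨ι.symm x, mem_omegaOne_of_pow_eq_one (Subgroup.mem_top _) h1, ι.apply_symm_apply x⟩
      exact Subgroup.card_le_of_le hle
    obtain ⟨t, htN, htc, hto⟩ := exists_orderOf_eq_mem_center hG N hN
    set T := Subgroup.zpowers t with hT
    have hTN : T ≤ N := Subgroup.zpowers_le.mpr htN
    have hTn : T.Normal := ⟨fun a ha g => by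
      rw [Subgroup.mem_center_iff.mp (Subgroup.zpowers_le.mpr htc ha) g, mul_inv_cancel_right]
      exact ha⟩
    have hTc : Nat.card ↥T = p := by rw [Nat.card_zpowers, hto]
    have h1 := card_omegaOne_quotient_le_of_central hp hG hO T (Subgroup.zpowers_le.mpr htc) hTc
    have hlt : Nat.card (G ⧸ T) < Nat.card G := by
      have h2 := Subgroup.card_mul_index T
      rw [hTc, Subgroup.index_eq_card] at h2
      rw [← h2]
      exact lt_mul_of_one_lt_left Nat.card_pos (Fact.out (p := p.Prime)).one_lt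
    have hNn : (N.map (QuotientGroup.mk' T)).Normal :=
      Subgroup.Normal.map inferInstance _ (QuotientGroup.mk'_surjective T)
    have h3 := ih (G ⧸ T) (by omega) (hG.to_quotient T) h1 (N.map (QuotientGroup.mk' T))
    let ι := QuotientGroup.quotientQuotientEquivQuotient T N hTN
    refine le_trans ?_ h3
    rw [← Subgroup.card_map_of_injective
      (K := omegaOne p (⊤ : Subgroup ((G ⧸ T) ⧸ N.map (QuotientGroup.mk' T))))
      (f := ι.toMonoidHom) ι.injective]
    have hle' : omegaOne p (⊤ : Subgroup (G ⧸ N)) ≤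
        (omegaOne p (⊤ : Subgroup ((G ⧸ T) ⧸ N.map (QuotientGroup.mk' T)))).map ι.toMonoidHom := by
      refine omegaOne_le_iff.mpr fun x _ hx => ?_
      have h1 : ι.symm x ^ p = 1 := by rw [← map_pow, hx, map_one]
      exact ⟨ι.symm x, mem_omegaOne_of_pow_eq_one (Subgroup.mem_top _) h1, ι.apply_symm_apply x⟩
    exact Subgroup.card_le_of_le hle'

/-- An odd `p`-group with cyclic derived subgroup contained in `℧₁` and `|G : Φ(G)| ≤ p²` is
metacyclic. -/
theorem isMetacyclic_of_isCyclic_commutator (hG : IsPGroup p G) (hp : p ≠ 2)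
    (hc : IsCyclic ↥(commutator G)) (hpow : commutator G ≤ powerClosure p 1 (⊤ : Subgroup G))
    (hfr : (frattini G).index ≤ p ^ 2) : IsMetacyclic G := by
  have hr := isRegularPGroup_of_isCyclic_commutator hG hp hc
  rcases subsingleton_or_nontrivial G with hsub | hnt
  · exact ⟨⊥, inferInstance, inferInstance, inferInstance⟩
  obtain ⟨c, hc'⟩ := (Subgroup.isCyclic_iff_exists_zpowers_eq_top (commutator G)).mp hc
  have hfrat : frattini G ≤ powerClosure p 1 (⊤ : Subgroup G) :=
    frattini_le (p := p) hpow fun x => by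
      simpa using pow_mem_powerClosure (p := p) (Subgroup.mem_top x) 1
  have hclimb : ∀ d : ℕ, ∀ g : G, Nat.card G - orderOf g ≤ d → g ≠ 1 →
      ∃ h : G, h ∉ frattini G ∧ g ∈ Subgroup.zpowers h := by
    intro d
    induction d with
    | zero =>
      intro g hg hg1
      refine ⟨g, fun hf => ?_, Subgroup.mem_zpowers g⟩
      have heq : Subgroup.zpowers g = ⊤ := Subgroup.eq_top_of_le_card _ (by
        rw [Nat.card_zpowers]; exact Nat.sub_eq_zero_iff_le.mp (Nat.le_zero.mp hg))
      have hbot : (⊥ : Subgroup G) = ⊤ :=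
        frattini_nongenerating (by rw [bot_sup_eq, eq_top_iff, ← heq]; exact Subgroup.zpowers_le.mpr hf)
      exact hg1 (Subgroup.mem_bot.mp (hbot ▸ Subgroup.mem_top g))
    | succ d ih =>
      intro g hg hg1
      by_cases hf : g ∈ frattini G
      · obtain ⟨y, -, hy⟩ := exists_eq_pow_of_mem_powerClosure hG (fun a b => hr.2 a b 1) ⊤ g (hfrat hf)
        rw [pow_one] at hy
        have hy1 : y ≠ 1 := fun h => hg1 (by rw [hy, h, one_pow])
        have hlt : orderOf g < orderOf y := by
          obtain ⟨k, hk⟩ := IsPGroup.iff_orderOf.mp hG y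
          have hk0 : k ≠ 0 := fun h => hy1 (orderOf_eq_one_iff.mp (by rw [hk, h, pow_zero]))
          rw [hy, orderOf_pow, hk, Nat.gcd_eq_right (dvd_pow_self p hk0)]
          exact Nat.div_lt_self (Nat.pow_pos (Fact.out (p := p.Prime)).pos)
            (Fact.out (p := p.Prime)).one_lt
        obtain ⟨h, hh, hyh⟩ := ih y (by omega) hy1
        exact ⟨h, hh, by rw [hy]; exact Subgroup.pow_mem _ hyh p⟩
      · exact ⟨g, hf, Subgroup.mem_zpowers g⟩
  obtain ⟨h, hh, hch⟩ : ∃ h : G, h ∉ frattini G ∧ c ∈ Subgroup.zpowers h := by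
    by_cases hc1 : c = 1
    · have hne : frattini G ≠ ⊤ := fun h => by
        have hbot : (⊥ : Subgroup G) = ⊤ := frattini_nongenerating (by rw [bot_sup_eq]; exact h)
        exact bot_ne_top hbot
      obtain ⟨h, -, hh⟩ := SetLike.exists_of_lt (lt_top_iff_ne_top.mpr hne)
      exact ⟨h, hh, hc1 ▸ Subgroup.one_mem _⟩
    · exact hclimb _ c le_rfl hc1
  have hle : commutator G ≤ Subgroup.zpowers h := hc' ▸ Subgroup.zpowers_le.mpr hch
  have hNn : (Subgroup.zpowers h).Normal := Subgroup.Normal.of_commutator_le G hle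
  obtain ⟨g, hg⟩ : ∃ g : G, frattini G ⊔ Subgroup.zpowers h ⊔ Subgroup.zpowers g = ⊤ := by
    by_cases htop : frattini G ⊔ Subgroup.zpowers h = ⊤
    · exact ⟨1, eq_top_iff.mpr (htop.ge.trans le_sup_left)⟩
    · obtain ⟨g, -, hg⟩ := SetLike.exists_of_lt (lt_top_iff_ne_top.mpr htop)
      refine ⟨g, Subgroup.eq_top_of_le_card _ ?_⟩
      rw [card_sup_zpowers_frattini hG le_sup_left hg, card_sup_zpowers_frattini hG le_rfl hh,
        ← Subgroup.card_mul_index (frattini G), mul_assoc, ← pow_two]
      exact Nat.mul_le_mul_left _ hfr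
  have hgen : Subgroup.zpowers h ⊔ Subgroup.zpowers g = ⊤ :=
    frattini_nongenerating (by rw [← hg]; ac_rfl)
  refine ⟨Subgroup.zpowers h, hNn, inferInstance,
    isCyclic_iff_exists_zpowers_eq_top.mpr ⟨QuotientGroup.mk' _ g, ?_⟩⟩
  rw [← MonoidHom.map_zpowers, ← Subgroup.map_top_of_surjective _ (QuotientGroup.mk'_surjective _),
    ← hgen, Subgroup.map_sup, QuotientGroup.map_mk'_self, bot_sup_eq]

/-- Huppert: for `p > 3`, `|Ω₁(R)| ≤ p²` implies that `R` is metacyclic. -/
theorem isMetacyclic_of_card_omegaOne_le (hp : 3 < p) (hG : IsPGroup p G)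
    (hO : Nat.card ↥(omegaOne p (⊤ : Subgroup G)) ≤ p ^ 2) : IsMetacyclic G := by
  suffices H : ∀ e : ℕ, ∀ (G : Type u) [Group G] [Finite G], Nat.card G ≤ e → IsPGroup p G →
      Nat.card ↥(omegaOne p (⊤ : Subgroup G)) ≤ p ^ 2 → IsMetacyclic G from H _ G le_rfl hG hO
  intro e
  induction e with
  | zero => intro G _ _ hle; exact absurd hle (Nat.card_pos (α := G)).not_ge
  | succ e ih =>
    intro G _ _ hle hG hO
    have hp0 := (Fact.out (p := p.Prime))
    have hp2 : p ≠ 2 := by omega
    -- `|G : ℧₁(G)| ≤ p²`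
    set U := powerClosure p 1 (⊤ : Subgroup G) with hU
    have hUn : U.Normal := by
      refine ⟨fun a ha g => ?_⟩
      have h1 := Subgroup.mem_map_of_mem (MulAut.conj g).toMonoidHom ha
      rw [hU, map_powerClosure] at h1
      exact powerClosure_mono le_top 1 h1
    have hUidx : U.index ≤ p ^ 2 := by
      have h1 := card_omegaOne_quotient_le hp hG hO U
      rw [Subgroup.index_eq_card, ← Subgroup.card_top]
      refine le_trans (Subgroup.card_le_of_le fun x _ => ?_) h1
      obtain ⟨g, rfl⟩ := QuotientGroup.mk'_surjective U x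
      refine mem_omegaOne_of_pow_eq_one (Subgroup.mem_top _) ?_
      rw [← map_pow]
      refine (QuotientGroup.eq_one_iff _).mpr ?_
      simpa using pow_mem_powerClosure (p := p) (Subgroup.mem_top g) 1
    have hUfr : U ≤ frattini G := powerClosure_le_iff.mpr fun x _ => by
      rw [pow_one]; exact pow_mem_frattini hG x
    have hfr : (frattini G).index ≤ p ^ 2 :=
      (Nat.le_of_dvd (Nat.pos_of_ne_zero Subgroup.index_ne_zero_of_finite)
        (Subgroup.index_dvd_of_le hUfr)).trans hUidx
    have hcU : commutator G ≤ U := by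
      have hab : IsMulCommutative (G ⧸ U) := by
        obtain ⟨k, hk⟩ := index_eq_pow hG U
        rw [hk] at hUidx
        have hk2 := (Nat.pow_le_pow_iff_right hp0.one_lt).mp hUidx
        rw [Subgroup.index_eq_card] at hk
        interval_cases k
        · have : Subsingleton (G ⧸ U) := (Nat.card_eq_one_iff_unique.mp (by simpa using hk)).1
          exact ⟨⟨fun a b => Subsingleton.elim _ _⟩⟩
        · have : IsCyclic (G ⧸ U) := isCyclic_of_prime_card (p := p) (by simpa using hk)
          exact IsCyclic.isMulCommutative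
        · exact IsPGroup.isMulCommutative_of_card_eq_prime_sq hk
      refine Subgroup.commutator_le.mpr fun x _ y _ => ?_
      rw [← QuotientGroup.eq_one_iff]
      show QuotientGroup.mk' U ⁅x, y⁆ = 1
      rw [map_commutatorElement, commutatorElement_eq_one_iff_mul_comm]
      exact hab.is_comm.comm _ _
    refine isMetacyclic_of_isCyclic_commutator hG hp2 ?_ hcU hfr
    by_contra hncyc
    have hD0 : commutator G ≠ ⊥ := fun h => hncyc (h ▸ inferInstance)
    -- central subgroups of order `p` give cyclic derived subgroups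
    have hquot : ∀ t : G, t ∈ Subgroup.center G → orderOf t = p →
        ∃ w ∈ commutator G, commutator G ≤ Subgroup.zpowers t ⊔ Subgroup.zpowers w := by
      intro t htc hto
      have hTn : (Subgroup.zpowers t).Normal := ⟨fun a ha g => by
        rw [Subgroup.mem_center_iff.mp (Subgroup.zpowers_le.mpr htc ha) g, mul_inv_cancel_right]
        exact ha⟩
      have hlt : Nat.card (G ⧸ Subgroup.zpowers t) < Nat.card G := by
        have h2 := Subgroup.card_mul_index (Subgroup.zpowers t)
        rw [Nat.card_zpowers, hto, Subgroup.index_eq_card] at h2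
        rw [← h2]
        exact lt_mul_of_one_lt_left Nat.card_pos hp0.one_lt
      have hm := ih (G ⧸ Subgroup.zpowers t) (by omega) (hG.to_quotient _)
        (card_omegaOne_quotient_le hp hG hO (Subgroup.zpowers t))
      obtain ⟨a, b, H⟩ := exists_metaGen hm
      have hsurj := QuotientGroup.mk'_surjective (Subgroup.zpowers t)
      have hmapc : (commutator G).map (QuotientGroup.mk' (Subgroup.zpowers t)) =
          commutator (G ⧸ Subgroup.zpowers t) := by
        rw [commutator_def, Subgroup.map_commutator, Subgroup.map_top_of_surjective _ hsurj,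
          ← commutator_def]
      obtain ⟨w, hw, hwe⟩ : ⁅b, a⁆ ∈ (commutator G).map (QuotientGroup.mk' (Subgroup.zpowers t)) := by
        rw [hmapc]
        exact Subgroup.commutator_mem_commutator (Subgroup.mem_top b) (Subgroup.mem_top a)
      refine ⟨w, hw, fun g hg => ?_⟩
      have h3 : g ∈ ((Subgroup.zpowers w).map (QuotientGroup.mk' (Subgroup.zpowers t))).comap
          (QuotientGroup.mk' (Subgroup.zpowers t)) := by
        rw [Subgroup.mem_comap, MonoidHom.map_zpowers, hwe, ← H.commutator_eq, ← hmapc]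
        exact Subgroup.mem_map_of_mem _ hg
      rwa [Subgroup.comap_map_eq, QuotientGroup.ker_mk', sup_comm] at h3
    -- `G'` is abelian
    obtain ⟨t, -, htc, hto⟩ := exists_orderOf_eq_mem_center hG _ hD0
    obtain ⟨w, hw, hle'⟩ := hquot t htc hto
    have hab : IsMulCommutative ↥(commutator G) := by
      have h2 := isMulCommutative_sup_zpowers (A := Subgroup.zpowers t) inferInstance
        (x := w) (fun a ha => (Subgroup.mem_center_iff.mp (Subgroup.zpowers_le.mpr htc ha) w).symm)
      exact isMulCommutative_of_forall fun a ha b hb =>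
        mul_comm_of_isMulCommutative h2 (hle' ha) (hle' hb)
    -- `G'` has exponent `p`
    have hexp : ∀ g ∈ commutator G, g ^ p = 1 := by
      by_contra hne
      push Not at hne
      obtain ⟨g, hg, hgp⟩ := hne
      set D := powerClosure p 1 (commutator G) with hD
      have hDn : D.Normal := by
        refine ⟨fun a ha g => ?_⟩
        have h1 := Subgroup.mem_map_of_mem (MulAut.conj g).toMonoidHom ha
        rw [hD, map_powerClosure] at h1
        refine powerClosure_mono ?_ 1 h1
        rintro _ ⟨d, hd, rfl⟩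
        exact (inferInstance : (commutator G).Normal).conj_mem d hd g
      have hDne : D ≠ ⊥ := fun h => hgp (by
        have h1 : g ^ p ∈ D := by simpa using pow_mem_powerClosure (p := p) hg 1
        rwa [h, Subgroup.mem_bot] at h1)
      obtain ⟨t', ht', ht'c, ht'o⟩ := exists_orderOf_eq_mem_center hG D hDne
      obtain ⟨w', hw', hle2⟩ := hquot t' ht'c ht'o
      refine hncyc ((Subgroup.isCyclic_iff_exists_zpowers_eq_top _).mpr ⟨w', ?_⟩)
      have hCp := hG.to_subgroup (commutator G)
      set w'' : ↥(commutator G) := ⟨w', hw'⟩ with hw''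
      have htop : Subgroup.zpowers w'' ⊔ frattini ↥(commutator G) = ⊤ := by
        rw [eq_top_iff]
        intro d _
        have hD' : D ≤ (frattini ↥(commutator G)).map (commutator G).subtype := by
          refine powerClosure_le_iff.mpr fun d hd => ⟨(⟨d, hd⟩ : ↥(commutator G)) ^ p,
            pow_mem_frattini hCp _, ?_⟩
          rw [map_pow, pow_one]; rfl
        have h1 : Subgroup.zpowers t' ⊔ Subgroup.zpowers w' ≤
            (Subgroup.zpowers w'' ⊔ frattini ↥(commutator G)).map (commutator G).subtype := by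
          rw [Subgroup.map_sup, MonoidHom.map_zpowers]
          exact sup_le ((Subgroup.zpowers_le.mpr (hD' ht')).trans le_sup_right) le_sup_left
        exact (Subgroup.mem_map_iff_mem (commutator G).subtype_injective).mp (h1 (hle2 d.2))
      have hgen := frattini_nongenerating htop
      refine le_antisymm (Subgroup.zpowers_le.mpr hw') fun d hd => ?_
      obtain ⟨i, hi⟩ := Subgroup.mem_zpowers_iff.mp (hgen ▸ Subgroup.mem_top (⟨d, hd⟩ : ↥(commutator G)))
      exact ⟨i, by simpa [hw''] using congrArg Subtype.val hi⟩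
    -- `G` has class at most 3, hence is regular
    have hcard : Nat.card ↥(commutator G) ≤ p ^ 2 :=
      (Subgroup.card_le_of_le fun d hd =>
        mem_omegaOne_of_pow_eq_one (Subgroup.mem_top d) (hexp d hd)).trans hO
    have hreg := isRegularPGroup_of_class_three hG (Or.inr ⟨hp, class_three_of_card_le hG hcard⟩)
    have hUc : U ≤ Subgroup.center G := powerClosure_le_iff.mpr fun x _ =>
      Subgroup.mem_center_iff.mpr fun y => ((commute_pow_iff hreg x y 1).mpr (by
        rw [pow_one]
        exact hexp _ (Subgroup.commutator_mem_commutator (Subgroup.mem_top x) (Subgroup.mem_top y)))).symm.eq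
    -- two generators
    obtain ⟨a, b, hgen⟩ : ∃ a b : G, Subgroup.closure ({a, b} : Set G) = ⊤ := by
      have hpos : 0 < Nat.card ↥(frattini G) := Nat.card_pos
      have : Fintype G := Fintype.ofFinite G
      obtain ⟨S, -, hSe, hSc⟩ := exists_basis hG (Finset.univ : Finset G)
      rw [Finset.coe_univ, Subgroup.closure_univ, top_sup_eq] at hSe
      rw [hSe, Subgroup.card_top, ← Subgroup.card_mul_index (frattini G)] at hSc
      have hS2 : S.card ≤ 2 := by
        have := Nat.eq_of_mul_eq_mul_left hpos hSc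
        rw [this] at hfr
        exact (Nat.pow_le_pow_iff_right hp0.one_lt).mp hfr
      have hcl := closure_eq_top_of_sup_frattini hSe
      obtain h | h := Nat.lt_or_eq_of_le hS2
      · rcases Finset.eq_empty_or_nonempty S with rfl | ⟨s, hs⟩
        · refine ⟨1, 1, eq_top_iff.mpr ?_⟩
          rw [← hcl, Finset.coe_empty, Subgroup.closure_empty]
          exact bot_le
        · have hS1 : S = {s} := by
            refine Finset.eq_singleton_iff_unique_mem.mpr ⟨hs, fun y hy => ?_⟩
            exact Finset.card_le_one.mp (show S.card ≤ 1 by omega) y hy s hs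
          refine ⟨s, s, ?_⟩
          rw [← hcl, hS1, Finset.coe_singleton, Set.pair_eq_singleton]
      · classical
        obtain ⟨x, y, -, rfl⟩ := Finset.card_eq_two.mp h
        exact ⟨x, y, by rw [← hcl, Finset.coe_pair]⟩
    set c := a⁻¹ * b⁻¹ * a * b with hcdef
    have hcc : c ∈ commutator G := by
      have := Subgroup.commutator_mem_commutator (Subgroup.mem_top a⁻¹) (Subgroup.mem_top b⁻¹)
      rw [commutatorElement_def, inv_inv, inv_inv] at this
      exact this
    have hcn : (Subgroup.zpowers c).Normal := ⟨fun x hx g => by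
      rw [Subgroup.mem_center_iff.mp (Subgroup.zpowers_le.mpr (hUc (hcU hcc)) hx) g,
        mul_inv_cancel_right]
      exact hx⟩
    have htopn : Subgroup.normalizer ((Subgroup.zpowers c : Subgroup G) : Set G) = ⊤ :=
      Subgroup.normalizer_eq_top_iff.mpr hcn
    have h3 := S4225.derived_pair_le (htopn ▸ Subgroup.mem_top a) (htopn ▸ Subgroup.mem_top b)
      (Subgroup.mem_zpowers c)
    rw [hgen, ← commutator_def] at h3
    exact hncyc (isCyclic_of_injective _ (Subgroup.inclusion_injective h3))

end Cfsg.Agent.PGroup
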