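import Cfsg.Prelude.Def_PLocal
import Cfsg.Agent.S4225
import Cfsg.Agent.Lib.PGroup.Class2
import Mathlib.Data.Nat.Choose.Basic

/-!
# Regular `p`-groups

* `HasPowerRule p n G`: `(ab)^(p^n) = a^(p^n) b^(p^n) c` with `c ∈ ℧ₙ⟨a,b⟩'`.
* `exists_eq_pow_of_mem_powerClosure`: then `℧ₙ(H)` consists of `p^n`-th powers.
* `commutator_pow_mem_powerClosure`: then `⁅℧ₙ H, H⁆ ≤ ℧ₙ(H')`.
* `isRegularPGroup_of_hasPowerRule_one`: the case `n = 1` implies regularity.
* `mul_pow_class_three`, `isRegularPGroup_of_class_three`: class `≤ 2` (`p` odd) or `≤ 3` (`p > 3`)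
  implies regularity.
-/

set_option autoImplicit false

namespace Cfsg.Agent.PGroup

open scoped commutatorElement

universe u

variable {G : Type u} [Group G] {p : ℕ}

/-- The defining condition of regularity for one exponent `n`. -/
def HasPowerRule (p n : ℕ) (G : Type u) [Group G] : Prop :=
  ∀ a b : G, ∃ c ∈ powerClosure p n
      ⁅Subgroup.closure ({a, b} : Set G), Subgroup.closure ({a, b} : Set G)⁆,
    (a * b) ^ (p ^ n) = a ^ (p ^ n) * b ^ (p ^ n) * c

theorem closure_pair_le {H : Subgroup G} {a b : G} (ha : a ∈ H) (hb : b ∈ H) :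
    Subgroup.closure ({a, b} : Set G) ≤ H :=
  (Subgroup.closure_le _).mpr (Set.insert_subset ha (Set.singleton_subset_iff.mpr hb))

theorem commutator_self_mono {H K : Subgroup G} (h : H ≤ K) : ⁅H, H⁆ ≤ ⁅K, K⁆ :=
  Subgroup.commutator_mono h h

/-- Under the power rule the products of `p^n`-th powers are `p^n`-th powers. -/
theorem exists_eq_pow_of_mem_powerClosure [Finite G] [Fact p.Prime] (hG : IsPGroup p G) {n : ℕ}
    (hn : HasPowerRule p n G) (H : Subgroup G) :
    ∀ y ∈ powerClosure p n H, ∃ x ∈ H, y = x ^ (p ^ n) := by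
  induction H using WellFoundedLT.induction with
  | ind H ih =>
    have hmul : ∀ a ∈ H, ∀ b ∈ H, ∃ x ∈ H, a ^ (p ^ n) * b ^ (p ^ n) = x ^ (p ^ n) := by
      intro a ha b hb
      by_cases hcyc : H ≤ Subgroup.zpowers (a * b)
      · obtain ⟨i, hi⟩ := Subgroup.mem_zpowers_iff.mp (hcyc ha)
        obtain ⟨j, hj⟩ := Subgroup.mem_zpowers_iff.mp (hcyc hb)
        have hab : Commute a b := by
          have h := (Commute.refl (a * b)).zpow_zpow i j
          rwa [hi, hj] at h
        exact ⟨a * b, H.mul_mem ha hb, (hab.mul_pow _).symm⟩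
      · obtain ⟨M, hMH, habM, -, hMc⟩ := S4225.exists_maximal_in hG (H.mul_mem ha hb) hcyc
        have hder : ⁅H, H⁆ ≤ M := Subgroup.commutator_le.mpr fun g hg k hk => by
          have := hMc g⁻¹ (H.inv_mem hg) k⁻¹ (H.inv_mem hk)
          rw [inv_inv, inv_inv] at this
          exact this
        obtain ⟨c, hc, he⟩ := hn a b
        have hcM : c ∈ powerClosure p n M :=
          powerClosure_mono ((commutator_self_mono (closure_pair_le ha hb)).trans hder) n hc
        obtain ⟨x, hx, hxe⟩ := ih M hMH _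
          ((powerClosure p n M).mul_mem (pow_mem_powerClosure habM n)
            ((powerClosure p n M).inv_mem hcM))
        refine ⟨x, hMH.le hx, ?_⟩
        rw [← hxe, he, mul_inv_cancel_right]
    intro y hy
    induction hy using Subgroup.closure_induction with
    | mem y hy => exact hy
    | one => exact ⟨1, H.one_mem, (one_pow _).symm⟩
    | mul y z _ _ ihy ihz =>
      obtain ⟨a, ha, rfl⟩ := ihy
      obtain ⟨b, hb, rfl⟩ := ihz
      exact hmul a ha b hb
    | inv y _ ihy =>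
      obtain ⟨a, ha, rfl⟩ := ihy
      exact ⟨a⁻¹, H.inv_mem ha, (inv_pow _ _).symm⟩

/-- Under the power rule `⁅a^(p^n), y⁆ ∈ ℧ₙ(H')` for `a, y ∈ H`. -/
theorem commutator_pow_mem_powerClosure {n : ℕ} (hn : HasPowerRule p n G) {H : Subgroup G}
    {a y : G} (ha : a ∈ H) (hy : y ∈ H) : ⁅a ^ (p ^ n), y⁆ ∈ powerClosure p n ⁅H, H⁆ := by
  have hd : ⁅a, y⁆ ∈ ⁅H, H⁆ := Subgroup.commutator_mem_commutator ha hy
  have hdH : ⁅a, y⁆ ∈ H := by
    rw [commutatorElement_def]
    exact H.mul_mem (H.mul_mem (H.mul_mem ha hy) (H.inv_mem ha)) (H.inv_mem hy)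
  obtain ⟨c, hc, he⟩ := hn a⁻¹ ⁅a, y⁆
  have hc' : c ∈ powerClosure p n ⁅H, H⁆ :=
    powerClosure_mono (commutator_self_mono (closure_pair_le (H.inv_mem ha) hdH)) n hc
  have h1 : a⁻¹ * ⁅a, y⁆ = y * a⁻¹ * y⁻¹ := by rw [commutatorElement_def]; group
  rw [h1, conj_pow] at he
  have h2 : ⁅a ^ (p ^ n), y⁆ = ⁅a, y⁆ ^ (p ^ n) * c := by
    rw [commutatorElement_def (a ^ (p ^ n)) y]
    have h3 : a ^ (p ^ n) * y * (a ^ (p ^ n))⁻¹ * y⁻¹ =
        a ^ (p ^ n) * (y * a⁻¹ ^ (p ^ n) * y⁻¹) := by rw [inv_pow]; group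
    rw [h3, he, inv_pow]
    group
  rw [h2]
  exact Subgroup.mul_mem _ (pow_mem_powerClosure hd n) hc'

theorem commutator_powerClosure_le [Finite G] [Fact p.Prime] (hG : IsPGroup p G) {n : ℕ}
    (hn : HasPowerRule p n G) (H : Subgroup G) :
    ⁅powerClosure p n H, powerClosure p n H⁆ ≤ powerClosure p n ⁅H, H⁆ := by
  refine Subgroup.commutator_le.mpr fun u hu v hv => ?_
  obtain ⟨a, ha, rfl⟩ := exists_eq_pow_of_mem_powerClosure hG hn H u hu
  exact commutator_pow_mem_powerClosure hn ha (powerClosure_le H n hv)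

/-- Kemhadze: the power rule for `n = 1` implies regularity. -/
theorem isRegularPGroup_of_hasPowerRule_one [Finite G] [Fact p.Prime] (hG : IsPGroup p G)
    (h1 : HasPowerRule p 1 G) : IsRegularPGroup p G := by
  refine ⟨hG, fun a b n => ?_⟩
  induction n generalizing a b with
  | zero => exact ⟨1, Subgroup.one_mem _, by simp⟩
  | succ n ih =>
    set L := Subgroup.closure ({a, b} : Set G) with hL
    have haL : a ∈ L := Subgroup.subset_closure (Set.mem_insert _ _)
    have hbL : b ∈ L := Subgroup.subset_closure (Set.mem_insert_of_mem _ rfl)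
    obtain ⟨c, hc, he⟩ := h1 a b
    have hcL : c ∈ powerClosure p 1 L :=
      powerClosure_mono (Subgroup.commutator_le_self L) 1 hc
    obtain ⟨c₀, hc₀, rfl⟩ := exists_eq_pow_of_mem_powerClosure hG h1 _ c hc
    rw [pow_one] at he
    have hle : ∀ {s t : G}, s ∈ powerClosure p 1 L → t ∈ powerClosure p 1 L →
        powerClosure p n ⁅Subgroup.closure ({s, t} : Set G), Subgroup.closure ({s, t} : Set G)⁆ ≤
          powerClosure p (n + 1) ⁅L, L⁆ := by
      intro s t hs ht
      refine powerClosure_le_iff.mpr fun x hx => ?_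
      have hx' : x ∈ powerClosure p 1 ⁅L, L⁆ :=
        commutator_powerClosure_le hG h1 L (commutator_self_mono (closure_pair_le hs ht) hx)
      obtain ⟨e, hee, rfl⟩ := exists_eq_pow_of_mem_powerClosure hG h1 _ x hx'
      rw [← pow_mul, ← pow_add, Nat.add_comm 1 n]
      exact pow_mem_powerClosure hee (n + 1)
    have hap : a ^ p ∈ powerClosure p 1 L := by
      simpa using pow_mem_powerClosure (p := p) haL 1
    have hbp : b ^ p ∈ powerClosure p 1 L := by
      simpa using pow_mem_powerClosure (p := p) hbL 1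
    rw [pow_one] at hcL
    obtain ⟨e₁, he₁, h₁⟩ := ih (a ^ p * b ^ p) (c₀ ^ p)
    obtain ⟨e₂, he₂, h₂⟩ := ih (a ^ p) (b ^ p)
    refine ⟨e₂ * c₀ ^ (p ^ (n + 1)) * e₁,
      Subgroup.mul_mem _ (Subgroup.mul_mem _ (hle hap hbp he₂) (pow_mem_powerClosure hc₀ _))
        (hle (Subgroup.mul_mem _ hap hbp) hcL he₁), ?_⟩
    rw [pow_succ' p n, pow_mul, pow_mul, pow_mul, pow_mul, he, h₁, h₂]
    simp only [mul_assoc]

/-! ### Small class -/

/-- `(xy)^n = c^(n choose 2) e^(n choose 3) f^(2 (n choose 3) + (n choose 2)) x^n y^n` with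
`c = ⁅y,x⁆`, if `e = ⁅y,c⁆` and `f = ⁅x,c⁆` are central. -/
theorem mul_pow_class_three {x y : G} (he : ⁅y, ⁅y, x⁆⁆ ∈ Subgroup.center G)
    (hf : ⁅x, ⁅y, x⁆⁆ ∈ Subgroup.center G) (n : ℕ) :
    (x * y) ^ n = ⁅y, x⁆ ^ n.choose 2 * ⁅y, ⁅y, x⁆⁆ ^ n.choose 3 *
      ⁅x, ⁅y, x⁆⁆ ^ (2 * n.choose 3 + n.choose 2) * x ^ n * y ^ n := by
  set c := ⁅y, x⁆ with hc
  set e := ⁅y, c⁆ with hedef
  set f := ⁅x, c⁆ with hfdef
  have hce := Subgroup.mem_center_iff.mp he
  have hcf := Subgroup.mem_center_iff.mp hf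
  have hyc : y * c = e * (c * y) := by rw [hedef, commutatorElement_def]; group
  have hyx : y * x = c * (x * y) := by rw [hc, commutatorElement_def]; group
  have hxc : x * c = f * (c * x) := by rw [hfdef, commutatorElement_def]; group
  have hyck : ∀ k : ℕ, y * c ^ k = e ^ k * (c ^ k * y) := by
    intro k
    induction k with
    | zero => simp
    | succ k ih =>
      rw [pow_succ c, ← mul_assoc y, ih, mul_assoc, mul_assoc (c ^ k), hyc, ← mul_assoc (c ^ k) e,
        hce (c ^ k), pow_succ e]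
      simp only [mul_assoc]
  have hxck : ∀ k : ℕ, x * c ^ k = f ^ k * (c ^ k * x) := by
    intro k
    induction k with
    | zero => simp
    | succ k ih =>
      rw [pow_succ c, ← mul_assoc x, ih, mul_assoc, mul_assoc (c ^ k), hxc, ← mul_assoc (c ^ k) f,
        hcf (c ^ k), pow_succ f]
      simp only [mul_assoc]
  have hxmck : ∀ m k : ℕ, x ^ m * c ^ k = f ^ (m * k) * (c ^ k * x ^ m) := by
    intro m k
    induction m with
    | zero => simp
    | succ m ih =>
      have hfm : x * f ^ (m * k) = f ^ (m * k) * x :=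
        Subgroup.mem_center_iff.mp (Subgroup.pow_mem _ hf (m * k)) x
      rw [pow_succ' x, mul_assoc, ih, ← mul_assoc x, hfm, mul_assoc, ← mul_assoc x, hxck,
        Nat.succ_mul, pow_add]
      simp only [mul_assoc]
  have hynx : ∀ m : ℕ, y ^ m * x = c ^ m * e ^ m.choose 2 * (x * y ^ m) := by
    intro m
    induction m with
    | zero => simp
    | succ m ih =>
      have hem : ∀ g : G, g * e ^ m.choose 2 = e ^ m.choose 2 * g :=
        Subgroup.mem_center_iff.mp (Subgroup.pow_mem _ he _)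
      have hem' : ∀ g : G, g * e ^ m = e ^ m * g :=
        Subgroup.mem_center_iff.mp (Subgroup.pow_mem _ he _)
      have hch : (m + 1).choose 2 = m + m.choose 2 := by
        rw [Nat.choose_succ_succ', Nat.choose_one_right]
      calc y ^ (m + 1) * x = y * c ^ m * e ^ m.choose 2 * (x * y ^ m) := by
            rw [pow_succ', mul_assoc, ih]; simp only [mul_assoc]
        _ = e ^ m * c ^ m * (y * e ^ m.choose 2) * (x * y ^ m) := by
            rw [hyck]; simp only [mul_assoc]
        _ = c ^ m * e ^ m * e ^ m.choose 2 * (y * x) * y ^ m := by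
            rw [hem y, ← hem' (c ^ m)]; simp only [mul_assoc]
        _ = c ^ m * (e ^ (m + 1).choose 2 * c) * (x * y) * y ^ m := by
            rw [hyx, hch, pow_add]; simp only [mul_assoc]
        _ = c ^ (m + 1) * e ^ (m + 1).choose 2 * (x * y ^ (m + 1)) := by
            rw [← Subgroup.mem_center_iff.mp (Subgroup.pow_mem _ he ((m + 1).choose 2)) c,
              pow_succ c, pow_succ' y]
            simp only [mul_assoc]
  induction n with
  | zero => simp
  | succ n ih =>
    set A := c ^ n.choose 2 with hA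
    set B := e ^ n.choose 3 with hB
    set F := f ^ (2 * n.choose 3 + n.choose 2) with hF
    have hBc : ∀ g : G, g * B = B * g :=
      Subgroup.mem_center_iff.mp (Subgroup.pow_mem _ he _)
    have hFc : ∀ g : G, g * F = F * g :=
      Subgroup.mem_center_iff.mp (Subgroup.pow_mem _ hf _)
    have hE : ∀ g : G, g * e ^ n.choose 2 = e ^ n.choose 2 * g :=
      Subgroup.mem_center_iff.mp (Subgroup.pow_mem _ he _)
    have hFn : ∀ g : G, g * f ^ (n * n) = f ^ (n * n) * g :=
      Subgroup.mem_center_iff.mp (Subgroup.pow_mem _ hf _)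
    have h2 : (n + 1).choose 2 = n.choose 2 + n := by
      rw [Nat.choose_succ_succ', Nat.choose_one_right, add_comm]
    have h3 : (n + 1).choose 3 = n.choose 3 + n.choose 2 := by
      rw [Nat.choose_succ_succ', add_comm]
    have h4 : 2 * (n + 1).choose 3 + (n + 1).choose 2 =
        (2 * n.choose 3 + n.choose 2) + n * n := by
      have hsq : 2 * n.choose 2 + n = n * n := by
        clear_value c e f A B F
        clear h2 h3 hA hB hF ih hE hFn hBc hFc
        induction n with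
        | zero => simp
        | succ n ihn =>
          rw [Nat.choose_succ_succ', Nat.choose_one_right]
          calc 2 * (n + n.choose 2) + (n + 1) = (2 * n.choose 2 + n) + (2 * n + 1) := by ring
            _ = n * n + (2 * n + 1) := by rw [ihn]
            _ = (n + 1) * (n + 1) := by ring
      rw [h2, h3]
      omega
    calc (x * y) ^ (n + 1) = A * B * F * x ^ n * (y ^ n * x) * y := by
          rw [pow_succ, ih]; simp only [mul_assoc]
      _ = A * B * F * (x ^ n * c ^ n) * e ^ n.choose 2 * x * y ^ n * y := by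
          rw [hynx]; simp only [mul_assoc]
      _ = A * B * F * f ^ (n * n) * c ^ n * (x ^ n * e ^ n.choose 2) * x * y ^ n * y := by
          rw [hxmck]; simp only [mul_assoc]
      _ = A * (B * F * f ^ (n * n) * c ^ n) * e ^ n.choose 2 * (x ^ n * x) * (y ^ n * y) := by
          rw [hE (x ^ n)]; simp only [mul_assoc]
      _ = A * (c ^ n * (B * F * f ^ (n * n))) * e ^ n.choose 2 * x ^ (n + 1) * y ^ (n + 1) := by
          rw [Subgroup.mem_center_iff.mp (Subgroup.mul_mem _ (Subgroup.mul_mem _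
            (Subgroup.pow_mem _ he _) (Subgroup.pow_mem _ hf _)) (Subgroup.pow_mem _ hf _)) (c ^ n),
            ← pow_succ, ← pow_succ]
      _ = A * c ^ n * (B * e ^ n.choose 2) * (F * f ^ (n * n)) * x ^ (n + 1) * y ^ (n + 1) := by
          rw [show A * (c ^ n * (B * F * f ^ (n * n))) * e ^ n.choose 2 =
            A * c ^ n * (B * ((F * f ^ (n * n)) * e ^ n.choose 2)) by simp only [mul_assoc],
            hE (F * f ^ (n * n))]
          simp only [mul_assoc]
      _ = _ := by rw [h4, h2, h3, hA, hB, hF, ← pow_add, ← pow_add, ← pow_add]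

theorem pow_dvd_choose_two [Fact p.Prime] (h2 : p ≠ 2) (n : ℕ) :
    p ^ n ∣ (p ^ n).choose 2 := by
  obtain ⟨m, hm⟩ : ∃ m, p ^ n = m + 1 :=
    ⟨p ^ n - 1, (Nat.succ_pred_eq_of_pos (Nat.pow_pos (Fact.out (p := p.Prime)).pos)).symm⟩
  have h := Nat.add_one_mul_choose_eq m 1
  rw [Nat.choose_one_right] at h
  have hcop : Nat.Coprime (p ^ n) 2 :=
    Nat.Coprime.pow_left n ((Nat.coprime_primes Fact.out Nat.prime_two).mpr h2)
  refine hcop.dvd_of_dvd_mul_right ⟨m, ?_⟩
  rw [hm]
  exact h.symm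

theorem pow_dvd_choose_three [Fact p.Prime] (h3 : 3 < p) (n : ℕ) :
    p ^ n ∣ (p ^ n).choose 3 := by
  obtain ⟨m, hm⟩ : ∃ m, p ^ n = m + 1 :=
    ⟨p ^ n - 1, (Nat.succ_pred_eq_of_pos (Nat.pow_pos (Fact.out (p := p.Prime)).pos)).symm⟩
  have h := Nat.add_one_mul_choose_eq m 2
  have hcop : Nat.Coprime (p ^ n) 3 :=
    Nat.Coprime.pow_left n ((Nat.coprime_primes Fact.out Nat.prime_three).mpr (by omega))
  refine hcop.dvd_of_dvd_mul_right ⟨m.choose 2, ?_⟩
  rw [hm]
  exact h.symm

/-- `p`-groups of class at most 2 (`p` odd) or at most 3 (`p > 3`) are regular. -/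
theorem isRegularPGroup_of_class_three [Fact p.Prime] (hG : IsPGroup p G)
    (hcl : (p ≠ 2 ∧ ⁅commutator G, (⊤ : Subgroup G)⁆ = ⊥) ∨
      (3 < p ∧ ⁅⁅commutator G, (⊤ : Subgroup G)⁆, (⊤ : Subgroup G)⁆ = ⊥)) :
    IsRegularPGroup p G := by
  refine ⟨hG, fun x y n => ?_⟩
  set L := Subgroup.closure ({x, y} : Set G) with hL
  have hxL : x ∈ L := Subgroup.subset_closure (Set.mem_insert _ _)
  have hyL : y ∈ L := Subgroup.subset_closure (Set.mem_insert_of_mem _ rfl)
  set c := ⁅y, x⁆ with hc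
  have hcc : c ∈ commutator G :=
    Subgroup.commutator_mem_commutator (Subgroup.mem_top y) (Subgroup.mem_top x)
  have hcL : c ∈ ⁅L, L⁆ := Subgroup.commutator_mem_commutator hyL hxL
  have hcL' : c ∈ L := Subgroup.commutator_le_self L hcL
  have hh : ∀ g : G, ⁅g, c⁆ ∈ Subgroup.center G := fun g => by
    have hmem : ⁅g, c⁆ ∈ ⁅commutator G, (⊤ : Subgroup G)⁆ := by
      rw [Subgroup.commutator_comm]
      exact Subgroup.commutator_mem_commutator (Subgroup.mem_top g) hcc
    rcases hcl with ⟨-, h⟩ | ⟨-, h⟩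
    · rw [h, Subgroup.mem_bot] at hmem
      rw [hmem]; exact Subgroup.one_mem _
    · exact Subgroup.commutator_top_right_eq_bot_iff_le_center.mp h hmem
  have hp2 : p ≠ 2 := by rcases hcl with ⟨h, -⟩ | ⟨h, -⟩ <;> omega
  have hq2 := pow_dvd_choose_two (p := p) hp2 n
  have key : ∃ u ∈ ⁅L, L⁆, (x * y) ^ (p ^ n) = u ^ (p ^ n) * (x ^ (p ^ n) * y ^ (p ^ n)) := by
    rw [mul_pow_class_three (hh y) (hh x) (p ^ n)]
    rcases hcl with ⟨-, h⟩ | ⟨h3, -⟩
    · have htriv : ∀ g : G, ⁅g, c⁆ = 1 := fun g => by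
        have hmem : ⁅g, c⁆ ∈ ⁅commutator G, (⊤ : Subgroup G)⁆ := by
          rw [Subgroup.commutator_comm]
          exact Subgroup.commutator_mem_commutator (Subgroup.mem_top g) hcc
        rwa [h, Subgroup.mem_bot] at hmem
      obtain ⟨k, hk⟩ := hq2
      refine ⟨c ^ k, Subgroup.pow_mem _ hcL k, ?_⟩
      rw [htriv, htriv, one_pow, one_pow, mul_one, mul_one, ← pow_mul, mul_comm k, ← hk, mul_assoc]
    · obtain ⟨k, hk⟩ := hq2
      obtain ⟨l, hl⟩ := pow_dvd_choose_three (p := p) h3 n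
      refine ⟨c ^ k * ⁅y, c⁆ ^ l * ⁅x, c⁆ ^ (2 * l + k), Subgroup.mul_mem _ (Subgroup.mul_mem _
        (Subgroup.pow_mem _ hcL k)
        (Subgroup.pow_mem _ (Subgroup.commutator_mem_commutator hyL hcL') l))
        (Subgroup.pow_mem _ (Subgroup.commutator_mem_commutator hxL hcL') _), ?_⟩
      have hcentral : ∀ (g : G) (m : ℕ) (a : G), Commute a (⁅g, c⁆ ^ m) := fun g m =>
        Subgroup.mem_center_iff.mp (Subgroup.pow_mem _ (hh g) m)
      rw [(hcentral x (2 * l + k) _).mul_pow, (hcentral y l _).mul_pow, ← pow_mul, ← pow_mul,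
        ← pow_mul, hk, hl, show k * p ^ n = p ^ n * k by ring,
        show l * p ^ n = p ^ n * l by ring,
        show (2 * l + k) * p ^ n = 2 * (p ^ n * l) + p ^ n * k by ring]
      simp only [hc, mul_assoc]
  obtain ⟨u, hu, he⟩ := key
  set g := x ^ (p ^ n) * y ^ (p ^ n) with hg
  have hgL : g ∈ L := L.mul_mem (L.pow_mem hxL _) (L.pow_mem hyL _)
  refine ⟨(g⁻¹ * u * g) ^ (p ^ n), pow_mem_powerClosure ?_ n, ?_⟩
  · have h1 : g⁻¹ * u * g = u * ⁅u⁻¹, g⁻¹⁆ := by rw [commutatorElement_def]; group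
    rw [h1]
    exact Subgroup.mul_mem _ hu (Subgroup.commutator_mem_commutator
      (Subgroup.inv_mem _ (Subgroup.commutator_le_self L hu)) (L.inv_mem hgL))
  · have h2 : (g⁻¹ * u * g) ^ (p ^ n) = g⁻¹ * u ^ (p ^ n) * g := by
      have := conj_pow (i := p ^ n) (a := g⁻¹) (b := u)
      rwa [inv_inv] at this
    rw [h2, he]
    group

end Cfsg.Agent.PGroup
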