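import Cfsg.Agent.Lib.PGroup.AlperinOmega
import Cfsg.Agent.Lib.PGroup.Regular

/-!
# Elements of order `p` in `p`-groups of rank at most two

For `p > 3` the elements of order dividing `p` of a finite `p`-group all of whose elementary abelian
subgroups have order at most `p²` form a subgroup.
-/

set_option autoImplicit false

namespace Cfsg.Agent.PGroup

open scoped commutatorElement

universe u

variable {G : Type u} [Group G] {p : ℕ}

/-- A group of exponent `p` with elementary abelian subgroups of order at most `p²` has order at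
most `p³`. -/
theorem card_le_cube_of_exponent [Finite G] [hp : Fact p.Prime] (hG : IsPGroup p G) (h2 : p ≠ 2)
    (hexp : ∀ g : G, g ^ p = 1)
    (hrk : ∀ E : Subgroup G, IsElementaryAbelian p E → Nat.card E ≤ p ^ 2) :
    Nat.card G ≤ p ^ 3 := by
  classical
  obtain ⟨V, hVmax⟩ := (Set.toFinite {W : Subgroup G | W.Normal ∧ IsElementaryAbelian p W}).exists_maximal
    ⟨⊥, inferInstance, isElementaryAbelian_bot⟩
  have hV : V.Normal ∧ IsElementaryAbelian p V := hVmax.prop
  have : V.Normal := hV.1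
  have hmax : ∀ W : Subgroup G, W.Normal → IsElementaryAbelian p W → V ≤ W → W = V :=
    fun W hW hWe hVW => le_antisymm (hVmax.le_of_ge ⟨hW, hWe⟩ hVW) hVW
  have hCV : ∀ g ∈ Subgroup.centralizer (V : Set G), g ∈ V :=
    fun g hg => mem_of_pow_eq_one_of_mem_centralizer hG h2 hV.2 hmax hg (hexp g)
  obtain ⟨a, ha⟩ := card_eq_pow hG V
  have ha2 : a ≤ 2 := (Nat.pow_le_pow_iff_right hp.out.one_lt).mp (ha ▸ hrk V hV.2)
  by_cases hVc : V ≤ Subgroup.center G
  · have htop : V = ⊤ := eq_top_iff.mpr fun g _ => hCV g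
      (Subgroup.mem_centralizer_iff.mpr fun v hv => (Subgroup.mem_center_iff.mp (hVc hv) g).symm)
    calc Nat.card G = Nat.card ↥V := by rw [htop, Subgroup.card_top]
      _ = p ^ a := ha
      _ ≤ p ^ 3 := Nat.pow_le_pow_right hp.out.pos (by omega)
  · obtain ⟨v, hvV, hvc⟩ := SetLike.not_le_iff_exists.mp hVc
    have hne : V ≠ ⊥ := fun h => hVc (h ▸ bot_le)
    obtain ⟨z, hzV, hzc, hzo⟩ := exists_orderOf_eq_mem_center hG V hne
    -- the centralizer of `v` is `V`
    have hC : Subgroup.centralizer ({v} : Set G) ≤ V := by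
      intro g hg
      refine hCV g ?_
      have hD : V ⊓ Subgroup.centralizer ({g} : Set G) = V := by
        refine Subgroup.eq_of_le_of_card_ge inf_le_left ?_
        have hzD : Subgroup.zpowers z ≤ V ⊓ Subgroup.centralizer ({g} : Set G) :=
          Subgroup.zpowers_le.mpr ⟨hzV, Subgroup.mem_centralizer_singleton_iff.mpr
            (Subgroup.mem_center_iff.mp hzc g).symm⟩
        have hlt : Subgroup.zpowers z < V ⊓ Subgroup.centralizer ({g} : Set G) :=
          lt_of_le_not_ge hzD fun h => hvc (Subgroup.zpowers_le.mpr hzc (h ⟨hvV,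
            Subgroup.mem_centralizer_singleton_iff.mpr
              (Subgroup.mem_centralizer_singleton_iff.mp hg).symm⟩))
        have h1 := mul_card_le_card hG hlt
        rw [Nat.card_zpowers, hzo] at h1
        calc Nat.card ↥V = p ^ a := ha
          _ ≤ p ^ 2 := Nat.pow_le_pow_right hp.out.pos ha2
          _ = p * p := pow_two p
          _ ≤ _ := h1
      rw [Subgroup.mem_centralizer_iff]
      intro w hw
      exact Subgroup.mem_centralizer_singleton_iff.mp (hD.ge hw).2
    -- its index is less than `p²`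
    let f : G ⧸ Subgroup.centralizer ({v} : Set G) → ↥V :=
      Quotient.lift (fun g => ⟨g * v * g⁻¹, hV.1.conj_mem v hvV g⟩) fun g k hgk => by
        have h : g⁻¹ * k ∈ Subgroup.centralizer ({v} : Set G) :=
          QuotientGroup.leftRel_apply.mp hgk
        have h' := Subgroup.mem_centralizer_singleton_iff.mp h
        refine Subtype.ext ?_
        show g * v * g⁻¹ = k * v * k⁻¹
        calc g * v * g⁻¹ = g * (v * (g⁻¹ * k)) * k⁻¹ := by group
          _ = g * (g⁻¹ * k * v) * k⁻¹ := by rw [h']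
          _ = k * v * k⁻¹ := by group
    have hf : Function.Injective f := fun q r => Quotient.inductionOn₂ q r fun g k h => by
      have h' : g * v * g⁻¹ = k * v * k⁻¹ := congrArg Subtype.val h
      refine Quotient.sound (QuotientGroup.leftRel_apply.mpr
        (Subgroup.mem_centralizer_singleton_iff.mpr ?_))
      calc g⁻¹ * k * v = g⁻¹ * (k * v * k⁻¹) * k := by group
        _ = g⁻¹ * (g * v * g⁻¹) * k := by rw [h']
        _ = v * (g⁻¹ * k) := by group
    have hv1 : v ≠ 1 := fun h => hvc (h ▸ one_mem _)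
    have hnot : (1 : ↥V) ∉ Set.range f := by
      rintro ⟨q, hq⟩
      induction q using Quotient.inductionOn with
      | h g => exact hv1 (conj_eq_one_iff.mp (congrArg Subtype.val hq))
    have hlt : Nat.card (G ⧸ Subgroup.centralizer ({v} : Set G)) < Nat.card ↥V :=
      lt_of_le_of_ne (Nat.card_le_card_of_injective f hf)
        fun he => hnot ((hf.bijective_of_nat_card_le he.ge).2 1)
    obtain ⟨b, hb⟩ := index_eq_pow hG (Subgroup.centralizer ({v} : Set G))
    rw [← Subgroup.index_eq_card, hb, ha] at hlt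
    have hba := (Nat.pow_lt_pow_iff_right hp.out.one_lt).mp hlt
    calc Nat.card G = Nat.card ↥(Subgroup.centralizer ({v} : Set G)) * p ^ b := by
          rw [← hb, Subgroup.card_mul_index]
      _ ≤ p ^ a * p ^ b := Nat.mul_le_mul_right _ (ha ▸ Subgroup.card_le_of_le hC)
      _ = p ^ (a + b) := (pow_add p a b).symm
      _ ≤ p ^ 3 := Nat.pow_le_pow_right hp.out.pos (by omega)

/-- For `p > 3` a product of two elements of order dividing `p` in a `p`-group of rank at most `2`
has order dividing `p`. -/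
theorem mul_pow_eq_one_of_rank_le_two [Finite G] [hp : Fact p.Prime] (hG : IsPGroup p G) (h3 : 3 < p)
    (hrk : ∀ E : Subgroup G, IsElementaryAbelian p E → Nat.card E ≤ p ^ 2) {x y : G}
    (hx : x ^ p = 1) (hy : y ^ p = 1) : (x * y) ^ p = 1 := by
  induction hn : Nat.card G using Nat.strong_induction_on generalizing G with
  | _ n ih =>
  have h2 : p ≠ 2 := by omega
  have hrk' : ∀ H : Subgroup G, ∀ E : Subgroup ↥H, IsElementaryAbelian p E → Nat.card E ≤ p ^ 2 :=
    fun H E hE => by
      rw [← Subgroup.card_map_of_injective H.subtype_injective]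
      exact hrk _ (isElementaryAbelian_map hE H.subtype)
  have hsub : ∀ H : Subgroup G, H ≠ ⊤ → ∀ a ∈ H, ∀ b ∈ H, a ^ p = 1 → b ^ p = 1 →
      (a * b) ^ p = 1 := by
    intro H hH a ha b hb hap hbp
    have hlt : Nat.card ↥H < n := hn ▸ lt_of_le_of_ne H.card_le_card_group
      fun h => hH (H.eq_top_of_card_eq h)
    have := ih _ hlt (G := ↥H) (hG.to_subgroup H) (hrk' H) (x := ⟨a, ha⟩) (y := ⟨b, hb⟩)
      (Subtype.ext hap) (Subtype.ext hbp) rfl
    exact congrArg Subtype.val this
  by_cases htop : Subgroup.closure ({x, y} : Set G) = ⊤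
  swap
  · exact hsub _ htop x (Subgroup.subset_closure (by simp)) y (Subgroup.subset_closure (by simp)) hx hy
  by_cases hxtop : Subgroup.zpowers x = ⊤
  · obtain ⟨i, hi⟩ := Subgroup.mem_zpowers_iff.mp (hxtop ▸ Subgroup.mem_top y : y ∈ Subgroup.zpowers x)
    have hc : Commute x y := hi ▸ Commute.self_zpow x i
    rw [hc.mul_pow, hx, hy, one_mul]
  obtain h | ⟨M, hM, hxM⟩ := eq_top_or_exists_le_coatom (Subgroup.zpowers x)
  · exact absurd h hxtop
  have : M.Normal := normal_of_isCoatom hG hM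
  let K : Subgroup G :=
    { carrier := {a | a ∈ M ∧ a ^ p = 1}
      one_mem' := ⟨one_mem _, one_pow p⟩
      mul_mem' := fun ha hb => ⟨mul_mem ha.1 hb.1, hsub M hM.1 _ ha.1 _ hb.1 ha.2 hb.2⟩
      inv_mem' := fun ha => ⟨inv_mem ha.1, by rw [inv_pow, ha.2, inv_one]⟩ }
  have hKn : K.Normal := ⟨fun a ha g => ⟨Subgroup.Normal.conj_mem inferInstance a ha.1 g, by
    rw [conj_pow, ha.2, mul_one, mul_inv_cancel]⟩⟩
  have hxK : x ∈ K := ⟨hxM (Subgroup.mem_zpowers x), hx⟩
  have hK3 : Nat.card ↥K ≤ p ^ 3 :=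
    card_le_cube_of_exponent (hG.to_subgroup K) h2 (fun g => Subtype.ext g.2.2) (hrk' K)
  -- iterated commutators
  set K₁ := ⁅K, (⊤ : Subgroup G)⁆ with hK₁
  set K₂ := ⁅K₁, (⊤ : Subgroup G)⁆ with hK₂
  have hstep : ∀ (N : Subgroup G), N.Normal → ∀ k, Nat.card ↥N ≤ p ^ (k + 1) →
      Nat.card ↥⁅N, (⊤ : Subgroup G)⁆ ≤ p ^ k := by
    intro N hN k hk
    by_cases hb : N = ⊥
    · rw [hb, Subgroup.commutator_bot_left, Subgroup.card_bot]
      exact Nat.one_le_pow _ _ hp.out.pos
    · have h := mul_card_le_card hG (commutator_top_lt hG N hb)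
      rw [pow_succ] at hk
      refine Nat.le_of_mul_le_mul_left ?_ hp.out.pos
      linarith
  have hK₁2 : Nat.card ↥K₁ ≤ p ^ 2 := hstep K hKn 2 hK3
  have hK₂1 : Nat.card ↥K₂ ≤ p ^ 1 := hstep K₁ inferInstance 1 hK₁2
  have hK₃ : ⁅K₂, (⊤ : Subgroup G)⁆ = ⊥ :=
    Subgroup.card_eq_one.mp (le_antisymm (by simpa using hstep K₂ inferInstance 0 (by simpa using hK₂1))
      Nat.card_pos)
  have hcen : K₂ ≤ Subgroup.center G := fun a ha => Subgroup.mem_center_iff.mpr fun g =>
    (commutatorElement_eq_one_iff_mul_comm.mp (Subgroup.mem_bot.mp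
      (hK₃ ▸ Subgroup.commutator_mem_commutator ha (Subgroup.mem_top g)))).symm
  set c := ⁅y, x⁆ with hc
  have hc1 : c ∈ K₁ := by
    rw [hK₁, Subgroup.commutator_comm]
    exact Subgroup.commutator_mem_commutator (Subgroup.mem_top y) hxK
  have he : ∀ g, ⁅g, c⁆ ∈ K₂ := fun g => by
    rw [hK₂, Subgroup.commutator_comm]
    exact Subgroup.commutator_mem_commutator (Subgroup.mem_top g) hc1
  have hK₁K : K₁ ≤ K := Subgroup.commutator_le_left K ⊤
  have hK₂K : K₂ ≤ K := le_trans (Subgroup.commutator_le_left K₁ ⊤) hK₁K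
  have hpK : ∀ a ∈ K, ∀ m, p ∣ m → a ^ m = 1 := fun a ha m hm => by
    obtain ⟨j, rfl⟩ := hm
    rw [pow_mul, ha.2, one_pow]
  have d2 : p ∣ p.choose 2 := hp.out.dvd_choose_self (by norm_num) (by omega)
  have d3 : p ∣ p.choose 3 := hp.out.dvd_choose_self (by norm_num) h3
  rw [mul_pow_class_three (hcen (he y)) (hcen (he x)), hx, hy, hpK c (hK₁K hc1) _ d2,
    hpK _ (hK₂K (he y)) _ d3, hpK _ (hK₂K (he x)) _ (dvd_add (dvd_mul_of_dvd_right d3 2) d2)]
  simp

end Cfsg.Agent.PGroup
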