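import Cfsg.Agent.S1447
import Cfsg.Agent.S1451
import Cfsg.Agent.Lib.PGroup.MetacyclicCriterion
import Cfsg.Agent.Lib.PGroup.OmegaRankTwo
import Cfsg.Agent.Lib.Coprime.Quotient
import Cfsg.Agent.Lib.OddOrder.Exceptional

/-!
# Rank-two `p`-groups `R = [R, A]` with `A` of odd order prime to `p` (Blackburn; BG 4.16)
-/

set_option autoImplicit false
set_option linter.unusedSectionVars false

namespace Cfsg.Agent.RankTwoOperators

open Cfsg
open Subgroup (centralizer normalizer zpowers)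
open scoped Pointwise commutatorElement

universe u
variable {G : Type u} [Group G] [Finite G] {p : ℕ} [Fact p.Prime]

theorem normalizer_le_normalizer_omegaOne' (q : ℕ) (Z : Subgroup G) :
    normalizer (Z : Set G) ≤ normalizer (omegaOne q Z : Set G) := fun g hg => by
  rw [Subgroup.mem_normalizer_iff_map_conj_eq] at hg ⊢
  rw [PGroup.map_omegaOne_of_injective (MulAut.conj g).injective, hg]

omit [Finite G] in
theorem le_normalizer_sup' {H X Y : Subgroup G} (hX : H ≤ normalizer (X : Set G))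
    (hY : H ≤ normalizer (Y : Set G)) : H ≤ normalizer ((X ⊔ Y : Subgroup G) : Set G) := fun g hg =>
  Coprime.mem_normalizer_of_conj_smul_eq (by
    rw [Subgroup.smul_sup, Coprime.conj_smul_eq_self_of_mem (hX hg), Coprime.conj_smul_eq_self_of_mem (hY hg)])

theorem exists_central_pow_eq_one' {P : Subgroup G} (hP : IsPGroup p P)
    (h1 : P ≠ ⊥) : ∃ z ∈ P, z ≠ 1 ∧ z ^ p = 1 ∧ P ≤ centralizer ({z} : Set G) := by
  haveI : Nontrivial P := (Subgroup.nontrivial_iff_ne_bot P).2 h1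
  obtain ⟨k, hk⟩ := (hP.to_subgroup (Subgroup.center P)).exists_card_eq
  have hd : p ∣ Nat.card (Subgroup.center P) := by
    have := hP.center_nontrivial
    rw [hk]
    exact dvd_pow_self p fun e => absurd (hk.trans (by rw [e, pow_zero])) Finite.one_lt_card.ne'
  obtain ⟨⟨z, hz⟩, hzo⟩ := exists_prime_orderOf_dvd_card' p hd
  rw [Subgroup.orderOf_mk, ← Subgroup.orderOf_coe] at hzo
  refine ⟨z, z.2, fun e => ?_, hzo ▸ pow_orderOf_eq_one (z : G), fun y hy =>
    Subgroup.mem_centralizer_singleton_iff.2 (congrArg Subtype.val (Subgroup.mem_center_iff.1 hz ⟨y, hy⟩))⟩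
  rw [e, orderOf_one] at hzo
  exact (Fact.out : p.Prime).ne_one hzo.symm

theorem sq_le_card_sup {Z : Subgroup G} (hZ : Nat.card Z = p) {l : G} (_hl : l ^ p = 1) (hlZ : l ∉ Z)
    (h : IsPGroup p (Z ⊔ zpowers l : Subgroup G)) : p ^ 2 ≤ Nat.card ↥(Z ⊔ zpowers l) := by
  obtain ⟨t, ht⟩ := h.exists_card_eq
  have hlt : Z < Z ⊔ zpowers l := lt_of_le_of_ne le_sup_left fun h =>
    hlZ (h.symm ▸ Subgroup.mem_sup_right (Subgroup.mem_zpowers l))
  have h5 : p ^ 1 < p ^ t := by
    rw [← ht, pow_one]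
    refine lt_of_eq_of_lt hZ.symm ?_
    exact lt_of_le_of_ne (Subgroup.card_le_of_le hlt.le) fun h => hlt.ne (Subgroup.eq_of_le_of_card_ge hlt.le h.ge)
  rw [ht]
  exact Nat.pow_le_pow_right (Fact.out : p.Prime).pos ((Nat.pow_lt_pow_iff_right (Fact.out : p.Prime).one_lt).1 h5)

omit [Finite G] in
theorem conj_pow_translate {x a w : G} (h : x * a * x⁻¹ = w * a) (hw : Commute x w) :
    ∀ n : ℕ, x ^ n * a * (x ^ n)⁻¹ = w ^ n * a := by
  intro n
  induction n with
  | zero => simp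
  | succ n ih =>
    calc x ^ (n + 1) * a * (x ^ (n + 1))⁻¹ = x * (x ^ n * a * (x ^ n)⁻¹) * x⁻¹ := by rw [pow_succ']; group
      _ = (x * w ^ n * x⁻¹) * (x * a * x⁻¹) := by rw [ih]; group
      _ = w ^ n * (w * a) := by rw [(hw.pow_right n).eq, mul_inv_cancel_right, h]
      _ = w ^ (n + 1) * a := by rw [pow_succ, mul_assoc]

omit [Finite G] in
theorem choose_two_dvd {p : ℕ} [Fact p.Prime] (hp : p ≠ 2) : p ∣ p.choose 2 :=
  (Fact.out : p.Prime).dvd_choose_self (by norm_num)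
    (lt_of_le_of_ne (Fact.out : p.Prime).two_le (Ne.symm hp))

omit [Finite G] in
/-- `(yx)^n` when `x y x⁻¹ = w y` with `w` central for both. -/
theorem mul_pow_translate {x y w : G} (h : x * y * x⁻¹ = w * y) (hx : Commute x w) (hy : Commute y w) :
    ∀ n : ℕ, (y * x) ^ n = w ^ n.choose 2 * y ^ n * x ^ n := by
  intro n
  induction n with
  | zero => simp
  | succ n ih =>
    have h1 : x ^ n * y = w ^ n * y * x ^ n := mul_inv_eq_iff_eq_mul.1 (conj_pow_translate h hx n)
    calc (y * x) ^ (n + 1) = w ^ n.choose 2 * y ^ n * (x ^ n * y) * x := by rw [pow_succ, ih]; group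
      _ = w ^ n.choose 2 * (y ^ n * w ^ n) * y * (x ^ n * x) := by rw [h1]; group
      _ = w ^ n.choose 2 * (w ^ n * y ^ n) * y * (x ^ n * x) := by rw [(hy.pow_pow n n).eq]
      _ = _ := by
        rw [Nat.choose_succ_succ, Nat.choose_one_right, add_comm n, pow_add w, pow_succ x, pow_succ y]
        simp only [mul_assoc]

/-- A `p`-group centralises the groups of order at most `p` it normalises. -/
theorem le_centralizer_of_card_le_prime {P U : Subgroup G} (hP : IsPGroup p P) (hU : IsPGroup p U)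
    (hn : P ≤ normalizer (U : Set G)) (hc : Nat.card U ≤ p) : P ≤ centralizer (U : Set G) := by
  rcases eq_or_ne U ⊥ with rfl | h1
  · intro x _
    exact Subgroup.mem_centralizer_iff.2 fun y hy => by rw [Subgroup.mem_bot.1 hy, one_mul, mul_one]
  rw [Coprime.le_centralizer_iff_commutator_eq_bot]
  have hlt := Coprime.commutator_lt_of_isPGroup hP hU hn h1
  obtain ⟨k, hk⟩ := hU.exists_card_eq
  have hk1 : k = 1 := by
    have h2 : k ≤ 1 := (Nat.pow_le_pow_iff_right (Fact.out : p.Prime).one_lt).1 (by rw [← hk, pow_one]; exact hc)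
    have h0 : k ≠ 0 := fun e => h1 (Subgroup.card_eq_one.1 (by rw [hk, e, pow_zero]))
    omega
  rw [hk1, pow_one] at hk
  rcases (Nat.dvd_prime (Fact.out : p.Prime)).1 (hk ▸ Subgroup.card_dvd_of_le hlt.le) with e | e
  · exact Subgroup.card_eq_one.1 e
  · exact absurd (Subgroup.eq_of_le_of_card_ge hlt.le (by rw [e, hk])) hlt.ne

variable {R A : Subgroup G} (hp : p ≠ 2) (hR : IsPGroup p R) (hR1 : R ≠ ⊥) (hr : PRankLE p 2 R)
  (hA : A ≤ normalizer (R : Set G)) (hcop : (Nat.card A).Coprime p) (hAodd : Odd (Nat.card A))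
  (hRA : ⁅R, A⁆ = R)
include hp hR hR1 hr hA hcop hAodd hRA

theorem three_lt : 3 < p := by
  have h2 := (Fact.out : p.Prime).two_le
  by_contra h
  have hp3 : p = 3 := by omega
  refine hR1 ?_
  rw [← hRA, ← Coprime.le_centralizer_iff_commutator_eq_bot]
  intro a ha
  set X := R ⊔ zpowers a with hX
  have hn : zpowers a ≤ normalizer (R : Set G) := Subgroup.zpowers_le.2 (hA ha)
  have hacop : (Nat.card (zpowers a)).Coprime (Nat.card R) := by
    obtain ⟨k, hk⟩ := hR.exists_card_eq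
    rw [hk]
    exact (hcop.coprime_dvd_left (Subgroup.card_dvd_of_le (Subgroup.zpowers_le.2 ha))).pow_right k
  haveI : Group.IsSolvable R := by
    haveI := hR.isNilpotent
    infer_instance
  haveI : Group.IsSolvable X := by
    haveI : (R.subgroupOf X).Normal :=
      Coprime.normal_subgroupOf_of_le_normalizer (sup_le Subgroup.le_normalizer hn)
    let f := QuotientGroup.mk' (R.subgroupOf X)
    haveI : Group.IsSolvable (↥X ⧸ R.subgroupOf X) := by
      haveI : Group.IsSolvable ↥((zpowers a).subgroupOf X) :=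
        Coprime.isSolvable_subgroupOf le_sup_right (Group.isSolvable_of_comm fun x y => mul_comm' x y)
      refine Group.isSolvable_of_surjective (f := f.comp ((zpowers a).subgroupOf X).subtype) fun y => ?_
      obtain ⟨g, rfl⟩ := QuotientGroup.mk'_surjective _ y
      obtain ⟨z, hz, r, hr', hzr⟩ := (Coprime.mem_sup_iff_of_le_normalizer (H := zpowers a) (N := R) hn).1
        (show (g : G) ∈ zpowers a ⊔ R by rw [sup_comm]; exact g.2)
      refine ⟨⟨⟨z, Subgroup.mem_sup_right hz⟩, hz⟩, (QuotientGroup.eq).2 ?_⟩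
      show z⁻¹ * (g : G) ∈ R
      rwa [← hzr, inv_mul_cancel_left]
    haveI : Group.IsSolvable ↥(R.subgroupOf X) := Coprime.isSolvable_subgroupOf le_sup_left inferInstance
    exact Group.isSolvable_of_ker_le_range (R.subgroupOf X).subtype (QuotientGroup.mk' (R.subgroupOf X)) (by simp)
  have hXodd : Odd (Nat.card X) := by
    rw [hX, sup_comm, Coprime.card_sup_of_le_normalizer hn (Coprime.disjoint_of_coprime_card hacop)]
    obtain ⟨k, hk⟩ := hR.exists_card_eq
    rw [hk]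
    exact (hAodd.of_dvd_nat (Subgroup.card_dvd_of_le (Subgroup.zpowers_le.2 ha))).mul
      (((Fact.out : p.Prime).odd_of_ne_two hp).pow)
  haveI : (R.subgroupOf X).Normal :=
    Coprime.normal_subgroupOf_of_le_normalizer (sup_le Subgroup.le_normalizer hn)
  refine OddOrder.mem_of_forall_primePart (D := centralizer (R : Set G)) fun r hr' hd u hu ⟨k, hk⟩ => ?_
  have huX : u ∈ X := Subgroup.mem_sup_right hu
  have hrp : r ≠ p := fun e => by
    subst e
    exact (Fact.out : r.Prime).coprime_iff_not_dvd.1 hcop.symm (hd.trans (Subgroup.orderOf_dvd_natCard A ha))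
  have hro : Odd r := hAodd.of_dvd_nat (hd.trans (Subgroup.orderOf_dvd_natCard A ha))
  have hpr : p < r := by
    have := hr'.two_le
    obtain ⟨j, hj⟩ := hro
    omega
  have hc := S1451.mem_centralizer_of_lt hXodd hr' hpr (R.subgroupOf X) hR.comap_subtype
    (OddOrder.pRankLE_of_injective (f := (Subgroup.subgroupOfEquivOfLe (le_sup_left : R ≤ X)).toMonoidHom)
      (MulEquiv.injective _) hr) (x := ⟨u, huX⟩) (k := k) (Subtype.ext hk)
  exact Subgroup.mem_centralizer_iff.2 fun y hy =>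
    congrArg Subtype.val (Subgroup.mem_centralizer_iff.1 hc (⟨y, Subgroup.mem_sup_left hy⟩ : X) hy)

theorem structure_rankTwo : IsMulCommutative R ∨ ∃ R₁ R₂ : Subgroup G, R₁ ⊔ R₂ = R ∧
    (∀ a ∈ R₁, ∀ b ∈ R₂, a * b = b * a) ∧ ¬ IsMulCommutative R₁ ∧ Nat.card R₁ = p ^ 3 ∧
    Monoid.exponent R₁ = p ∧ IsCyclic R₂ ∧
    Subgroup.closure {x : G | x ∈ R₂ ∧ x ^ p = 1} = ⁅R₁, R₁⁆ := by
  have h3 := three_lt hp hR hR1 hr hA hcop hAodd hRA
  have hpp := (Fact.out : p.Prime)
  have hrk : ∀ H : Subgroup G, H ≤ R → IsElementaryAbelian p H → Nat.card H ≤ p ^ 2 := fun H hH hHel => by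
    have := hr (H.subgroupOf R) (PGroup.isMulCommutative_of_forall fun a ha b hb =>
      Subtype.ext (PGroup.mul_comm_of_elementaryAbelian hHel ha hb)) fun a ha => Subtype.ext (hHel.2 _ ha)
    rwa [Coprime.card_subgroupOf hH] at this
  have hrkR : ∀ H : Subgroup R, IsElementaryAbelian p H → Nat.card H ≤ p ^ 2 := fun H hH => hr H hH.1 hH.2
  set E := omegaOne p R with hE
  have hER : E ≤ R := PGroup.omegaOne_le R
  have hexp : ∀ x ∈ E, x ^ p = 1 := fun x hx => by
    suffices h : x ∈ R ∧ x ^ p = 1 from h.2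
    rw [hE, omegaOne] at hx
    induction hx using Subgroup.closure_induction with
    | mem x hx => exact hx
    | one => exact ⟨R.one_mem, one_pow p⟩
    | mul x y _ _ hx hy =>
      exact ⟨R.mul_mem hx.1 hy.1, congrArg Subtype.val (PGroup.mul_pow_eq_one_of_rank_le_two hR h3 hrkR
        (x := ⟨x, hx.1⟩) (y := ⟨y, hy.1⟩) (Subtype.ext hx.2) (Subtype.ext hy.2))⟩
    | inv x _ hx => exact ⟨R.inv_mem hx.1, by rw [inv_pow, hx.2, inv_one]⟩
  have hEp : IsPGroup p E := hR.to_le hER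
  have hmemE : ∀ x ∈ R, x ^ p = 1 → x ∈ E := fun x hx hxp => PGroup.mem_omegaOne_of_pow_eq_one hx hxp
  have hE3 : Nat.card E ≤ p ^ 3 := PGroup.card_le_cube_of_exponent hEp hp
    (fun g => Subtype.ext (hexp g g.2)) fun H hH => by
      rw [← Subgroup.card_map_of_injective E.subtype_injective]
      exact hrk _ ((Subgroup.map_subtype_le H).trans hER) (PGroup.isElementaryAbelian_map hH _)
  by_cases hE2 : Nat.card E ≤ p ^ 2
  · -- metacyclic
    left
    have hm : IsMetacyclic R := PGroup.isMetacyclic_of_card_omegaOne_le h3 hR (by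
      rw [← Subgroup.card_map_of_injective R.subtype_injective,
        PGroup.map_omegaOne_of_injective R.subtype_injective, ← MonoidHom.range_eq_map, Subgroup.range_subtype]
      exact hE2)
    have := (S1447.result p hp R A hR hm hA hcop).1
    rwa [hRA] at this
  obtain ⟨k₀, hk₀⟩ := hEp.exists_card_eq
  have hEc : Nat.card E = p ^ 3 := by
    rw [hk₀] at hE3 hE2 ⊢
    have := (Nat.pow_le_pow_iff_right hpp.one_lt).1 hE3
    have h4 : ¬ k₀ ≤ 2 := fun h => hE2 (Nat.pow_le_pow_right hpp.pos h)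
    rw [show k₀ = 3 by omega]
  have hEnc : ¬ IsMulCommutative E := fun h => hE2 (hrk E hER ⟨h, hexp⟩)
  have hRE : R ≤ normalizer (E : Set G) := Subgroup.le_normalizer.trans (normalizer_le_normalizer_omegaOne' p R)
  have hAE : A ≤ normalizer (E : Set G) := hA.trans (normalizer_le_normalizer_omegaOne' p R)
  -- `Z = Z(E)`
  set Z := E ⊓ centralizer (E : Set G) with hZ
  have hZE : Z ≤ E := inf_le_left
  have hZR : R ≤ normalizer (Z : Set G) :=
    Coprime.le_normalizer_inf_of_le hRE (Coprime.le_normalizer_centralizer hRE)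
  have hZel : IsElementaryAbelian p Z := PGroup.isElementaryAbelian_of_forall
    (fun a ha b hb => (Subgroup.mem_centralizer_iff.1 ha.2 b hb.1).symm) fun a ha => hexp a ha.1
  have hEne : E ≠ ⊥ := fun e => hEnc (PGroup.isMulCommutative_of_forall fun a ha b hb => by
    rw [e, Subgroup.mem_bot] at ha hb
    rw [ha, hb])
  have hZp : Nat.card Z = p := by
    obtain ⟨k, hk⟩ := (hEp.to_le hZE).exists_card_eq
    have hk2 : k ≤ 2 := (Nat.pow_le_pow_iff_right hpp.one_lt).1 (hk ▸ hrk Z (hZE.trans hER) hZel)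
    obtain ⟨z, hz, hz1, hzp, hzc⟩ := exists_central_pow_eq_one' hEp hEne
    have hk0 : k ≠ 0 := fun e => by
      have : z ∈ Z := ⟨hz, Subgroup.mem_centralizer_iff.2 fun y hy => Subgroup.mem_centralizer_singleton_iff.1 (hzc hy)⟩
      rw [Subgroup.card_eq_one.1 (show Nat.card Z = 1 by rw [hk, e, pow_zero]), Subgroup.mem_bot] at this
      exact hz1 this
    rcases (show k = 1 ∨ k = 2 by omega) with e | e
    · rw [hk, e, pow_one]
    exfalso
    subst e
    obtain ⟨e, he, heZ⟩ : ∃ e ∈ E, e ∉ Z := SetLike.not_le_iff_exists.1 fun h => by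
      have h5 := Subgroup.card_le_of_le h
      rw [hEc, hk] at h5
      exact absurd h5 (Nat.pow_lt_pow_right hpp.one_lt (by norm_num)).not_ge
    obtain ⟨hel, hc3⟩ := OddOrder.exists_cube_of_not_mem hZel hk
      (Subgroup.mem_centralizer_iff.2 fun a ha => (Subgroup.mem_centralizer_iff.1 ha.2 e he).symm) (hexp e he) heZ
    exact absurd (hc3.trans (hrk _ (sup_le (hZE.trans hER) (Subgroup.zpowers_le.2 (hER he))) hel))
      (Nat.pow_lt_pow_right hpp.one_lt (by norm_num)).not_ge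
  have hRZ : R ≤ centralizer (Z : Set G) := le_centralizer_of_card_le_prime hR (hR.to_le (hZE.trans hER)) hZR hZp.le
  have hzcomm : ∀ r ∈ R, ∀ z ∈ Z, Commute r z := fun r hr' z hz => (Subgroup.mem_centralizer_iff.1 (hRZ hr') z hz).symm
  have hEE : ⁅E, E⁆ = Z := by
    have hle : ⁅E, E⁆ ≤ Z := by
      haveI : Fact (Nat.card E = p ^ 3) := ⟨hEc⟩
      set N := Z.subgroupOf E with hN
      haveI : N.Normal := Coprime.normal_subgroupOf_of_le_normalizer (hER.trans hZR)
      have hq : Nat.card (E ⧸ N) = p ^ 2 := by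
        have h5 := N.card_mul_index
        rw [Coprime.card_subgroupOf hZE, hZp, hEc, Subgroup.index_eq_card] at h5
        exact Nat.eq_of_mul_eq_mul_left hpp.pos (h5.trans (by ring))
      refine Subgroup.commutator_le.2 fun a ha b hb => ?_
      have h6 : (QuotientGroup.mk' N) ⁅(⟨a, ha⟩ : E), ⟨b, hb⟩⁆ = 1 := by
        rw [map_commutatorElement, commutatorElement_eq_one_iff_mul_comm]
        exact IsPGroup.commutative_of_card_eq_prime_sq hq _ _
      have h7 : ⁅(⟨a, ha⟩ : E), ⟨b, hb⟩⁆ ∈ N := (QuotientGroup.eq_one_iff _).1 h6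
      exact h7
    refine Subgroup.eq_of_le_of_card_ge hle ?_
    rw [hZp]
    obtain ⟨j, hj⟩ := (hEp.to_le (hle.trans hZE)).exists_card_eq
    have hj0 : j ≠ 0 := fun e => hEnc (PGroup.isMulCommutative_of_forall fun a ha b hb => by
      have h7 : ⁅a, b⁆ ∈ ⁅E, E⁆ := Subgroup.commutator_mem_commutator ha hb
      rw [Subgroup.card_eq_one.1 (show Nat.card ↥⁅E, E⁆ = 1 by rw [hj, e, pow_zero]), Subgroup.mem_bot] at h7
      exact commutatorElement_eq_one_iff_mul_comm.1 h7)
    rw [hj]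
    exact Nat.le_self_pow hj0 p
  have hZgen : ∀ {w : G}, w ∈ Z → w ≠ 1 → zpowers w = Z := fun {w} hw hw1 =>
    Subgroup.eq_of_le_of_card_ge (Subgroup.zpowers_le.2 hw)
      (by rw [hZp, Nat.card_zpowers, orderOf_eq_prime (hexp w hw.1) hw1])
  -- `C = C_R(E)`
  set C := R ⊓ centralizer (E : Set G) with hC
  have hCR : C ≤ R := inf_le_left
  have hCZ : ∀ c ∈ C, c ^ p = 1 → c ∈ Z := fun c hc hcp => ⟨hmemE c hc.1 hcp, hc.2⟩
  have hZC : Z ≤ C := le_inf (hZE.trans hER) inf_le_right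
  have hCcyc : IsCyclic C := IsolatedP.isCyclic_of_pRankLE_one hp (hR.to_le hCR) fun H hH hHp => by
    rw [pow_one, ← hZp, ← Subgroup.card_map_of_injective C.subtype_injective]
    refine Subgroup.card_le_of_le ?_
    rintro _ ⟨c, hc, rfl⟩
    exact hCZ c c.2 (congrArg Subtype.val (hHp c hc))
  have hEC : ∀ e ∈ E, ∀ c ∈ C, e * c = c * e := fun e he c hc => Subgroup.mem_centralizer_iff.1 hc.2 e he
  suffices hD : R ≤ E ⊔ C by
    right
    refine ⟨E, C, le_antisymm (sup_le hER hCR) hD, hEC, hEnc, hEc, ?_, hCcyc, ?_⟩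
    · refine Nat.Prime.eq_one_or_self_of_dvd hpp _ (Monoid.exponent_dvd_of_forall_pow_eq_one fun e =>
        Subtype.ext (hexp e e.2)) |>.resolve_left fun h => ?_
      haveI := Monoid.exp_eq_one_iff.1 h
      exact absurd hEc (by
        rw [Nat.card_of_subsingleton (1 : E)]
        exact (Nat.one_lt_pow (by norm_num) hpp.one_lt).ne)
    · rw [hEE]
      exact le_antisymm ((Subgroup.closure_le Z).2 fun c hc => hCZ c hc.1 hc.2)
        fun z hz => Subgroup.subset_closure ⟨hZC hz, hexp z hz.1⟩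
  set D := E ⊔ C with hDdef
  have hDR : D ≤ R := sup_le hER hCR
  have hEnC : C ≤ normalizer (E : Set G) := hCR.trans hRE
  -- inner automorphisms give everything trivial modulo `Z`
  have hN : ∀ r ∈ R, (∀ e ∈ E, ⁅r, e⁆ ∈ Z) → r ∈ D := by
    intro r hr' hall
    obtain ⟨a, ha, b, hb, hab⟩ : ∃ a ∈ E, ∃ b ∈ E, ¬ Commute a b := by
      by_contra h
      push Not at h
      exact hEnc (PGroup.isMulCommutative_of_forall h)
    set w := ⁅a, b⁆ with hw
    have hwZ : w ∈ Z := hEE ▸ Subgroup.commutator_mem_commutator ha hb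
    have hw1 : w ≠ 1 := fun e => hab (commutatorElement_eq_one_iff_mul_comm.1 e)
    have hpowers : ∀ z ∈ Z, ∃ i : ℕ, z = w ^ i := fun z hz => by
      obtain ⟨i, hi⟩ := (isOfFinOrder_of_finite w).mem_powers_iff_mem_zpowers.2 ((hZgen hwZ hw1).ge hz)
      exact ⟨i, hi.symm⟩
    obtain ⟨i, hi⟩ := hpowers _ (hall a ha)
    obtain ⟨j, hj⟩ := hpowers _ (hall b hb)
    have hcw : ∀ x ∈ E, Commute x w := fun x hx => hzcomm x (hER hx) w hwZ
    have h1 : a * b * a⁻¹ = w * b := by rw [hw, commutatorElement_def]; group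
    have h2 : b⁻¹ * a * b⁻¹⁻¹ = w * a := by
      calc b⁻¹ * a * b⁻¹⁻¹ = b⁻¹ * (a * b * a⁻¹) * a := by group
        _ = (b⁻¹ * w) * b * a := by rw [h1]; group
        _ = _ := by rw [(hcw _ (E.inv_mem hb)).eq]; group
    have hja := conj_pow_translate h1 (hcw a ha) j
    have hib := conj_pow_translate h2 (hcw _ (E.inv_mem hb)) i
    set e' := a ^ j * b⁻¹ ^ i with he'
    have he'E : e' ∈ E := E.mul_mem (E.pow_mem ha j) (E.pow_mem (E.inv_mem hb) i)
    have hea : e' * a * e'⁻¹ = w ^ i * a := by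
      calc e' * a * e'⁻¹ = a ^ j * (b⁻¹ ^ i * a * (b⁻¹ ^ i)⁻¹) * (a ^ j)⁻¹ := by rw [he']; group
        _ = (a ^ j * w ^ i) * a * (a ^ j)⁻¹ := by rw [hib]; group
        _ = _ := by rw [((hcw a ha).pow_pow j i).eq]; group
    have heb : e' * b * e'⁻¹ = w ^ j * b := by
      calc e' * b * e'⁻¹ = a ^ j * (b⁻¹ ^ i * b * (b⁻¹ ^ i)⁻¹) * (a ^ j)⁻¹ := by rw [he']; group
        _ = a ^ j * b * (a ^ j)⁻¹ := by rw [((Commute.refl b).inv_left.pow_left i).eq]; group
        _ = _ := hja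
    have hra : r * a * r⁻¹ = w ^ i * a := by rw [← hi, commutatorElement_def]; group
    have hrb : r * b * r⁻¹ = w ^ j * b := by rw [← hj, commutatorElement_def]; group
    set r' := e'⁻¹ * r with hr'd
    have hr'R : r' ∈ R := R.mul_mem (R.inv_mem (hER he'E)) hr'
    have hfix : ∀ y : G, e' * y * e'⁻¹ = r * y * r⁻¹ → y ∈ centralizer ({r'} : Set G) := fun y hy => by
      refine Subgroup.mem_centralizer_singleton_iff.2 ?_
      calc y * r' = e'⁻¹ * (e' * y * e'⁻¹) * r := by rw [hr'd]; group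
        _ = e'⁻¹ * (r * y * r⁻¹) * r := by rw [hy]
        _ = r' * y := by rw [hr'd]; group
    have hEall : E ≤ centralizer ({r'} : Set G) := by
      set F := E ⊓ centralizer ({r'} : Set G)
      have hA1 : IsElementaryAbelian p (Z ⊔ zpowers a : Subgroup G) :=
        PGroup.isElementaryAbelian_sup hZel (PGroup.isElementaryAbelian_zpowers (hexp a ha)) fun z hz y hy => by
          obtain ⟨n, rfl⟩ := hy
          exact ((hzcomm a (hER ha) z hz).zpow_left n).symm.eq
      have hsub : Z ⊔ zpowers a ≤ F := sup_le (le_inf hZE fun z hz => Subgroup.mem_centralizer_singleton_iff.2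
        (hzcomm r' hr'R z hz).symm.eq)
        (Subgroup.zpowers_le.2 ⟨ha, hfix a (hea.trans hra.symm)⟩)
      have hbF : b ∈ F := ⟨hb, hfix b (heb.trans hrb.symm)⟩
      have haZ : a ∉ Z := fun h => hab (Subgroup.mem_centralizer_iff.1 h.2 b hb).symm
      have hbA : b ∉ Z ⊔ zpowers a := fun h =>
        hab (PGroup.mul_comm_of_elementaryAbelian hA1 (Subgroup.mem_sup_right (Subgroup.mem_zpowers a)) h)
      have hlt1 : Z < Z ⊔ zpowers a := lt_of_le_of_ne le_sup_left fun h =>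
        haZ (h.symm ▸ Subgroup.mem_sup_right (Subgroup.mem_zpowers a))
      have hlt2 : Z ⊔ zpowers a < F := lt_of_le_of_ne hsub fun h => hbA (h.symm ▸ hbF)
      have hcard : ∀ {X Y : Subgroup G}, Y ≤ E → X < Y → p * Nat.card X ≤ Nat.card Y := fun {X Y} hY hlt => by
        obtain ⟨s, hs⟩ := (hEp.to_le (hlt.le.trans hY)).exists_card_eq
        obtain ⟨t, ht⟩ := (hEp.to_le hY).exists_card_eq
        have h5 : p ^ s < p ^ t := by
          rw [← hs, ← ht]
          exact lt_of_le_of_ne (Subgroup.card_le_of_le hlt.le) fun h => hlt.ne (Subgroup.eq_of_le_of_card_ge hlt.le h.ge)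
        rw [hs, ht, ← pow_succ']
        exact Nat.pow_le_pow_right hpp.pos ((Nat.pow_lt_pow_iff_right hpp.one_lt).1 h5)
      have h8 := (Nat.mul_le_mul_left p (hcard (hlt2.le.trans inf_le_left) hlt1)).trans (hcard inf_le_left hlt2)
      rw [hZp] at h8
      exact inf_eq_left.1 (Subgroup.eq_of_le_of_card_ge inf_le_left (by rw [hEc]; exact le_trans (by ring_nf; rfl) h8))
    have hr'C : r' ∈ C := ⟨hr'R, Subgroup.mem_centralizer_iff.2 fun e he =>
      Subgroup.mem_centralizer_singleton_iff.1 (hEall he)⟩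
    have : r = e' * r' := by rw [hr'd, mul_inv_cancel_left]
    rw [this]
    exact D.mul_mem (Subgroup.mem_sup_left he'E) (Subgroup.mem_sup_right hr'C)
  by_contra hnot
  obtain ⟨x, hx, hxD⟩ := SetLike.not_le_iff_exists.1 hnot
  -- `L = [E, R]`
  set L := ⁅E, R⁆ with hL
  have hLE : L < E := Coprime.commutator_lt_of_isPGroup hR hEp hRE hEne
  have hZL : Z ≤ L := hEE ▸ Subgroup.commutator_mono le_rfl hER
  have hLn : R ≤ normalizer (L : Set G) := Subgroup.normalizer_commutator_ge_right E R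
  have hRcomm : ∀ r ∈ R, ∀ e ∈ E, ⁅r, e⁆ ∈ L := fun r hr' e he => by
    rw [hL, Subgroup.commutator_comm]; exact Subgroup.commutator_mem_commutator hr' he
  have hLc : Nat.card L = p ^ 2 := by
    obtain ⟨j, hj⟩ := (hEp.to_le hLE.le).exists_card_eq
    have hj3 : j < 3 := by
      refine (Nat.pow_lt_pow_iff_right hpp.one_lt).1 (hj ▸ hEc ▸ ?_)
      exact lt_of_le_of_ne (Subgroup.card_le_of_le hLE.le) fun h => hLE.ne (Subgroup.eq_of_le_of_card_ge hLE.le h.ge)
    have hj1 : 1 < j := by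
      by_contra h
      have hLZ : L = Z := (Subgroup.eq_of_le_of_card_ge hZL (by
        rw [hj, hZp]; exact (Nat.pow_le_pow_right hpp.pos (by omega : j ≤ 1)).trans_eq (pow_one p))).symm
      exact hxD (hN x hx fun e he => hLZ ▸ hRcomm x hx e he)
    rw [hj, show j = 2 by omega]
  have hLab : ∀ u ∈ L, ∀ v ∈ L, u * v = v * u := fun u hu v hv => congrArg Subtype.val
    (IsPGroup.commutative_of_card_eq_prime_sq hLc (⟨u, hu⟩ : L) ⟨v, hv⟩)
  have hLR : ∀ r ∈ R, ∀ l ∈ L, ⁅r, l⁆ ∈ Z := by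
    have hlt : ⁅L, R⁆ < L := Coprime.commutator_lt_of_isPGroup hR (hEp.to_le hLE.le) hLn
      (fun e => by rw [e, Subgroup.card_bot] at hLc; exact absurd hLc (Nat.one_lt_pow (by norm_num) hpp.one_lt).ne)
    have hc : Nat.card ↥⁅L, R⁆ ≤ p := by
      obtain ⟨i, hi, hi'⟩ := (Nat.dvd_prime_pow hpp).1 (hLc ▸ Subgroup.card_dvd_of_le hlt.le)
      rw [hi']
      have : i ≠ 2 := fun e => hlt.ne (Subgroup.eq_of_le_of_card_ge hlt.le (by rw [hi', e, hLc]))
      exact (Nat.pow_le_pow_right hpp.pos (by omega : i ≤ 1)).trans_eq (pow_one p)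
    have hcen := le_centralizer_of_card_le_prime hR (hEp.to_le (hlt.le.trans hLE.le))
      (Subgroup.normalizer_commutator_ge_right L R) hc
    intro r hr' l hl
    have hm : ⁅r, l⁆ ∈ ⁅L, R⁆ := by
      rw [Subgroup.commutator_comm]; exact Subgroup.commutator_mem_commutator hr' hl
    exact ⟨hLE.le (hlt.le hm), Subgroup.mem_centralizer_iff.2 fun e he =>
      (Subgroup.mem_centralizer_iff.1 (hcen (hER he)) _ hm).symm⟩
  obtain ⟨-, a, ha, haL⟩ := SetLike.lt_iff_le_and_exists.1 hLE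
  have hEdec : ∀ e ∈ E, ∃ i : ℕ, ∃ u ∈ L, e = u * a ^ i := by
    have hsup : L ⊔ zpowers a = E := by
      refine Subgroup.eq_of_le_of_card_ge (sup_le hLE.le (Subgroup.zpowers_le.2 ha)) ?_
      have hlt : L < L ⊔ zpowers a := lt_of_le_of_ne le_sup_left fun h =>
        haL (h.symm ▸ Subgroup.mem_sup_right (Subgroup.mem_zpowers a))
      obtain ⟨t, ht⟩ := (hEp.to_le (sup_le hLE.le (Subgroup.zpowers_le.2 ha))).exists_card_eq
      have h5 : p ^ 2 < p ^ t := by
        rw [← hLc, ← ht]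
        exact lt_of_le_of_ne (Subgroup.card_le_of_le hlt.le) fun h => hlt.ne (Subgroup.eq_of_le_of_card_ge hlt.le h.ge)
      rw [hEc, ht]
      exact Nat.pow_le_pow_right hpp.pos ((Nat.pow_lt_pow_iff_right hpp.one_lt).1 h5)
    intro e he
    obtain ⟨u, hu, y, hy, huy⟩ := (Coprime.mem_sup_iff_of_le_normalizer' (H := zpowers a) (N := L)
      ((Subgroup.zpowers_le.2 (hER ha)).trans hLn)).1 (by rw [sup_comm] at hsup; exact hsup.ge he)
    obtain ⟨i, hi⟩ := (isOfFinOrder_of_finite a).mem_powers_iff_mem_zpowers.2 hy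
    exact ⟨i, u, hu, by rw [← huy, ← hi]⟩
  -- quotient by `Z` inside `R`
  haveI : (Z.subgroupOf R).Normal := Coprime.normal_subgroupOf_of_le_normalizer hZR
  set π := QuotientGroup.mk' (Z.subgroupOf R) with hπ
  have hπ1 : ∀ {g : R}, π g = 1 ↔ (g : G) ∈ Z := fun {g} => QuotientGroup.eq_one_iff g
  set x' : R := ⟨x, hx⟩
  set a' : R := ⟨a, hER ha⟩
  set l := ⁅x, a⁆ with hl
  have hlL : l ∈ L := hRcomm x hx a ha
  set l' : R := ⟨l, hER (hLE.le hlL)⟩
  have hlc : ∀ g : R, ∀ u : R, (u : G) ∈ L → Commute (π g) (π u) := fun g u hu => by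
    refine commutatorElement_eq_one_iff_mul_comm.1 ?_
    rw [← map_commutatorElement]
    exact hπ1.2 (hLR g g.2 u hu)
  have hxa : π x' * π a' * (π x')⁻¹ = π l' * π a' := by
    rw [← map_inv, ← map_mul, ← map_mul, ← map_mul]
    refine congrArg π (Subtype.ext ?_)
    show x * a * x⁻¹ = ⁅x, a⁆ * a
    rw [commutatorElement_def]; group
  have hlZ : l ∉ Z := by
    intro h
    refine hxD (hN x hx fun e he => ?_)
    obtain ⟨i, u, hu, rfl⟩ := hEdec e he
    have h1 : Commute (π x') (π a') := mul_inv_eq_iff_eq_mul.1 (by rw [hxa, (hπ1 (g := l')).2 h, one_mul])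
    have h2 : π ⁅x', (⟨u, hER (hLE.le hu)⟩ : R) * a' ^ i⁆ = 1 := by
      rw [map_commutatorElement, map_mul, map_pow, commutatorElement_eq_one_iff_mul_comm]
      exact ((hlc x' ⟨u, hER (hLE.le hu)⟩ hu).mul_right (h1.pow_right i)).eq
    exact hπ1.1 h2
  have hLsup : Z ⊔ zpowers l = L := by
    refine Subgroup.eq_of_le_of_card_ge (sup_le hZL (Subgroup.zpowers_le.2 hlL)) ?_
    rw [hLc]
    exact sq_le_card_sup hZp (hexp l (hLE.le hlL)) hlZ
      (hR.to_le ((sup_le hZL (Subgroup.zpowers_le.2 hlL)).trans (hLE.le.trans hER)))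
  have hLdec : ∀ (u : G) (hu : u ∈ L), ∃ i : ℕ, π ⟨u, hER (hLE.le hu)⟩ = π l' ^ i := by
    intro u hu
    obtain ⟨z, hz, y, hy, hzy⟩ := (Coprime.mem_sup_iff_of_le_normalizer' (H := zpowers l) (N := Z)
      ((Subgroup.zpowers_le.2 (hER (hLE.le hlL))).trans hZR)).1 (by rw [sup_comm, hLsup]; exact hu)
    obtain ⟨i, hi⟩ := (isOfFinOrder_of_finite l).mem_powers_iff_mem_zpowers.2 hy
    refine ⟨i, ?_⟩
    rw [show (⟨u, hER (hLE.le hu)⟩ : R) = ⟨z, hER (hZE hz)⟩ * l' ^ i from
      Subtype.ext (by show u = z * l ^ i; exact hzy.symm.trans (congrArg (z * ·) hi.symm)), map_mul, (hπ1 (g := ⟨z, hER (hZE hz)⟩)).2 hz, one_mul, map_pow]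
  have hRdec : ∀ r ∈ R, ∃ s : ℕ, ∃ d ∈ D, r = x ^ s * d := by
    intro r hr'
    obtain ⟨s, hs⟩ := hLdec _ (hRcomm r hr' a ha)
    refine ⟨s, (x ^ s)⁻¹ * r, hN _ (R.mul_mem (R.inv_mem (R.pow_mem hx s)) hr') fun e he => ?_, by group⟩
    set r'' : R := ⟨r, hr'⟩
    set g : R := (x' ^ s)⁻¹ * r''
    have h1 : π r'' * π a' * (π r'')⁻¹ = π l' ^ s * π a' := by
      rw [← hs, ← map_inv, ← map_mul, ← map_mul, ← map_mul]
      refine congrArg π (Subtype.ext ?_)
      show r * a * r⁻¹ = ⁅r, a⁆ * a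
      rw [commutatorElement_def]; group
    have h2 := conj_pow_translate hxa (hlc x' l' hlL) s
    have hga : Commute (π g) (π a') := by
      have : π g * π a' * (π g)⁻¹ = π a' := by
        calc π g * π a' * (π g)⁻¹ = (π x' ^ s)⁻¹ * (π r'' * π a' * (π r'')⁻¹) * π x' ^ s := by
              rw [show π g = (π x' ^ s)⁻¹ * π r'' by rw [map_mul, map_inv, map_pow]]; group
          _ = π a' := by rw [h1, ← h2]; group
      exact mul_inv_eq_iff_eq_mul.1 this
    obtain ⟨i, u, hu, rfl⟩ := hEdec e he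
    have h3 : π ⁅g, (⟨u, hER (hLE.le hu)⟩ : R) * a' ^ i⁆ = 1 := by
      rw [map_commutatorElement, map_mul π ⟨u, hER (hLE.le hu)⟩ (a' ^ i), map_pow π a' i,
        commutatorElement_eq_one_iff_mul_comm]
      exact ((hlc g ⟨u, hER (hLE.le hu)⟩ hu).mul_right (hga.pow_right i)).eq
    exact hπ1.1 h3
  -- `x ^ p ∈ C`
  have hw₁ : ⁅x, l⁆ ∈ Z := hLR x hx l hlL
  have hxl : x * l * x⁻¹ = ⁅x, l⁆ * l := by rw [commutatorElement_def]; group
  have hxpl : x ^ p * l * (x ^ p)⁻¹ = l := by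
    rw [conj_pow_translate hxl (hzcomm x hx _ hw₁) p, hexp _ hw₁.1, one_mul]
  have hxpa : x ^ p * a * (x ^ p)⁻¹ = a := by
    have h1 : x * a * x⁻¹ = l * a := by rw [hl, commutatorElement_def]; group
    have h2 : ∀ n : ℕ, x ^ n * a * (x ^ n)⁻¹ = ⁅x, l⁆ ^ n.choose 2 * l ^ n * a := by
      intro n
      induction n with
      | zero => simp
      | succ n ih =>
        have e1 : x * ⁅x, l⁆ ^ n.choose 2 * x⁻¹ = ⁅x, l⁆ ^ n.choose 2 := by
          rw [((hzcomm x hx _ hw₁).pow_right _).eq, mul_inv_cancel_right]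
        have e2 : x * l ^ n * x⁻¹ = ⁅x, l⁆ ^ n * l ^ n := by
          rw [← conj_pow, hxl, (hzcomm l (hER (hLE.le hlL)) _ hw₁).symm.mul_pow]
        calc x ^ (n + 1) * a * (x ^ (n + 1))⁻¹ = x * (x ^ n * a * (x ^ n)⁻¹) * x⁻¹ := by rw [pow_succ']; group
          _ = (x * ⁅x, l⁆ ^ n.choose 2 * x⁻¹) * (x * l ^ n * x⁻¹) * (x * a * x⁻¹) := by rw [ih]; group
          _ = ⁅x, l⁆ ^ n.choose 2 * (⁅x, l⁆ ^ n * l ^ n) * (l * a) := by rw [e1, e2, h1]
          _ = _ := by
            rw [Nat.choose_succ_succ, Nat.choose_one_right, add_comm n, pow_add, pow_succ l]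
            simp only [mul_assoc]
    rw [h2 p, hexp l (hLE.le hlL), mul_one]
    obtain ⟨m, hm⟩ := choose_two_dvd hp
    rw [hm, pow_mul, hexp _ hw₁.1, one_pow, one_mul]
  have hxpC : x ^ p ∈ C := by
    refine ⟨R.pow_mem hx p, Subgroup.mem_centralizer_iff.2 fun e he => ?_⟩
    obtain ⟨i, u, hu, rfl⟩ := hEdec e he
    obtain ⟨z, hz, y, hy, hzy⟩ := (Coprime.mem_sup_iff_of_le_normalizer' (H := zpowers l) (N := Z) (x := u)
      ((Subgroup.zpowers_le.2 (hER (hLE.le hlL))).trans hZR)).1 (by rw [sup_comm, hLsup]; exact hu)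
    obtain ⟨n, hn⟩ := hy
    have c1 : Commute z (x ^ p) := (hzcomm _ (R.pow_mem hx p) z hz).symm
    have c2 : Commute l (x ^ p) := (mul_inv_eq_iff_eq_mul.1 hxpl).symm
    have c3 : Commute a (x ^ p) := (mul_inv_eq_iff_eq_mul.1 hxpa).symm
    rw [← hzy, ← hn]
    exact ((c1.mul_left (c2.zpow_left n)).mul_left (c3.pow_left i)).eq
  -- `C = ⟨x ^ p⟩`
  obtain ⟨c₀, hc₀⟩ := (isCyclic_iff_exists_zpowers_eq_top (α := C)).1 hCcyc
  obtain ⟨t, ht⟩ : ∃ t : ℕ, (c₀ : G) ^ t = x ^ p := by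
    have hm : (⟨x ^ p, hxpC⟩ : C) ∈ zpowers c₀ := hc₀ ▸ Subgroup.mem_top _
    obtain ⟨t, ht⟩ := (isOfFinOrder_of_finite c₀).mem_powers_iff_mem_zpowers.2 hm
    exact ⟨t, congrArg Subtype.val ht⟩
  have hpt : ¬ p ∣ t := by
    rintro ⟨m, rfl⟩
    set c : G := (c₀ : G) ^ m
    have hcC : c ∈ C := C.pow_mem c₀.2 m
    have hcp : c ^ p = x ^ p := by rw [← ht, ← pow_mul, mul_comm]
    set γ := ⁅x, c⁻¹⁆ with hγ
    have hxc : x * c⁻¹ * x⁻¹ = γ * c⁻¹ := by rw [hγ, commutatorElement_def]; group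
    have hxnC : x ∈ normalizer (C : Set G) :=
      Coprime.le_normalizer_inf_of_le Subgroup.le_normalizer (Coprime.le_normalizer_centralizer hRE) hx
    have hγC : γ ∈ C := by
      rw [hγ, commutatorElement_def, inv_inv]
      exact C.mul_mem ((Subgroup.mem_normalizer_iff.1 hxnC _).1 (C.inv_mem hcC)) hcC
    have hcomm : Commute γ c⁻¹ :=
      congrArg Subtype.val (hCcyc.commGroup.mul_comm (⟨γ, hγC⟩ : C) ⟨c⁻¹, C.inv_mem hcC⟩)
    have hγp : γ ^ p = 1 := by
      have h4 : (γ * c⁻¹) ^ p = (c⁻¹) ^ p := by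
        rw [← hxc, conj_pow, inv_pow, hcp, ((Commute.refl x).pow_right p).inv_right.eq, mul_inv_cancel_right]
      rwa [hcomm.mul_pow, mul_eq_right] at h4
    have hγZ := hCZ γ hγC hγp
    have hy : (c⁻¹ * x) ^ p = 1 := by
      obtain ⟨q, hq⟩ := choose_two_dvd hp
      rw [mul_pow_translate hxc (hzcomm x hx γ hγZ) (hzcomm _ (hCR (C.inv_mem hcC)) γ hγZ) p, hq, pow_mul,
        hγp, one_pow, one_mul, inv_pow, hcp, inv_mul_cancel]
    refine hxD ?_
    rw [show x = c * (c⁻¹ * x) by group]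
    exact D.mul_mem (Subgroup.mem_sup_right hcC)
      (Subgroup.mem_sup_left (hmemE _ (R.mul_mem (R.inv_mem (hCR hcC)) hx) hy))
  have hCgen : C ≤ zpowers (x ^ p) := by
    intro c hc
    have hm : (⟨c, hc⟩ : C) ∈ zpowers c₀ := hc₀ ▸ Subgroup.mem_top _
    obtain ⟨n, hn⟩ := hm
    obtain ⟨k, hk⟩ := (hR.to_le hCR) c₀
    obtain ⟨s, hs⟩ := exists_pow_eq_self_of_coprime (n := t) (x := (c₀ : G))
      (((hpp.coprime_iff_not_dvd.2 hpt).symm.pow_right k).coprime_dvd_right
        (orderOf_dvd_of_pow_eq_one (by simpa using congrArg Subtype.val hk)))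
    have hn' : (c₀ : G) ^ n = c := congrArg Subtype.val hn
    rw [← hn', ← hs, ht]
    exact Subgroup.zpow_mem _ (Subgroup.pow_mem _ (Subgroup.mem_zpowers _) s) n
  have hCcen : ∀ c ∈ C, ∀ r ∈ R, Commute r c := by
    intro c hc r hr'
    obtain ⟨s, d, hd, rfl⟩ := hRdec r hr'
    obtain ⟨n, hn⟩ := hCgen hc
    have h1 : Commute x c := by rw [← hn]; exact ((Commute.refl x).pow_right p).zpow_right n
    obtain ⟨c', hc', e, he, rfl⟩ := (Coprime.mem_sup_iff_of_le_normalizer (H := C) (N := E) hEnC).1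
      (by rw [sup_comm]; exact hd)
    exact (h1.pow_left s).mul_left (Commute.mul_left
      (congrArg Subtype.val (hCcyc.commGroup.mul_comm (⟨c', hc'⟩ : C) ⟨c, hc⟩)) (hEC e he c hc))
  -- `R' ≤ L`
  haveI : (L.subgroupOf R).Normal := Coprime.normal_subgroupOf_of_le_normalizer hLn
  set ρ := QuotientGroup.mk' (L.subgroupOf R) with hρ
  have hρ1 : ∀ {g : R}, ρ g = 1 ↔ (g : G) ∈ L := fun {g} => QuotientGroup.eq_one_iff g
  have hρD : ∀ g h : R, (h : G) ∈ D → Commute (ρ g) (ρ h) := fun g h hh => by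
    obtain ⟨c', hc', e, he, hce⟩ := (Coprime.mem_sup_iff_of_le_normalizer (H := C) (N := E) hEnC).1
      (by rw [sup_comm]; exact hh)
    rw [show h = ⟨c', hCR hc'⟩ * ⟨e, hER he⟩ from Subtype.ext hce.symm, map_mul]
    refine Commute.mul_right ?_ ?_
    · exact (show Commute g (⟨c', hCR hc'⟩ : R) from Subtype.ext (hCcen c' hc' g g.2).eq).map ρ
    · refine commutatorElement_eq_one_iff_mul_comm.1 ?_
      rw [← map_commutatorElement]
      exact hρ1.2 (hRcomm g g.2 e he)
  have hρx : ∀ g : R, Commute (ρ g) (ρ x') := fun g => by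
    obtain ⟨s, d, hd, hg⟩ := hRdec g g.2
    rw [show g = x' ^ s * ⟨d, hDR hd⟩ from Subtype.ext (by simpa using hg), map_mul, map_pow]
    exact ((Commute.refl _).pow_left s).mul_left (hρD x' ⟨d, hDR hd⟩ hd).symm
  have hab : ∀ g h : R, Commute (ρ g) (ρ h) := fun g h => by
    obtain ⟨s, d, hd, hh⟩ := hRdec h h.2
    rw [show h = x' ^ s * ⟨d, hDR hd⟩ from Subtype.ext (by simpa using hh), map_mul, map_pow]
    exact ((hρx g).pow_right s).mul_right (hρD g ⟨d, hDR hd⟩ hd)
  have hRR : ⁅R, R⁆ ≤ L := Subgroup.commutator_le.2 fun g hg h hh => by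
    have h1 : ρ ⁅(⟨g, hg⟩ : R), ⟨h, hh⟩⁆ = 1 := by
      rw [map_commutatorElement, commutatorElement_eq_one_iff_mul_comm]
      exact (hab _ _).eq
    exact hρ1.1 h1
  have hreg : IsRegularPGroup p R := PGroup.isRegularPGroup_of_class_three hR (Or.inr ⟨h3, by
    apply Subgroup.map_injective R.subtype_injective
    rw [Subgroup.map_commutator, Subgroup.map_commutator, Subgroup.map_subtype_commutator,
      ← MonoidHom.range_eq_map, Subgroup.range_subtype, Subgroup.map_bot, eq_bot_iff]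
    refine (Subgroup.commutator_mono (Subgroup.commutator_mono hRR le_rfl) le_rfl).trans ?_
    have h1 : ⁅L, R⁆ ≤ Z := Subgroup.commutator_le.2 fun u hu r hr' => by
      have := Z.inv_mem (hLR r hr' u hu)
      rwa [commutatorElement_inv] at this
    refine (Subgroup.commutator_mono h1 le_rfl).trans (le_of_eq ?_)
    exact Coprime.le_centralizer_iff_commutator_eq_bot.1 hRZ⟩)
  have hφ : ∀ g ∈ R, ∀ h ∈ R, (g * h) ^ p = g ^ p * h ^ p := by
    intro g hg h hh
    obtain ⟨c, hc, hcgh⟩ := hreg.2 ⟨g, hg⟩ ⟨h, hh⟩ 1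
    have hc1 : c = 1 := by
      rw [← Subgroup.mem_bot]
      revert hc c
      intro c hc _
      refine (Subgroup.closure_le ⊥).2 ?_ hc
      rintro _ ⟨y, hy, rfl⟩
      have : (y : G) ∈ ⁅R, R⁆ := by
        have := Subgroup.mem_map_of_mem R.subtype ((Subgroup.commutator_mono le_top le_top) hy)
        rwa [Subgroup.map_commutator, ← MonoidHom.range_eq_map, Subgroup.range_subtype] at this
      rw [SetLike.mem_coe, Subgroup.mem_bot]
      exact Subtype.ext (by rw [pow_one]; exact hexp _ (hLE.le (hRR this)))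
    rw [hc1, mul_one, pow_one] at hcgh
    exact congrArg Subtype.val hcgh
  have hl'1 : π l' ≠ 1 := fun h => hlZ (hπ1.1 h)
  have hl'o : orderOf (π l') = p := orderOf_eq_prime (by
    rw [← map_pow]; exact hπ1.2 (by simp [l', hexp l (hLE.le hlL)])) hl'1
  set w := ⁅a, l⁆ with hwd
  have hwZ : w ∈ Z := hLR a (hER ha) l hlL
  have hw1 : w ≠ 1 := fun h => by
    refine hEnc (PGroup.isMulCommutative_of_forall fun e he e' he' => ?_)
    obtain ⟨i, u, hu, rfl⟩ := hEdec e he
    obtain ⟨i', u', hu', rfl⟩ := hEdec e' he'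
    have hal : ∀ v ∈ L, Commute a v := fun v hv => by
      obtain ⟨z, hz, y, hy, hzy⟩ := (Coprime.mem_sup_iff_of_le_normalizer' (H := zpowers l) (N := Z) (x := v)
        ((Subgroup.zpowers_le.2 (hER (hLE.le hlL))).trans hZR)).1 (by rw [sup_comm, hLsup]; exact hv)
      obtain ⟨n, hn⟩ := hy
      rw [← hzy, ← hn]
      exact (hzcomm a (hER ha) z hz).mul_right (Commute.zpow_right (show Commute a l from commutatorElement_eq_one_iff_mul_comm.1 h) n)
    have c1 : Commute u u' := hLab u hu u' hu'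
    exact ((c1.mul_right ((hal u hu).symm.pow_right i')).mul_left
      (((hal u' hu').pow_left i).mul_right ((Commute.refl a).pow_pow i i'))).eq
  have hfixed : ∀ v ∈ A, ⁅v, a⁆ ∈ L := by
    intro v hv
    have hvE : ∀ e ∈ E, v * e * v⁻¹ ∈ E := fun e he => (Subgroup.mem_normalizer_iff.1 (hAE hv) e).1 he
    have hvR : ∀ g ∈ R, v * g * v⁻¹ ∈ R := fun g hg => (Subgroup.mem_normalizer_iff.1 (hA hv) g).1 hg
    have hALn : v ∈ normalizer (L : Set G) := Coprime.mem_normalizer_of_conj_smul_eq (by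
      show Subgroup.map (MulAut.conj v).toMonoidHom ⁅E, R⁆ = _
      rw [Subgroup.map_commutator]
      exact congrArg₂ (fun X Y => ⁅X, Y⁆) (Coprime.conj_smul_eq_self_of_mem (hAE hv))
        (Coprime.conj_smul_eq_self_of_mem (hA hv)))
    have hvL : ∀ u ∈ L, v * u * v⁻¹ ∈ L := fun u hu => (Subgroup.mem_normalizer_iff.1 hALn u).1 hu
    obtain ⟨i, u, hu, hva⟩ := hEdec _ (hvE a ha)
    obtain ⟨k, d, hd, hvx⟩ := hRdec _ (hvR x hx)
    obtain ⟨j, hvl⟩ := hLdec _ (hvL l hlL)
    -- `v` on `l` modulo `Z`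
    have hlki : π l' ^ j = π l' ^ (k * i) := by
      rw [← hvl]
      set dd : R := ⟨d, hDR hd⟩
      set uu : R := ⟨u, hER (hLE.le hu)⟩
      have e0 : (⟨v * l * v⁻¹, hER (hLE.le (hvL l hlL))⟩ : R) = ⁅x' ^ k * dd, uu * a' ^ i⁆ := Subtype.ext (by
        show v * l * v⁻¹ = ⁅x ^ k * d, u * a ^ i⁆
        rw [← hvx, ← hva, hl]
        simp only [commutatorElement_def]; group)
      rw [e0, map_commutatorElement, map_mul, map_mul, map_pow, map_pow]
      have c1 : Commute (π dd) (π uu) := hlc _ _ hu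
      have c2 : Commute (π dd) (π a') := by
        obtain ⟨c', hc', e, he, hce⟩ := (Coprime.mem_sup_iff_of_le_normalizer (H := C) (N := E) hEnC).1
          (by rw [sup_comm]; exact hd)
        rw [show dd = ⟨c', hCR hc'⟩ * ⟨e, hER he⟩ from Subtype.ext hce.symm, map_mul]
        refine Commute.mul_left ?_ ?_
        · exact (show Commute (⟨c', hCR hc'⟩ : R) a' from Subtype.ext (hEC a ha c' hc').symm).map π
        · refine commutatorElement_eq_one_iff_mul_comm.1 ?_
          rw [← map_commutatorElement]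
          exact hπ1.2 (hEE ▸ Subgroup.commutator_mem_commutator he ha)
      have c3 : Commute (π x' ^ k) (π uu) := (hlc x' uu hu).pow_left k
      have hcl : Commute (π l' ^ k) (π a') := ((hlc a' l' hlL).pow_right k).symm
      have h5 : π x' ^ k * π a' ^ i * (π x' ^ k)⁻¹ = π l' ^ (k * i) * π a' ^ i := by
        rw [← conj_pow, conj_pow_translate hxa (hlc x' l' hlL) k, hcl.mul_pow, ← pow_mul]
      have hd5 : π dd * (π uu * π a' ^ i) * (π dd)⁻¹ = π uu * π a' ^ i := by
        rw [(c1.mul_right (c2.pow_right i)).eq, mul_inv_cancel_right]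
      calc ⁅π x' ^ k * π dd, π uu * π a' ^ i⁆
          = π x' ^ k * (π dd * (π uu * π a' ^ i) * (π dd)⁻¹) * (π x' ^ k)⁻¹ * (π uu * π a' ^ i)⁻¹ := by
            simp only [commutatorElement_def]; group
        _ = (π x' ^ k * π uu) * π a' ^ i * (π x' ^ k)⁻¹ * (π uu * π a' ^ i)⁻¹ := by rw [hd5]; group
        _ = π uu * (π x' ^ k * π a' ^ i * (π x' ^ k)⁻¹) * (π uu * π a' ^ i)⁻¹ := by rw [c3.eq]; group
        _ = π uu * π l' ^ (k * i) * (π uu)⁻¹ := by rw [h5]; group
        _ = π l' ^ (k * i) := by rw [((hlc uu l' hlL).pow_right _).eq, mul_inv_cancel_right]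
    -- `v` on `w`
    have hwij : v * w * v⁻¹ = w ^ (i * j) := by
      obtain ⟨z, hz, hvl'⟩ : ∃ z ∈ Z, v * l * v⁻¹ = z * l ^ j := by
        refine ⟨v * l * v⁻¹ * (l ^ j)⁻¹, ?_, by group⟩
        have : π (⟨v * l * v⁻¹, hER (hLE.le (hvL l hlL))⟩ * (l' ^ j)⁻¹) = 1 := by
          rw [map_mul, hvl, map_inv, map_pow, mul_inv_cancel]
        exact hπ1.1 this
      have haR : ∀ n : ℕ, a ^ n ∈ R := fun n => R.pow_mem (hER ha) n
      have h1 : a * l * a⁻¹ = w * l := by rw [hwd, commutatorElement_def]; group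
      have h2 : a ^ i * l ^ j * (a ^ i)⁻¹ = w ^ (i * j) * l ^ j := by
        rw [← conj_pow, conj_pow_translate h1 (hzcomm a (hER ha) w hwZ) i,
          ((hzcomm l (hER (hLE.le hlL)) w hwZ).pow_right i).symm.mul_pow, ← pow_mul]
      have cz : ∀ g ∈ R, Commute g z := fun g hg => hzcomm g hg z hz
      have h3' : v * w * v⁻¹ = ⁅u * a ^ i, z * l ^ j⁆ := by
        rw [← hva, ← hvl', hwd]; simp only [commutatorElement_def]; group
      rw [h3']
      have cu : Commute u (w ^ (i * j) * l ^ j) :=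
        (((hzcomm u (hER (hLE.le hu)) w hwZ).pow_right _).mul_right
          (Commute.pow_right (show Commute u l from hLab u hu l hlL) j))
      have cz' : u * a ^ i * z * (u * a ^ i)⁻¹ = z := by
        rw [(cz _ (R.mul_mem (hER (hLE.le hu)) (haR i))).eq, mul_inv_cancel_right]
      calc ⁅u * a ^ i, z * l ^ j⁆ = (u * a ^ i * z * (u * a ^ i)⁻¹) * (u * (a ^ i * l ^ j * (a ^ i)⁻¹) * u⁻¹) * (z * l ^ j)⁻¹ := by
            simp only [commutatorElement_def]; group
        _ = z * (w ^ (i * j) * l ^ j) * (z * l ^ j)⁻¹ := by rw [cz', h2, cu.eq, mul_inv_cancel_right]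
        _ = (z * w ^ (i * j)) * z⁻¹ := by group
        _ = w ^ (i * j) := by rw [((cz w (hER (hZE hwZ))).pow_left _).symm.eq, mul_inv_cancel_right]
    -- `v` on `C`
    obtain ⟨m, hm⟩ : ∃ m : ℤ, d ^ p = (x ^ p) ^ ((p : ℤ) * m) := by
      obtain ⟨c', hc', e, he, rfl⟩ := (Coprime.mem_sup_iff_of_le_normalizer (H := C) (N := E) hEnC).1
        (by rw [sup_comm]; exact hd)
      obtain ⟨m, hm⟩ := hCgen hc'
      refine ⟨m, ?_⟩
      rw [hφ c' (hCR hc') e (hER he), hexp e he, mul_one, ← hm]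
      show ((x ^ p) ^ m) ^ p = _
      rw [← zpow_natCast ((x ^ p) ^ m) p, ← zpow_mul, mul_comm]
    have hwk : v * w * v⁻¹ = w ^ k := by
      obtain ⟨n, hn⟩ := hCgen (hZC hwZ)
      have hn' : (x ^ p) ^ n = w := hn
      have h1 : v * x ^ p * v⁻¹ = (x ^ p) ^ ((k : ℤ) + (p : ℤ) * m) := by
        rw [← conj_pow, hvx, hφ _ (R.pow_mem hx k) _ (hDR hd), hm, zpow_add, zpow_natCast, ← pow_mul, ← pow_mul,
          mul_comm k p]
      conv_lhs => rw [← hn']
      rw [← conj_zpow, h1, ← zpow_mul, mul_comm, zpow_mul, hn', zpow_add, zpow_natCast, zpow_mul,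
        zpow_natCast, hexp w hwZ.1, one_zpow, mul_one]
    have hwo : orderOf w = p := orderOf_eq_prime (hexp w hwZ.1) hw1
    have he1 : ((i * j : ℕ) : ZMod p) = (k : ZMod p) := by
      rw [ZMod.natCast_eq_natCast_iff, ← hwo]
      exact pow_eq_pow_iff_modEq.1 (hwij.symm.trans hwk)
    have he2 : ((j : ℕ) : ZMod p) = ((k * i : ℕ) : ZMod p) := by
      rw [ZMod.natCast_eq_natCast_iff, ← hl'o]
      exact pow_eq_pow_iff_modEq.1 hlki
    push_cast at he1 he2
    have hk0 : (k : ZMod p) ≠ 0 := fun h => by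
      obtain ⟨q, rfl⟩ := (ZMod.natCast_eq_zero_iff _ _).1 h
      have : v * w * v⁻¹ = 1 := by rw [hwk, pow_mul, hexp w hwZ.1, one_pow]
      exact hw1 (by simpa using this)
    have hii : (i : ZMod p) = 1 ∨ (i : ZMod p) = -1 := by
      have h6 : ((i : ZMod p) - 1) * ((i : ZMod p) + 1) = 0 := by
        rw [he2] at he1
        exact (mul_eq_zero.1 (show (k : ZMod p) * (((i : ZMod p) - 1) * ((i : ZMod p) + 1)) = 0 by
          linear_combination he1)).resolve_left hk0
      rcases mul_eq_zero.1 h6 with h7 | h7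
      · exact Or.inl (sub_eq_zero.1 h7)
      · exact Or.inr (eq_neg_of_add_eq_zero_left h7)
    have hva' : ∀ n : ℕ, v ^ n * a * (v ^ n)⁻¹ * (a ^ i ^ n)⁻¹ ∈ L := by
      intro n
      induction n with
      | zero => simpa using L.one_mem
      | succ n ih =>
        have hu' : v * (v ^ n * a * (v ^ n)⁻¹ * (a ^ i ^ n)⁻¹) * v⁻¹ ∈ L := hvL _ ih
        have h7 : (v * a * v⁻¹) ^ i ^ n * (a ^ i ^ (n + 1))⁻¹ ∈ L := by
          rw [hva]
          have : ρ (⟨u, hER (hLE.le hu)⟩ * a' ^ i) = ρ a' ^ i := by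
            rw [map_mul, (hρ1 (g := ⟨u, hER (hLE.le hu)⟩)).2 hu, one_mul, map_pow]
          have h8 : ρ ((⟨u, hER (hLE.le hu)⟩ * a' ^ i) ^ i ^ n * (a' ^ i ^ (n + 1))⁻¹) = 1 := by
            rw [map_mul, map_pow, this, map_inv, map_pow, ← pow_mul, ← pow_succ', mul_inv_cancel]
          simpa [a'] using hρ1.1 h8
        have h9 := L.mul_mem hu' h7
        refine (congrArg (· ∈ L) ?_).mp h9
        rw [conj_pow, pow_succ' v]; group
    have hord : v ^ orderOf v = 1 := pow_orderOf_eq_one v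
    have hai : a ^ i * a⁻¹ ∈ L → ⁅v, a⁆ ∈ L := fun h => by
      rw [commutatorElement_def, hva, show u * a ^ i * a⁻¹ = u * (a ^ i * a⁻¹) by group]
      exact L.mul_mem hu h
    have hcast : ∀ n m : ℕ, (n : ZMod p) = (m : ZMod p) → a ^ n = a ^ m := fun n m h => by
      refine pow_eq_pow_iff_modEq.2 ?_
      rw [orderOf_eq_prime (hexp a ha) fun e => haL (e ▸ L.one_mem)]
      exact (ZMod.natCast_eq_natCast_iff _ _ _).1 h
    rcases hii with h | h
    · refine hai ?_
      rw [hcast i 1 (by simpa using h), pow_one, mul_inv_cancel]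
      exact L.one_mem
    · exfalso
      have hodd : Odd (orderOf v) := hAodd.of_dvd_nat (Subgroup.orderOf_dvd_natCard A hv)
      have h10 := hva' (orderOf v)
      rw [hord, inv_one, mul_one, one_mul, hcast (i ^ orderOf v) (p - 1) (by
        push_cast
        rw [h, hodd.neg_one_pow, Nat.cast_sub hpp.one_le]
        simp)] at h10
      have h11 : a * a ∈ L := by
        have : (a ^ (p - 1))⁻¹ = a := by
          rw [inv_eq_iff_mul_eq_one, ← pow_succ, Nat.sub_add_cancel hpp.one_le]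
          exact hexp a ha
        rwa [this] at h10
      obtain ⟨s, hs⟩ := exists_pow_eq_self_of_coprime (n := 2) (x := a) (by
        rw [orderOf_eq_prime (hexp a ha) fun e => haL (e ▸ L.one_mem)]
        exact ((Nat.coprime_primes Nat.prime_two hpp).2 (Ne.symm hp)))
      exact haL (hs ▸ L.pow_mem (by rw [pow_two]; exact h11) s)
  -- contradiction with `R = [R, A]`
  set K := L ⊔ C with hK
  have hKR : K ≤ R := sup_le (hLE.le.trans hER) hCR
  have hAL : A ≤ normalizer (L : Set G) := fun v hv => Coprime.mem_normalizer_of_conj_smul_eq (by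
    show Subgroup.map (MulAut.conj v).toMonoidHom ⁅E, R⁆ = _
    rw [Subgroup.map_commutator]
    exact congrArg₂ (fun X Y => ⁅X, Y⁆) (Coprime.conj_smul_eq_self_of_mem (hAE hv))
      (Coprime.conj_smul_eq_self_of_mem (hA hv)))
  have hAK : A ≤ normalizer (K : Set G) := le_normalizer_sup' hAL
    (Coprime.le_normalizer_inf_of_le hA (Coprime.le_normalizer_centralizer hAE))
  have hRK : R ≤ normalizer (K : Set G) := le_normalizer_sup' hLn
    (Coprime.le_normalizer_inf_of_le Subgroup.le_normalizer (Coprime.le_normalizer_centralizer hRE))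
  set X := normalizer (K : Set G) with hX
  haveI : (K.subgroupOf X).Normal := Coprime.normal_subgroupOf_of_le_normalizer le_rfl
  set f := QuotientGroup.mk' (K.subgroupOf X) with hf
  have hf1 : ∀ {g : X}, f g = 1 ↔ (g : G) ∈ K := fun {g} => QuotientGroup.eq_one_iff g
  set V := (R.subgroupOf X).map f with hV
  set A' := (A.subgroupOf X).map f with hA'
  have hAV : A' ≤ normalizer (V : Set (↥X ⧸ K.subgroupOf X)) := by
    refine (Subgroup.map_mono ?_).trans (Subgroup.le_normalizer_map f)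
    intro g hg
    refine Subgroup.mem_normalizer_iff.2 fun y => ?_
    simp only [Subgroup.mem_subgroupOf]
    exact Subgroup.mem_normalizer_iff.1 (hA hg) y
  haveI : IsMulCommutative V := PGroup.isMulCommutative_of_forall fun y hy z hz => by
    obtain ⟨g, hg, rfl⟩ := hy
    obtain ⟨g', hg', rfl⟩ := hz
    rw [← commutatorElement_eq_one_iff_mul_comm, ← map_commutatorElement]
    exact hf1.2 (Subgroup.mem_sup_left (hRR (Subgroup.commutator_mem_commutator hg hg')))
  have hcopV : (Nat.card A').Coprime (Nat.card V) := by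
    obtain ⟨n, hn⟩ := ((hR.comap_subtype (K := X)).map f).exists_card_eq
    rw [show Nat.card V = p ^ n from hn]
    refine ((hcop.coprime_dvd_left ?_).pow_right n)
    exact (Subgroup.card_map_dvd _ _).trans (Coprime.card_subgroupOf (hAK)).dvd
  have hcomm : ⁅V, A'⁆ = V := by
    rw [hV, hA', ← Subgroup.map_commutator]
    congr 1
    apply Subgroup.map_injective X.subtype_injective
    rw [Subgroup.map_commutator, Subgroup.map_subgroupOf_eq_of_le hRK, Subgroup.map_subgroupOf_eq_of_le hAK, hRA]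
  have hbot := Coprime.inf_centralizer_inf_commutator_eq_bot hAV hcopV
  rw [hcomm, inf_right_comm, inf_idem] at hbot
  have hmem : f ⟨a, hRK (hER ha)⟩ ∈ V ⊓ centralizer (A' : Set (↥X ⧸ K.subgroupOf X)) := by
    refine ⟨⟨_, hER ha, rfl⟩, Subgroup.mem_centralizer_iff.2 ?_⟩
    rintro _ ⟨v, hv, rfl⟩
    rw [← commutatorElement_eq_one_iff_mul_comm, ← map_commutatorElement]
    exact hf1.2 (Subgroup.mem_sup_left (hfixed v hv))
  rw [hbot, Subgroup.mem_bot] at hmem
  have haK : a ∈ K := hf1.1 hmem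
  obtain ⟨c, hc, u, hu, hcu⟩ := (Coprime.mem_sup_iff_of_le_normalizer (H := C) (N := L)
    (hCR.trans hLn)).1 (by rw [sup_comm]; exact haK)
  have hcE : c ∈ E := by
    have := E.mul_mem ha (E.inv_mem (hLE.le hu))
    rwa [← hcu, mul_inv_cancel_right] at this
  exact haL (hcu ▸ L.mul_mem (hZL ⟨hcE, hc.2⟩) hu)

end Cfsg.Agent.RankTwoOperators
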