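import Cfsg.Agent.Lib.PGroup.NormalElementary
import Cfsg.Agent.Lib.PGroup.Class2
import Cfsg.Agent.Lib.OddOrder.ExponentLayer
import Mathlib.GroupTheory.Nilpotent

/-!
# p-groups of rank at least 3 with a maximal elementary abelian subgroup of order `p²` (BG 5.2)

`omegaCenter p R = Ω₁Z(R)`, `omegaTwo p R = Ω₁Z₂(R)`, `T = C_R(omegaTwo)`.
`exists_data`: `|Ω₁Z| = p`, `|Ω₁Z₂| = p²`, `T` characteristic of index `p`, and some `e` of order `p` outside
`T` centralises only `Ω₁Z` among the elements of order `p` of `T`.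
-/

set_option linter.style.haveILetI false
set_option linter.unusedSectionVars false

namespace Cfsg.Agent.MaxElementarySquare

open Cfsg
open Subgroup (centralizer zpowers)
open scoped commutatorElement

variable {R : Type*} [Group R] {p : ℕ}

/-- `Ω₁Z(R)`. -/
abbrev omegaCenter (p : ℕ) (R : Type*) [Group R] : Subgroup R :=
  Subgroup.closure {x : R | x ∈ Subgroup.center R ∧ x ^ p = 1}

/-- `Ω₁Z₂(R)`. -/
abbrev omegaTwo (p : ℕ) (R : Type*) [Group R] : Subgroup R :=
  Subgroup.closure {x : R | x ∈ Subgroup.upperCentralSeries R 2 ∧ x ^ p = 1}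

theorem mem_omegaCenter {x : R} : x ∈ omegaCenter p R ↔ x ∈ Subgroup.center R ∧ x ^ p = 1 := by
  refine ⟨fun h => ?_, fun h => Subgroup.subset_closure h⟩
  induction h using Subgroup.closure_induction with
  | mem x hx => exact hx
  | one => exact ⟨one_mem _, one_pow _⟩
  | mul a b _ _ ha hb =>
    exact ⟨mul_mem ha.1 hb.1,
      by rw [(show Commute a b from (Subgroup.mem_center_iff.1 ha.1 b).symm).mul_pow, ha.2, hb.2, one_mul]⟩
  | inv a _ ha => exact ⟨inv_mem ha.1, by rw [inv_pow, ha.2, inv_one]⟩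

theorem mem_upperCentralSeries_two {x : R} :
    x ∈ Subgroup.upperCentralSeries R 2 ↔ ∀ r : R, ⁅x, r⁆ ∈ Subgroup.center R := by
  rw [Subgroup.mem_upperCentralSeries_succ_iff, Subgroup.upperCentralSeries_one]

theorem commutator_mul_left_of_mem_center {a b w : R} (h : ⁅b, w⁆ ∈ Subgroup.center R) :
    ⁅a * b, w⁆ = ⁅a, w⁆ * ⁅b, w⁆ := by
  rw [show ⁅a * b, w⁆ = a * ⁅b, w⁆ * a⁻¹ * ⁅a, w⁆ by simp only [commutatorElement_def]; group,
    Subgroup.mem_center_iff.1 h a, mul_inv_cancel_right, (Subgroup.mem_center_iff.1 h ⁅a, w⁆)]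

theorem commutator_pow_eq_one' {w r : R} (h : ⁅w, r⁆ ∈ Subgroup.center R) (hw : w ^ p = 1) :
    ⁅w, r⁆ ^ p = 1 := by
  rw [← PGroup.commutator_pow_left h, hw, commutatorElement_one_left]

variable [Fact p.Prime]

theorem mem_omegaTwo (hp : p ≠ 2) {x : R} :
    x ∈ omegaTwo p R ↔ x ∈ Subgroup.upperCentralSeries R 2 ∧ x ^ p = 1 := by
  refine ⟨fun h => ?_, fun h => Subgroup.subset_closure h⟩
  induction h using Subgroup.closure_induction with
  | mem x hx => exact hx
  | one => exact ⟨one_mem _, one_pow _⟩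
  | mul a b _ _ ha hb =>
    have hc := mem_upperCentralSeries_two.1 hb.1 a
    refine ⟨mul_mem ha.1 hb.1, ?_⟩
    rw [PGroup.mul_pow_prime (Fact.out : p.Prime) hp hc (commutator_pow_eq_one' hc hb.2), ha.2, hb.2, one_mul]
  | inv a _ ha => exact ⟨inv_mem ha.1, by rw [inv_pow, ha.2, inv_one]⟩

theorem omegaTwo_characteristic : (omegaTwo p R).Characteristic := by
  refine Subgroup.characteristic_iff_map_le.2 fun φ => ?_
  rw [MonoidHom.map_closure, Subgroup.closure_le]
  rintro _ ⟨x, ⟨hx, hxp⟩, rfl⟩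
  refine Subgroup.subset_closure ⟨mem_upperCentralSeries_two.2 fun r => ?_, ?_⟩
  · rw [← φ.apply_symm_apply r]
    change ⁅φ x, φ (φ.symm r)⁆ ∈ _
    rw [← map_commutatorElement, Subgroup.mem_center_iff]
    intro g
    rw [← φ.apply_symm_apply g, ← map_mul, ← map_mul,
      Subgroup.mem_center_iff.1 (mem_upperCentralSeries_two.1 hx (φ.symm r)) (φ.symm g)]
  · show φ x ^ p = 1
    rw [← map_pow, hxp, map_one]

theorem centralizer_omegaTwo_characteristic :
    (centralizer ((omegaTwo p R : Subgroup R) : Set R)).Characteristic := by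
  refine Subgroup.characteristic_iff_map_le.2 fun φ => ?_
  rintro _ ⟨c, hc, rfl⟩
  refine Subgroup.mem_centralizer_iff.2 fun w hw => ?_
  have h2 : φ.symm w ∈ omegaTwo p R :=
    (Subgroup.characteristic_iff_map_le.1 omegaTwo_characteristic φ.symm) ⟨w, hw, rfl⟩
  have h3 := congrArg φ (Subgroup.mem_centralizer_iff.1 hc _ h2)
  simp only [map_mul, MulEquiv.apply_symm_apply] at h3
  exact h3

variable [Finite R]

theorem exists_data (hp : p ≠ 2) (hR : IsPGroup p R) (hr : ¬ PRankLE p 2 R) {E : Subgroup R}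
    (hE : IsElementaryAbelian p E) (hE2 : Nat.card E = p ^ 2)
    (hEmax : ∀ B : Subgroup R, IsElementaryAbelian p B → E ≤ B → B = E) :
    Nat.card (omegaCenter p R) = p ∧
      (IsElementaryAbelian p (omegaTwo p R) ∧ Nat.card (omegaTwo p R) = p ^ 2) ∧
      ¬ E ≤ centralizer ((omegaTwo p R : Subgroup R) : Set R) ∧
      (centralizer ((omegaTwo p R : Subgroup R) : Set R)).index = p ∧
      omegaCenter p R ≤ E ∧
      ∃ e : R, e ∈ E ∧ e ^ p = 1 ∧ e ∉ centralizer ((omegaTwo p R : Subgroup R) : Set R) ∧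
        ∀ y ∈ centralizer ((omegaTwo p R : Subgroup R) : Set R), y ^ p = 1 → Commute y e →
          y ∈ omegaCenter p R := by
  have hpp : p.Prime := Fact.out
  set Z := omegaCenter p R with hZ
  set W := omegaTwo p R with hW
  set T := centralizer ((W : Subgroup R) : Set R) with hT
  have hmaxc : ∀ z : R, z ^ p = 1 → (∀ a ∈ E, a * z = z * a) → z ∈ E := fun z hz hc => by
    have h1 := OddOrder.isElementaryAbelian_sup hE (OddOrder.isElementaryAbelian_zpowers hz)
      (Subgroup.zpowers_le.2 (Subgroup.mem_centralizer_iff.2 hc))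
    exact (hEmax _ h1 le_sup_left).le (Subgroup.mem_sup_right (Subgroup.mem_zpowers z))
  obtain ⟨U, -, hUn, hU, hU3⟩ := PGroup.exists_normal_elementary_cube_ge (E := (⊥ : Subgroup R)) hp hR hr
    PGroup.isElementaryAbelian_bot
  have hlt : p ^ 2 < p ^ 3 := Nat.pow_lt_pow_right hpp.one_lt (by norm_num)
  have hplt : p < p ^ 2 := by
    calc p = p ^ 1 := (pow_one p).symm
      _ < p ^ 2 := Nat.pow_lt_pow_right hpp.one_lt (by norm_num)
  -- some element of `E` is not central
  obtain ⟨e, heE, hec⟩ : ∃ e ∈ E, e ∉ Subgroup.center R := by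
    by_contra hcon
    push Not at hcon
    have hUE : U ≤ E := fun u hu =>
      hmaxc u (hU.2 u hu) fun a ha => ((Subgroup.mem_center_iff.1 (hcon a ha)) u).symm
    exact absurd (hU3.trans ((Subgroup.card_le_of_le hUE).trans hE2.le)) hlt.not_ge
  have hep : e ^ p = 1 := hE.2 e heE
  have he1 : e ≠ 1 := fun h => hec (h ▸ one_mem _)
  have hZE : Z ≤ E := fun z hz =>
    hmaxc z (mem_omegaCenter.1 hz).2 fun a _ => Subgroup.mem_center_iff.1 (mem_omegaCenter.1 hz).1 a
  have hZp : Nat.card Z = p := by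
    obtain ⟨k, hk⟩ := (hR.to_subgroup Z).exists_card_eq
    have hlt2 : k < 2 := by
      refine (Nat.pow_lt_pow_iff_right hpp.one_lt).1 ?_
      rw [← hk, ← hE2]
      exact lt_of_le_of_ne (Subgroup.card_le_of_le hZE) fun h =>
        hec (mem_omegaCenter.1 ((Subgroup.eq_of_le_of_card_ge hZE h.ge).ge heE)).1
    haveI : Nontrivial R := ⟨e, 1, he1⟩
    haveI := hR.center_nontrivial
    obtain ⟨j, hj⟩ := (hR.to_subgroup (Subgroup.center R)).exists_card_eq
    have h1 := Finite.one_lt_card (α := Subgroup.center R)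
    have hj0 : j ≠ 0 := fun h => by rw [hj, h, pow_zero] at h1; omega
    obtain ⟨z, hz⟩ := exists_prime_orderOf_dvd_card' p (hj ▸ dvd_pow_self p hj0)
    have hzZ : (z : R) ∈ Z := mem_omegaCenter.2 ⟨z.2, by
      rw [← Subgroup.coe_pow, ← hz, pow_orderOf_eq_one, Subgroup.coe_one]⟩
    interval_cases k
    · rw [pow_zero, Subgroup.card_eq_one] at hk
      rw [hk, Subgroup.mem_bot] at hzZ
      rw [show z = 1 from Subtype.ext hzZ, orderOf_one] at hz
      exact absurd hz hpp.ne_one.symm
    · rw [hk, pow_one]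
  have hEeq : ∀ a ∈ E, a ∉ Z → zpowers a ⊔ Z = E := fun a ha haZ => by
    refine Subgroup.eq_of_le_of_card_ge (sup_le (Subgroup.zpowers_le.2 ha) hZE) ?_
    obtain ⟨k, hk⟩ := (hR.to_subgroup (zpowers a ⊔ Z)).exists_card_eq
    rw [hE2, hk]
    refine Nat.pow_le_pow_right hpp.pos ?_
    by_contra hk2
    refine haZ ((Subgroup.eq_of_le_of_card_ge (le_sup_right : Z ≤ zpowers a ⊔ Z) ?_).ge
      (Subgroup.mem_sup_left (Subgroup.mem_zpowers a)))
    rw [hZp, hk]
    exact (Nat.pow_le_pow_right hpp.pos (by omega : k ≤ 1)).trans (pow_one p).le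
  -- elements of order p commuting with `e` lie in `E`
  have hcomm : ∀ y : R, y ^ p = 1 → Commute y e → y ∈ E := fun y hy hye => by
    refine hmaxc y hy fun a ha => ?_
    have heZ : e ∉ Z := fun h => hec (mem_omegaCenter.1 h).1
    rw [← hEeq e heE heZ] at ha
    have hle : zpowers e ⊔ Z ≤ centralizer ({y} : Set R) := sup_le
      (Subgroup.zpowers_le.2 (Subgroup.mem_centralizer_singleton_iff.2 hye.symm.eq))
      fun z hz => Subgroup.mem_centralizer_singleton_iff.2
        (Subgroup.mem_center_iff.1 (mem_omegaCenter.1 hz).1 y).symm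
    exact Subgroup.mem_centralizer_singleton_iff.1 (hle ha)
  -- commutators with `w ∈ W` lie in `Z`
  have hWc : ∀ w ∈ W, ∀ r : R, ⁅w, r⁆ ∈ Z := fun w hw r => by
    obtain ⟨h1, h2⟩ := (mem_omegaTwo hp).1 hw
    exact mem_omegaCenter.2 ⟨mem_upperCentralSeries_two.1 h1 r,
      commutator_pow_eq_one' (mem_upperCentralSeries_two.1 h1 r) h2⟩
  have hindex : ∀ w ∈ W, (centralizer ({w} : Set R)).index ≤ p := by
    intro w hw
    have hcz : ∀ r : R, ⁅r, w⁆ ∈ Subgroup.center R := fun r => by
      rw [← commutatorElement_inv w r]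
      exact inv_mem (mem_omegaCenter.1 (hWc w hw r)).1
    let φ : R →* R := MonoidHom.mk' (fun r => ⁅r, w⁆) fun a b => commutator_mul_left_of_mem_center (hcz b)
    have hker : φ.ker = centralizer ({w} : Set R) := by
      ext r
      rw [MonoidHom.mem_ker, Subgroup.mem_centralizer_singleton_iff]
      exact commutatorElement_eq_one_iff_mul_comm
    rw [← hker, Subgroup.index_ker, ← hZp]
    refine Subgroup.card_le_of_le ?_
    rintro _ ⟨r, rfl⟩
    show ⁅r, w⁆ ∈ Z
    rw [← commutatorElement_inv w r]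
    exact inv_mem (hWc w hw r)
  -- `E` meets `W` in `Z`
  have hEW : ∀ a ∈ E, a ∈ W → a ∈ Z := by
    intro a ha haW
    by_contra haZ
    have h1 := hindex a haW
    have hUC : ∀ u ∈ U, Commute u a → u ∈ E := fun u hu hua => by
      refine hmaxc u (hU.2 u hu) fun b hb => ?_
      rw [← hEeq a ha haZ] at hb
      have hle : zpowers a ⊔ Z ≤ centralizer ({u} : Set R) := sup_le
        (Subgroup.zpowers_le.2 (Subgroup.mem_centralizer_singleton_iff.2 hua.symm.eq))
        fun z hz => Subgroup.mem_centralizer_singleton_iff.2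
          (Subgroup.mem_center_iff.1 (mem_omegaCenter.1 hz).1 u).symm
      exact Subgroup.mem_centralizer_singleton_iff.1 (hle hb)
    set V := centralizer ({a} : Set R) ⊓ U
    have hVE : V ≤ E := fun u hu => hUC u hu.2 (Subgroup.mem_centralizer_singleton_iff.1 hu.1)
    have hcard : Nat.card U ≤ p * Nat.card V := by
      have h2 := Subgroup.relIndex_mul_relIndex ⊥ V U bot_le inf_le_right
      rw [Subgroup.relIndex_bot_left, Subgroup.relIndex_bot_left] at h2
      rw [← h2, mul_comm p]
      refine Nat.mul_le_mul_left _ ?_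
      rw [Subgroup.inf_relIndex_right]
      refine le_trans ?_ h1
      rw [← Subgroup.relIndex_top_right]
      exact Subgroup.relIndex_le_of_le_right le_top (by
        rw [Subgroup.relIndex_top_right]; exact Subgroup.index_ne_zero_of_finite)
    have h3 : p ^ 2 ≤ Nat.card V := Nat.le_of_mul_le_mul_left (by
      calc p * p ^ 2 = p ^ 3 := by ring
        _ ≤ _ := hU3.trans hcard) hpp.pos
    have hEU : E ≤ U := (Subgroup.eq_of_le_of_card_ge hVE (hE2.le.trans h3)).ge.trans inf_le_right
    exact absurd (hU3.trans ((Subgroup.card_le_of_le (hEmax U hU hEU).le).trans hE2.le)) hlt.not_ge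
  have heW : e ∉ W := fun h => hec (mem_omegaCenter.1 (hEW e heE h)).1
  have hZW : Z ≤ W := fun z hz => (mem_omegaTwo hp).2 ⟨mem_upperCentralSeries_two.2 fun r => by
    rw [commutatorElement_eq_one_iff_mul_comm.2 (Subgroup.mem_center_iff.1 (mem_omegaCenter.1 hz).1 r).symm]
    exact one_mem _, (mem_omegaCenter.1 hz).2⟩
  -- `|W| = p²`
  have hW2 : Nat.card W = p ^ 2 := by
    refine le_antisymm ?_ ?_
    · have h2 := Subgroup.relIndex_mul_relIndex ⊥ Z W bot_le hZW
      rw [Subgroup.relIndex_bot_left, Subgroup.relIndex_bot_left, hZp] at h2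
      rw [← h2, pow_two]
      refine Nat.mul_le_mul_left _ ?_
      have hle : Z.relIndex W ≤ Nat.card Z := by
        let f : W →* R := MonoidHom.mk' (fun w => ⁅(w : R), e⁆) fun a b =>
          commutator_mul_left_of_mem_center (mem_omegaCenter.1 (hWc b b.2 e)).1
        have hker : f.ker = Z.subgroupOf W := by
          ext w
          rw [MonoidHom.mem_ker, Subgroup.mem_subgroupOf]
          refine ⟨fun h => ?_, fun h => ?_⟩
          · exact hEW _ (hcomm _ ((mem_omegaTwo hp).1 w.2).2 (commutatorElement_eq_one_iff_mul_comm.1 h)) w.2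
          · exact commutatorElement_eq_one_iff_mul_comm.2
              (Subgroup.mem_center_iff.1 (mem_omegaCenter.1 h).1 e).symm
        rw [Subgroup.relIndex, ← hker, Subgroup.index_ker]
        refine Subgroup.card_le_of_le ?_
        rintro _ ⟨w, rfl⟩
        exact hWc w w.2 e
      exact hle.trans hZp.le
    · obtain ⟨y, hyU, hyZ, hy⟩ := OddOrder.exists_commutator_mem (T := ⊤) (N := U) (Z := Z)
        (hR.to_subgroup ⊤) le_top (by rw [Subgroup.normalizer_eq_top_iff.2 hUn]) (fun hle => by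
          have := hU3.trans ((Subgroup.card_le_of_le hle).trans hZp.le)
          omega)
      have hyW : y ∈ W := (mem_omegaTwo hp).2 ⟨mem_upperCentralSeries_two.2 fun r =>
        (mem_omegaCenter.1 (hy r (Subgroup.mem_top r))).1, hU.2 y hyU⟩
      obtain ⟨k, hk⟩ := (hR.to_subgroup W).exists_card_eq
      rw [hk]
      refine Nat.pow_le_pow_right hpp.pos ?_
      by_contra hk2
      refine hyZ ((Subgroup.eq_of_le_of_card_ge hZW ?_).ge hyW)
      rw [hZp, hk]
      exact (Nat.pow_le_pow_right hpp.pos (by omega : k ≤ 1)).trans (pow_one p).le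
  have hWab : IsElementaryAbelian p W := PGroup.isElementaryAbelian_of_forall
    (fun a ha b hb => congrArg Subtype.val
      ((IsPGroup.commGroupOfCardEqPrimeSq hW2).mul_comm (⟨a, ha⟩ : W) ⟨b, hb⟩))
    fun a ha => ((mem_omegaTwo hp).1 ha).2
  -- `T` has index `p`, and `e ∉ T`
  have heT : e ∉ T := by
    intro h
    have hWE : W ≤ E := fun w hw =>
      hcomm w ((mem_omegaTwo hp).1 hw).2 (Subgroup.mem_centralizer_iff.1 h w hw)
    exact heW ((Subgroup.eq_of_le_of_card_ge hWE (hE2.le.trans hW2.ge)).ge heE)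
  obtain ⟨w, hwW, hwZ⟩ : ∃ w ∈ W, w ∉ Z := by
    by_contra hcon
    push Not at hcon
    have := hW2.ge.trans ((Subgroup.card_le_of_le (hcon : W ≤ Z)).trans hZp.le)
    omega
  have hTw : T = centralizer ({w} : Set R) := by
    refine le_antisymm (Subgroup.centralizer_le (Set.singleton_subset_iff.2 hwW)) fun r hr' => ?_
    refine Subgroup.mem_centralizer_iff.2 fun v hv => ?_
    have hle : zpowers w ⊔ Z ≤ centralizer ({r} : Set R) := sup_le
      (Subgroup.zpowers_le.2 (Subgroup.mem_centralizer_singleton_iff.2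
        (Subgroup.mem_centralizer_singleton_iff.1 hr').symm))
      fun z hz => Subgroup.mem_centralizer_singleton_iff.2
        (Subgroup.mem_center_iff.1 (mem_omegaCenter.1 hz).1 r).symm
    have hWw : zpowers w ⊔ Z = W := by
      refine Subgroup.eq_of_le_of_card_ge (sup_le (Subgroup.zpowers_le.2 hwW) hZW) ?_
      obtain ⟨k, hk⟩ := (hR.to_subgroup (zpowers w ⊔ Z)).exists_card_eq
      rw [hW2, hk]
      refine Nat.pow_le_pow_right hpp.pos ?_
      by_contra hk2
      refine hwZ ((Subgroup.eq_of_le_of_card_ge (le_sup_right : Z ≤ zpowers w ⊔ Z) ?_).ge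
        (Subgroup.mem_sup_left (Subgroup.mem_zpowers w)))
      rw [hZp, hk]
      exact (Nat.pow_le_pow_right hpp.pos (by omega : k ≤ 1)).trans (pow_one p).le
    exact Subgroup.mem_centralizer_singleton_iff.1 (hle (hWw.ge hv))
  refine ⟨hZp, ⟨hWab, hW2⟩, fun h => heT (h heE), ?_, hZE, e, heE, hep, heT, fun y hyT hyp hye => ?_⟩
  · obtain ⟨j, hj⟩ := hR.index T
    have h1 : j ≤ 1 := (Nat.pow_le_pow_iff_right hpp.one_lt).1
      (hj ▸ (hTw ▸ hindex w hwW).trans (pow_one p).ge)
    interval_cases j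
    · rw [pow_zero, Subgroup.index_eq_one] at hj
      exact absurd (hj ▸ Subgroup.mem_top e) heT
    · rw [hj, pow_one]
  · by_contra hyZ
    have hle : E ≤ T := by
      rw [← hEeq y (hcomm y hyp hye) hyZ]
      exact sup_le (Subgroup.zpowers_le.2 hyT) fun z hz => Subgroup.mem_centralizer_iff.2 fun v _ =>
        Subgroup.mem_center_iff.1 (mem_omegaCenter.1 hz).1 v
    exact heT (hle heE)

end Cfsg.Agent.MaxElementarySquare
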