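import Cfsg.Agent.Lib.Invol.NormalFour
import Cfsg.Agent.Lib.PGroup.Basic
import Cfsg.Agent.Lib.PGroup.SCN
import Cfsg.Agent.Lib.PGroup.UniqueOrderP
import Mathlib.RingTheory.Int.Basic

/-!
# Normal subgroups of 2-groups without an invariant four-subgroup

If `S` is normal in the finite 2-group `T` and no four-subgroup of `S` is normal in `T`, then `S`
has a `T`-invariant cyclic subgroup `⟨a⟩` of index at most 2, the elements of `S` outside it acting
on it as `-1` or, when `orderOf a = 2 ^ m ≥ 8`, as `2 ^ (m - 1) - 1`.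
-/

set_option autoImplicit false
set_option linter.style.haveILetI false

namespace Cfsg.Agent.InvFour

variable {T : Type*} [Group T]

theorem zpow_eq_iff {a : T} {m : ℕ} (ha : orderOf a = 2 ^ m) (i j : ℤ) :
    a ^ i = a ^ j ↔ (2 : ℤ) ^ m ∣ i - j := by
  rw [← mul_inv_eq_one, ← zpow_sub, ← orderOf_dvd_iff_zpow_eq_one, ha]
  push_cast
  rfl

theorem pow_pred_two {m : ℕ} (hm : 1 ≤ m) : (2 : ℤ) ^ m = 2 * 2 ^ (m - 1) := by
  conv_lhs => rw [show m = m - 1 + 1 by omega, pow_succ]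
  ring

/-- The four square roots of `1` modulo `2 ^ m`. -/
theorem sq_roots {m : ℕ} (hm : 2 ≤ m) {x : ℤ} (h : (2 : ℤ) ^ m ∣ x * x - 1) :
    (2 : ℤ) ^ m ∣ x - 1 ∨ (2 : ℤ) ^ m ∣ x + 1 ∨ (2 : ℤ) ^ m ∣ x - (2 ^ (m - 1) + 1) ∨
      (2 : ℤ) ^ m ∣ x - (2 ^ (m - 1) - 1) := by
  obtain ⟨n, rfl⟩ : ∃ n, m = n + 2 := ⟨m - 2, by omega⟩
  rw [show n + 2 - 1 = n + 1 by omega]
  have hodd : Odd x := by
    by_contra hh
    obtain ⟨k, rfl⟩ := Int.not_odd_iff_even.1 hh
    obtain ⟨q, hq⟩ := (dvd_pow_self (2 : ℤ) (Nat.succ_ne_zero (n + 1))).trans h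
    have h4 : (k + k) * (k + k) = 2 * (2 * (k * k)) := by ring
    omega
  obtain ⟨k, rfl⟩ := hodd
  have h1 : (2 : ℤ) ^ n ∣ k * (k + 1) := by
    have he : (2 * k + 1) * (2 * k + 1) - 1 = 2 ^ 2 * (k * (k + 1)) := by ring
    rw [he, pow_add, mul_comm ((2 : ℤ) ^ n)] at h
    exact Int.dvd_of_mul_dvd_mul_left (by norm_num) h
  rcases Int.even_or_odd k with hk | hk
  · have hco : IsCoprime ((2 : ℤ) ^ n) (k + 1) := by
      refine IsCoprime.pow_left ?_
      obtain ⟨j, rfl⟩ := hk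
      exact ⟨-j, 1, by ring⟩
    obtain ⟨t, rfl⟩ := hco.dvd_of_dvd_mul_right h1
    rcases Int.even_or_odd t with ⟨s, rfl⟩ | ⟨s, rfl⟩
    · exact Or.inl ⟨s, by ring⟩
    · exact Or.inr (Or.inr (Or.inl ⟨s, by ring⟩))
  · have hco : IsCoprime ((2 : ℤ) ^ n) k := by
      refine IsCoprime.pow_left ?_
      obtain ⟨j, rfl⟩ := hk
      exact ⟨-j, 1, by ring⟩
    obtain ⟨t, ht⟩ := hco.dvd_of_dvd_mul_left h1
    obtain rfl : k = 2 ^ n * t - 1 := by omega
    rcases Int.even_or_odd t with ⟨s, rfl⟩ | ⟨s, rfl⟩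
    · exact Or.inr (Or.inl ⟨s, by ring⟩)
    · exact Or.inr (Or.inr (Or.inr ⟨s, by ring⟩))

/-- An odd residue which is not a square root of `1` has a power congruent to `2 ^ (m - 1) + 1`. -/
theorem exists_pow_half {m : ℕ} (hm : 2 ≤ m) {x : ℤ} (hodd : Odd x)
    (hx : ¬ (2 : ℤ) ^ m ∣ x * x - 1) (hex : ∃ k : ℕ, (2 : ℤ) ^ m ∣ x ^ 2 ^ k - 1) :
    ∃ e : ℕ, (2 : ℤ) ^ m ∣ x ^ e - (2 ^ (m - 1) + 1) := by
  classical
  have hspec := Nat.find_spec hex
  have hmin := fun k (hk : k < Nat.find hex) => Nat.find_min hex hk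
  generalize Nat.find hex = k at hspec hmin
  have h0 : ¬ k ≤ 1 := by
    intro hk
    apply hx
    interval_cases k
    · rw [show x * x - 1 = (x ^ 2 ^ 0 - 1) * (x + 1) by ring]
      exact hspec.mul_right _
    · rwa [← pow_two]
  refine ⟨2 ^ (k - 1), ?_⟩
  have hy := hmin (k - 1) (by omega)
  obtain ⟨w, hw⟩ : ∃ w, x ^ 2 ^ (k - 1) = 8 * w + 1 := by
    obtain ⟨c, hc⟩ : ∃ c, (x * x) = 8 * c + 1 := by
      obtain ⟨j, rfl⟩ := hodd
      rcases Int.even_or_odd j with ⟨s, rfl⟩ | ⟨s, rfl⟩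
      · exact ⟨s * (2 * s + 1), by ring⟩
      · exact ⟨(2 * s + 1) * (s + 1), by ring⟩
    rw [show (2 : ℕ) ^ (k - 1) = 2 * 2 ^ (k - 2) by
      rw [← pow_succ', show k - 2 + 1 = k - 1 by omega], pow_mul, pow_two, hc]
    generalize (2 : ℕ) ^ (k - 2) = e
    induction e with
    | zero => exact ⟨0, by simp⟩
    | succ e ih =>
      obtain ⟨w, hw⟩ := ih
      exact ⟨8 * w * c + w + c, by rw [pow_succ, hw]; ring⟩
  rw [hw] at hy ⊢
  have hsq : (2 : ℤ) ^ m ∣ (8 * w + 1) * (8 * w + 1) - 1 := by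
    rw [← hw, ← pow_add, ← two_mul, ← pow_succ', show k - 1 + 1 = k by omega]
    exact hspec
  have hm4 : 4 ≤ m := by
    by_contra hm4
    refine hy ⟨2 ^ (3 - m) * w, ?_⟩
    rw [← mul_assoc, ← pow_add, show m + (3 - m) = 3 by omega]
    ring
  have h8 : ∀ n, 3 ≤ n → (8 : ℤ) ∣ 2 ^ n := fun n hn => by
    rw [show (8 : ℤ) = 2 ^ 3 by norm_num]
    exact pow_dvd_pow _ hn
  have h8m := h8 m (by omega)
  have h8m1 := h8 (m - 1) (by omega)
  rcases sq_roots hm hsq with h | h | h | h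
  · exact absurd h hy
  · have := h8m.trans h
    omega
  · exact h
  · have := h8m.trans h
    obtain ⟨q, hq⟩ := h8m1
    omega

theorem card_fourSubgroup {z e : T} (hz : z * z = 1) (he : e * e = 1) (hc : Commute z e)
    (hz1 : z ≠ 1) (he1 : e ≠ 1) (hne : z ≠ e) :
    Nat.card (Invol.fourSubgroup hz he hc) = 4 := by
  rw [← SetLike.coe_sort_coe, Nat.card_coe_set_eq]
  show ({1, z, e, z * e} : Set T).ncard = 4
  have h1 : z * e ≠ 1 := fun h => hne (by
    rw [← inv_eq_of_mul_eq_one_right h]; exact (inv_eq_of_mul_eq_one_right hz).symm)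
  have h2 : z ≠ z * e := fun h => he1 (by simpa using h.symm)
  have h3 : e ≠ z * e := fun h => hz1 (by simpa using h.symm)
  rw [Set.ncard_insert_of_notMem (by simp [hz1.symm, he1.symm, h1.symm]),
    Set.ncard_insert_of_notMem (by simp [hne, h2]), Set.ncard_pair h3]

theorem sq_eq_one_of_mem {z e : T} (hz : z * z = 1) (he : e * e = 1) (hc : Commute z e) :
    ∀ w ∈ Invol.fourSubgroup hz he hc, w * w = 1 := by
  intro w hw
  change w ∈ ({1, z, e, z * e} : Set T) at hw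
  simp only [Set.mem_insert_iff, Set.mem_singleton_iff] at hw
  rcases hw with rfl | rfl | rfl | rfl
  · exact one_mul 1
  · exact hz
  · exact he
  · rw [← pow_two, hc.mul_pow, pow_two, pow_two, hz, he, one_mul]

variable [Finite T]

/-- The conclusion of `shape`. -/
structure Shape (S : Subgroup T) (a : T) (m : ℕ) : Prop where
  ord : orderOf a = 2 ^ m
  mem : a ∈ S
  normal : (Subgroup.zpowers a).Normal
  self : ∀ x ∈ S, Commute x a → x ∈ Subgroup.zpowers a
  two : ∀ x ∈ S, x ∉ Subgroup.zpowers a → 2 ≤ m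
  act : ∀ x ∈ S, x ∉ Subgroup.zpowers a →
    x * a * x⁻¹ = a⁻¹ ∨ (3 ≤ m ∧ x * a * x⁻¹ = a ^ ((2 : ℤ) ^ (m - 1) - 1))
  index : ∀ x ∈ S, ∀ y ∈ S, x ∉ Subgroup.zpowers a → y ∉ Subgroup.zpowers a →
    x * y ∈ Subgroup.zpowers a

theorem exists_cyclic_maximal (hT : IsPGroup 2 T) (S : Subgroup T) [S.Normal]
    (hno : ∀ W : Subgroup T, W.Normal → W ≤ S → Nat.card W = 4 → (∀ w ∈ W, w * w = 1) → False) :
    ∃ a ∈ S, (Subgroup.zpowers a).Normal ∧ ∀ x ∈ S, Commute x a → x ∈ Subgroup.zpowers a := by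
  haveI : Fact (Nat.Prime 2) := ⟨Nat.prime_two⟩
  obtain ⟨M, hM⟩ :=
    (Set.toFinite {B : Subgroup T | B ≤ S ∧ B.Normal ∧ IsMulCommutative B}).exists_maximal
      ⟨⊥, bot_le, inferInstance, inferInstance⟩
  obtain ⟨hMS, hMn, hMc⟩ := hM.1
  haveI := hMn
  have hself : ∀ x ∈ S, (∀ y ∈ M, Commute y x) → x ∈ M := by
    intro x hxS hx
    by_contra hxM
    have hMC : M ≤ S ⊓ Subgroup.centralizer (M : Set T) :=
      le_inf hMS (PGroup.le_centralizer_of_isMulCommutative hMc)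
    have hlt : M < S ⊓ Subgroup.centralizer (M : Set T) :=
      lt_of_le_of_ne hMC fun h => hxM (h ▸ ⟨hxS, fun y hy => (hx y hy).eq⟩)
    obtain ⟨L, hL, hML, hLC, hcard⟩ := PGroup.exists_normal_step hT M _ hlt
    obtain ⟨y, hyL, hyM⟩ := SetLike.exists_of_lt hML
    have heq : M ⊔ Subgroup.zpowers y = L := by
      refine Subgroup.eq_of_le_of_card_ge (sup_le hML.le (Subgroup.zpowers_le.mpr hyL)) ?_
      rw [hcard, mul_comm]
      exact PGroup.mul_card_le_card hT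
        (left_lt_sup.mpr fun h => hyM (h (Subgroup.mem_zpowers y)))
    have hLab : IsMulCommutative ↥L := heq ▸ PGroup.isMulCommutative_sup_zpowers hMc (hLC hyL).2
    exact hyM (hM.2 ⟨(hLC.trans inf_le_left), hL, hLab⟩ hML.le hyL)
  have hcomm : ∀ x ∈ M, ∀ y ∈ M, Commute x y :=
    fun x hx y hy => PGroup.mul_comm_of_isMulCommutative hMc hx hy
  have hcyc : IsCyclic M := by
    refine PGroup.isCyclic_of_unique_of_isMulCommutative (hT.to_subgroup M) ?_ hMc
    intro H K hH hK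
    by_contra hne
    obtain ⟨h, hh⟩ : ∃ h : M, H = Subgroup.zpowers h ∧ orderOf h = 2 := by
      obtain ⟨⟨h, hhH⟩, ho⟩ := exists_prime_orderOf_dvd_card' 2 (dvd_of_eq hH.symm)
      rw [Subgroup.orderOf_mk] at ho
      exact ⟨h, (Subgroup.eq_of_le_of_card_ge (Subgroup.zpowers_le.mpr hhH)
        (by rw [Nat.card_zpowers, ho, hH])).symm, ho⟩
    obtain ⟨k, hk⟩ : ∃ k : M, K = Subgroup.zpowers k ∧ orderOf k = 2 := by
      obtain ⟨⟨k, hkK⟩, ho⟩ := exists_prime_orderOf_dvd_card' 2 (dvd_of_eq hK.symm)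
      rw [Subgroup.orderOf_mk] at ho
      exact ⟨k, (Subgroup.eq_of_le_of_card_ge (Subgroup.zpowers_le.mpr hkK)
        (by rw [Nat.card_zpowers, ho, hK])).symm, ho⟩
    let Ω : Subgroup T :=
      { carrier := {x | x ∈ M ∧ x * x = 1}
        one_mem' := ⟨one_mem _, one_mul 1⟩
        mul_mem' := by
          rintro x y ⟨hx, hx2⟩ ⟨hy, hy2⟩
          refine ⟨mul_mem hx hy, ?_⟩
          rw [← pow_two, (hcomm x hx y hy).mul_pow, pow_two, pow_two, hx2, hy2, one_mul]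
        inv_mem' := by
          rintro x ⟨hx, hx2⟩
          exact ⟨inv_mem hx, by rw [inv_eq_of_mul_eq_one_right hx2]; exact hx2⟩ }
    haveI : Ω.Normal := ⟨fun x hx g => ⟨hMn.conj_mem x hx.1 g, by
      calc g * x * g⁻¹ * (g * x * g⁻¹) = g * (x * x) * g⁻¹ := by group
        _ = 1 := by rw [hx.2]; group⟩⟩
    have h2 : ∀ q : M, orderOf q = 2 → (q : T) * q = 1 ∧ (q : T) ≠ 1 := fun q hq => by
      rw [← Subgroup.orderOf_coe] at hq
      exact ⟨Invol.mul_self_of_orderOf_two hq, Invol.ne_one_of_orderOf_two hq⟩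
    obtain ⟨hh2, hh1⟩ := h2 h hh.2
    obtain ⟨hk2, hk1⟩ := h2 k hk.2
    have hhk : (h : T) ≠ k := fun e => hne (by rw [hh.1, hk.1, Subtype.ext e])
    have hle : 4 ≤ Nat.card Ω := by
      rw [← card_fourSubgroup hh2 hk2 (hcomm _ h.2 _ k.2) hh1 hk1 hhk]
      refine Subgroup.card_le_of_le fun w hw => ⟨?_, sq_eq_one_of_mem _ _ _ w hw⟩
      change w ∈ ({1, (h : T), (k : T), (h : T) * k} : Set T) at hw
      simp only [Set.mem_insert_iff, Set.mem_singleton_iff] at hw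
      rcases hw with rfl | rfl | rfl | rfl
      exacts [one_mem _, h.2, k.2, mul_mem h.2 k.2]
    obtain ⟨W, hW, -, hWΩ, hWc⟩ := PGroup.exists_normal_card_between hT ⊥ Ω bot_le 2
      (by rw [Subgroup.card_bot]; norm_num) (by simpa using hle)
    exact hno W hW (fun w hw => hMS (hWΩ hw).1) (by simpa using hWc) fun w hw => (hWΩ hw).2
  obtain ⟨a, rfl⟩ := Subgroup.isCyclic_iff_exists_zpowers_eq_top _ |>.1 hcyc
  refine ⟨a, hMS (Subgroup.mem_zpowers a), hMn, fun x hx hxa => hself x hx ?_⟩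
  rintro _ ⟨i, rfl⟩
  exact (hxa.zpow_right i).symm

/-- The shape of a normal subgroup of a 2-group without invariant four-subgroup. -/
theorem exists_shape (hT : IsPGroup 2 T) (S : Subgroup T) [S.Normal]
    (hno : ∀ W : Subgroup T, W.Normal → W ≤ S → Nat.card W = 4 → (∀ w ∈ W, w * w = 1) → False) :
    ∃ (a : T) (m : ℕ), Shape S a m := by
  obtain ⟨a, haS, han, hself⟩ := exists_cyclic_maximal hT S hno
  obtain ⟨m, hm⟩ := IsPGroup.iff_orderOf.mp hT a
  refine ⟨a, m, ?_⟩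
  have hmem : ∀ g : T, ∃ r : ℤ, g * a * g⁻¹ = a ^ r := fun g => by
    obtain ⟨r, hr⟩ := Subgroup.mem_zpowers_iff.1 (han.conj_mem a (Subgroup.mem_zpowers a) g)
    exact ⟨r, hr.symm⟩
  have hconj : ∀ (g : T) (r : ℤ), g * a * g⁻¹ = a ^ r → ∀ i : ℤ,
      g * a ^ i * g⁻¹ = a ^ (r * i) := by
    intro g r hr i
    rw [zpow_mul, ← hr, conj_zpow]
  have hcompose : ∀ (g g' : T) (r r' : ℤ), g * a * g⁻¹ = a ^ r → g' * a * g'⁻¹ = a ^ r' →
      g * g' * a * (g * g')⁻¹ = a ^ (r * r') := fun g g' r r' hr hr' => by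
    rw [← hconj g r hr r', ← hr']
    group
  have hpow : ∀ (g : T) (r : ℤ), g * a * g⁻¹ = a ^ r → ∀ e : ℕ,
      g ^ e * a * (g ^ e)⁻¹ = a ^ (r ^ e) := by
    intro g r hr e
    induction e with
    | zero => simp
    | succ e ih => rw [pow_succ, pow_succ]; exact hcompose _ _ _ _ ih hr
  by_cases hm2 : m ≤ 1
  · have hall : ∀ x ∈ S, x ∈ Subgroup.zpowers a := by
      intro x hx
      obtain ⟨r, hr⟩ := hmem x
      apply hself x hx
      have : x * a * x⁻¹ = a := by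
        rcases Nat.le_one_iff_eq_zero_or_eq_one.1 hm2 with rfl | rfl
        · obtain rfl : a = 1 := orderOf_eq_one_iff.1 (by simpa using hm)
          simp
        · rw [hr]
          rcases Int.even_or_odd r with ⟨s, rfl⟩ | ⟨s, rfl⟩
          · exfalso
            rw [(zpow_eq_iff hm (s + s) 0).2 ⟨s, by ring⟩, zpow_zero] at hr
            have : a = 1 := by simpa using hr
            rw [this, orderOf_one] at hm
            norm_num at hm
          · conv_rhs => rw [← zpow_one a]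
            exact (zpow_eq_iff hm _ _).2 ⟨s, by ring⟩
      exact mul_inv_eq_iff_eq_mul.mp this
    exact ⟨hm, haS, han, hself, fun x hx h => absurd (hall x hx) h,
      fun x hx h => absurd (hall x hx) h, fun x hx _ _ h => absurd (hall x hx) h⟩
  replace hm2 : 2 ≤ m := by omega
  have hpow2 := pow_pred_two (show 1 ≤ m by omega)
  -- no element of `S` acts as `1 + 2 ^ (m - 1)`
  have hmod : ∀ y ∈ S, 3 ≤ m → y * a * y⁻¹ = a ^ ((2 : ℤ) ^ (m - 1) + 1) →
      y * y ∈ Subgroup.zpowers a → False := by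
    intro y hy hm3 hya hyy
    obtain ⟨h4, hh4⟩ : ∃ q : ℤ, (2 : ℤ) ^ (m - 1) = 4 * q :=
      ⟨2 ^ (m - 3), by rw [show m - 1 = m - 3 + 2 by omega, pow_add]; ring⟩
    obtain ⟨k, hk⟩ := Subgroup.mem_zpowers_iff.1 hyy
    have hcyk : y * a ^ k * y⁻¹ = a ^ k := by rw [hk]; group
    rw [hconj y _ hya, zpow_eq_iff hm, hpow2] at hcyk
    obtain ⟨q, hq⟩ := hcyk
    have hkq : k = 2 * q := by
      have h0 : (2 : ℤ) ^ (m - 1) ≠ 0 := pow_ne_zero _ (by norm_num)
      apply mul_left_cancel₀ h0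
      linear_combination hq
    set u : ℤ := 1 + 2 * h4 with hu
    set b := a ^ (-(q * u)) * y with hb
    have hba : b * a * b⁻¹ = a ^ ((2 : ℤ) ^ (m - 1) + 1) := by
      have hrearr : b * a * b⁻¹ = a ^ (-(q * u)) * (y * a * y⁻¹) * (a ^ (-(q * u)))⁻¹ := by
        rw [hb]; group
      rw [hrearr, hya, ← zpow_add, ← zpow_neg, ← zpow_add]
      congr 1
      ring
    have hbb : b * b = 1 := by
      have hrearr : b * b = a ^ (-(q * u)) * (y * a ^ (-(q * u)) * y⁻¹) * (y * y) := by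
        rw [hb]; group
      rw [hrearr, hconj y _ hya, ← hk, ← zpow_add, ← zpow_add, ← zpow_zero a, zpow_eq_iff hm,
        hpow2, hkq, hu, hh4]
      exact ⟨-q * (1 + h4), by ring⟩
    have hbS : b ∈ S := mul_mem (zpow_mem haS _) hy
    set z := a ^ ((2 : ℤ) ^ (m - 1)) with hz
    have hzz : z * z = 1 := by
      rw [hz, ← zpow_add, ← zpow_zero a, zpow_eq_iff hm, hpow2]
      exact ⟨1, by ring⟩
    have hz1 : z ≠ 1 := by
      rw [hz, ← zpow_zero a, Ne, zpow_eq_iff hm, hpow2]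
      intro hh
      rw [sub_zero] at hh
      have h0 : (0 : ℤ) < 2 ^ (m - 1) := by positivity
      have := Int.le_of_dvd h0 hh
      omega
    have hzb : Commute z b := by
      have := hconj b _ hba ((2 : ℤ) ^ (m - 1))
      have h2 : b * z * b⁻¹ = z := by
        rw [hz, this, zpow_eq_iff hm, hpow2, hh4]
        exact ⟨2 * h4, by ring⟩
      exact (mul_inv_eq_iff_eq_mul.mp h2).symm
    have hbM : b ∉ Subgroup.zpowers a := by
      intro hbM
      obtain ⟨i, hi⟩ := Subgroup.mem_zpowers_iff.1 hbM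
      have : b * a * b⁻¹ = a ^ (1 : ℤ) := by rw [← hi]; group
      rw [hba, zpow_eq_iff hm, hpow2] at this
      obtain ⟨c, hc⟩ := this
      have : (2 : ℤ) ^ (m - 1) ≠ 0 := pow_ne_zero _ (by norm_num)
      have : (2 : ℤ) ^ (m - 1) * 1 = 2 ^ (m - 1) * (2 * c) := by linear_combination hc
      have := mul_left_cancel₀ (pow_ne_zero _ (by norm_num : (2 : ℤ) ≠ 0)) this
      omega
    have hzM : z ∈ Subgroup.zpowers a := zpow_mem (Subgroup.mem_zpowers a) _
    have hb1 : b ≠ 1 := fun h => hbM (h ▸ one_mem _)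
    have hzbne : z ≠ b := fun h => hbM (h ▸ hzM)
    refine hno (Invol.fourSubgroup hzz hbb hzb) ⟨?_⟩ ?_ (card_fourSubgroup hzz hbb hzb hz1 hb1 hzbne)
      (sq_eq_one_of_mem hzz hbb hzb)
    · intro w hw g
      obtain ⟨r, hr⟩ := hmem g
      have hgz : g * z * g⁻¹ = 1 ∨ g * z * g⁻¹ = z := by
        rw [hz, hconj g r hr]
        rcases Int.even_or_odd r with ⟨s, rfl⟩ | ⟨s, rfl⟩
        · left
          rw [← zpow_zero a, zpow_eq_iff hm, hpow2]
          exact ⟨s, by ring⟩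
        · right
          rw [zpow_eq_iff hm, hpow2]
          exact ⟨s, by ring⟩
      have hgb : g * b * g⁻¹ = b ∨ g * b * g⁻¹ = z * b := by
        set b' := g * b * g⁻¹ with hb'
        have hb'b : b' * b' = 1 := by rw [hb', conj_mul, hbb]; simp
        have hb'a : b' * a * b'⁻¹ = a ^ ((2 : ℤ) ^ (m - 1) + 1) := by
          obtain ⟨r', hr'⟩ := hmem g⁻¹
          have h1 := hcompose _ _ _ _ hr hba
          have h2 := hcompose _ _ _ _ h1 hr'
          have h3 := hcompose _ _ _ _ hr hr'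
          rw [mul_inv_cancel, one_mul, inv_one, mul_one] at h3
          rw [hb']
          rw [h2, zpow_eq_iff hm]
          conv_lhs at h3 => rw [← zpow_one a]
          rw [zpow_eq_iff hm] at h3
          obtain ⟨c, hc⟩ := h3
          exact ⟨-c * ((2 : ℤ) ^ (m - 1) + 1), by linear_combination (-((2 : ℤ) ^ (m - 1) + 1)) * hc⟩
        have hcm : Commute (b' * b⁻¹) a := by
          have hbi : b⁻¹ * a * b = a ^ ((2 : ℤ) ^ (m - 1) + 1) := by
            rw [← hba, inv_eq_of_mul_eq_one_right hbb]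
          have h2 := hcompose b' b⁻¹ _ _ hb'a (by rw [inv_inv]; exact hbi)
          have h4' : b' * b⁻¹ * a * (b' * b⁻¹)⁻¹ = a := by
            rw [h2]
            conv_rhs => rw [← zpow_one a]
            rw [zpow_eq_iff hm, hpow2, hh4]
            exact ⟨2 * h4 + 1, by ring⟩
          exact mul_inv_eq_iff_eq_mul.mp h4'
        have hb'S : b' ∈ S := ‹S.Normal›.conj_mem b hbS g
        obtain ⟨l, hl⟩ := Subgroup.mem_zpowers_iff.1
          (hself _ (mul_mem hb'S (inv_mem hbS)) hcm)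
        have hb'eq : b' = a ^ l * b := by rw [hl]; group
        have hl2 : (2 : ℤ) ^ m ∣ l * (2 ^ (m - 1) + 2) := by
          have hh : b' * b' = a ^ (l + ((2 : ℤ) ^ (m - 1) + 1) * l) := by
            have hrearr : b' * b' = a ^ l * (b * a ^ l * b⁻¹) * (b * b) := by rw [hb'eq]; group
            rw [hrearr, hconj b _ hba, hbb, mul_one, zpow_add]
          rw [hb'b, ← zpow_zero a, zpow_eq_iff hm] at hh
          obtain ⟨c, hc⟩ := hh
          exact ⟨-c, by linear_combination -hc⟩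
        rw [hpow2, hh4] at hl2
        obtain ⟨c, hc⟩ := hl2
        -- `l (1 + 2 h4) = 4 h4 c` and `1 + 2 h4` is a unit with inverse itself modulo `4 h4`
        have hc' : l * (1 + 2 * h4) = 4 * h4 * c := by linarith
        have hl4 : l = 4 * h4 * (c * (1 + 2 * h4) - l * (1 + h4)) := by
          linear_combination (1 + 2 * h4) * hc'
        set t := c * (1 + 2 * h4) - l * (1 + h4) with ht
        rcases Int.even_or_odd t with ⟨s, hs⟩ | ⟨s, hs⟩
        · left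
          rw [hb'eq, (zpow_eq_iff hm l 0).2 ⟨s, by rw [hpow2, hh4, hl4, hs]; ring⟩, zpow_zero,
            one_mul]
        · right
          rw [hb'eq, hz, (zpow_eq_iff hm l ((2 : ℤ) ^ (m - 1))).2
            ⟨s, by rw [hpow2, hh4, hl4, hs]; ring⟩]
      have hmemz : g * z * g⁻¹ ∈ Invol.fourSubgroup hzz hbb hzb := by
        rcases hgz with h | h <;> rw [h] <;> first | exact one_mem _ | exact Or.inr (Or.inl rfl)
      have hmemb : g * b * g⁻¹ ∈ Invol.fourSubgroup hzz hbb hzb := by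
        rcases hgb with h | h <;> rw [h]
        · exact Or.inr (Or.inr (Or.inl rfl))
        · exact Or.inr (Or.inr (Or.inr rfl))
      change w ∈ ({1, z, b, z * b} : Set T) at hw
      simp only [Set.mem_insert_iff, Set.mem_singleton_iff] at hw
      rcases hw with rfl | rfl | rfl | rfl
      · simp
      · exact hmemz
      · exact hmemb
      · rw [show g * (z * b) * g⁻¹ = (g * z * g⁻¹) * (g * b * g⁻¹) by group]
        exact mul_mem hmemz hmemb
    · intro w hw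
      change w ∈ ({1, z, b, z * b} : Set T) at hw
      simp only [Set.mem_insert_iff, Set.mem_singleton_iff] at hw
      rcases hw with rfl | rfl | rfl | rfl
      exacts [one_mem _, zpow_mem haS _, hbS, mul_mem (zpow_mem haS _) hbS]
  have hhalf : ∀ x ∈ S, ∀ r : ℤ, x * a * x⁻¹ = a ^ r →
      ¬ (2 : ℤ) ^ m ∣ r - (2 ^ (m - 1) + 1) ∨ (m = 2 ∧ (2 : ℤ) ^ m ∣ r + 1) := by
    intro x hx r hr
    by_cases hd : (2 : ℤ) ^ m ∣ r - (2 ^ (m - 1) + 1)
    · rw [← zpow_eq_iff hm, ← hr] at hd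
      rcases eq_or_lt_of_le hm2 with rfl | hm3
      · right
        refine ⟨rfl, ?_⟩
        rw [hr, zpow_eq_iff hm] at hd
        obtain ⟨c, hc⟩ := hd
        norm_num at hc ⊢
        omega
      · refine (hmod x hx hm3 hd (hself _ (mul_mem hx hx) ?_)).elim
        have h2 : x * x * a * (x * x)⁻¹ = a ^ (1 : ℤ) := by
          rw [hcompose x x _ _ hd hd, zpow_eq_iff hm, hpow2]
          obtain ⟨q, hq⟩ : ∃ q : ℤ, (2 : ℤ) ^ (m - 1) = 2 * q :=
            ⟨2 ^ (m - 2), by rw [show m - 1 = m - 2 + 1 by omega, pow_succ]; ring⟩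
          exact ⟨q + 1, by rw [hq]; ring⟩
        rw [zpow_one] at h2
        exact mul_inv_eq_iff_eq_mul.mp h2
    · exact Or.inl hd
  have hcases : ∀ x ∈ S, x ∉ Subgroup.zpowers a →
      x * a * x⁻¹ = a⁻¹ ∨ (3 ≤ m ∧ x * a * x⁻¹ = a ^ ((2 : ℤ) ^ (m - 1) - 1)) := by
    intro x hx hxM
    obtain ⟨r, hr⟩ := hmem x
    have hodd : Odd r := by
      by_contra hev
      obtain ⟨s, rfl⟩ := Int.not_odd_iff_even.1 hev
      have : x * a ^ ((2 : ℤ) ^ (m - 1)) * x⁻¹ = a ^ (0 : ℤ) := by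
        rw [hconj x _ hr, zpow_eq_iff hm, hpow2]
        exact ⟨s, by ring⟩
      rw [zpow_zero, conj_eq_one_iff, ← zpow_zero a, zpow_eq_iff hm, hpow2] at this
      have h0 : (0 : ℤ) < 2 ^ (m - 1) := by positivity
      have := Int.le_of_dvd h0 (by simpa using this)
      omega
    by_cases hsq : (2 : ℤ) ^ m ∣ r * r - 1
    · rcases sq_roots hm2 hsq with h | h | h | h
      · refine (hxM (hself x hx ?_)).elim
        rw [← zpow_eq_iff hm, zpow_one, ← hr] at h
        exact mul_inv_eq_iff_eq_mul.mp h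
      · left
        rw [hr, ← zpow_neg_one]
        exact (zpow_eq_iff hm _ _).2 (by simpa using h)
      · rcases hhalf x hx r hr with h' | ⟨-, h'⟩
        · exact absurd h h'
        · left
          rw [hr, ← zpow_neg_one]
          exact (zpow_eq_iff hm _ _).2 (by simpa using h')
      · rcases eq_or_lt_of_le hm2 with rfl | hm3
        · refine (hxM (hself x hx ?_)).elim
          norm_num at h
          have : x * a * x⁻¹ = a := by
            rw [hr]
            conv_rhs => rw [← zpow_one a]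
            exact (zpow_eq_iff hm _ _).2 (by norm_num; exact h)
          exact mul_inv_eq_iff_eq_mul.mp this
        · exact Or.inr ⟨hm3, by rw [hr]; exact (zpow_eq_iff hm _ _).2 h⟩
    · exfalso
      have hex : ∃ k : ℕ, (2 : ℤ) ^ m ∣ r ^ 2 ^ k - 1 := by
        obtain ⟨k, hk⟩ := hT x
        refine ⟨k, (zpow_eq_iff hm _ _).1 ?_⟩
        rw [← hpow x r hr, hk]
        simp
      obtain ⟨e, he⟩ := exists_pow_half hm2 hodd hsq hex
      rcases hhalf (x ^ e) (pow_mem hx e) _ (hpow x r hr e) with h | ⟨rfl, -⟩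
      · exact h he
      · exact hsq (by
          obtain ⟨s, rfl⟩ := hodd
          exact ⟨s * (s + 1), by ring⟩)
  refine ⟨hm, haS, han, hself, fun _ _ _ => hm2, hcases, fun x hx y hy hxM hyM => ?_⟩
  by_contra hxy
  obtain ⟨rx, hrx, hrx'⟩ : ∃ r, x * a * x⁻¹ = a ^ r ∧
      (r = -1 ∨ (3 ≤ m ∧ r = (2 : ℤ) ^ (m - 1) - 1)) := by
    rcases hcases x hx hxM with h | ⟨h3, h⟩
    · exact ⟨-1, by rw [h, zpow_neg_one], Or.inl rfl⟩
    · exact ⟨_, h, Or.inr ⟨h3, rfl⟩⟩
  obtain ⟨ry, hry, hry'⟩ : ∃ r, y * a * y⁻¹ = a ^ r ∧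
      (r = -1 ∨ (3 ≤ m ∧ r = (2 : ℤ) ^ (m - 1) - 1)) := by
    rcases hcases y hy hyM with h | ⟨h3, h⟩
    · exact ⟨-1, by rw [h, zpow_neg_one], Or.inl rfl⟩
    · exact ⟨_, h, Or.inr ⟨h3, rfl⟩⟩
  obtain ⟨rz, hrz, hrz'⟩ : ∃ r, x * y * a * (x * y)⁻¹ = a ^ r ∧
      (r = -1 ∨ (3 ≤ m ∧ r = (2 : ℤ) ^ (m - 1) - 1)) := by
    rcases hcases _ (mul_mem hx hy) hxy with h | ⟨h3, h⟩
    · exact ⟨-1, by rw [h, zpow_neg_one], Or.inl rfl⟩
    · exact ⟨_, h, Or.inr ⟨h3, rfl⟩⟩
  rw [hcompose x y _ _ hrx hry, zpow_eq_iff hm] at hrz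
  have h4d : (4 : ℤ) ∣ 2 ^ m := by
    rw [show (4 : ℤ) = 2 ^ 2 by norm_num]
    exact pow_dvd_pow _ hm2
  have key : ∀ r : ℤ, (r = -1 ∨ (3 ≤ m ∧ r = (2 : ℤ) ^ (m - 1) - 1)) → ∃ s, r = 4 * s - 1 := by
    rintro r (rfl | ⟨h3, rfl⟩)
    · exact ⟨0, by ring⟩
    · exact ⟨2 ^ (m - 3), by rw [show m - 1 = m - 3 + 2 by omega, pow_add]; ring⟩
  obtain ⟨s1, rfl⟩ := key rx hrx'
  obtain ⟨s2, rfl⟩ := key ry hry'
  obtain ⟨s3, rfl⟩ := key rz hrz'
  obtain ⟨c, hc⟩ := h4d.trans hrz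
  have : (4 * s1 - 1) * (4 * s2 - 1) = 4 * (4 * s1 * s2 - s1 - s2) + 1 := by ring
  omega

end Cfsg.Agent.InvFour
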