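import Mathlib.GroupTheory.SpecificGroups.Dihedral
import Mathlib.GroupTheory.SpecificGroups.Quaternion
import Mathlib.NumberTheory.Multiplicity
import Mathlib.RingTheory.Int.Basic
import Mathlib.FieldTheory.Finite.Basic
import Cfsg.Agent.Lib.PGroup.Frattini
import Cfsg.Agent.Lib.PGroup.Class2
import Cfsg.Agent.Lib.PGroup.SCN

/-!
# Finite `p`-groups with a cyclic subgroup of index `p`

* `conj_zpow`, `conj_pow_zpow`, `zpow_eq_zpow_iff_dvd`
* `exists_cyclic_index_data` : generators `a`, `b`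
* `cyclic_index_odd` : `p` odd, non-cyclic: `b ^ p = 1`, `b a b⁻¹ = a · (a^(p^(m-1)))^r`
* `cyclic_index_two` : `p = 2`, non-abelian: dihedral, quaternion, modular or semidihedral relations
* `dihedralEquivOfRel`, `quaternionEquivOfRel`
-/

set_option autoImplicit false

namespace Cfsg.Agent.PGroup

open scoped commutatorElement

universe u

variable {G : Type u} [Group G] {p : ℕ}

theorem zpow_eq_zpow_iff_dvd (a : G) (i j : ℤ) :
    a ^ i = a ^ j ↔ (orderOf a : ℤ) ∣ i - j := by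
  rw [orderOf_dvd_iff_zpow_eq_one, zpow_sub, mul_inv_eq_one]

theorem conj_zpow {a b : G} {r : ℤ} (h : b * a * b⁻¹ = a ^ r) (i : ℤ) :
    b * a ^ i * b⁻¹ = a ^ (r * i) := by
  rw [zpow_mul, ← h, _root_.conj_zpow]

theorem conj_pow_zpow {a b : G} {r : ℤ} (h : b * a * b⁻¹ = a ^ r) (k : ℕ) :
    b ^ k * a * (b ^ k)⁻¹ = a ^ (r ^ k) := by
  induction k with
  | zero => simp
  | succ k ih =>
    calc b ^ (k + 1) * a * (b ^ (k + 1))⁻¹ = b * (b ^ k * a * (b ^ k)⁻¹) * b⁻¹ := by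
          rw [pow_succ']; group
      _ = a ^ (r ^ (k + 1)) := by rw [ih, PGroup.conj_zpow h, pow_succ']

theorem commute_of_generators {a b : G} (hgen : Subgroup.zpowers a ⊔ Subgroup.zpowers b = ⊤)
    (h : Commute a b) (x y : G) : x * y = y * x := by
  have hA : IsMulCommutative ↥(Subgroup.zpowers a) := inferInstance
  have hb : b ∈ Subgroup.centralizer (Subgroup.zpowers a : Set G) := by
    rintro _ ⟨i, rfl⟩
    exact (h.zpow_left i).eq
  have hcomm := isMulCommutative_sup_zpowers hA hb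
  rw [hgen] at hcomm
  exact mul_comm_of_isMulCommutative hcomm (Subgroup.mem_top x) (Subgroup.mem_top y)

/-- Generators of a `p`-group with a cyclic subgroup of index `p`. -/
theorem exists_cyclic_index_data [Finite G] [Fact p.Prime] {m : ℕ} (hG : Nat.card G = p ^ (m + 1))
    (C : Subgroup G) (hC : IsCyclic C) (hCi : C.index = p) :
    ∃ a b : G, ∃ r t : ℤ, C = Subgroup.zpowers a ∧ orderOf a = p ^ m ∧ b ∉ Subgroup.zpowers a ∧
      Subgroup.zpowers a ⊔ Subgroup.zpowers b = ⊤ ∧ b * a * b⁻¹ = a ^ r ∧ b ^ p = a ^ t ∧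
      ((p : ℤ) ^ m ∣ r ^ p - 1) ∧ ((p : ℤ) ^ m ∣ r * t - t) := by
  have hP : IsPGroup p G := IsPGroup.of_card hG
  obtain ⟨a, rfl⟩ := (Subgroup.isCyclic_iff_exists_zpowers_eq_top C).mp hC
  have hn := normal_of_index_eq hP hCi
  have hcard : orderOf a = p ^ m := by
    have := Subgroup.card_mul_index (Subgroup.zpowers a)
    rw [hCi, hG, Nat.card_zpowers, pow_succ] at this
    exact Nat.eq_of_mul_eq_mul_right (Fact.out (p := p.Prime)).pos this
  have hco := isCoatom_of_index_eq hCi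
  obtain ⟨b, -, hb⟩ := SetLike.exists_of_lt (lt_top_iff_ne_top.mpr hco.1)
  have hgen : Subgroup.zpowers a ⊔ Subgroup.zpowers b = ⊤ := by
    refine hco.2 _ ?_
    rw [left_lt_sup]
    exact fun h => hb (h (Subgroup.mem_zpowers b))
  obtain ⟨r, hr⟩ := hn.conj_mem a (Subgroup.mem_zpowers a) b
  obtain ⟨t, ht⟩ := pow_mem_of_index_eq _ hCi b
  simp only at hr ht
  refine ⟨a, b, r, t, rfl, hcard, hb, hgen, hr.symm, ht.symm, ?_, ?_⟩
  · have h1 := conj_pow_zpow hr.symm p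
    rw [← ht, ((Commute.refl a).zpow_left t).eq, mul_inv_cancel_right] at h1
    have h2 := (zpow_eq_zpow_iff_dvd a (r ^ p) 1).mp (by rw [zpow_one]; exact h1.symm)
    rw [hcard] at h2
    exact_mod_cast h2
  · have h1 := PGroup.conj_zpow hr.symm t
    rw [ht, ((Commute.refl b).pow_right p).eq, mul_inv_cancel_right, ← ht] at h1
    have h2 := (zpow_eq_zpow_iff_dvd a _ _).mp h1.symm
    rw [hcard] at h2
    exact_mod_cast h2

theorem int_dvd_sub_one_of_pow_odd [hp : Fact p.Prime] (h2 : p ≠ 2) {m : ℕ} (hm : 1 ≤ m) {r : ℤ}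
    (h : (p : ℤ) ^ m ∣ r ^ p - 1) : (p : ℤ) ^ (m - 1) ∣ r - 1 := by
  have hmodp : (p : ℤ) ∣ r - 1 := by
    have h1 : (p : ℤ) ∣ r ^ p - 1 := (dvd_pow_self _ (by omega)).trans h
    rw [← ZMod.intCast_zmod_eq_zero_iff_dvd] at h1 ⊢
    push_cast at h1 ⊢
    rwa [ZMod.pow_card] at h1
  have hnd : ¬ (p : ℤ) ∣ r := fun hd => by
    have h1 : (p : ℤ) ∣ 1 := by simpa using dvd_sub hd hmodp
    exact hp.out.not_dvd_one (by exact_mod_cast h1)
  have he := Int.emultiplicity_pow_sub_pow hp.out (hp.out.odd_of_ne_two h2) (x := r) (y := 1)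
    hmodp hnd p
  rw [one_pow, (Nat.finiteMultiplicity_iff.mpr ⟨hp.out.ne_one, hp.out.pos⟩).emultiplicity_self] at he
  rw [pow_dvd_iff_le_emultiplicity] at h ⊢
  rw [he] at h
  obtain ⟨k, rfl⟩ : ∃ k, m = k + 1 := ⟨m - 1, by omega⟩
  rw [Nat.add_sub_cancel]
  push_cast at h
  exact (ENat.addLECancellable_of_ne_top ENat.one_ne_top).add_le_add_iff_right.mp h

/-- Non-cyclic `p`-groups with a cyclic subgroup of index `p`, `p` odd. -/
theorem cyclic_index_odd [Finite G] [Fact p.Prime] (h2 : p ≠ 2) {m : ℕ} (hm : 1 ≤ m)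
    (hG : Nat.card G = p ^ (m + 1)) (C : Subgroup G) (hC : IsCyclic C) (hCi : C.index = p)
    (hnc : ¬ IsCyclic G) :
    ∃ a b : G, ∃ r : ℤ, C = Subgroup.zpowers a ∧ orderOf a = p ^ m ∧ orderOf b = p ∧
      b ∉ Subgroup.zpowers a ∧ Subgroup.zpowers a ⊔ Subgroup.zpowers b = ⊤ ∧
      a ^ p ^ (m - 1) ∈ Subgroup.center G ∧ b * a * b⁻¹ = a * (a ^ p ^ (m - 1)) ^ r := by
  have hp := (Fact.out (p := p.Prime))
  obtain ⟨a, b, r, t, hCa, ha, hb, hgen, hab, hbp, hr, -⟩ := exists_cyclic_index_data hG C hC hCi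
  obtain ⟨k, hk⟩ := int_dvd_sub_one_of_pow_odd h2 hm hr
  set z := a ^ p ^ (m - 1) with hz
  have hmm : p ^ m = p * p ^ (m - 1) := by rw [← pow_succ']; congr 1; omega
  have hzp : z ^ p = 1 := by rw [hz, ← pow_mul, mul_comm, ← hmm, ← ha, pow_orderOf_eq_one]
  have hconj : b * a * b⁻¹ = a * z ^ k := by
    rw [hab, hz, ← zpow_natCast a (p ^ (m - 1)), ← zpow_mul, ← zpow_one_add]
    congr 1
    push_cast
    linarith
  have hzb : b * z * b⁻¹ = z := by
    rw [hz, ← conj_pow, hconj]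
    have hcz : Commute a (z ^ k) := ((Commute.refl a).pow_right _).zpow_right _
    rw [hcz.mul_pow, ← hz, ← zpow_natCast (z ^ k), ← zpow_mul, mul_comm k, zpow_mul, zpow_natCast]
    rcases Nat.eq_zero_or_pos (m - 1) with h0 | h0
    · have : z = a := by rw [hz, h0, pow_zero, pow_one]
      rw [h0, pow_zero, pow_one]
      -- here `a` has order `p`, and `a ↦ a·z^k` has `p`-th power the identity
      have hk0 : (p : ℤ) ∣ k + 1 - 1 := by
        have h1 : (p : ℤ) ∣ r - 1 := by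
          have hh : (p : ℤ) ^ m ∣ r ^ p - 1 := hr
          rw [show m = 1 by omega, pow_one] at hh
          rw [← ZMod.intCast_zmod_eq_zero_iff_dvd] at hh ⊢
          push_cast at hh ⊢
          rwa [ZMod.pow_card] at hh
        rw [hk, h0, pow_zero, one_mul] at h1
        simpa using h1
      obtain ⟨l, hl⟩ := hk0
      rw [show k = (p : ℤ) * l by linarith, zpow_mul, zpow_natCast, hzp, one_zpow, mul_one]
    · have : p ∣ p ^ (m - 1) := dvd_pow_self p (by omega)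
      obtain ⟨w, hw⟩ := this
      rw [hw, pow_mul, hzp, one_pow, one_zpow, mul_one]
  have hzc : z ∈ Subgroup.center G := by
    have htop : (⊤ : Subgroup G) ≤ Subgroup.centralizer {z} := by
      rw [← hgen]
      refine sup_le (Subgroup.zpowers_le.mpr ?_) (Subgroup.zpowers_le.mpr ?_)
      · exact Subgroup.mem_centralizer_singleton_iff.mpr ((Commute.refl a).pow_right _)
      · exact Subgroup.mem_centralizer_singleton_iff.mpr (mul_inv_eq_iff_eq_mul.mp hzb)
    exact Subgroup.mem_center_iff.mpr fun g =>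
      (Subgroup.mem_centralizer_singleton_iff.mp (htop (Subgroup.mem_top g)))
  have hcomm : ⁅b, a⁆ = z ^ k := by
    have hcz : Commute a (z ^ k) := ((Commute.refl a).pow_right _).zpow_right _
    rw [commutatorElement_def, hconj, hcz.eq, mul_inv_cancel_right]
  have hbc : ⁅b, a⁆ ∈ Subgroup.center G := hcomm ▸ Subgroup.zpow_mem _ hzc k
  -- `t` is divisible by `p`, as `G` is not cyclic
  obtain ⟨s, rfl⟩ : (p : ℤ) ∣ t := by
    by_contra hnd
    refine hnc (isCyclic_iff_exists_zpowers_eq_top.mpr ⟨b, ?_⟩)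
    have hat : a ∈ Subgroup.zpowers b := by
      have hcop : IsCoprime ((p : ℤ) ^ m) t :=
        IsCoprime.pow_left ((Nat.prime_iff_prime_int.mp hp).coprime_iff_not_dvd.mpr hnd)
      obtain ⟨x, y, hxy⟩ := hcop
      have : a = (b ^ p) ^ y := by
        rw [hbp, ← zpow_mul]
        conv_lhs => rw [← zpow_one a]
        rw [zpow_eq_zpow_iff_dvd, ha]
        exact ⟨x, by push_cast; linarith⟩
      rw [this]
      exact Subgroup.zpow_mem _ (Subgroup.pow_mem _ (Subgroup.mem_zpowers b) p) y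
    rw [← hgen, eq_comm, sup_eq_right, Subgroup.zpowers_le]
    exact hat
  have hbas : ⁅a ^ (-s), b⁆ ∈ Subgroup.center G ∧ ⁅a ^ (-s), b⁆ ^ p = 1 := by
    have hab' : ⁅a, b⁆ = (z ^ k)⁻¹ := by rw [← commutatorElement_inv, hcomm]
    have hc' : ⁅a, b⁆ ∈ Subgroup.center G := hab' ▸ inv_mem (Subgroup.zpow_mem _ hzc k)
    rw [commutator_zpow_left hc']
    refine ⟨Subgroup.zpow_mem _ hc' _, ?_⟩
    rw [hab', ← zpow_natCast, ← zpow_mul, mul_comm, zpow_mul, zpow_natCast, inv_pow,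
      ← zpow_natCast (z ^ k), ← zpow_mul, mul_comm, zpow_mul, zpow_natCast, hzp, one_zpow, inv_one,
      one_zpow]
  refine ⟨a, b * a ^ (-s), k, hCa, ha, ?_, ?_, ?_, hzc, ?_⟩
  · refine orderOf_eq_prime ?_ ?_
    · rw [mul_pow_prime hp h2 hbas.1 hbas.2, hbp, ← zpow_natCast (a ^ (-s)), ← zpow_mul,
        ← zpow_add, show (p : ℤ) * s + -s * (p : ℤ) = 0 by ring, zpow_zero]
    · intro h1
      exact hb (by rw [eq_inv_of_mul_eq_one_left h1]; exact inv_mem (Subgroup.zpow_mem _ (Subgroup.mem_zpowers a) _))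
  · intro h
    exact hb (by simpa using mul_mem h (Subgroup.zpow_mem _ (Subgroup.mem_zpowers a) s))
  · refine le_antisymm le_top (hgen ▸ sup_le le_sup_left (Subgroup.zpowers_le.mpr ?_))
    have := mul_mem ((le_sup_right : Subgroup.zpowers (b * a ^ (-s)) ≤
        Subgroup.zpowers a ⊔ Subgroup.zpowers (b * a ^ (-s))) (Subgroup.mem_zpowers _))
      ((le_sup_left : Subgroup.zpowers a ≤
        Subgroup.zpowers a ⊔ Subgroup.zpowers (b * a ^ (-s)))
        (Subgroup.zpow_mem _ (Subgroup.mem_zpowers a) s))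
    simpa using this
  · rw [← hconj]
    group

theorem two_pow_dvd_sub_or_add {m : ℕ} {r : ℤ} (h : (2 : ℤ) ^ m ∣ r ^ 2 - 1) :
    (2 : ℤ) ^ (m - 1) ∣ r - 1 ∨ (2 : ℤ) ^ (m - 1) ∣ r + 1 := by
  rcases Nat.eq_zero_or_pos m with rfl | hm
  · exact Or.inl (by simp)
  have hodd : ¬ (2 : ℤ) ∣ r := fun hd => by
    have h1 : (2 : ℤ) ∣ r ^ 2 - 1 := (dvd_pow_self _ hm.ne').trans h
    have h2 : (2 : ℤ) ∣ r ^ 2 := dvd_pow hd two_ne_zero
    have h3 : (2 : ℤ) ∣ 1 := by simpa using dvd_sub h2 h1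
    omega
  obtain ⟨q, rfl⟩ : ∃ q, r = 2 * q + 1 := ⟨r / 2, by omega⟩
  obtain ⟨k, rfl⟩ : ∃ k, m = k + 1 := ⟨m - 1, by omega⟩
  rw [Nat.add_sub_cancel]
  rcases Nat.eq_zero_or_pos k with rfl | hk
  · exact Or.inl (by simp)
  obtain ⟨j, rfl⟩ : ∃ j, k = j + 1 := ⟨k - 1, by omega⟩
  have h4 : (2 : ℤ) ^ j ∣ q * (q + 1) := by
    rw [show (2 * q + 1) ^ 2 - 1 = 4 * (q * (q + 1)) by ring,
      show (2 : ℤ) ^ (j + 1 + 1) = 4 * 2 ^ j by ring] at h
    exact (mul_dvd_mul_iff_left (by norm_num)).mp h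
  rcases Int.emod_two_eq_zero_or_one q with hq | hq
  · left
    have : IsCoprime ((2 : ℤ) ^ j) (q + 1) :=
      IsCoprime.pow_left (Int.prime_two.coprime_iff_not_dvd.mpr (by omega))
    rw [show 2 * q + 1 - 1 = 2 * q by ring, pow_succ']
    exact mul_dvd_mul_left 2 (this.dvd_of_dvd_mul_right h4)
  · right
    have : IsCoprime ((2 : ℤ) ^ j) q :=
      IsCoprime.pow_left (Int.prime_two.coprime_iff_not_dvd.mpr (by omega))
    rw [show 2 * q + 1 + 1 = 2 * (q + 1) by ring, pow_succ']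
    exact mul_dvd_mul_left 2 (this.dvd_of_dvd_mul_left h4)

theorem mul_zpow_sq {a b : G} {r : ℤ} (h : b * a * b⁻¹ = a ^ r) {t : ℤ} (ht : b ^ 2 = a ^ t)
    (i : ℤ) : (b * a ^ i) ^ 2 = a ^ (r * i + t + i) := by
  calc (b * a ^ i) ^ 2 = (b * a ^ i * b⁻¹) * b ^ 2 * a ^ i := by rw [pow_two, pow_two]; group
    _ = a ^ (r * i + t + i) := by rw [PGroup.conj_zpow h, ht, ← zpow_add, ← zpow_add]

/-- Non-abelian 2-groups with a cyclic subgroup of index 2. -/
theorem cyclic_index_two [Finite G] {m : ℕ} (hm : 2 ≤ m) (hG : Nat.card G = 2 ^ (m + 1))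
    (C : Subgroup G) (hC : IsCyclic C) (hCi : C.index = 2) (hna : ∃ x y : G, x * y ≠ y * x) :
    ∃ a b : G, C = Subgroup.zpowers a ∧ orderOf a = 2 ^ m ∧ b ∉ Subgroup.zpowers a ∧
      Subgroup.zpowers a ⊔ Subgroup.zpowers b = ⊤ ∧
      ((b ^ 2 = 1 ∧ b * a * b⁻¹ = a⁻¹) ∨
        (b ^ 2 = a ^ (2 ^ (m - 1)) ∧ b * a * b⁻¹ = a⁻¹) ∨
        (3 ≤ m ∧ b ^ 2 = 1 ∧ b * a * b⁻¹ = a ^ (1 + 2 ^ (m - 1))) ∨
        (3 ≤ m ∧ b ^ 2 = 1 ∧ b * a * b⁻¹ = a ^ (2 ^ (m - 1) - 1))) := by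
  have : Fact (Nat.Prime 2) := ⟨Nat.prime_two⟩
  obtain ⟨a, b, r, t, hCa, ha, hb, hgen, hab, hbp, hr, hrt⟩ := exists_cyclic_index_data hG C hC hCi
  obtain ⟨j, rfl⟩ : ∃ j, m = j + 2 := ⟨m - 2, by omega⟩
  rw [show j + 2 - 1 = j + 1 by omega]
  have hord : (orderOf a : ℤ) = 4 * 2 ^ j := by rw [ha]; push_cast; ring
  have hr' : (2 : ℤ) ^ (j + 2) ∣ r ^ 2 - 1 := by exact_mod_cast hr
  have hrt' : (4 * 2 ^ j : ℤ) ∣ r * t - t := by
    rw [show (4 * 2 ^ j : ℤ) = 2 ^ (j + 2) by ring]; exact_mod_cast hrt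
  have hr1 : ¬ (4 * 2 ^ j : ℤ) ∣ r - 1 := fun hd => by
    obtain ⟨x, y, hxy⟩ := hna
    refine hxy (commute_of_generators hgen ?_ x y)
    have : b * a * b⁻¹ = a := by
      rw [hab]; conv_rhs => rw [← zpow_one a]
      rwa [zpow_eq_zpow_iff_dvd, hord]
    exact (mul_inv_eq_iff_eq_mul.mp this).symm
  -- replacing `b` by `b * a ^ i`
  have hrep : ∀ i : ℤ, b * a ^ i ∉ Subgroup.zpowers a ∧
      Subgroup.zpowers a ⊔ Subgroup.zpowers (b * a ^ i) = ⊤ ∧
      (b * a ^ i) * a * (b * a ^ i)⁻¹ = a ^ r := by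
    intro i
    refine ⟨fun h => hb (by simpa using mul_mem h (Subgroup.zpow_mem _ (Subgroup.mem_zpowers a) (-i))),
      le_antisymm le_top (hgen ▸ sup_le le_sup_left (Subgroup.zpowers_le.mpr ?_)), ?_⟩
    · have := mul_mem ((le_sup_right : Subgroup.zpowers (b * a ^ i) ≤
          Subgroup.zpowers a ⊔ Subgroup.zpowers (b * a ^ i)) (Subgroup.mem_zpowers _))
        ((le_sup_left : Subgroup.zpowers a ≤ Subgroup.zpowers a ⊔ Subgroup.zpowers (b * a ^ i))
          (Subgroup.zpow_mem _ (Subgroup.mem_zpowers a) (-i)))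
      simpa using this
    · rw [← hab]; group
  have hpow : ((2 : ℕ) ^ (j + 1) : ℤ) = 2 * 2 ^ j := by push_cast; ring
  by_cases hm1 : (4 * 2 ^ j : ℤ) ∣ r + 1
  · -- inversion
    obtain ⟨u, hu⟩ := hm1
    have hinv : b * a * b⁻¹ = a⁻¹ := by
      rw [hab, ← zpow_neg_one, zpow_eq_zpow_iff_dvd, hord]
      exact ⟨u, by linarith⟩
    have h2t : (2 * 2 ^ j : ℤ) ∣ t := by
      obtain ⟨w, hw⟩ := hrt'
      refine ⟨u * t - w, ?_⟩
      have : r = 4 * 2 ^ j * u - 1 := by linarith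
      rw [this] at hw
      linarith
    obtain ⟨w, hw⟩ := h2t
    refine ⟨a, b, hCa, ha, hb, hgen, ?_⟩
    rcases Int.emod_two_eq_zero_or_one w with hw2 | hw2
    · left
      refine ⟨?_, hinv⟩
      rw [hbp, ← zpow_zero a, zpow_eq_zpow_iff_dvd, hord]
      obtain ⟨q, rfl⟩ : ∃ q, w = 2 * q := ⟨w / 2, by omega⟩
      exact ⟨q, by rw [hw]; ring⟩
    · right; left
      refine ⟨?_, hinv⟩
      rw [hbp, ← zpow_natCast, zpow_eq_zpow_iff_dvd, hord]
      refine ⟨w / 2, ?_⟩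
      rw [Nat.cast_pow, Nat.cast_ofNat, hw]
      conv_lhs => rw [show w = 2 * (w / 2) + 1 by omega]
      ring
  have hj : 1 ≤ j := by
    rcases two_pow_dvd_sub_or_add hr' with ⟨u, hu⟩ | ⟨u, hu⟩ <;>
    · by_contra hj
      obtain rfl : j = 0 := by omega
      norm_num at hu hr1 hm1
      omega
  obtain ⟨e, rfl⟩ : ∃ e, j = e + 1 := ⟨j - 1, by omega⟩
  rw [show (4 * 2 ^ (e + 1) : ℤ) = 8 * 2 ^ e by ring] at hr1 hm1 hrt' hord
  rcases two_pow_dvd_sub_or_add hr' with ⟨u, hu⟩ | ⟨u, hu⟩ <;>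
    rw [show (2 : ℤ) ^ (e + 1 + 2 - 1) = 4 * 2 ^ e by
      rw [show e + 1 + 2 - 1 = 2 + e by omega, pow_add]; norm_num] at hu
  · -- modular
    have hu1 : u % 2 = 1 := by
      by_contra h
      obtain ⟨q, rfl⟩ : ∃ q, u = 2 * q := ⟨u / 2, by omega⟩
      exact hr1 ⟨q, by rw [hu]; ring⟩
    obtain ⟨v, rfl⟩ : ∃ v, u = 2 * v + 1 := ⟨u / 2, by omega⟩
    obtain ⟨s, rfl⟩ : (2 : ℤ) ∣ t := by
      obtain ⟨w, hw⟩ := hrt'
      have h2 : (4 * 2 ^ e : ℤ) * ((2 * v + 1) * t) = 4 * 2 ^ e * (2 * w) := by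
        have : r = 4 * 2 ^ e * (2 * v + 1) + 1 := by linarith
        rw [this] at hw
        linarith
      have h3 := mul_left_cancel₀ (by positivity) h2
      exact (Int.prime_two.dvd_or_dvd (Dvd.intro w h3.symm)).resolve_left (by omega)
    -- solve `i (1 + 2 ^ (e+1) (2v+1)) ≡ -s` modulo `4 · 2 ^ e`
    obtain ⟨x, y, hxy⟩ : IsCoprime ((4 : ℤ) * 2 ^ e) (1 + 2 * 2 ^ e * (2 * v + 1)) := by
      rw [show (4 : ℤ) * 2 ^ e = 2 ^ (2 + e) by rw [pow_add]; norm_num]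
      refine IsCoprime.pow_left (Int.prime_two.coprime_iff_not_dvd.mpr fun hd => ?_)
      obtain ⟨w, hw⟩ := hd
      rw [mul_assoc] at hw
      omega
    obtain ⟨h1, h2, h3⟩ := hrep (-(s * y))
    refine ⟨a, b * a ^ (-(s * y)), hCa, ha, h1, h2, Or.inr (Or.inr (Or.inl ⟨by omega, ?_, ?_⟩))⟩
    · rw [mul_zpow_sq hab hbp, ← zpow_zero a, zpow_eq_zpow_iff_dvd, hord]
      refine ⟨s * x, ?_⟩
      have : r = 4 * 2 ^ e * (2 * v + 1) + 1 := by linarith
      rw [this]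
      linear_combination (-2 * s) * hxy
    · rw [h3, ← zpow_natCast, zpow_eq_zpow_iff_dvd, hord]
      refine ⟨v, ?_⟩
      push_cast
      rw [show r = 4 * 2 ^ e * (2 * v + 1) + 1 by linarith]
      ring
  · -- semidihedral
    have hu1 : u % 2 = 1 := by
      by_contra h
      obtain ⟨q, rfl⟩ : ∃ q, u = 2 * q := ⟨u / 2, by omega⟩
      exact hm1 ⟨q, by rw [hu]; ring⟩
    obtain ⟨v, rfl⟩ : ∃ v, u = 2 * v + 1 := ⟨u / 2, by omega⟩
    have hreq : r = 4 * 2 ^ e * (2 * v + 1) - 1 := by linarith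
    obtain ⟨w, hw⟩ : (4 * 2 ^ e : ℤ) ∣ t := by
      have h1 : (8 * 2 ^ e : ℤ) ∣ 2 * ((2 * 2 ^ e * (2 * v + 1) - 1) * t) := by
        refine hrt'.trans ⟨1, ?_⟩
        rw [hreq]; ring
      rw [show (8 * 2 ^ e : ℤ) = 2 * (4 * 2 ^ e) by ring] at h1
      refine IsCoprime.dvd_of_dvd_mul_left ?_ ((mul_dvd_mul_iff_left (by norm_num)).mp h1)
      rw [show (4 : ℤ) * 2 ^ e = 2 ^ (2 + e) by rw [pow_add]; norm_num]
      exact IsCoprime.pow_left (Int.prime_two.coprime_iff_not_dvd.mpr fun ⟨x, hx⟩ => by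
        rw [mul_assoc] at hx; omega)
    obtain ⟨h1, h2, h3⟩ := hrep w
    refine ⟨a, b * a ^ w, hCa, ha, h1, h2, Or.inr (Or.inr (Or.inr ⟨by omega, ?_, ?_⟩))⟩
    · rw [mul_zpow_sq hab hbp, ← zpow_zero a, zpow_eq_zpow_iff_dvd, hord]
      refine ⟨w * (v + 1), ?_⟩
      rw [hreq, hw]
      ring
    · have h1' : 1 ≤ 2 ^ (e + 1 + 1) := Nat.one_le_two_pow
      rw [h3, ← zpow_natCast, zpow_eq_zpow_iff_dvd, hord]
      refine ⟨v, ?_⟩
      rw [Nat.cast_sub h1']
      push_cast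
      rw [hreq]
      ring

/-- A group of order `2N` with generators satisfying the dihedral relations. -/
theorem dihedralEquivOfRel [Finite G] {N : ℕ} {a b : G} (ha : orderOf a = N)
    (hb : b ∉ Subgroup.zpowers a) (hb2 : b ^ 2 = 1) (hab : b * a * b⁻¹ = a⁻¹)
    (hcard : Nat.card G = 2 * N) : Nonempty (G ≃* DihedralGroup N) := by
  have hN : NeZero N := ⟨ha ▸ (orderOf_pos a).ne'⟩
  let e : ZMod N → G := fun i => a ^ i.val
  have he : ∀ i j, e (i + j) = e i * e j := fun i j => by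
    simp only [e]
    rw [← pow_add, pow_eq_pow_iff_modEq, ha, ZMod.val_add]
    exact Nat.mod_modEq _ _
  have heneg : ∀ i, e (-i) = (e i)⁻¹ := fun i => by
    refine eq_inv_of_mul_eq_one_left ?_
    rw [← he, neg_add_cancel]
    simp [e]
  have hbinv : ∀ i, e i * b = b * (e i)⁻¹ := fun i => by
    have h1 : b * (e i)⁻¹ * b⁻¹ = e i := by
      simp only [e, ← inv_pow, ← conj_pow]
      congr 1
      rw [← conj_inv, hab, inv_inv]
    conv_lhs => rw [← h1]
    rw [inv_mul_cancel_right]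
  have hbb : b * b = 1 := by rw [← sq, hb2]
  let f : DihedralGroup N → G := fun
    | DihedralGroup.r i => e i
    | DihedralGroup.sr i => b * e i
  have hmul : ∀ x y, f (x * y) = f x * f y := by
    rintro (i | i) (j | j)
    · exact he i j
    · show b * e (j - i) = e i * (b * e j)
      rw [← mul_assoc, hbinv, mul_assoc, ← heneg, ← he, ← sub_eq_neg_add]
    · show b * e (i + j) = b * e i * e j
      rw [he, mul_assoc]
    · show e (j - i) = b * e i * (b * e j)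
      rw [mul_assoc, ← mul_assoc (e i), hbinv, mul_assoc, ← mul_assoc b, hbb, one_mul, ← heneg,
        ← he, ← sub_eq_neg_add]
  let φ : DihedralGroup N →* G := MonoidHom.mk' f hmul
  have hinj : Function.Injective φ := by
    rw [← MonoidHom.ker_eq_bot_iff, Subgroup.eq_bot_iff_forall]
    rintro (i | i) hx
    · have h1 : a ^ i.val = 1 := hx
      rw [DihedralGroup.one_def]
      congr 1
      rw [← ZMod.val_eq_zero]
      exact Nat.eq_zero_of_dvd_of_lt (ha.symm.dvd.trans (orderOf_dvd_of_pow_eq_one h1)) (ZMod.val_lt i)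
    · exact absurd (eq_inv_of_mul_eq_one_left hx ▸
        inv_mem (Subgroup.pow_mem _ (Subgroup.mem_zpowers a) _)) hb
  exact ⟨(MulEquiv.ofBijective φ ((Nat.bijective_iff_injective_and_card φ).mpr
    ⟨hinj, by rw [DihedralGroup.nat_card, hcard]⟩)).symm⟩

/-- A group of order `4N` with generators satisfying the quaternion relations. -/
theorem quaternionEquivOfRel [Finite G] {N : ℕ} {a b : G} (ha : orderOf a = 2 * N)
    (hb : b ∉ Subgroup.zpowers a) (hb2 : b ^ 2 = a ^ N) (hab : b * a * b⁻¹ = a⁻¹)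
    (hcard : Nat.card G = 4 * N) : Nonempty (G ≃* QuaternionGroup N) := by
  have hN : NeZero N := ⟨fun h => (orderOf_pos a).ne' (by rw [ha, h, mul_zero])⟩
  let e : ZMod (2 * N) → G := fun i => a ^ i.val
  have he : ∀ i j, e (i + j) = e i * e j := fun i j => by
    simp only [e]
    rw [← pow_add, pow_eq_pow_iff_modEq, ha, ZMod.val_add]
    exact Nat.mod_modEq _ _
  have heneg : ∀ i, e (-i) = (e i)⁻¹ := fun i => by
    refine eq_inv_of_mul_eq_one_left ?_
    rw [← he, neg_add_cancel]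
    simp [e]
  have heN : e (N : ZMod (2 * N)) = a ^ N := by
    simp only [e]
    rw [ZMod.val_natCast_of_lt]
    have := NeZero.pos N
    omega
  have hbinv : ∀ i, e i * b = b * (e i)⁻¹ := fun i => by
    have h1 : b * (e i)⁻¹ * b⁻¹ = e i := by
      simp only [e, ← inv_pow, ← conj_pow]
      congr 1
      rw [← conj_inv, hab, inv_inv]
    conv_lhs => rw [← h1]
    rw [inv_mul_cancel_right]
  have hbb : b * b = a ^ N := by rw [← sq, hb2]
  let f : QuaternionGroup N → G := fun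
    | QuaternionGroup.a i => e i
    | QuaternionGroup.xa i => b * e i
  have hmul : ∀ x y, f (x * y) = f x * f y := by
    rintro (i | i) (j | j)
    · exact he i j
    · show b * e (j - i) = e i * (b * e j)
      rw [← mul_assoc, hbinv, mul_assoc, ← heneg, ← he, ← sub_eq_neg_add]
    · show b * e (i + j) = b * e i * e j
      rw [he, mul_assoc]
    · show e ((N : ZMod (2 * N)) + j - i) = b * e i * (b * e j)
      rw [mul_assoc, ← mul_assoc (e i), hbinv, mul_assoc, ← mul_assoc b, hbb, ← heneg,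
        ← he, ← sub_eq_neg_add, add_sub_assoc, he, heN]
  let φ : QuaternionGroup N →* G := MonoidHom.mk' f hmul
  have hinj : Function.Injective φ := by
    rw [← MonoidHom.ker_eq_bot_iff, Subgroup.eq_bot_iff_forall]
    rintro (i | i) hx
    · have h1 : a ^ i.val = 1 := hx
      rw [← QuaternionGroup.a_zero]
      congr 1
      rw [← ZMod.val_eq_zero]
      exact Nat.eq_zero_of_dvd_of_lt (ha.symm.dvd.trans (orderOf_dvd_of_pow_eq_one h1)) (ZMod.val_lt i)
    · exact absurd (eq_inv_of_mul_eq_one_left hx ▸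
        inv_mem (Subgroup.pow_mem _ (Subgroup.mem_zpowers a) _)) hb
  exact ⟨(MulEquiv.ofBijective φ ((Nat.bijective_iff_injective_and_card φ).mpr
    ⟨hinj, by rw [Nat.card_eq_fintype_card, QuaternionGroup.card, hcard]⟩)).symm⟩

end Cfsg.Agent.PGroup
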