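import Mathlib
import Cfsg.Agent.Lib.PGroup.UniqueOrderP

/-!
# Automorphisms of odd order of 2-groups with a single involution

An automorphism of odd order of a finite 2-group with at most one involution has order dividing
three, and is trivial unless the group has order eight.
-/

set_option autoImplicit false
set_option linter.style.haveILetI false

namespace Cfsg.Agent.PGroup

open QuaternionGroup

/-- The map of the quaternion group of order eight sending the generators to `u` and `v`. -/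
def quatMap (u v : QuaternionGroup 2) : QuaternionGroup 2 → QuaternionGroup 2
  | a i => u ^ i.val
  | xa i => v * u ^ i.val

theorem quatMap_iterate : ∀ u v : QuaternionGroup 2,
    (u * u ≠ 1 ∧ v * v ≠ 1 ∧ v ≠ u ∧ v ≠ u * u * u) →
    ∀ x : QuaternionGroup 2, (quatMap u v)^[12] x = x := by decide +kernel

theorem mulAut_quaternionGroup_two_pow_twelve (ψ : MulAut (QuaternionGroup 2)) : ψ ^ 12 = 1 := by
  set u := ψ (a 1) with hu
  set v := ψ (xa 0) with hv
  have hmap : ∀ x, ψ x = quatMap u v x := by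
    intro x
    cases x with
    | a i =>
      show ψ (a i) = u ^ i.val
      rw [hu, ← map_pow, a_one_pow, ZMod.natCast_zmod_val]
    | xa i =>
      show ψ (xa i) = v * u ^ i.val
      rw [hu, hv, ← map_pow, ← map_mul, a_one_pow, ZMod.natCast_zmod_val, xa_mul_a, zero_add]
  have h1 : u * u ≠ 1 ∧ v * v ≠ 1 ∧ v ≠ u ∧ v ≠ u * u * u := by
    refine ⟨?_, ?_, ?_, ?_⟩ <;>
      simp only [hu, hv, ← map_mul, ne_eq, EmbeddingLike.map_eq_one_iff, EmbeddingLike.apply_eq_iff_eq] <;>
      decide
  have hpow : ∀ (n : ℕ) x, (ψ ^ n) x = (quatMap u v)^[n] x := by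
    intro n
    induction n with
    | zero => intro x; rfl
    | succ n ih =>
      intro x
      rw [pow_succ', MulAut.mul_apply, ih, Function.iterate_succ_apply', hmap]
  ext x
  rw [hpow, quatMap_iterate u v h1]
  rfl

theorem eq_one_of_pow_two_pow_of_pow_odd {α : Type*} [Monoid α] {g : α} {m k : ℕ} (hm : Odd m)
    (hgm : g ^ m = 1) (hgk : g ^ 2 ^ k = 1) : g = 1 := by
  have h : orderOf g ∣ Nat.gcd m (2 ^ k) :=
    Nat.dvd_gcd (orderOf_dvd_of_pow_eq_one hgm) (orderOf_dvd_of_pow_eq_one hgk)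
  rw [Nat.Coprime.gcd_eq_one ((Nat.coprime_two_right.2 hm).pow_right k)] at h
  exact orderOf_eq_one_iff.1 (Nat.dvd_one.1 h)

theorem units_zmod_two_pow {n : ℕ} (r : (ZMod (2 ^ (n + 1)))ˣ) : r ^ 2 ^ n = 1 := by
  have h := ZMod.pow_totient r
  rwa [Nat.totient_prime_pow_succ Nat.prime_two, show 2 - 1 = 1 from rfl, mul_one] at h

/-- An odd-order automorphism of a generalised quaternion group of order at least 16 is trivial. -/
theorem mulAut_quaternionGroup_large {n : ℕ} (hn : 2 ≤ n) (ψ : MulAut (QuaternionGroup (2 ^ n)))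
    {m : ℕ} (hm : Odd m) (hψ : ψ ^ m = 1) : ψ = 1 := by
  haveI : NeZero (2 ^ n) := ⟨by positivity⟩
  haveI : NeZero (2 * 2 ^ n) := ⟨by positivity⟩
  have h2 : 2 * 2 ^ n = 2 ^ (n + 1) := by rw [pow_succ']
  have h8 : 8 ≤ 2 * 2 ^ n := by
    have : 2 ^ 2 ≤ 2 ^ n := Nat.pow_le_pow_right (by norm_num) hn
    omega
  have ho : orderOf (ψ (a 1)) = 2 * 2 ^ n := by rw [MulEquiv.orderOf_eq, orderOf_a_one]
  obtain ⟨r, hr⟩ : ∃ r, ψ (a 1) = a r := by
    rcases hx : ψ (a 1) with r | r
    · exact ⟨r, rfl⟩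
    · rw [hx, orderOf_xa] at ho
      omega
  have ha : ∀ i, ψ (a i) = a (r * i) := by
    intro i
    rw [← ZMod.natCast_zmod_val i, ← a_one_pow, map_pow, hr]
    induction i.val with
    | zero => simp
    | succ k ih => rw [pow_succ, ih, a_mul_a]; congr 1; push_cast; ring
  have hapow : ∀ (j : ℕ) i, (ψ ^ j) (a i) = a (r ^ j * i) := by
    intro j
    induction j with
    | zero => intro i; simp
    | succ j ih => intro i; rw [pow_succ', MulAut.mul_apply, ih, ha, pow_succ']; congr 1; ring
  have hrm : r ^ m = 1 := by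
    have := hapow m 1
    rw [hψ, MulAut.one_apply, mul_one] at this
    exact (a.inj this).symm
  have hr1 : r = 1 := by
    have hru : IsUnit r := IsUnit.of_pow_eq_one hrm (by intro h; rw [h] at hm; exact absurd hm (by decide))
    have key : ∀ (N : ℕ) (_ : N = 2 ^ (n + 1)) (s : (ZMod N)ˣ), s ^ 2 ^ n = 1 := by
      rintro N rfl s
      exact units_zmod_two_pow s
    have h1 : hru.unit = 1 := by
      refine eq_one_of_pow_two_pow_of_pow_odd hm ?_ (key _ h2 hru.unit)
      exact Units.ext (by rw [Units.val_pow_eq_pow_val, IsUnit.unit_spec, hrm]; rfl)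
    rw [← hru.unit_spec, h1]; rfl
  have hfix : ∀ i, ψ (a i) = a i := fun i => by rw [ha, hr1, one_mul]
  obtain ⟨k, hk⟩ : ∃ k, ψ (xa 0) = xa k := by
    rcases hx : ψ (xa 0) with k | k
    · have := ψ.injective (hx.trans (hfix k).symm)
      exact absurd this (by simp)
    · exact ⟨k, rfl⟩
  have hxa : ∀ i, ψ (xa i) = xa (k + i) := by
    intro i
    have : (xa i : QuaternionGroup (2 ^ n)) = xa 0 * a i := by rw [xa_mul_a, zero_add]
    rw [this, map_mul, hk, hfix, xa_mul_a]
  have hxpow : ∀ (j : ℕ), (ψ ^ j) (xa 0) = xa ((j : ZMod (2 * 2 ^ n)) * k) := by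
    intro j
    induction j with
    | zero => simp
    | succ j ih => rw [pow_succ', MulAut.mul_apply, ih, hxa]; congr 1; push_cast; ring
  have hk0 : k = 0 := by
    have := hxpow m
    rw [hψ, MulAut.one_apply] at this
    have h0 : (m : ZMod (2 * 2 ^ n)) * k = 0 := (xa.inj this).symm
    have hmu : IsUnit (m : ZMod (2 * 2 ^ n)) := by
      rw [ZMod.isUnit_iff_coprime, h2]
      exact (Nat.coprime_two_right.2 hm).pow_right _
    exact hmu.mul_right_eq_zero.1 h0
  ext x
  cases x with
  | a i => rw [hfix]; rfl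
  | xa i => rw [hxa, hk0, zero_add]; rfl

/-- An automorphism of odd order of a 2-group with at most one involution has order dividing three,
and is trivial unless the group has order eight. -/
theorem mulAut_odd_of_unique_involution {R : Type*} [Group R] [Finite R] (hR : IsPGroup 2 R)
    (huniq : ∀ x y : R, orderOf x = 2 → orderOf y = 2 → x = y) (φ : MulAut R) {m : ℕ} (hm : Odd m)
    (hφ : φ ^ m = 1) : φ ^ 3 = 1 ∧ (Nat.card R ≠ 8 → φ = 1) := by
  haveI : Fact (Nat.Prime 2) := ⟨Nat.prime_two⟩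
  have hsub : ∀ H K : Subgroup R, Nat.card H = 2 → Nat.card K = 2 → H = K := by
    intro H K hH hK
    obtain ⟨⟨x, hx⟩, hxo⟩ := exists_prime_orderOf_dvd_card' 2 (dvd_of_eq hH.symm)
    obtain ⟨⟨y, hy⟩, hyo⟩ := exists_prime_orderOf_dvd_card' 2 (dvd_of_eq hK.symm)
    rw [Subgroup.orderOf_mk] at hxo hyo
    have h1 : ∀ (L : Subgroup R) (w : R), Nat.card L = 2 → w ∈ L → orderOf w = 2 →
        L = Subgroup.zpowers w := fun L w hL hw ho =>
      (Subgroup.eq_of_le_of_card_ge (Subgroup.zpowers_le.2 hw) (by rw [hL, Nat.card_zpowers, ho])).symm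
    rw [h1 H x hH hx hxo, h1 K y hK hy hyo, huniq x y hxo hyo]
  rcases cyclic_or_quaternion_of_unique hR hsub with hc | ⟨-, n, hn, hcard, ⟨e⟩⟩
  · suffices h : φ = 1 by exact ⟨by rw [h, one_pow], fun _ => h⟩
    obtain ⟨k, hk⟩ := hR.exists_card_eq
    have h1 : Nat.card (MulAut R) = Nat.totient (2 ^ k) := by
      rw [IsCyclic.card_mulAut, hk]
    rcases k with _ | k
    · haveI : Subsingleton R := (Nat.card_eq_one_iff_unique.1 (by rw [hk, pow_zero])).1
      exact MulEquiv.ext fun x => Subsingleton.elim _ _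
    · refine eq_one_of_pow_two_pow_of_pow_odd hm hφ (k := k) ?_
      have := pow_card_eq_one' (x := φ)
      rwa [h1, Nat.totient_prime_pow_succ Nat.prime_two, show 2 - 1 = 1 from rfl, mul_one] at this
  · set ψ := MulAut.congr e φ with hψdef
    have hψ : ψ ^ m = 1 := by rw [hψdef, ← map_pow, hφ, map_one]
    have hinj : ∀ j, ψ ^ j = 1 → φ ^ j = 1 := fun j h => by
      rw [hψdef, ← map_pow, EmbeddingLike.map_eq_one_iff] at h
      exact h
    by_cases h1 : n = 1
    · subst h1
      refine ⟨hinj 3 ?_, fun h8 => absurd (by rw [hcard]; norm_num) h8⟩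
      have h12 : ψ ^ 12 = 1 := mulAut_quaternionGroup_two_pow_twelve ψ
      refine eq_one_of_pow_two_pow_of_pow_odd hm (k := 2) ?_ ?_
      · rw [← pow_mul, mul_comm, pow_mul, hψ, one_pow]
      · rw [← pow_mul]; exact h12
    · have h := mulAut_quaternionGroup_large (by omega) ψ hm hψ
      have h' : φ = 1 := by simpa using hinj 1 (by rw [pow_one, h])
      exact ⟨by rw [h', one_pow], fun _ => h'⟩

end Cfsg.Agent.PGroup
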