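import Cfsg.Agent.Lib.PGroup.MetacyclicTwo

/-!
A metacyclic 2-group with a nontrivial automorphism of odd order is homocyclic or quaternion of
order 8.
-/

set_option autoImplicit false

namespace Cfsg.Agent.PGroup.MetacyclicTwo

open scoped commutatorElement

variable {G : Type*} [Group G] [Finite G]

theorem dvd_sub_one_of_dvd_pow_sub_one {e : ℕ} {m : ℕ} (hm : Odd m) {r : ℤ} (hr : Odd r)
    (h : (2 : ℤ) ^ e ∣ r ^ m - 1) : (2 : ℤ) ^ e ∣ r - 1 := by
  rw [← mul_geom_sum r m] at h
  refine IsCoprime.dvd_of_dvd_mul_right ?_ h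
  refine IsCoprime.pow_left (Int.prime_two.coprime_iff_not_dvd.2 fun h2 => ?_)
  have h3 : ((∑ i ∈ Finset.range m, r ^ i : ℤ) : ZMod 2) = 0 :=
    (ZMod.intCast_zmod_eq_zero_iff_dvd _ 2).2 h2
  obtain ⟨q, rfl⟩ := hr
  have h20 : (2 : ZMod 2) = 0 := rfl
  push_cast at h3
  simp [h20] at h3
  obtain ⟨n, rfl⟩ := hm
  simp [h20] at h3

/-- The dichotomy, with generators for both cases. -/
theorem homocyclic_or_quaternion_of_odd_aut (hG : IsPGroup 2 G) (hm : Cfsg.IsMetacyclic G)
    {α : MulAut G} (hodd : Odd (orderOf α)) (hne : α ≠ 1) :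
    (∃ n : ℕ, 0 < n ∧ (∀ g h : G, g * h = h * g) ∧ Nat.card G = 2 ^ (2 * n) ∧
      ∀ g : G, g ^ 2 ^ n = 1) ∨
    (Nat.card G = 8 ∧ ∃ i j : G, orderOf i = 4 ∧ j ^ 2 = i ^ 2 ∧ j * i * j⁻¹ = i⁻¹) := by
  have : Fact (Nat.Prime 2) := ⟨Nat.prime_two⟩
  obtain ⟨K, hKn, hKc, hQc⟩ := hm
  set m := orderOf α with hm'
  have hαm : α ^ m = 1 := pow_orderOf_eq_one α
  set Φ := frattini G with hΦ
  obtain ⟨h0, hh0⟩ : ∃ x, x⁻¹ * α x ∉ Φ := by
    by_contra hc
    push Not at hc
    exact hne (aut_trivial_of_frattini hG (Nat.coprime_two_right.2 hodd) hc)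
  let π : G →* G ⧸ Φ := QuotientGroup.mk' Φ
  have hsq : ∀ x : G, π x * π x = 1 := fun x => by
    rw [← map_mul, ← sq]
    exact (QuotientGroup.eq_one_iff _).2 (pow_mem_frattini hG x)
  have hcomm : ∀ x y : G, π x * π y = π y * π x := fun x y => by
    rw [← commutatorElement_eq_one_iff_mul_comm, ← map_commutatorElement]
    exact (QuotientGroup.eq_one_iff _).2 (commutator_le_frattini hG
      (Subgroup.commutator_mem_commutator (Subgroup.mem_top _) (Subgroup.mem_top _)))
  have hαΦ : ∀ x y : G, π x = π y → π (α x) = π (α y) := by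
    intro x y h
    have h1 : x⁻¹ * y ∈ Φ := QuotientGroup.eq.1 h
    refine QuotientGroup.eq.2 ?_
    rw [← map_inv, ← map_mul]
    have hchar : Φ ≤ Φ.comap α.toMonoidHom :=
      frattini_le_comap_frattini_of_surjective α.surjective
    exact hchar h1
  have hback : ∀ x, π (α (α x)) = π x → π (α x) = π x := by
    intro x hx
    have h2 : ∀ n, π ((α ^ (2 * n)) x) = π x := by
      intro n
      induction n with
      | zero => rfl
      | succ n ih =>
        rw [show 2 * (n + 1) = 2 + 2 * n by ring, pow_add, MulAut.mul_apply, sq, MulAut.mul_apply,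
          hαΦ _ _ (hαΦ _ _ ih)]
        exact hx
    obtain ⟨n, hn⟩ := hodd
    have h3 := h2 (n + 1)
    rw [show 2 * (n + 1) = m + 1 by omega, pow_add, hαm, one_mul, pow_one] at h3
    exact h3
  -- generators
  obtain ⟨k, hk⟩ := IsCyclic.exists_generator (α := K)
  have hKk : K = Subgroup.zpowers (k : G) := by
    refine le_antisymm (fun y hy => ?_) (Subgroup.zpowers_le.2 k.2)
    obtain ⟨i, hi⟩ := Subgroup.mem_zpowers_iff.1 (hk ⟨y, hy⟩)
    exact Subgroup.mem_zpowers_iff.2 ⟨i, by rw [← Subgroup.coe_zpow, hi]⟩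
  obtain ⟨gq, hgq⟩ := IsCyclic.exists_generator (α := G ⧸ K)
  obtain ⟨g, rfl⟩ := QuotientGroup.mk'_surjective K gq
  set x : G := (k : G) with hxdef
  have hz2 : ∀ (y : G) (i : ℤ), π y ^ i = 1 ∨ π y ^ i = π y := by
    intro y i
    rcases Int.even_or_odd i with ⟨q, rfl⟩ | ⟨q, rfl⟩
    · left; rw [← two_mul, zpow_mul, zpow_two, hsq, one_zpow]
    · right; rw [zpow_add, zpow_mul, zpow_two, hsq, one_zpow, one_mul, zpow_one]
  have hclass : ∀ h : G, π h = 1 ∨ π h = π x ∨ π h = π g ∨ π h = π x * π g := by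
    intro h
    obtain ⟨j, hj⟩ := Subgroup.mem_zpowers_iff.1 (hgq (QuotientGroup.mk' K h))
    have h1 : h * (g ^ j)⁻¹ ∈ K := by
      rw [← QuotientGroup.eq_one_iff, ← QuotientGroup.mk'_apply, map_mul, map_inv, map_zpow, hj,
        mul_inv_cancel]
    obtain ⟨i, hi⟩ := Subgroup.mem_zpowers_iff.1 (hKk ▸ h1 : _ ∈ Subgroup.zpowers x)
    have hh : π h = π x ^ i * π g ^ j := by
      rw [← map_zpow, ← map_zpow, ← map_mul, hi, inv_mul_cancel_right]
    rcases hz2 x i with e1 | e1 <;> rcases hz2 g j with e2 | e2 <;> rw [hh, e1, e2] <;> simp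
  have hα1 : ∀ y : G, π (α y) = 1 → π y = 1 := by
    intro y hy
    have h1 : α y ∈ Φ := (QuotientGroup.eq_one_iff _).1 hy
    have hchar : Φ ≤ Φ.comap α.symm.toMonoidHom :=
      frattini_le_comap_frattini_of_surjective α.symm.surjective
    have h2 := hchar h1
    rw [Subgroup.mem_comap, MulEquiv.coe_toMonoidHom, MulEquiv.symm_apply_apply] at h2
    exact (QuotientGroup.eq_one_iff _).2 h2
  have hnx : π (α x) ≠ π x := by
    intro hx
    apply hh0
    rw [← QuotientGroup.eq_one_iff, ← QuotientGroup.mk'_apply]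
    show π (h0⁻¹ * α h0) = 1
    rw [map_mul, map_inv, inv_mul_eq_one]
    symm
    have hg : π (α g) = π g := by
      refine hback g ?_
      rcases hclass (α g) with e | e | e | e
      · rw [hαΦ (α g) 1 (e.trans (map_one π).symm), map_one, map_one, hα1 g e]
      · have h1 : π (α (g * x⁻¹)) = 1 := by rw [map_mul, map_inv, map_mul, map_inv, e, hx, mul_inv_cancel]
        have h2 := hα1 _ h1
        rw [map_mul, map_inv, mul_inv_eq_one] at h2
        rw [hαΦ (α g) x e, hx, h2]
      · rw [hαΦ (α g) g e, e]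
      · rw [hαΦ (α g) (x * g) (e.trans (map_mul π x g).symm), map_mul, map_mul, hx, e, ← mul_assoc,
          hsq, one_mul]
    rcases hclass h0 with e | e | e | e
    · rw [e, ← map_one π]
      have := hαΦ h0 1 (e.trans (map_one π).symm)
      rwa [map_one] at this
    · rw [hαΦ h0 x e, hx, e]
    · rw [hαΦ h0 g e, hg, e]
    · rw [hαΦ h0 (x * g) (e.trans (map_mul π x g).symm), map_mul, map_mul, hx, hg, e]
  have hx1 : π x ≠ 1 := fun h => hnx (by
    have := hαΦ x 1 (h.trans (map_one π).symm)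
    rw [this, map_one, map_one, h])
  set y := α x with hydef
  set z := α y with hzdef
  have hy1 : π y ≠ 1 := fun h => hx1 (hα1 x h)
  have hzx : π z ≠ π x := fun h => hnx (hback x h)
  have hzy : π z ≠ π y := fun h => hnx (by
    have h2 : π (x⁻¹ * y) = 1 := hα1 _ (by
      rw [map_mul α, map_inv α, ← hydef, ← hzdef, map_mul, map_inv, h, inv_mul_cancel])
    rw [map_mul, map_inv, inv_mul_eq_one] at h2
    exact h2.symm)
  have hsup : Subgroup.closure ({x, y} : Set G) = ⊤ := by
    refine frattini_nongenerating (eq_top_iff.2 fun h _ => ?_)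
    set C := Subgroup.closure ({x, y} : Set G)
    have hmem : ∀ w ∈ C, π h = π w → h ∈ C ⊔ Φ := by
      intro w hw he
      rw [show h = w * (w⁻¹ * h) by group]
      exact Subgroup.mul_mem _ (Subgroup.mem_sup_left hw)
        (Subgroup.mem_sup_right (QuotientGroup.eq.1 he.symm))
    have hxC : x ∈ C := Subgroup.subset_closure (by simp)
    have hyC : y ∈ C := Subgroup.subset_closure (by simp)
    have hb : π y = π g ∨ π y = π x * π g := by
      rcases hclass y with e | e | e | e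
      exacts [absurd e hy1, absurd e hnx, Or.inl e, Or.inr e]
    rcases hclass h with e | e | e | e
    · exact hmem 1 C.one_mem (e.trans (map_one π).symm)
    · exact hmem x hxC e
    · rcases hb with hb | hb
      · exact hmem y hyC (e.trans hb.symm)
      · refine hmem (x * y) (C.mul_mem hxC hyC) ?_
        rw [e, map_mul, hb, ← mul_assoc, hsq, one_mul]
    · rcases hb with hb | hb
      · exact hmem (x * y) (C.mul_mem hxC hyC) (by rw [e, map_mul, hb])
      · exact hmem y hyC (e.trans hb.symm)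
  -- the three cyclic normal subgroups
  set K1 := K.map α.toMonoidHom with hK1
  have hK1n : K1.Normal := hKn.map _ α.surjective
  have hK1y : K1 = Subgroup.zpowers y := by
    rw [hK1, hKk, MonoidHom.map_zpowers]; rfl
  have hxK : x ∈ K := k.2
  have hyK1 : y ∈ K1 := ⟨x, hxK, rfl⟩
  have hK1c : ∀ a ∈ K1, ∀ b ∈ K1, a * b = b * a := by
    rintro _ ⟨a, ha, rfl⟩ _ ⟨b, hb, rfl⟩
    rw [← map_mul, ← map_mul, comm_in_cyclic K ha hb]
  set I := K ⊓ K1 with hI
  have hIc : ∀ w ∈ I, w ∈ Subgroup.center G := by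
    intro w hw
    refine Subgroup.mem_center_iff.2 fun h => ?_
    have hle : Subgroup.closure ({x, y} : Set G) ≤ Subgroup.centralizer {w} := by
      rw [Subgroup.closure_le]
      rintro e (rfl | rfl)
      · exact Subgroup.mem_centralizer_singleton_iff.2 (comm_in_cyclic K hxK hw.1)
      · exact Subgroup.mem_centralizer_singleton_iff.2 (hK1c _ hyK1 _ hw.2)
    exact Subgroup.mem_centralizer_singleton_iff.1 (hle (hsup ▸ Subgroup.mem_top h))
  set c := ⁅y, x⁆ with hcdef
  have hcI : c ∈ I := by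
    constructor
    · rw [hcdef, commutatorElement_def]
      exact K.mul_mem (hKn.conj_mem x hxK y) (K.inv_mem hxK)
    · rw [hcdef, commutatorElement_def, mul_assoc, mul_assoc]
      exact K1.mul_mem hyK1 (by simpa [mul_assoc] using hK1n.conj_mem _ (K1.inv_mem hyK1) x)
  have hcc := hIc c hcI
  have hform : ∀ h : G, ∃ a b : ℤ, h = x ^ a * y ^ b := by
    intro h
    have htop : K ⊔ K1 = ⊤ := by
      rw [eq_top_iff, ← hsup, Subgroup.closure_le]
      rintro e (rfl | rfl)
      exacts [Subgroup.mem_sup_left hxK, Subgroup.mem_sup_right hyK1]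
    have hh : h ∈ ((K ⊔ K1 : Subgroup G) : Set G) := by rw [htop]; trivial
    rw [Subgroup.normal_mul] at hh
    obtain ⟨u, hu, v, hv, rfl⟩ := hh
    obtain ⟨a, rfl⟩ := Subgroup.mem_zpowers_iff.1 (hKk ▸ hu : u ∈ Subgroup.zpowers x)
    obtain ⟨b, rfl⟩ := Subgroup.mem_zpowers_iff.1 (hK1y ▸ hv : v ∈ Subgroup.zpowers y)
    exact ⟨a, b, rfl⟩
  obtain ⟨l, hl⟩ := IsPGroup.iff_orderOf.1 hG x
  have hly : orderOf y = 2 ^ l := by rw [← hl]; exact α.orderOf_eq x
  obtain ⟨e, he⟩ := IsPGroup.iff_card.1 (hG.to_subgroup I)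
  have hKcard : Nat.card K = 2 ^ l := by rw [hKk, Nat.card_zpowers, hl]
  have hel : e ≤ l := by
    have h1 := Subgroup.card_dvd_of_le (inf_le_left : I ≤ K)
    rw [he, hKcard] at h1
    exact (Nat.pow_dvd_pow_iff_le_right one_lt_two).1 h1
  obtain ⟨f, rfl⟩ : ∃ f, l = f + e := ⟨l - e, by omega⟩
  -- `I` is generated by the `2 ^ f`-th power of each generator
  have hIpow : ∀ v : G, orderOf v = 2 ^ (f + e) → I ≤ Subgroup.zpowers v →
      I = Subgroup.zpowers (v ^ 2 ^ f) := by
    intro v hv hle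
    have ho : orderOf (v ^ 2 ^ f) = 2 ^ e := by
      rw [orderOf_pow, hv, Nat.gcd_eq_right (pow_dvd_pow 2 (Nat.le_add_right f e)), pow_add,
        Nat.mul_div_cancel_left _ (pow_pos two_pos f)]
    refine Subgroup.eq_of_le_of_card_ge (fun w hw => ?_) (by rw [he, Nat.card_zpowers, ho])
    have hw' : w ^ 2 ^ e = 1 := by
      have h1 : (⟨w, hw⟩ : I) ^ Nat.card I = 1 := pow_card_eq_one'
      rw [he] at h1
      simpa using congrArg Subtype.val h1
    have h1 := mem_zpowers_of_pow_eq_one (x := (⟨w, hle hw⟩ : Subgroup.zpowers v))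
      (y := ⟨v ^ 2 ^ f, Subgroup.pow_mem _ (Subgroup.mem_zpowers v) _⟩)
      (by rw [← Subgroup.orderOf_coe]; refine Subtype.ext ?_; simp only [SubgroupClass.coe_pow, OneMemClass.coe_one]; rw [ho]; exact hw')
    obtain ⟨i, hi⟩ := Subgroup.mem_zpowers_iff.1 h1
    exact Subgroup.mem_zpowers_iff.2 ⟨i, by simpa using congrArg Subtype.val hi⟩
  have hIx : I = Subgroup.zpowers (x ^ 2 ^ f) := hIpow x hl (inf_le_left.trans hKk.le)
  have hIy : I = Subgroup.zpowers (y ^ 2 ^ f) := hIpow y hly (inf_le_right.trans hK1y.le)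
  set w := x ^ 2 ^ f with hw
  have hwo : orderOf w = 2 ^ e := by rw [← Nat.card_zpowers, ← hIx, he]
  have hwI : w ∈ I := hIx ▸ Subgroup.mem_zpowers w
  -- `α` fixes `w`
  have hαI : ∀ v ∈ I, α v ∈ I := by
    intro v hv
    obtain ⟨i, rfl⟩ := Subgroup.mem_zpowers_iff.1 (hIx ▸ hv : v ∈ Subgroup.zpowers w)
    rw [hIy, map_zpow, hw, map_pow, ← hydef]
    exact Subgroup.zpow_mem _ (Subgroup.mem_zpowers _) i
  obtain ⟨r, hr⟩ := Subgroup.mem_zpowers_iff.1 (hIx ▸ hαI w hwI : α w ∈ Subgroup.zpowers w)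
  have hiter : ∀ n : ℕ, (α ^ n) w = w ^ (r ^ n) := by
    intro n
    induction n with
    | zero => simp
    | succ n ih => rw [pow_succ', MulAut.mul_apply, ih, map_zpow, ← hr, ← zpow_mul, pow_succ']
  have hαw : α w = w := by
    rcases Nat.eq_zero_or_pos e with rfl | he0
    · rw [pow_zero, orderOf_eq_one_iff] at hwo
      rw [hwo, map_one]
    have hrodd : Odd r := by
      by_contra hre
      rw [Int.not_odd_iff_even] at hre
      obtain ⟨q, rfl⟩ := hre
      have h1 := α.orderOf_eq w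
      rw [← hr, hwo, ← two_mul] at h1
      have h2 : orderOf (w ^ (2 * q)) ∣ 2 ^ (e - 1) := by
        rw [orderOf_dvd_iff_pow_eq_one, ← zpow_natCast, ← zpow_mul,
          ← orderOf_dvd_iff_zpow_eq_one, hwo]
        refine ⟨q, ?_⟩
        push_cast
        rw [show e = e - 1 + 1 by omega, Nat.add_sub_cancel, pow_succ]
        ring
      rw [h1] at h2
      have := (Nat.pow_dvd_pow_iff_le_right one_lt_two).1 h2
      omega
    have h1 := hiter m
    rw [hαm, MulAut.one_apply, ← mul_inv_eq_one, ← zpow_neg, ← zpow_one_add,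
      ← orderOf_dvd_iff_zpow_eq_one, hwo] at h1
    have h2 : (2 : ℤ) ^ e ∣ r ^ m - 1 := by
      have h3 := dvd_neg.2 h1
      push_cast at h3
      rwa [neg_add_rev, neg_neg, ← sub_eq_add_neg] at h3
    have h3 := dvd_sub_one_of_dvd_pow_sub_one hodd hrodd h2
    rw [← hr, ← mul_inv_eq_one, ← zpow_sub_one, ← orderOf_dvd_iff_zpow_eq_one, hwo]
    exact_mod_cast h3
  have hyw : y ^ 2 ^ f = w := by rw [hydef, ← map_pow, ← hw, hαw]
  have hzw : z ^ 2 ^ f = w := by rw [hzdef, ← map_pow, hyw, hαw]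
  -- the third generator
  obtain ⟨a, b, hab⟩ := hform z
  have hπz : π z = π x ^ a * π y ^ b := by rw [hab, map_mul, map_zpow, map_zpow]
  have haodd : Odd a := by
    rw [← Int.not_even_iff_odd]
    rintro ⟨q, rfl⟩
    rw [← two_mul, zpow_mul, zpow_two, hsq, one_zpow, one_mul] at hπz
    rcases hz2 y b with h | h <;> rw [h] at hπz
    · exact hx1 (hα1 x (hα1 y hπz))
    · exact hzy hπz
  have hbodd : Odd b := by
    rw [← Int.not_even_iff_odd]
    rintro ⟨q, rfl⟩
    rw [← two_mul q, zpow_mul (π y), zpow_two, hsq, one_zpow, mul_one] at hπz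
    rcases hz2 x a with h | h <;> rw [h] at hπz
    · exact hx1 (hα1 x (hα1 y hπz))
    · exact hzx hπz
  have hcN : c ^ 2 ^ f = 1 := by
    rw [hcdef, ← commutator_pow_left hcc, commutatorElement_eq_one_iff_mul_comm, hyw]
    exact (Subgroup.mem_center_iff.1 (hIc w hwI) x).symm
  obtain ⟨s, hs⟩ := Subgroup.mem_zpowers_iff.1 (hIx ▸ hcI : c ∈ Subgroup.zpowers w)
  have hyx : ⁅y ^ b, x ^ a⁆ = c ^ (a * b) := by
    have hc' : ⁅x ^ a, y⁆ ∈ Subgroup.center G := by
      rw [commutator_zpow_left (by rw [← commutatorElement_inv]; exact inv_mem hcc)]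
      exact Subgroup.zpow_mem _ (by rw [← commutatorElement_inv]; exact inv_mem hcc) a
    rw [commutator_zpow_left (by rw [← commutatorElement_inv]; exact inv_mem hc'),
      ← commutatorElement_inv (x ^ a) y,
      commutator_zpow_left (by rw [← commutatorElement_inv]; exact inv_mem hcc),
      ← commutatorElement_inv y x, ← hcdef, inv_zpow, inv_zpow, inv_zpow, inv_inv, zpow_mul]
  have hexp : w ^ (a + b - 1 + s * (a * b) * ((2 ^ f).choose 2 : ℕ)) = 1 := by
    have h1 := mul_pow_of_central (x := x ^ a) (y := y ^ b)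
      (by rw [hyx]; exact Subgroup.zpow_mem _ hcc _) (2 ^ f)
    rw [← hab, hzw, hyx, ← zpow_natCast (x ^ a), ← zpow_natCast (y ^ b), ← zpow_mul, ← zpow_mul,
      mul_comm a, mul_comm b, zpow_mul x, zpow_mul y, zpow_natCast, zpow_natCast, ← hw, hyw,
      ← hs, ← zpow_mul, ← zpow_natCast (w ^ (s * (a * b))), ← zpow_mul, ← zpow_add, ← zpow_add] at h1
    rw [sub_add_eq_add_sub, zpow_sub, ← h1, zpow_one, mul_inv_cancel]
  rcases Nat.eq_zero_or_pos e with he0 | he0
  · -- abelian
    left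
    subst he0
    have hI1 : I = ⊥ := Subgroup.eq_bot_of_card_eq I (by simpa using he)
    have hc1 : c = 1 := by rw [hI1] at hcI; exact hcI
    have hxy : Commute y x := commutatorElement_eq_one_iff_mul_comm.1 hc1
    refine ⟨f, ?_, fun g h => ?_, ?_, fun g => ?_⟩
    · rcases Nat.eq_zero_or_pos f with rfl | hf
      · exfalso
        rw [Nat.add_zero, pow_zero, orderOf_eq_one_iff] at hl
        exact hx1 (by rw [hl, map_one])
      · exact hf
    · obtain ⟨a1, b1, rfl⟩ := hform g
      obtain ⟨a2, b2, rfl⟩ := hform h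
      exact (((Commute.zpow_zpow_self x a1 a2).mul_right (hxy.symm.zpow_zpow a1 b2)).mul_left
        ((hxy.zpow_zpow b1 a2).mul_right (Commute.zpow_zpow_self y b1 b2))).eq
    · have hK1card : Nat.card K1 = 2 ^ (f + 0) := by
        rw [hK1y, Nat.card_zpowers, hly]
      have hbij : Function.Bijective (fun q : K × K1 => (q.1 : G) * q.2) := by
        refine ⟨Subgroup.disjoint_def.2 ?_ |> Subgroup.mul_injective_of_disjoint, fun h => ?_⟩
        · intro v hv hv'
          have : v ∈ I := ⟨hv, hv'⟩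
          rw [hI1] at this
          exact this
        · obtain ⟨a1, b1, rfl⟩ := hform h
          exact ⟨(⟨x ^ a1, K.zpow_mem hxK a1⟩, ⟨y ^ b1, K1.zpow_mem hyK1 b1⟩), rfl⟩
      rw [← Nat.card_congr (Equiv.ofBijective _ hbij), Nat.card_prod, hKcard, hK1card, ← pow_add]
      congr 1
      omega
    · obtain ⟨a1, b1, rfl⟩ := hform g
      rw [(hxy.symm.zpow_zpow a1 b1).mul_pow, ← zpow_natCast, ← zpow_mul, mul_comm, zpow_mul,
        zpow_natCast, ← zpow_natCast (y ^ b1), ← zpow_mul, mul_comm, zpow_mul, zpow_natCast]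
      rw [show 2 ^ f = orderOf x from hl.symm, pow_orderOf_eq_one, one_zpow, one_mul, hl, ← hly,
        pow_orderOf_eq_one, one_zpow]
  · -- quaternion
    right
    rw [← orderOf_dvd_iff_zpow_eq_one, hwo] at hexp
    have h2 : (2 : ℤ) ∣ a + b - 1 + s * (a * b) * ((2 ^ f).choose 2 : ℕ) := by
      refine dvd_trans ?_ hexp
      exact_mod_cast dvd_pow_self 2 he0.ne'
    have hodd' : Odd (s * ((2 ^ f).choose 2 : ℕ)) := by
      obtain ⟨a', rfl⟩ := haodd
      obtain ⟨b', rfl⟩ := hbodd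
      rw [← Int.not_even_iff_odd]
      rintro ⟨q, hq⟩
      obtain ⟨t, ht⟩ := h2
      have : (1 : ℤ) = 2 * (t - a' - b' - q * ((2 * a' + 1) * (2 * b' + 1))) := by
        linear_combination ht - ((2 * a' + 1) * (2 * b' + 1)) * hq
      omega
    rw [Int.odd_mul] at hodd'
    obtain ⟨hsodd, hCodd⟩ := hodd'
    have hf1 : f = 1 := by
      rcases f with - | _ | f
      · exfalso
        have h1 : (2 ^ 0).choose 2 = 0 := rfl
        rw [h1] at hCodd
        simp at hCodd
      · rfl
      · exfalso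
        rw [Nat.choose_two_right, Int.odd_coe_nat] at hCodd
        rw [show 2 ^ (f + 2) * (2 ^ (f + 2) - 1) / 2 = 2 * (2 ^ f * (2 ^ (f + 2) - 1)) by
          rw [show 2 ^ (f + 2) * (2 ^ (f + 2) - 1) = 2 * (2 * (2 ^ f * (2 ^ (f + 2) - 1))) by ring,
            Nat.mul_div_cancel_left _ two_pos]] at hCodd
        exact Nat.not_even_iff_odd.2 hCodd (even_two_mul _)
    subst hf1
    have he1 : e = 1 := by
      have h1 : w ^ (s * 2) = 1 := by
        rw [zpow_mul, hs, zpow_ofNat]
        simpa using hcN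
      rw [← orderOf_dvd_iff_zpow_eq_one, hwo] at h1
      by_contra hne'
      have h4 : (4 : ℤ) ∣ s * 2 := by
        refine dvd_trans ?_ h1
        exact_mod_cast (pow_dvd_pow 2 (by omega : 2 ≤ e) : 2 ^ 2 ∣ 2 ^ e)
      obtain ⟨q, hq⟩ := hsodd
      omega
    subst he1
    have hw2 : w ^ (2 : ℤ) = 1 := by
      rw [← orderOf_dvd_iff_zpow_eq_one, hwo]; norm_num
    have hcw : c = w := by
      obtain ⟨q, rfl⟩ := hsodd
      rw [← hs, zpow_add, zpow_mul, hw2, one_zpow, one_mul, zpow_one]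
    refine ⟨?_, x, y, by rw [hl]; norm_num, by simpa using hyw.trans hw, ?_⟩
    · have hh := K.relIndex_sup_right (H := K1)
      have hcS := Subgroup.card_mul_index K
      have htop : K1 ⊔ K = ⊤ := by
        rw [sup_comm, eq_top_iff, ← hsup, Subgroup.closure_le]
        rintro e (rfl | rfl)
        exacts [Subgroup.mem_sup_left hxK, Subgroup.mem_sup_right hyK1]
      rw [htop, Subgroup.relIndex_top_right] at hh
      have h3 := Subgroup.card_mul_index (K.subgroupOf K1)
      rw [show (K.subgroupOf K1).index = K.relIndex K1 from rfl, ← hh,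
        ← Subgroup.inf_subgroupOf_right, Nat.card_congr
          (Subgroup.subgroupOfEquivOfLe (inf_le_right : K ⊓ K1 ≤ K1)).toEquiv, ← hI, he,
        hK1y, Nat.card_zpowers, hly] at h3
      rw [hKcard] at hcS
      norm_num at h3 hcS
      omega
    · have h1 : y * x * y⁻¹ = c * x := by rw [hcdef, commutatorElement_def, inv_mul_cancel_right]
      rw [h1, hcw, hw, ← pow_succ]
      refine eq_inv_of_mul_eq_one_left ?_
      rw [← pow_succ, show 2 ^ 1 + 1 + 1 = orderOf x by rw [hl]; rfl, pow_orderOf_eq_one]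

end Cfsg.Agent.PGroup.MetacyclicTwo
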