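import Mathlib
import Cfsg.Prelude.Def_OddOrderLocal
import Cfsg.Prelude.Def_CaseTheorems
import Cfsg.Agent.Lib.PGroup.Frattini
import Cfsg.Agent.Lib.PGroup.Class2
import Cfsg.Agent.Lib.PGroup.CyclicMaximal

/-!
Metacyclic 2-groups:

* `exceptional_of_*`: criteria for being dihedral, semidihedral or generalized quaternion;
* `not_swap`: no element swaps two independent generators of a homocyclic subgroup of exponent `≥ 4`;
* `aut_trivial_of_frattini`: coprime automorphisms trivial modulo `Φ` are trivial;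
* `homocyclic_or_quaternion_of_odd_aut`: odd automorphisms occur only for homocyclic groups and `Q₈`.
-/

set_option autoImplicit false

namespace Cfsg.Agent.PGroup.MetacyclicTwo

open scoped commutatorElement

variable {G : Type*} [Group G] [Finite G]

/-- The excluded 2-groups. -/
def Exceptional (G : Type*) [Group G] : Prop :=
  (∃ m : ℕ, Nonempty (G ≃* DihedralGroup m)) ∨ (∃ m : ℕ, Nonempty (G ≃* QuaternionGroup m)) ∨
    Cfsg.IsQuasiDihedral G

/-- In a cyclic group, an element killed by `orderOf y` is a power of `y`. -/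
theorem mem_zpowers_of_pow_eq_one [IsCyclic G] {x y : G} (h : x ^ orderOf y = 1) :
    x ∈ Subgroup.zpowers y := by
  classical
  have := Fintype.ofFinite G
  by_contra hx
  set T := (Finset.univ.filter fun z : G => z ∈ Subgroup.zpowers y) with hT
  have hTc : T.card = orderOf y := by
    rw [hT, ← Nat.card_zpowers, Nat.card_eq_fintype_card, Fintype.card_subtype]
  have hle : (insert x T).card ≤ orderOf y := by
    refine le_trans (Finset.card_le_card fun z hz => ?_)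
      (IsCyclic.card_pow_eq_one_le (α := G) (orderOf_pos y))
    rw [Finset.mem_filter]
    refine ⟨Finset.mem_univ z, ?_⟩
    rw [Finset.mem_insert] at hz
    rcases hz with rfl | hz
    · exact h
    · obtain ⟨i, rfl⟩ := Subgroup.mem_zpowers_iff.1 (Finset.mem_filter.1 hz).2
      rw [← zpow_natCast, ← zpow_mul, mul_comm, zpow_mul, zpow_natCast, pow_orderOf_eq_one, one_zpow]
  rw [Finset.card_insert_of_notMem (fun hh => hx (Finset.mem_filter.1 hh).2), hTc] at hle
  omega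

omit [Finite G] in
theorem comm_of_cyclic_quotient (K : Subgroup G) [K.Normal] [IsCyclic (G ⧸ K)] (x y : G) :
    ⁅x, y⁆ ∈ K := by
  rw [← QuotientGroup.eq_one_iff, ← QuotientGroup.mk'_apply, map_commutatorElement,
    commutatorElement_eq_one_iff_mul_comm]
  let := IsCyclic.commGroup (α := G ⧸ K)
  exact mul_comm _ _

omit [Finite G] in
theorem comm_in_cyclic (K : Subgroup G) [IsCyclic K] {a b : G} (ha : a ∈ K) (hb : b ∈ K) :
    a * b = b * a := by
  let := IsCyclic.commGroup (α := K)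
  exact congrArg Subtype.val (mul_comm (⟨a, ha⟩ : K) ⟨b, hb⟩)

/-- An element inverting a non-involution of the cyclic kernel, with square in it. -/
theorem exceptional_of_inverted (hG : IsPGroup 2 G) (K : Subgroup G) [K.Normal] [IsCyclic K]
    [IsCyclic (G ⧸ K)] {c t : G} (hc : c ∈ K) (hc2 : c ^ 2 ≠ 1) (htc : t * c * t⁻¹ = c⁻¹)
    (ht2 : t ^ 2 ∈ K) : Exceptional G := by
  have : Fact (Nat.Prime 2) := ⟨Nat.prime_two⟩
  have htK : t ∉ K := by
    intro h
    rw [comm_in_cyclic K h hc, mul_inv_cancel_right] at htc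
    exact hc2 (by rw [sq]; nth_rw 1 [htc]; exact inv_mul_cancel c)
  obtain ⟨k, hk⟩ := IsCyclic.exists_generator (α := K)
  have hKk : K = Subgroup.zpowers (k : G) := by
    refine le_antisymm (fun y hy => ?_) (Subgroup.zpowers_le.2 k.2)
    obtain ⟨i, hi⟩ := Subgroup.mem_zpowers_iff.1 (hk ⟨y, hy⟩)
    exact Subgroup.mem_zpowers_iff.2 ⟨i, by rw [← Subgroup.coe_zpow, hi]⟩
  obtain ⟨e, hce⟩ := Subgroup.mem_zpowers_iff.1 (hKk ▸ hc : c ∈ Subgroup.zpowers (k : G))
  obtain ⟨f, hf⟩ := IsPGroup.iff_orderOf.1 hG c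
  have hf2 : 2 ≤ f := by
    by_contra h
    refine hc2 ?_
    rw [← orderOf_dvd_iff_pow_eq_one, hf]
    exact pow_dvd_pow 2 (by omega : f ≤ 1)
  obtain ⟨gq, hgq⟩ := IsCyclic.exists_generator (α := G ⧸ K)
  obtain ⟨g, rfl⟩ := QuotientGroup.mk'_surjective K gq
  obtain ⟨j, hj⟩ := Subgroup.mem_zpowers_iff.1 (hgq (QuotientGroup.mk' K t))
  have hidx : K.index = 2 := by
    rcases Int.even_or_odd j with ⟨i, rfl⟩ | ⟨i, rfl⟩
    · exfalso
      obtain ⟨s, hs⟩ := Subgroup.mem_zpowers_iff.1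
        (hKk ▸ (inferInstance : K.Normal).conj_mem k k.2 (g ^ i) :
          g ^ i * k * (g ^ i)⁻¹ ∈ Subgroup.zpowers (k : G))
      have hsc : ∀ y : ℤ, g ^ i * (k : G) ^ y * (g ^ i)⁻¹ = (k : G) ^ (s * y) := fun y => by
        rw [← _root_.conj_zpow, ← hs, ← zpow_mul]
      have hκ : (g ^ (i + i))⁻¹ * t ∈ K := by
        rw [← QuotientGroup.eq]
        simpa [map_zpow] using hj
      have h1 : t * c * t⁻¹ = c ^ (s * s) := by
        have hcomm := comm_in_cyclic K hκ hc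
        calc t * c * t⁻¹
            = g ^ (i + i) * (((g ^ (i + i))⁻¹ * t) * c * ((g ^ (i + i))⁻¹ * t)⁻¹) *
                (g ^ (i + i))⁻¹ := by group
          _ = g ^ (i + i) * c * (g ^ (i + i))⁻¹ := by rw [hcomm, mul_inv_cancel_right]
          _ = g ^ i * (g ^ i * c * (g ^ i)⁻¹) * (g ^ i)⁻¹ := by rw [zpow_add]; group
          _ = _ := by rw [← hce, hsc, hsc, ← zpow_mul]; congr 1; ring
      rw [h1, ← mul_inv_eq_one, inv_inv, ← zpow_add_one, ← orderOf_dvd_iff_zpow_eq_one, hf] at htc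
      have h4 : (4 : ℤ) ∣ s * s + 1 := by
        refine dvd_trans ?_ htc
        exact_mod_cast (pow_dvd_pow 2 hf2 : 2 ^ 2 ∣ 2 ^ f)
      rcases Int.even_or_odd s with ⟨q, rfl⟩ | ⟨q, rfl⟩
      · rw [show (q + q) * (q + q) + 1 = 4 * (q * q) + 1 by ring] at h4
        omega
      · rw [show (2 * q + 1) * (2 * q + 1) + 1 = 4 * (q * q + q) + 2 by ring] at h4
        omega
    · have h1 : (QuotientGroup.mk' K g) ^ (2 * (2 * i + 1)) = 1 := by
        rw [mul_comm, zpow_mul, hj, zpow_ofNat, ← map_pow]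
        exact (QuotientGroup.eq_one_iff _).2 ht2
      rw [← orderOf_dvd_iff_zpow_eq_one] at h1
      obtain ⟨m, hm⟩ := IsPGroup.iff_orderOf.1 (hG.to_quotient K) (QuotientGroup.mk' K g)
      have hgen : orderOf (QuotientGroup.mk' K g) = Nat.card (G ⧸ K) :=
        orderOf_eq_card_of_forall_mem_zpowers hgq
      have hm1 : m = 1 := by
        rw [hm] at h1
        rcases m with - | _ | m
        · exfalso
          refine htK ((QuotientGroup.eq_one_iff t).1 ?_)
          have hg1 : QuotientGroup.mk' K g = 1 := orderOf_eq_one_iff.1 (by rw [hm]; rfl)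
          rw [← QuotientGroup.mk'_apply, ← hj, hg1, one_zpow]
        · rfl
        · exfalso
          have h4 : (4 : ℤ) ∣ 2 * (2 * i + 1) := by
            refine dvd_trans ?_ h1
            exact_mod_cast (pow_dvd_pow 2 (by omega : 2 ≤ m + 2) : 2 ^ 2 ∣ 2 ^ (m + 2))
          omega
      rw [Subgroup.index_eq_card, ← hgen, hm, hm1, pow_one]
  obtain ⟨m, hm⟩ := IsPGroup.iff_card.1 (hG.to_subgroup K)
  have hm2 : 2 ≤ m := by
    have h1 := Subgroup.orderOf_dvd_natCard K hc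
    rw [hm, hf] at h1
    exact le_trans hf2 ((Nat.pow_dvd_pow_iff_le_right one_lt_two).1 h1)
  have hcard : Nat.card G = 2 ^ (m + 1) := by
    rw [← Subgroup.card_mul_index K, hidx, hm, pow_succ]
  have hna : ∃ x y : G, x * y ≠ y * x := ⟨t, c, fun h => by
    rw [h, mul_inv_cancel_right] at htc
    exact hc2 (by rw [sq]; nth_rw 1 [htc]; exact inv_mul_cancel c)⟩
  obtain ⟨a, b, hKa, ha, hb, -, hcases⟩ := cyclic_index_two hm2 hcard K inferInstance hidx hna
  rcases hcases with ⟨hb2, hab⟩ | ⟨hb2, hab⟩ | ⟨hm3, hb2, hab⟩ | ⟨hm3, hb2, hab⟩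
  · exact Or.inl ⟨2 ^ m, dihedralEquivOfRel ha hb hb2 hab (by rw [hcard, pow_succ, mul_comm])⟩
  · obtain ⟨l, rfl⟩ : ∃ l, m = l + 2 := ⟨m - 2, by omega⟩
    refine Or.inr (Or.inl ⟨2 ^ (l + 1), quaternionEquivOfRel ?_ hb hb2 hab ?_⟩)
    · rw [ha]; ring
    · rw [hcard]; ring
  · exfalso
    obtain ⟨i, hi⟩ := Subgroup.mem_zpowers_iff.1 (hKa ▸ hc : c ∈ Subgroup.zpowers a)
    have htb : t * b⁻¹ ∈ K := by
      rw [Subgroup.mul_mem_iff_of_index_two hidx]
      exact iff_of_false htK (fun h => hb (hKa ▸ inv_mem_iff.1 h))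
    have hbc : b * c * b⁻¹ ∈ K := (inferInstance : K.Normal).conj_mem c hc b
    have h1 : b * c * b⁻¹ = c⁻¹ := by
      rw [← htc]
      calc b * c * b⁻¹ = (b * c * b⁻¹) * (t * b⁻¹) * (t * b⁻¹)⁻¹ := by group
        _ = (t * b⁻¹) * (b * c * b⁻¹) * (t * b⁻¹)⁻¹ := by rw [comm_in_cyclic K hbc htb]
        _ = _ := by group
    rw [← hi, ← _root_.conj_zpow, hab, ← zpow_natCast, ← zpow_mul, ← mul_inv_eq_one, inv_inv, ← zpow_add,
      ← orderOf_dvd_iff_zpow_eq_one, ha] at h1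
    obtain ⟨l, rfl⟩ : ∃ l, m = l + 3 := ⟨m - 3, by omega⟩
    rw [show l + 3 - 1 = l + 2 by omega] at h1
    obtain ⟨q, hq⟩ := h1
    have hd : (2 : ℤ) ^ (l + 2) ∣ i * (2 ^ (l + 1) + 1) := by
      refine ⟨q, ?_⟩
      push_cast at hq
      refine mul_left_cancel₀ (two_ne_zero (α := ℤ)) ?_
      linear_combination hq
    have hco : IsCoprime ((2 : ℤ) ^ (l + 2)) (2 ^ (l + 1) + 1) := by
      refine IsCoprime.pow_left (Int.prime_two.coprime_iff_not_dvd.2 fun h => ?_)
      rw [pow_succ] at h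
      omega
    obtain ⟨r, hr⟩ := hco.dvd_of_dvd_mul_right hd
    refine hc2 ?_
    rw [← hi, ← zpow_natCast, ← zpow_mul, ← orderOf_dvd_iff_zpow_eq_one, ha, hr]
    exact ⟨r, by push_cast; ring⟩
  · refine Or.inr (Or.inr ⟨m, hm3, hcard, a, b, ha, ?_, hab⟩)
    exact orderOf_eq_prime hb2 fun h => hb (h ▸ one_mem _)

/-- Two noncommuting involutions. -/
theorem exceptional_of_involutions (hG : IsPGroup 2 G) (hm : Cfsg.IsMetacyclic G) {u w : G}
    (hu : u ^ 2 = 1) (hw : w ^ 2 = 1) (hne : u * w ≠ w * u) : Exceptional G := by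
  obtain ⟨K, hKn, hKc, hQc⟩ := hm
  have huu : u⁻¹ = u := inv_eq_of_mul_eq_one_right (by rw [← sq, hu])
  have hww : w⁻¹ = w := inv_eq_of_mul_eq_one_right (by rw [← sq, hw])
  have hinv : ∀ y : G, y ^ 2 = 1 → y ∈ K → ∀ g : G, g * y = y * g := by
    intro y hy hyK g
    by_cases hy1 : y = 1
    · simp [hy1]
    have hg : g * y * g⁻¹ ∈ K := hKn.conj_mem y hyK g
    have ho : orderOf (⟨y, hyK⟩ : K) = 2 := by
      rw [← Subgroup.orderOf_coe]
      exact orderOf_eq_prime hy hy1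
    have h1 := mem_zpowers_of_pow_eq_one (x := (⟨_, hg⟩ : K)) (y := ⟨y, hyK⟩) (by
      rw [ho]
      refine Subtype.ext ?_
      show (g * y * g⁻¹) ^ 2 = 1
      rw [conj_pow, hy, mul_one, mul_inv_cancel])
    obtain ⟨i, hi⟩ := Subgroup.mem_zpowers_iff.1 h1
    have hi' : y ^ i = g * y * g⁻¹ := by simpa using congrArg Subtype.val hi
    rcases Int.even_or_odd i with ⟨q, rfl⟩ | ⟨q, rfl⟩
    · rw [← two_mul, zpow_mul, zpow_ofNat, hy, one_zpow] at hi'
      exact absurd (conj_eq_one_iff.1 hi'.symm) hy1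
    · rw [zpow_add, zpow_mul, zpow_ofNat, hy, one_zpow, one_mul, zpow_one] at hi'
      exact (mul_inv_eq_iff_eq_mul.1 hi'.symm)
  have huK : u ∉ K := fun h => hne (hinv u hu h w).symm
  have hwK : w ∉ K := fun h => hne (hinv w hw h u)
  have hcK : u * w ∈ K := by
    rw [← QuotientGroup.eq_one_iff]
    have ho : orderOf (u : G ⧸ K) = 2 := by
      refine orderOf_eq_prime ?_ fun h => huK ((QuotientGroup.eq_one_iff u).1 h)
      rw [← QuotientGroup.mk_pow, hu, QuotientGroup.mk_one]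
    obtain ⟨i, hi⟩ := Subgroup.mem_zpowers_iff.1 (mem_zpowers_of_pow_eq_one (x := (w : G ⧸ K))
      (y := (u : G ⧸ K)) (by rw [ho, ← QuotientGroup.mk_pow, hw, QuotientGroup.mk_one]))
    have hu2 : (u : G ⧸ K) ^ (2 : ℤ) = 1 := by
      rw [zpow_ofNat, ← QuotientGroup.mk_pow, hu, QuotientGroup.mk_one]
    rcases Int.even_or_odd i with ⟨q, rfl⟩ | ⟨q, rfl⟩
    · rw [← two_mul, zpow_mul, hu2, one_zpow] at hi
      exact absurd ((QuotientGroup.eq_one_iff w).1 hi.symm) hwK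
    · rw [zpow_add, zpow_mul, hu2, one_zpow, one_mul, zpow_one] at hi
      rw [QuotientGroup.mk_mul, ← hi, ← sq, ← zpow_ofNat]
      exact hu2
  refine exceptional_of_inverted hG K (t := u) hcK ?_ ?_ (by rw [hu]; exact K.one_mem)
  · intro h
    rw [sq, ← eq_inv_iff_mul_eq_one] at h
    exact hne (h.trans (by rw [mul_inv_rev, huu, hww]))
  · calc u * (u * w) * u⁻¹ = (u * u) * w * u⁻¹ := by group
      _ = _ := by rw [← sq u, hu, one_mul, mul_inv_rev, huu, hww]

/-- A quaternion subgroup. -/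
theorem exceptional_of_quaternion (hG : IsPGroup 2 G) (hm : Cfsg.IsMetacyclic G) {i j : G}
    (hi : orderOf i = 4) (hj : j ^ 2 = i ^ 2) (hji : j * i * j⁻¹ = i⁻¹) : Exceptional G := by
  obtain ⟨K, hKn, hKc, hQc⟩ := hm
  have hi4 : i ^ 4 = 1 := hi ▸ pow_orderOf_eq_one i
  have hi2 : i ^ 2 ≠ 1 := by
    intro h
    have h1 := orderOf_dvd_of_pow_eq_one h
    rw [hi] at h1
    norm_num at h1
  have hI : i ^ 2 ∈ K := by
    have h1 := comm_of_cyclic_quotient K j i
    rw [commutatorElement_def, hji] at h1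
    simpa [sq] using K.inv_mem h1
  have hj4 : j ^ 4 = 1 := by
    rw [show (4 : ℕ) = 2 * 2 from rfl, pow_mul, hj, ← pow_mul]
    exact hi4
  have hji' : j * i = i⁻¹ * j := mul_inv_eq_iff_eq_mul.1 hji
  by_cases hiK : i ∈ K
  · exact exceptional_of_inverted hG K hiK hi2 hji (hj ▸ hI)
  by_cases hjK : j ∈ K
  · refine exceptional_of_inverted hG K hjK (by rw [hj]; exact hi2) (t := i) ?_ hI
    calc i * j * i⁻¹ = i * (j * i) * (i ^ 2)⁻¹ := by group
      _ = i * (i⁻¹ * j) * (j ^ 2)⁻¹ := by rw [hji', hj]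
      _ = j⁻¹ := by group
  have hijK : i * j ∈ K := by
    rw [← QuotientGroup.eq_one_iff]
    have hsq : ∀ y : G, y ^ 2 ∈ K → (y : G ⧸ K) ^ 2 = 1 := fun y hy => by
      rw [← QuotientGroup.mk_pow, QuotientGroup.eq_one_iff]; exact hy
    have ho : orderOf (i : G ⧸ K) = 2 :=
      orderOf_eq_prime (hsq i hI) fun h => hiK ((QuotientGroup.eq_one_iff i).1 h)
    obtain ⟨l, hl⟩ := Subgroup.mem_zpowers_iff.1 (mem_zpowers_of_pow_eq_one (x := (j : G ⧸ K))
      (y := (i : G ⧸ K)) (by rw [ho]; exact hsq j (hj ▸ hI)))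
    rcases Int.even_or_odd l with ⟨q, rfl⟩ | ⟨q, rfl⟩
    · rw [← two_mul, zpow_mul, zpow_ofNat, hsq i hI, one_zpow] at hl
      exact absurd ((QuotientGroup.eq_one_iff j).1 hl.symm) hjK
    · rw [zpow_add, zpow_mul, zpow_ofNat, hsq i hI, one_zpow, one_mul, zpow_one] at hl
      rw [QuotientGroup.mk_mul, ← hl, ← sq]
      exact hsq i hI
  have hij2 : (i * j) ^ 2 = i ^ 2 := by
    calc (i * j) ^ 2 = i * (j * i) * j := by rw [sq]; group
      _ = j ^ 2 := by rw [hji', sq]; group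
      _ = i ^ 2 := hj
  refine exceptional_of_inverted hG K hijK (by rw [hij2]; exact hi2) (t := i) ?_ hI
  calc i * (i * j) * i⁻¹ = i ^ 2 * j * i⁻¹ := by rw [sq]; group
    _ = j ^ 2 * j * i⁻¹ := by rw [hj]
    _ = j ^ 4 * (j⁻¹ * i⁻¹) := by
        rw [show j ^ 4 = j * j * j * j by simp only [pow_succ, pow_zero, one_mul], sq]; group
    _ = (i * j)⁻¹ := by rw [hj4, one_mul, mul_inv_rev]

/-- In a metacyclic 2-group an element does not move a generator `u` of a homocyclic subgroup of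
exponent at least `4` to an independent generator. -/
theorem not_swap (hG : IsPGroup 2 G) (hm : Cfsg.IsMetacyclic G) (Q : Subgroup G)
    (hQ : ∀ x ∈ Q, ∀ y ∈ Q, x * y = y * x) {a u : G} (ha : a ^ 2 ∈ Q) (hu : u ∈ Q)
    (hv : a * u * a⁻¹ ∈ Q) (hu2 : u ^ 2 ≠ 1) (hexp : ∀ q ∈ Q, q ^ orderOf u = 1)
    (hdis : Subgroup.zpowers u ⊓ Subgroup.zpowers (a * u * a⁻¹) = ⊥) : False := by
  obtain ⟨K, hKn, hKc, hQc⟩ := hm
  set v := a * u * a⁻¹ with hvdef
  set c := u * v⁻¹ with hcdef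
  have hcK : c ∈ K := by
    have h1 := comm_of_cyclic_quotient K u a
    rwa [commutatorElement_def, show u * a * u⁻¹ * a⁻¹ = u * (a * u * a⁻¹)⁻¹ by group] at h1
  have hcQ : c ∈ Q := Q.mul_mem hu (Q.inv_mem hv)
  have hav : a * v * a⁻¹ = u := by
    rw [hvdef, show a * (a * u * a⁻¹) * a⁻¹ = a ^ 2 * u * (a ^ 2)⁻¹ by rw [sq]; group,
      hQ _ ha _ hu, mul_inv_cancel_right]
  have hac : a * c * a⁻¹ = c⁻¹ := by
    rw [hcdef, show a * (u * v⁻¹) * a⁻¹ = (a * u * a⁻¹) * (a * v * a⁻¹)⁻¹ by group, hav, ← hvdef,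
      mul_inv_rev, inv_inv]
  have huv : ∀ n : ℕ, c ^ n = 1 → u ^ n = 1 := by
    intro n hn
    rw [hcdef, (show Commute u v⁻¹ from hQ u hu _ (Q.inv_mem hv)).mul_pow, inv_pow,
      mul_inv_eq_one] at hn
    have h1 : u ^ n ∈ Subgroup.zpowers u ⊓ Subgroup.zpowers v :=
      ⟨Subgroup.pow_mem _ (Subgroup.mem_zpowers u) n,
        hn ▸ Subgroup.pow_mem _ (Subgroup.mem_zpowers v) n⟩
    rwa [hdis, Subgroup.mem_bot] at h1
  have hord : orderOf c = orderOf u :=
    Nat.dvd_antisymm (orderOf_dvd_of_pow_eq_one (hexp c hcQ))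
      (orderOf_dvd_of_pow_eq_one (huv _ (pow_orderOf_eq_one c)))
  have hc2 : c ^ 2 ≠ 1 := fun h => hu2 (huv 2 h)
  -- `a` is not a power of `u` modulo `K`
  have hnot : ∀ f : ℤ, (u ^ f)⁻¹ * a ∉ K := by
    intro f hf
    refine hc2 ?_
    have h1 : a * c * a⁻¹ = c := by
      calc a * c * a⁻¹ = u ^ f * (((u ^ f)⁻¹ * a) * c * ((u ^ f)⁻¹ * a)⁻¹) * (u ^ f)⁻¹ := by group
        _ = u ^ f * c * (u ^ f)⁻¹ := by rw [comm_in_cyclic K hf hcK, mul_inv_cancel_right]
        _ = c := by rw [hQ _ (Q.zpow_mem hu f) _ hcQ, mul_inv_cancel_right]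
    rw [h1] at hac
    rw [sq]; nth_rw 1 [hac]; exact inv_mul_cancel c
  have huka : ¬ (a : G ⧸ K) ∈ Subgroup.zpowers (u : G ⧸ K) := by
    intro h
    obtain ⟨f, hf⟩ := Subgroup.mem_zpowers_iff.1 h
    refine hnot f ?_
    rw [← QuotientGroup.eq, QuotientGroup.mk_zpow]
    exact hf
  obtain ⟨e, he⟩ : ∃ e : ℤ, (u : G ⧸ K) = (a : G ⧸ K) ^ (2 * e) := by
    have hp := hG.to_quotient K
    have : Fact (Nat.Prime 2) := ⟨Nat.prime_two⟩
    obtain ⟨s, hs⟩ := IsPGroup.iff_orderOf.1 hp (u : G ⧸ K)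
    obtain ⟨r, hr⟩ := IsPGroup.iff_orderOf.1 hp (a : G ⧸ K)
    have hsr : s < r := by
      by_contra hle
      refine huka (mem_zpowers_of_pow_eq_one ?_)
      rw [← orderOf_dvd_iff_pow_eq_one, hs, hr]
      exact pow_dvd_pow 2 (by omega)
    have h2 : orderOf ((a : G ⧸ K) ^ 2) = 2 ^ (r - 1) := by
      rw [orderOf_pow, hr, show r = r - 1 + 1 by omega, pow_succ, Nat.gcd_mul_left_left,
        Nat.mul_div_cancel _ two_pos, Nat.add_sub_cancel]
    obtain ⟨e, he⟩ := Subgroup.mem_zpowers_iff.1 (mem_zpowers_of_pow_eq_one (x := (u : G ⧸ K))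
      (y := (a : G ⧸ K) ^ 2) (by
        rw [h2, ← orderOf_dvd_iff_pow_eq_one, hs]
        exact pow_dvd_pow 2 (by omega)))
    exact ⟨e, by rw [zpow_mul, zpow_ofNat, he]⟩
  set b := (a ^ 2) ^ e with hb
  have hbQ : b ∈ Q := Q.zpow_mem ha e
  set κ := b⁻¹ * u with hκ
  have hκK : κ ∈ K := by
    rw [hκ, ← QuotientGroup.eq, hb, QuotientGroup.mk_zpow, QuotientGroup.mk_pow, he, zpow_mul,
      zpow_ofNat]
  have hκc : κ ∈ Subgroup.zpowers c := by
    obtain ⟨i, hi⟩ := Subgroup.mem_zpowers_iff.1 (mem_zpowers_of_pow_eq_one (x := (⟨κ, hκK⟩ : K))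
      (y := ⟨c, hcK⟩) (by
        rw [← Subgroup.orderOf_coe]
        refine Subtype.ext ?_
        show κ ^ orderOf c = 1
        rw [hord]
        exact hexp κ (Q.mul_mem (Q.inv_mem hbQ) hu)))
    exact Subgroup.mem_zpowers_iff.2 ⟨i, by simpa using congrArg Subtype.val hi⟩
  obtain ⟨i, hi⟩ := Subgroup.mem_zpowers_iff.1 hκc
  have hu' : u = b * c ^ i := by rw [hi, hκ, mul_inv_cancel_left]
  have hba : a * b * a⁻¹ = b := by
    rw [hb, ← _root_.conj_zpow, show a * a ^ 2 * a⁻¹ = a ^ 2 by rw [sq]; group]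
  have hv' : v = b * c ^ (-i) := by
    conv_lhs => rw [hvdef, hu',
      show a * (b * c ^ i) * a⁻¹ = (a * b * a⁻¹) * (a * c ^ i * a⁻¹) by group, hba, ← _root_.conj_zpow,
      hac, inv_zpow, ← zpow_neg]
  have hceq : c = c ^ (2 * i) := by
    conv_lhs => rw [hcdef, hu', hv', mul_inv_rev, ← zpow_neg, neg_neg, ← mul_assoc,
      mul_assoc b (c ^ i), ← zpow_add, hQ b hbQ _ (Q.zpow_mem hcQ _), mul_inv_cancel_right,
      ← two_mul]
  have hdvd : (orderOf c : ℤ) ∣ 2 * i - 1 := by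
    rw [orderOf_dvd_iff_zpow_eq_one, zpow_sub, ← hceq, zpow_one, mul_inv_cancel]
  obtain ⟨f, hf⟩ := IsPGroup.iff_orderOf.1 hG c
  rw [hf] at hdvd
  rcases f with - | f
  · exact hc2 (by rw [(orderOf_eq_one_iff (x := c)).1 (by simpa using hf), one_pow])
  · have h2 : (2 : ℤ) ∣ 2 * i - 1 := by
      refine dvd_trans ?_ hdvd
      exact_mod_cast dvd_pow_self 2 f.succ_ne_zero
    omega

/-- A coprime automorphism trivial modulo the Frattini subgroup is trivial. -/
theorem aut_trivial_of_frattini {p : ℕ} [Fact p.Prime] (hG : IsPGroup p G) {α : MulAut G}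
    (hco : (orderOf α).Coprime p) (h : ∀ x, x⁻¹ * α x ∈ frattini G) : α = 1 := by
  by_contra hne
  have : Finite (MulAut G) :=
    Finite.of_injective (fun b : MulAut G => (b : G → G)) DFunLike.coe_injective
  set m := orderOf α with hm
  have hm1 : m ≠ 1 := fun e => hne (orderOf_eq_one_iff.1 e)
  set q := m.minFac with hq
  have hqp : q.Prime := Nat.minFac_prime hm1
  have : Fact q.Prime := ⟨hqp⟩
  have hqne : q ≠ p := by
    intro e
    have h2 : p ∣ 1 := hco ▸ Nat.dvd_gcd (e ▸ Nat.minFac_dvd m) dvd_rfl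
    exact (Fact.out : p.Prime).one_lt.ne' (Nat.dvd_one.1 h2)
  set γ := α ^ (m / q) with hγ
  have hγo : orderOf γ = q := by
    rw [hγ, orderOf_pow_orderOf_div (orderOf_pos α).ne' (Nat.minFac_dvd m)]
  -- the group of automorphisms trivial modulo `Φ`
  let B : Subgroup (MulAut G) :=
    { carrier := {δ | ∀ x, x⁻¹ * δ x ∈ frattini G}
      one_mem' := fun x => by simp
      mul_mem' := fun {δ ε} hδ hε x => by
        have := (frattini G).mul_mem (hε x) (hδ (ε x))
        simpa [MulAut.mul_apply, mul_assoc] using this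
      inv_mem' := fun {δ} hδ x => by
        have := (frattini G).inv_mem (hδ (δ⁻¹ x))
        simpa [MulAut.apply_inv_self] using this }
  have hγB : Subgroup.zpowers γ ≤ B := Subgroup.zpowers_le.2 (B.pow_mem h _)
  let X := {f : G → G // ∀ x, x⁻¹ * f x ∈ frattini G}
  let act : MulAction (Subgroup.zpowers γ) X :=
    { smul := fun δ f => ⟨fun x => (δ : MulAut G) (f.1 x), fun x => by
        have h1 := (frattini G).mul_mem (f.2 x) (hγB δ.2 (f.1 x))
        simpa [mul_assoc] using h1⟩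
      one_smul := fun f => rfl
      mul_smul := fun δ ε f => rfl }
  have hX : Nat.card X = Nat.card (frattini G) ^ Nat.card G := by
    let e : X ≃ (G → frattini G) :=
      { toFun := fun f x => ⟨x⁻¹ * f.1 x, f.2 x⟩
        invFun := fun φ => ⟨fun x => x * (φ x : G), fun x => by simp⟩
        left_inv := fun f => Subtype.ext (funext fun x => by simp)
        right_inv := fun φ => funext fun x => Subtype.ext (by simp) }
    rw [Nat.card_congr e, Nat.card_fun]
  have hqX : ¬ q ∣ Nat.card X := by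
    rw [hX]
    obtain ⟨r, hr⟩ := IsPGroup.iff_card.1 (hG.to_subgroup (frattini G))
    rw [hr, ← pow_mul]
    intro hd
    exact hqne ((Nat.prime_dvd_prime_iff_eq hqp Fact.out).1 (hqp.dvd_of_dvd_pow hd))
  have hγp : IsPGroup q (Subgroup.zpowers γ) :=
    IsPGroup.of_card (n := 1) (by rw [Nat.card_zpowers, hγo, pow_one])
  obtain ⟨f, hf⟩ := hγp.nonempty_fixed_point_of_prime_not_dvd_card X hqX
  have hgen : Subgroup.closure (Set.range f.1) = ⊤ := by
    refine frattini_nongenerating (eq_top_iff.2 fun x _ => ?_)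
    rw [show x = f.1 x * (x⁻¹ * f.1 x)⁻¹ by group]
    exact Subgroup.mul_mem _ (Subgroup.mem_sup_left (Subgroup.subset_closure ⟨x, rfl⟩))
      (Subgroup.inv_mem _ (Subgroup.mem_sup_right (f.2 x)))
  have hfix : Subgroup.closure (Set.range f.1) ≤
      MonoidHom.eqLocus γ.toMonoidHom (MonoidHom.id G) := by
    rw [Subgroup.closure_le]
    rintro _ ⟨x, rfl⟩
    exact congrFun (congrArg Subtype.val (hf ⟨γ, Subgroup.mem_zpowers γ⟩)) x
  have hγ1 : γ = 1 := MulEquiv.ext fun x => hfix (hgen ▸ Subgroup.mem_top x)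
  rw [hγ1, orderOf_one] at hγo
  exact hqp.one_lt.ne hγo

end Cfsg.Agent.PGroup.MetacyclicTwo
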