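import Cfsg.Agent.Lib.PGroup.MaximalClass

/-!
# Criteria and corollaries for 2-groups of maximal class

* `index_centralizer_le_card_commutator`, `index_commutator_eq_four_of_centralizer`
* `index_commutator_eq_four_of_inverted`
* `two_group_elements` : every element is `a^i` or `b a^i`; `center` facts.
-/

set_option autoImplicit false

namespace Cfsg.Agent.PGroup

open scoped commutatorElement

universe u

variable {G : Type u} [Group G]

theorem index_centralizer_le_card_commutator [Finite G] (x : G) :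
    (Subgroup.centralizer ({x} : Set G)).index ≤ Nat.card ↥(commutator G) := by
  rw [Subgroup.index_eq_card]
  refine Nat.card_le_card_of_injective
    (fun q => ⟨⁅q.out, x⁆, Subgroup.commutator_mem_commutator (Subgroup.mem_top _) (Subgroup.mem_top _)⟩)
    fun q1 q2 h => ?_
  have h' : ⁅q1.out, x⁆ = ⁅q2.out, x⁆ := congrArg Subtype.val h
  rw [commutatorElement_def, commutatorElement_def, mul_left_inj] at h'
  rw [← QuotientGroup.out_eq' q1, ← QuotientGroup.out_eq' q2]
  refine QuotientGroup.eq.mpr (Subgroup.mem_centralizer_singleton_iff.mpr ?_)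
  calc q1.out⁻¹ * q2.out * x = q1.out⁻¹ * (q2.out * x * q2.out⁻¹) * q2.out := by group
    _ = q1.out⁻¹ * (q1.out * x * q1.out⁻¹) * q2.out := by rw [h']
    _ = x * (q1.out⁻¹ * q2.out) := by group

theorem index_commutator_eq_four_of_le [Finite G] {n : ℕ} (hG : Nat.card G = 2 ^ n)
    (hna : ¬ IsMulCommutative G) (hle : (commutator G).index ≤ 4) : (commutator G).index = 4 := by
  have : Fact (Nat.Prime 2) := ⟨Nat.prime_two⟩
  have hge := sq_le_index_commutator (IsPGroup.of_card hG) fun h => hna h.isMulCommutative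
  omega

/-- A nonabelian 2-group with an element whose centralizer has order 4 has `[G : G'] = 4`. -/
theorem index_commutator_eq_four_of_centralizer [Finite G] {n : ℕ} (hG : Nat.card G = 2 ^ n)
    (hna : ¬ IsMulCommutative G) (x : G)
    (hC : Nat.card ↥(Subgroup.centralizer ({x} : Set G)) = 4) : (commutator G).index = 4 := by
  refine index_commutator_eq_four_of_le hG hna ?_
  have h1 := Subgroup.card_mul_index (Subgroup.centralizer ({x} : Set G))
  rw [hC, ← Subgroup.card_mul_index (commutator G)] at h1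
  have h2 := Nat.mul_le_mul_left 4 (index_centralizer_le_card_commutator x)
  rw [h1, mul_comm 4] at h2
  exact Nat.le_of_mul_le_mul_left h2 Nat.card_pos

/-- A nonabelian 2-group of order `2^(m+1)` in which an element of order `2^m` is inverted has
`[G : G'] = 4`. -/
theorem index_commutator_eq_four_of_inverted [Finite G] {m : ℕ} (hG : Nat.card G = 2 ^ (m + 1))
    (hna : ¬ IsMulCommutative G) {a b : G} (ha : orderOf a = 2 ^ m) (hab : b * a * b⁻¹ = a⁻¹) :
    (commutator G).index = 4 := by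
  refine index_commutator_eq_four_of_le hG hna ?_
  have h2 : a ^ 2 ∈ commutator G := by
    have h : ⁅a, b⁆ = a ^ 2 := by
      calc ⁅a, b⁆ = a * (b * a * b⁻¹)⁻¹ := by rw [commutatorElement_def]; group
        _ = a ^ 2 := by rw [hab, inv_inv, pow_two]
    rw [← h]
    exact Subgroup.commutator_mem_commutator (Subgroup.mem_top a) (Subgroup.mem_top b)
  have hd : 2 ^ m ≤ Nat.card ↥(commutator G) * 2 := by
    have h1 := Nat.le_of_dvd Nat.card_pos
      (Subgroup.card_dvd_of_le (Subgroup.zpowers_le.mpr h2))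
    rw [Nat.card_zpowers] at h1
    rw [← ha]
    refine le_trans ?_ (Nat.mul_le_mul_right 2 h1)
    refine Nat.le_of_dvd (Nat.mul_pos (orderOf_pos _) two_pos) ?_
    refine orderOf_dvd_of_pow_eq_one ?_
    rw [mul_comm, pow_mul, pow_orderOf_eq_one]
  have h4 := Subgroup.card_mul_index (commutator G)
  rw [hG, pow_succ] at h4
  have h5 : Nat.card ↥(commutator G) * (commutator G).index ≤ Nat.card ↥(commutator G) * 4 := by
    rw [h4]; calc 2 ^ m * 2 ≤ Nat.card ↥(commutator G) * 2 * 2 := Nat.mul_le_mul_right 2 hd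
      _ = _ := by ring
  exact Nat.le_of_mul_le_mul_left h5 Nat.card_pos

/-- Every element is `a^i` or `b a^i`. -/
theorem two_group_elements [Finite G] {m : ℕ} (hG : Nat.card G = 2 ^ (m + 1)) {a b : G}
    (ha : orderOf a = 2 ^ m) (hb : b ∉ Subgroup.zpowers a) (g : G) :
    ∃ i : ℤ, g = a ^ i ∨ g = b * a ^ i := by
  by_cases hg : g ∈ Subgroup.zpowers a
  · obtain ⟨i, hi⟩ := hg; exact ⟨i, Or.inl hi.symm⟩
  · have hidx : (Subgroup.zpowers a).index = 2 := by
      have h := Subgroup.card_mul_index (Subgroup.zpowers a)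
      rw [Nat.card_zpowers, ha, hG, pow_succ] at h
      exact Nat.eq_of_mul_eq_mul_left (Nat.pow_pos two_pos) h
    have h : b⁻¹ * g ∈ Subgroup.zpowers a := by
      rw [Subgroup.mul_mem_iff_of_index_two hidx, inv_mem_iff]
      exact iff_of_false hb hg
    obtain ⟨i, hi⟩ := h
    exact ⟨i, Or.inr (by rw [show a ^ i = b⁻¹ * g from hi, mul_inv_cancel_left])⟩

/-- If `b a b⁻¹ = a^r` with `r - 1` twice an odd number, elements of `⟨a⟩` fixed by `b` square to 1. -/
theorem sq_eq_one_of_fixed {a b : G} {m : ℕ} {r : ℤ} (ha : orderOf a = 2 ^ m)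
    (hab : b * a * b⁻¹ = a ^ r) {v : ℤ} (hr : r - 1 = 2 * v) (hv : v % 2 = 1) {i : ℤ}
    (h : b * a ^ i * b⁻¹ = a ^ i) : (a ^ i) ^ 2 = 1 := by
  rw [PGroup.conj_zpow hab, zpow_eq_zpow_iff_dvd, ha] at h
  rw [← zpow_natCast, ← zpow_mul, ← orderOf_dvd_iff_zpow_eq_one, ha]
  push_cast at h ⊢
  refine IsCoprime.dvd_of_dvd_mul_right (z := v) ?_ ?_
  · exact IsCoprime.pow_left (Int.prime_two.coprime_iff_not_dvd.mpr (by omega))
  · rw [show i * 2 * v = r * i - i by linear_combination -i * hr]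
    exact h

theorem two_group_relations {m : ℕ} {a b : G}
    (h : (b ^ 2 = 1 ∧ b * a * b⁻¹ = a⁻¹) ∨
        (b ^ 2 = a ^ (2 ^ (m - 1)) ∧ b * a * b⁻¹ = a⁻¹) ∨
        (3 ≤ m ∧ b ^ 2 = 1 ∧ b * a * b⁻¹ = a ^ (2 ^ (m - 1) - 1))) :
    ∃ r v : ℤ, b * a * b⁻¹ = a ^ r ∧ r - 1 = 2 * v ∧ v % 2 = 1 := by
  rcases h with ⟨-, h⟩ | ⟨-, h⟩ | ⟨hm, -, h⟩
  · exact ⟨-1, -1, by rw [h, zpow_neg_one], by norm_num, by norm_num⟩
  · exact ⟨-1, -1, by rw [h, zpow_neg_one], by norm_num, by norm_num⟩
  · refine ⟨((2 ^ (m - 1) - 1 : ℕ) : ℤ), 2 ^ (m - 2) - 1, by rw [h, zpow_natCast], ?_, ?_⟩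
    · rw [Nat.cast_sub Nat.one_le_two_pow, show m - 1 = m - 2 + 1 by omega]
      push_cast; ring
    · have : (2 : ℤ) ∣ 2 ^ (m - 2) := dvd_pow_self 2 (by omega)
      omega

end Cfsg.Agent.PGroup
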