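import Cfsg.Prelude.Def_Transfer
import Cfsg.Agent.Lib.PGroup.Frattini
import Cfsg.Agent.Lib.PGroup.Class2
import Cfsg.Agent.Lib.PGroup.SCN

/-!
# Special and extraspecial groups

* `special_center_pow`, `special_pow_mem_center`, `special_commutator_pow`
* `card_mul_card_centralizer_mono` (orthogonality step for a central `Z` of order `p`)
* `extraspecial_card_mul_card_centralizer` (`|H||C(H)| = p|E|` for `Z ≤ H`), `centralizer_centralizer_extraspecial`
* `extraspecial_card` (`|E| = p^(2n+1)`), `extraspecial_abelian_card_le`, `center_le_of_normal_ne_bot`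
* `exists_commutator_eq`, `sup_centralizer_eq_top` (`G = E C_G(E)` if `[G,E] ≤ Z(E)` central)
-/

set_option autoImplicit false

namespace Cfsg.Agent.PGroup

open scoped commutatorElement

universe u

variable {P : Type u} [Group P] {p : ℕ}

theorem special_class_two (h : IsSpecial p P) : commutator P ≤ Subgroup.center P := h.2.2.le

theorem special_commutator_mem_center (h : IsSpecial p P) (a b : P) : ⁅a, b⁆ ∈ Subgroup.center P :=
  mem_center_of_class_two (special_class_two h) a b

theorem special_pow_mem_center [Finite P] [Fact p.Prime] (h : IsSpecial p P) (x : P) :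
    x ^ p ∈ Subgroup.center P :=
  h.2.1 ▸ pow_mem_frattini h.1 x

theorem special_commutator_pow [Finite P] [Fact p.Prime] (h : IsSpecial p P) (a b : P) :
    ⁅a, b⁆ ^ p = 1 :=
  commutator_pow_eq_one (special_class_two h) (special_pow_mem_center h) a b

theorem special_center_pow [Finite P] [Fact p.Prime] (h : IsSpecial p P) {z : P}
    (hz : z ∈ Subgroup.center P) : z ^ p = 1 := by
  rw [← h.2.2, commutator_eq_closure] at hz
  have hmem : ∀ x ∈ Subgroup.closure (commutatorSet P), x ∈ Subgroup.center P := fun x hx => by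
    rwa [← commutator_eq_closure, h.2.2] at hx
  induction hz using Subgroup.closure_induction with
  | mem x hx =>
    obtain ⟨a, b, rfl⟩ := mem_commutatorSet_iff.mp hx
    exact special_commutator_pow h a b
  | one => exact one_pow p
  | mul x y hx _ ihx ihy =>
    have hc : Commute x y := (Subgroup.mem_center_iff.mp (hmem x hx) y).symm
    rw [hc.mul_pow, ihx, ihy, one_mul]
  | inv x _ ih => rw [inv_pow, ih, inv_one]

theorem special_isElementaryAbelian_center [Finite P] [Fact p.Prime] (h : IsSpecial p P) :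
    IsElementaryAbelian p (Subgroup.center P) :=
  ⟨inferInstance, fun _ hz => special_center_pow h hz⟩

/-! ### The orthogonality step -/

variable {G : Type u} [Group G]

theorem centralizer_sup_zpowers (H : Subgroup G) (x : G) :
    Subgroup.centralizer ((H ⊔ Subgroup.zpowers x : Subgroup G) : Set G) =
      Subgroup.centralizer (H : Set G) ⊓ Subgroup.centralizer {x} := by
  rw [Subgroup.zpowers_eq_closure, ← Subgroup.closure_eq H, ← Subgroup.closure_union]
  rw [Subgroup.centralizer_closure, Subgroup.centralizer_closure]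
  ext g
  simp only [Subgroup.mem_inf, Subgroup.mem_centralizer_iff, Set.mem_union, Set.mem_singleton_iff]
  exact ⟨fun h => ⟨fun a ha => h a (Or.inl ha), fun a ha => h a (Or.inr ha)⟩,
    fun ⟨h1, h2⟩ a ha => ha.elim (h1 a) (h2 a)⟩

/-- If commutators with `x` of elements centralizing `H` lie in a central subgroup `Z` of order `p`,
then `[C(H) : C(H,x)] ≤ p`. -/
theorem card_centralizer_le_mul [Finite G] (Z : Subgroup G) (hZ : Z ≤ Subgroup.center G)
    (hZc : Nat.card ↥Z = p) (H : Subgroup G) (x : G)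
    (hx : ∀ g ∈ Subgroup.centralizer (H : Set G), ⁅g, x⁆ ∈ Z) :
    Nat.card ↥(Subgroup.centralizer (H : Set G)) ≤
      Nat.card ↥(Subgroup.centralizer ((H ⊔ Subgroup.zpowers x : Subgroup G) : Set G)) * p := by
  set f := commHom (Subgroup.centralizer (H : Set G)) x (fun g hg => hZ (hx g hg)) with hf
  have hrange : f.range.map (Subgroup.center G).subtype ≤ Z := by
    rintro _ ⟨_, ⟨g, rfl⟩, rfl⟩
    exact hx g g.2
  have hle : Nat.card ↥f.range ≤ p := by
    rw [← hZc, ← Subgroup.card_map_of_injective (Subgroup.center G).subtype_injective (K := f.range)]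
    exact Nat.le_of_dvd Nat.card_pos (Subgroup.card_dvd_of_le hrange)
  have hker : f.ker.map (Subgroup.centralizer (H : Set G)).subtype ≤
      Subgroup.centralizer ((H ⊔ Subgroup.zpowers x : Subgroup G) : Set G) := by
    rintro _ ⟨g, hg, rfl⟩
    rw [centralizer_sup_zpowers]
    refine Subgroup.mem_inf.mpr ⟨g.2, Subgroup.mem_centralizer_singleton_iff.mpr ?_⟩
    have hg' : ⁅(g : G), x⁆ = 1 := congrArg Subtype.val (MonoidHom.mem_ker.mp hg)
    exact commutatorElement_eq_one_iff_mul_comm.mp hg'
  have hkle : Nat.card ↥f.ker ≤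
      Nat.card ↥(Subgroup.centralizer ((H ⊔ Subgroup.zpowers x : Subgroup G) : Set G)) := by
    rw [← Subgroup.card_map_of_injective (Subgroup.centralizer (H : Set G)).subtype_injective (K := f.ker)]
    exact Nat.le_of_dvd Nat.card_pos (Subgroup.card_dvd_of_le hker)
  calc Nat.card ↥(Subgroup.centralizer (H : Set G)) = Nat.card ↥f.ker * f.ker.index :=
        (Subgroup.card_mul_index _).symm
    _ = Nat.card ↥f.ker * Nat.card ↥f.range := by rw [Subgroup.index_ker]
    _ ≤ _ := Nat.mul_le_mul hkle hle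

/-- For `Z` central of order `p` and a subgroup `E` with `[G, E] ≤ Z` and `p`-th powers in `Z`,
the product `|H| |C(H)|` is monotone for `Z ≤ H ≤ E`. -/
theorem card_mul_card_centralizer_mono [Finite G] [Fact p.Prime] (Z E : Subgroup G)
    (hZ : Z ≤ Subgroup.center G) (hZc : Nat.card ↥Z = p) (hcomm : ∀ g : G, ∀ e ∈ E, ⁅g, e⁆ ∈ Z)
    (hpow : ∀ e ∈ E, e ^ p ∈ Z) {H K : Subgroup G} (hZH : Z ≤ H) (hHK : H ≤ K) (hKE : K ≤ E) :
    Nat.card ↥H * Nat.card ↥(Subgroup.centralizer (H : Set G)) ≤
      Nat.card ↥K * Nat.card ↥(Subgroup.centralizer (K : Set G)) := by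
  suffices h : ∀ d : ℕ, ∀ H : Subgroup G, Nat.card ↥K - Nat.card ↥H ≤ d → Z ≤ H → H ≤ K →
      Nat.card ↥H * Nat.card ↥(Subgroup.centralizer (H : Set G)) ≤
        Nat.card ↥K * Nat.card ↥(Subgroup.centralizer (K : Set G)) from h _ H le_rfl hZH hHK
  intro d
  induction d with
  | zero =>
    intro H hd hZH hHK
    rw [Subgroup.eq_of_le_of_card_ge hHK (Nat.sub_eq_zero_iff_le.mp (Nat.le_zero.mp hd))]
  | succ d ih =>
    intro H hd hZH hHK
    rcases eq_or_lt_of_le hHK with rfl | hlt
    · exact le_rfl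
    obtain ⟨x, hxK, hxH⟩ := SetLike.exists_of_lt hlt
    have hHn : H.Normal := by
      refine Subgroup.commutator_top_left_le_iff.mp (Subgroup.commutator_le.mpr fun g _ e he => ?_)
      exact hZH (hcomm g e (hKE (hHK he)))
    have hcard := card_sup_zpowers H hxH (hZH (hpow x (hKE hxK)))
    have hle : H ⊔ Subgroup.zpowers x ≤ K := sup_le hHK (Subgroup.zpowers_le.mpr hxK)
    have hstep := card_centralizer_le_mul Z hZ hZc H x (fun g _ => hcomm g x (hKE hxK))
    refine le_trans ?_ (ih (H ⊔ Subgroup.zpowers x) ?_ (hZH.trans le_sup_left) hle)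
    · rw [hcard, mul_assoc, mul_comm p]
      exact Nat.mul_le_mul_left _ hstep
    · have h2 : Nat.card ↥H * 2 ≤ Nat.card ↥(H ⊔ Subgroup.zpowers x) := by
        rw [hcard]; exact Nat.mul_le_mul_left _ (Fact.out (p := p.Prime)).two_le
      have := Nat.card_pos (α := ↥H)
      omega

/-! ### Extraspecial groups -/

variable {E : Type u} [Group E]

theorem extraspecial_commutator_card (h : IsExtraspecial p E) : Nat.card ↥(commutator E) = p := by
  rw [h.1.2.2, h.2]

theorem extraspecial_not_commutative [Fact p.Prime] (h : IsExtraspecial p E) :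
    Subgroup.center E ≠ ⊤ := by
  intro hc
  have hb := (commutator_eq_bot_iff_center_eq_top E).mpr hc
  have := extraspecial_commutator_card h
  rw [hb, Subgroup.card_bot] at this
  exact (Fact.out (p := p.Prime)).ne_one this.symm

/-- In an extraspecial group `|H| |C(H)| = p |E|` for every subgroup `H` containing the centre. -/
theorem extraspecial_card_mul_card_centralizer [Finite E] [Fact p.Prime] (h : IsExtraspecial p E)
    {H : Subgroup E} (hH : Subgroup.center E ≤ H) :
    Nat.card ↥H * Nat.card ↥(Subgroup.centralizer (H : Set E)) = p * Nat.card E := by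
  have hmono : ∀ {H K : Subgroup E}, Subgroup.center E ≤ H → H ≤ K →
      Nat.card ↥H * Nat.card ↥(Subgroup.centralizer (H : Set E)) ≤
        Nat.card ↥K * Nat.card ↥(Subgroup.centralizer (K : Set E)) := fun hH hHK =>
    card_mul_card_centralizer_mono (Subgroup.center E) ⊤ le_rfl h.2
      (fun g e _ => special_commutator_mem_center h.1 g e)
      (fun e _ => special_pow_mem_center h.1 e) hH hHK le_top
  have h1 := hmono le_rfl hH
  have h2 := hmono hH (le_top : H ≤ ⊤)
  rw [Subgroup.centralizer_eq_top_iff_subset.mpr le_rfl, Subgroup.card_top, h.2] at h1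
  rw [Subgroup.coe_top, Subgroup.centralizer_univ, Subgroup.card_top, h.2] at h2
  exact le_antisymm (h2.trans_eq (mul_comm _ _)) h1

theorem center_le_centralizer (H : Subgroup E) :
    Subgroup.center E ≤ Subgroup.centralizer (H : Set E) :=
  fun _ hz a _ => Subgroup.mem_center_iff.mp hz a

theorem centralizer_centralizer_extraspecial [Finite E] [Fact p.Prime] (h : IsExtraspecial p E)
    {H : Subgroup E} (hH : Subgroup.center E ≤ H) :
    Subgroup.centralizer ((Subgroup.centralizer (H : Set E) : Subgroup E) : Set E) = H := by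
  have h1 := extraspecial_card_mul_card_centralizer h hH
  have h2 := extraspecial_card_mul_card_centralizer h
    (H := Subgroup.centralizer (H : Set E)) (center_le_centralizer H)
  refine (Subgroup.eq_of_le_of_card_ge (Subgroup.le_centralizer_iff.mpr le_rfl) ?_).symm
  refine (Nat.eq_of_mul_eq_mul_left (Nat.card_pos (α := ↥(Subgroup.centralizer (H : Set E)))) ?_).le
  rw [h2, ← h1, mul_comm]

/-- A maximal abelian subgroup `A` of an extraspecial group has `|A|^2 = p |E|`. -/
theorem extraspecial_maximal_abelian_sq [Finite E] [Fact p.Prime] (h : IsExtraspecial p E)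
    {A : Subgroup E} (hA : IsMulCommutative A)
    (hmax : ∀ B : Subgroup E, IsMulCommutative B → A ≤ B → B = A) :
    Nat.card ↥A ^ 2 = p * Nat.card E := by
  have hc := centralizer_eq_of_maximal_abelian hA hmax
  have := extraspecial_card_mul_card_centralizer h (H := A) (hc ▸ center_le_centralizer A)
  rwa [hc, ← pow_two] at this

theorem exists_le_maximal_abelian [Finite E] {A : Subgroup E} (hA : IsMulCommutative A) :
    ∃ B : Subgroup E, A ≤ B ∧ IsMulCommutative B ∧
      ∀ C : Subgroup E, IsMulCommutative C → B ≤ C → C = B := by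
  obtain ⟨B, hB⟩ := (Set.toFinite {B : Subgroup E | A ≤ B ∧ IsMulCommutative B}).exists_maximal
    ⟨A, le_rfl, hA⟩
  exact ⟨B, hB.1.1, hB.1.2, fun C hC hBC => le_antisymm (hB.2 ⟨hB.1.1.trans hBC, hC⟩ hBC) hBC⟩

/-- Abelian subgroups of an extraspecial group satisfy `|A|^2 ≤ p |E|`. -/
theorem extraspecial_abelian_card_le [Finite E] [Fact p.Prime] (h : IsExtraspecial p E)
    {A : Subgroup E} (hA : IsMulCommutative A) : Nat.card ↥A ^ 2 ≤ p * Nat.card E := by
  obtain ⟨B, hAB, hB, hmax⟩ := exists_le_maximal_abelian hA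
  rw [← extraspecial_maximal_abelian_sq h hB hmax]
  exact Nat.pow_le_pow_left (Nat.le_of_dvd Nat.card_pos (Subgroup.card_dvd_of_le hAB)) 2

/-- An extraspecial group has order `p ^ (2n+1)` with `n ≥ 1`, and its maximal abelian subgroups
have order `p ^ (n+1)`. -/
theorem extraspecial_card [Finite E] [Fact p.Prime] (h : IsExtraspecial p E) :
    ∃ n : ℕ, 1 ≤ n ∧ Nat.card E = p ^ (2 * n + 1) ∧
      ∀ A : Subgroup E, IsMulCommutative A →
        (∀ B : Subgroup E, IsMulCommutative B → A ≤ B → B = A) → Nat.card ↥A = p ^ (n + 1) := by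
  have hp := (Fact.out (p := p.Prime))
  obtain ⟨m, hm⟩ := IsPGroup.iff_card.mp h.1.1
  have key : ∀ A : Subgroup E, IsMulCommutative A →
      (∀ B : Subgroup E, IsMulCommutative B → A ≤ B → B = A) →
      ∃ a, Nat.card ↥A = p ^ a ∧ 2 * a = m + 1 ∧ 2 ≤ a := by
    intro A hA hmax
    obtain ⟨a, ha⟩ := card_eq_pow h.1.1 A
    have hsq := extraspecial_maximal_abelian_sq h hA hmax
    rw [ha, hm, ← pow_mul, ← pow_succ'] at hsq
    have ham := Nat.pow_right_injective hp.two_le hsq
    refine ⟨a, ha, by omega, ?_⟩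
    have hc := centralizer_eq_of_maximal_abelian hA hmax
    have hlt : Subgroup.center E < A := by
      refine lt_of_le_of_ne (hc ▸ center_le_centralizer A) fun heq => ?_
      have htop : Subgroup.centralizer (A : Set E) = ⊤ :=
        Subgroup.centralizer_eq_top_iff_subset.mpr (heq ▸ le_rfl)
      rw [hc, ← heq] at htop
      exact extraspecial_not_commutative h htop
    have := mul_card_le_card h.1.1 hlt
    rw [h.2, ha, ← pow_two] at this
    exact (Nat.pow_le_pow_iff_right hp.one_lt).mp this
  obtain ⟨A, -, hA, hmax⟩ := exists_le_maximal_abelian (A := (⊥ : Subgroup E)) inferInstance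
  obtain ⟨a, -, ham, ha2⟩ := key A hA hmax
  refine ⟨a - 1, by omega, by rw [hm]; congr 1; omega, fun B hB hBmax => ?_⟩
  obtain ⟨b, hb, hbm, -⟩ := key B hB hBmax
  rw [hb]; congr 1; omega

theorem center_le_of_normal_ne_bot [Finite E] [Fact p.Prime] (h : IsExtraspecial p E)
    (N : Subgroup E) [N.Normal] (hN : N ≠ ⊥) : Subgroup.center E ≤ N := by
  have hne := inf_center_ne_bot h.1.1 N hN
  have hd : Nat.card ↥(N ⊓ Subgroup.center E) ∣ p := h.2 ▸ Subgroup.card_dvd_of_le inf_le_right
  rcases (Nat.dvd_prime (Fact.out (p := p.Prime))).mp hd with h1 | h1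
  · exact absurd (Subgroup.card_eq_one.mp h1) hne
  · exact inf_eq_right.mp (Subgroup.eq_of_le_of_card_ge inf_le_right (by rw [h.2, h1]))

/-- For a non-central `x`, the commutators `⁅y, x⁆` exhaust the centre. -/
theorem exists_commutator_eq [Finite E] [Fact p.Prime] (h : IsExtraspecial p E) {x : E}
    (hx : x ∉ Subgroup.center E) {z : E} (hz : z ∈ Subgroup.center E) : ∃ y : E, ⁅y, x⁆ = z := by
  set f := commHom (⊤ : Subgroup E) x (fun y _ => special_commutator_mem_center h.1 y x)
  have hne : f.range ≠ ⊥ := by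
    intro hbot
    refine hx (Subgroup.mem_center_iff.mpr fun y => ?_)
    have hmem : f ⟨y, Subgroup.mem_top y⟩ ∈ (⊥ : Subgroup ↥(Subgroup.center E)) :=
      hbot ▸ ⟨_, rfl⟩
    exact commutatorElement_eq_one_iff_mul_comm.mp (congrArg Subtype.val (Subgroup.mem_bot.mp hmem))
  have : Fact (Nat.card ↥(Subgroup.center E)).Prime := ⟨h.2.symm ▸ Fact.out⟩
  have htop : f.range = ⊤ := (Subgroup.eq_bot_or_eq_top_of_prime_card f.range).resolve_left hne
  obtain ⟨y, hy⟩ := (htop ▸ Subgroup.mem_top (⟨z, hz⟩ : ↥(Subgroup.center E)) : _ ∈ f.range)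
  exact ⟨y, congrArg Subtype.val hy⟩

/-- If `E` is extraspecial and `[G, E] ≤ Z(E)` with `Z(E)` central in `G`, then `G = E C_G(E)`. -/
theorem sup_centralizer_eq_top [Finite G] [Fact p.Prime] (E : Subgroup G)
    (hE : IsExtraspecial p E) (hcent : E ⊓ Subgroup.centralizer (E : Set G) ≤ Subgroup.center G)
    (hcomm : ⁅(⊤ : Subgroup G), E⁆ ≤ E ⊓ Subgroup.centralizer (E : Set G)) :
    E ⊔ Subgroup.centralizer (E : Set G) = ⊤ := by
  set Z := E ⊓ Subgroup.centralizer (E : Set G) with hZdef
  have hZmap : (Subgroup.center ↥E).map E.subtype = Z := by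
    ext z
    constructor
    · rintro ⟨w, hw, rfl⟩
      exact ⟨w.2, fun a ha => congrArg Subtype.val (Subgroup.mem_center_iff.mp hw ⟨a, ha⟩)⟩
    · rintro ⟨hzE, hzC⟩
      exact ⟨⟨z, hzE⟩, Subgroup.mem_center_iff.mpr fun a => Subtype.ext (hzC a a.2), rfl⟩
  have hZc : Nat.card ↥Z = p := by
    rw [← hZmap, Subgroup.card_map_of_injective E.subtype_injective, hE.2]
  have hcomm' : ∀ g : G, ∀ e ∈ E, ⁅g, e⁆ ∈ Z := fun g e he =>
    hcomm (Subgroup.commutator_mem_commutator (Subgroup.mem_top g) he)
  have hpow : ∀ e ∈ E, e ^ p ∈ Z := fun e he =>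
    hZmap ▸ ⟨⟨e, he⟩ ^ p, special_pow_mem_center hE.1 _, rfl⟩
  have h1 := card_mul_card_centralizer_mono Z E hcent hZc hcomm' hpow le_rfl inf_le_left le_rfl
  rw [Subgroup.centralizer_eq_top_iff_subset.mpr hcent, Subgroup.card_top, hZc] at h1
  have hn : E.Normal :=
    Subgroup.commutator_top_left_le_iff.mp (hcomm.trans inf_le_left)
  have h2 : Nat.card ↥(E ⊔ Subgroup.centralizer (E : Set G)) * Nat.card ↥Z =
      Nat.card ↥E * Nat.card ↥(Subgroup.centralizer (E : Set G)) := by
    set C := Subgroup.centralizer (E : Set G) with hC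
    have h3 : E.relIndex (C ⊔ E) = E.relIndex C := Subgroup.relIndex_sup_right C E
    have h4 : Nat.card ↥E * E.relIndex (C ⊔ E) = Nat.card ↥(C ⊔ E) := by
      rw [← Subgroup.relIndex_bot_left E, Subgroup.relIndex_mul_relIndex _ _ _ bot_le le_sup_right,
        Subgroup.relIndex_bot_left]
    have h5 : Nat.card ↥Z * E.relIndex C = Nat.card ↥C := by
      rw [hZdef, ← Subgroup.inf_relIndex_right E C, ← Subgroup.relIndex_bot_left (E ⊓ C),
        Subgroup.relIndex_mul_relIndex _ _ _ bot_le inf_le_right, Subgroup.relIndex_bot_left]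
    rw [sup_comm, ← h4, ← h5, h3]
    ring
  refine Subgroup.eq_top_of_le_card _ ?_
  rw [← h2, hZc, mul_comm] at h1
  exact Nat.le_of_mul_le_mul_right h1 (Fact.out (p := p.Prime)).pos

end Cfsg.Agent.PGroup
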