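import Cfsg.Agent.Lib.PGroup.CyclicMaximal
import Mathlib.GroupTheory.SpecificGroups.KleinFour

/-!
# Lower central series of finite `p`-groups and `p`-groups of maximal class

* `isCyclic_of_index_commutator_le`, `card_lcs_mul_le`, `lcs_le_of_index`
* for maximal class (`|G| = p^n`, class `n-1`): `card_lcs_of_maximal`, `card_center_of_maximal`,
  `normal_eq_lcs_of_maximal`, `frattini_eq_commutator_of_maximal`
* `card_subgroups_index_eq` : `p + 1` maximal subgroups if `[G : Φ(G)] = p²`
* 2-groups: `exists_cyclic_index_two_of_commutator`, `two_group_commutator_index_four`,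
  `class_of_commutator_index_four`
-/

set_option autoImplicit false

namespace Cfsg.Agent.PGroup

open scoped commutatorElement

universe u

variable {G : Type u} [Group G] {p : ℕ}

local notation "γ" => Subgroup.lowerCentralSeries (⊤ : Subgroup G)

theorem mem_normalizer_of_conj_mem_zpowers [Finite G] {b c : G}
    (h : b * c * b⁻¹ ∈ Subgroup.zpowers c) : b ∈ Subgroup.normalizer (Subgroup.zpowers c : Set G) := by
  have hle : (Subgroup.zpowers c).map (MulAut.conj b).toMonoidHom ≤ Subgroup.zpowers c := by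
    rw [MonoidHom.map_zpowers, Subgroup.zpowers_le]; exact h
  have heq := Subgroup.eq_of_le_of_card_ge hle
    (by rw [Subgroup.card_map_of_injective (MulAut.conj b).injective])
  rw [Subgroup.mem_normalizer_iff]
  intro x
  constructor
  · intro hx
    rw [← heq]
    exact ⟨x, hx, rfl⟩
  · intro hx
    rw [← heq] at hx
    obtain ⟨y, hy, hyx⟩ := hx
    rwa [show y = x from (MulAut.conj b).injective hyx] at hy

/-- A finite `p`-group whose derived subgroup has index at most `p` is cyclic. -/
theorem isCyclic_of_index_commutator_le [Finite G] [Fact p.Prime] (hG : IsPGroup p G)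
    (h : (commutator G).index ≤ p) : IsCyclic G := by
  obtain ⟨k, hk⟩ := index_eq_pow hG (commutator G)
  by_cases hc : commutator G = ⊤
  · by_cases ht : (⊤ : Subgroup G) = ⊥
    · have : Subsingleton G := ⟨fun a b => by
        have ha : a ∈ (⊥ : Subgroup G) := ht ▸ Subgroup.mem_top a
        have hb : b ∈ (⊥ : Subgroup G) := ht ▸ Subgroup.mem_top b
        rw [Subgroup.mem_bot.mp ha, Subgroup.mem_bot.mp hb]⟩
      infer_instance
    · exact absurd hc (commutator_top_lt hG ⊤ ht).ne
  obtain ⟨x, -, hx⟩ := SetLike.exists_of_lt (lt_top_iff_ne_top.mpr hc)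
  have hk1 : k = 1 := by
    have h1 : k ≤ 1 := (Nat.pow_le_pow_iff_right (Fact.out (p := p.Prime)).one_lt).mp
      (by rw [← hk, pow_one]; exact h)
    have h0 : k ≠ 0 := fun h0 => hc (Subgroup.index_eq_one.mp (by rw [hk, h0, pow_zero]))
    omega
  subst hk1
  rw [pow_one] at hk
  refine isCyclic_iff_exists_zpowers_eq_top.mpr ⟨x, ?_⟩
  rw [Subgroup.zpowers_eq_closure]
  refine closure_eq_top_of_sup_frattini (top_le_iff.mp ?_)
  rw [← (isCoatom_of_index_eq hk).2 (commutator G ⊔ Subgroup.zpowers x)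
    (left_lt_sup.mpr fun h => hx (h (Subgroup.mem_zpowers x))), ← Subgroup.zpowers_eq_closure]
  exact sup_le ((commutator_le_frattini hG).trans le_sup_right) le_sup_left

theorem sq_le_index_commutator [Finite G] [Fact p.Prime] (hG : IsPGroup p G)
    (hnc : ¬ IsCyclic G) : p ^ 2 ≤ (commutator G).index := by
  obtain ⟨k, hk⟩ := index_eq_pow hG (commutator G)
  rw [hk]
  refine Nat.pow_le_pow_right (Fact.out (p := p.Prime)).pos ?_
  by_contra hlt
  exact hnc (isCyclic_of_index_commutator_le hG (hk ▸ by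
    calc p ^ k ≤ p ^ 1 := Nat.pow_le_pow_right (Fact.out (p := p.Prime)).pos (by omega)
      _ = p := pow_one p))

theorem lcs_succ_eq_bot {i : ℕ} (h : γ i = ⊥) : γ (i + 1) = ⊥ := by
  rw [Subgroup.lowerCentralSeries_succ, h, Subgroup.commutator_bot_left]

theorem not_cyclic_of_lcs_ne_bot {i : ℕ} (hi : 1 ≤ i) (h : γ i ≠ ⊥) : ¬ IsCyclic G := fun hc => by
  have := hc.isMulCommutative
  refine h (le_bot_iff.mp ((Subgroup.lowerCentralSeries_antitone (⊤ : Subgroup G) hi).trans ?_))
  rw [Subgroup.top_lowerCentralSeries_one, commutator_eq_bot]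

/-- `|γ i| p^(i+1) ≤ |G|` while `γ i ≠ ⊥`. -/
theorem card_lcs_mul_le [Finite G] [Fact p.Prime] (hG : IsPGroup p G) :
    ∀ i : ℕ, 1 ≤ i → γ i ≠ ⊥ → Nat.card ↥(γ i) * p ^ (i + 1) ≤ Nat.card G := by
  intro i hi
  induction i, hi using Nat.le_induction with
  | base =>
    intro h
    rw [Subgroup.top_lowerCentralSeries_one, ← Subgroup.card_mul_index (commutator G)]
    exact Nat.mul_le_mul_left _ (sq_le_index_commutator hG (not_cyclic_of_lcs_ne_bot le_rfl h))
  | succ i hi ih =>
    intro h
    have hne : γ i ≠ ⊥ := fun h' => h (lcs_succ_eq_bot h')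
    have hlt : γ (i + 1) < γ i := commutator_top_lt hG (γ i) hne
    calc Nat.card ↥(γ (i + 1)) * p ^ (i + 1 + 1) = p * Nat.card ↥(γ (i + 1)) * p ^ (i + 1) := by
          rw [pow_succ]; ring
      _ ≤ Nat.card ↥(γ i) * p ^ (i + 1) := Nat.mul_le_mul_right _ (mul_card_le_card hG hlt)
      _ ≤ Nat.card G := ih hne

theorem lcs_eq_bot_of_card [Finite G] [Fact p.Prime] {r : ℕ} (hr : 2 ≤ r)
    (hcard : Nat.card G = p ^ r) : γ (r - 1) = ⊥ := by
  by_contra h
  have h1 := card_lcs_mul_le (IsPGroup.of_card hcard) (r - 1) (by omega) h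
  rw [show r - 1 + 1 = r by omega, hcard] at h1
  have h2 : 1 < Nat.card ↥(γ (r - 1)) := (Subgroup.one_lt_card_iff_ne_bot _).mpr h
  nlinarith [Nat.pow_pos (n := r) (Fact.out (p := p.Prime)).pos]

/-- A normal subgroup of index `p^r`, `r ≥ 2`, contains `γ (r-1)`. -/
theorem lcs_le_of_index [Finite G] [Fact p.Prime] (N : Subgroup G) [N.Normal] {r : ℕ}
    (hr : 2 ≤ r) (hN : N.index = p ^ r) : γ (r - 1) ≤ N := by
  have h := lcs_eq_bot_of_card (G := G ⧸ N) hr (by rw [← Subgroup.index_eq_card, hN])
  rw [← Subgroup.map_top_of_surjective _ (QuotientGroup.mk'_surjective N),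
    ← Subgroup.map_lowerCentralSeries, Subgroup.map_eq_bot_iff, QuotientGroup.ker_mk'] at h
  exact h

/-! ### Maximal class -/

theorem lcs_ne_bot_of_maximal [Finite G] [Fact p.Prime] {n : ℕ} (hn : 3 ≤ n)
    (hG : Nat.card G = p ^ n) (hcl : Group.nilpotencyClass G = n - 1) : γ (n - 2) ≠ ⊥ := by
  have := (IsPGroup.of_card hG).isNilpotent
  rw [Ne, Subgroup.lowerCentralSeries_eq_bot_iff_nilpotencyClass_le, hcl]
  omega

theorem card_lcs_of_maximal [Finite G] [Fact p.Prime] {n : ℕ} (hn : 3 ≤ n)
    (hG : Nat.card G = p ^ n) (hcl : Group.nilpotencyClass G = n - 1) {i : ℕ} (hi : 1 ≤ i)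
    (hin : i ≤ n - 1) : Nat.card ↥(γ i) = p ^ (n - 1 - i) := by
  have hP := IsPGroup.of_card hG
  have hp := Fact.out (p := p.Prime)
  rcases Nat.eq_or_lt_of_le hin with rfl | hlt
  · rw [Nat.sub_self, pow_zero, lcs_eq_bot_of_card (by omega) hG, Subgroup.card_bot]
  have hne : ∀ j, j ≤ n - 2 → γ j ≠ ⊥ := fun j hj h => lcs_ne_bot_of_maximal hn hG hcl
    (le_bot_iff.mp (h ▸ Subgroup.lowerCentralSeries_antitone (⊤ : Subgroup G) hj))
  have hge : ∀ d i, 1 ≤ i → i + d = n - 1 → p ^ d ≤ Nat.card ↥(γ i) := by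
    intro d
    induction d with
    | zero => intro i _ _; rw [pow_zero]; exact Nat.card_pos
    | succ d ih =>
      intro i hi hid
      have hlt : γ (i + 1) < γ i := commutator_top_lt hP (γ i) (hne i (by omega))
      calc p ^ (d + 1) = p * p ^ d := by rw [pow_succ']
        _ ≤ p * Nat.card ↥(γ (i + 1)) := Nat.mul_le_mul_left _ (ih (i + 1) (by omega) (by omega))
        _ ≤ Nat.card ↥(γ i) := mul_card_le_card hP hlt
  refine le_antisymm ?_ (hge (n - 1 - i) i hi (by omega))
  have h := card_lcs_mul_le hP i hi (hne i (by omega))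
  rw [hG, show p ^ n = p ^ (n - 1 - i) * p ^ (i + 1) by rw [← pow_add]; congr 1; omega] at h
  exact Nat.le_of_mul_le_mul_right h (Nat.pow_pos hp.pos)

theorem index_commutator_of_maximal [Finite G] [Fact p.Prime] {n : ℕ} (hn : 3 ≤ n)
    (hG : Nat.card G = p ^ n) (hcl : Group.nilpotencyClass G = n - 1) :
    (commutator G).index = p ^ 2 := by
  have h := card_lcs_of_maximal hn hG hcl le_rfl (by omega)
  rw [Subgroup.top_lowerCentralSeries_one] at h
  have h' := Subgroup.card_mul_index (commutator G)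
  rw [h, hG, show p ^ n = p ^ (n - 1 - 1) * p ^ 2 by rw [← pow_add]; congr 1; omega] at h'
  exact Nat.eq_of_mul_eq_mul_left (Nat.pow_pos (Fact.out (p := p.Prime)).pos) h'

/-- Normal subgroups of index `p^r`, `r ≥ 2`, in a group of maximal class. -/
theorem normal_eq_lcs_of_maximal [Finite G] [Fact p.Prime] {n : ℕ} (hn : 3 ≤ n)
    (hG : Nat.card G = p ^ n) (hcl : Group.nilpotencyClass G = n - 1) (N : Subgroup G) [N.Normal]
    {r : ℕ} (hr : 2 ≤ r) (hN : N.index = p ^ r) : N = γ (r - 1) := by
  have hp := Fact.out (p := p.Prime)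
  have hrn : r ≤ n := (Nat.pow_dvd_pow_iff_le_right hp.one_lt).mp
    (by rw [← hG, ← hN]; exact Subgroup.index_dvd_card N)
  have h1 := Subgroup.card_mul_index N
  rw [hN, hG, show p ^ n = p ^ (n - r) * p ^ r by rw [← pow_add]; congr 1; omega] at h1
  refine (Subgroup.eq_of_le_of_card_ge (lcs_le_of_index N hr hN) ?_).symm
  rw [Nat.eq_of_mul_eq_mul_right (Nat.pow_pos hp.pos) h1,
    card_lcs_of_maximal hn hG hcl (by omega) (by omega)]
  exact Nat.pow_le_pow_right hp.pos (by omega)

theorem card_center_of_maximal [Finite G] [Fact p.Prime] {n : ℕ} (hn : 3 ≤ n)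
    (hG : Nat.card G = p ^ n) (hcl : Group.nilpotencyClass G = n - 1) :
    Nat.card ↥(Subgroup.center G) = p := by
  have hP := IsPGroup.of_card hG
  have hp := Fact.out (p := p.Prime)
  have hL := lcs_ne_bot_of_maximal hn hG hcl
  have hna : ¬ IsMulCommutative G := fun h => hL (le_bot_iff.mp
    ((Subgroup.lowerCentralSeries_antitone (⊤ : Subgroup G) (by omega : 1 ≤ n - 2)).trans
      (by rw [Subgroup.top_lowerCentralSeries_one, commutator_eq_bot])))
  obtain ⟨k, hk⟩ := card_eq_pow hP (Subgroup.center G)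
  obtain ⟨r, hr⟩ := index_eq_pow hP (Subgroup.center G)
  have hkr : k + r = n := by
    have h := Subgroup.card_mul_index (Subgroup.center G)
    rw [hk, hr, hG, ← pow_add] at h
    exact Nat.pow_right_injective hp.two_le h
  have hk0 : k ≠ 0 := fun h => by
    have hnt : Nontrivial G := Finite.one_lt_card_iff_nontrivial.mp
      (by rw [hG]; exact Nat.one_lt_pow (by omega) hp.one_lt)
    exact (hP.bot_lt_center).ne' (Subgroup.card_eq_one.mp (by rw [hk, h, pow_zero]))
  have hr2 : 2 ≤ r := by
    by_contra hr'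
    refine hna (commutator_eq_bot_iff G |>.mp ?_)
    have hquot : IsCyclic (G ⧸ Subgroup.center G) := by
      rcases Nat.eq_zero_or_pos r with rfl | hr0
      · have : Subsingleton (G ⧸ Subgroup.center G) :=
          QuotientGroup.subsingleton_iff.mpr (Subgroup.index_eq_one.mp (by rw [hr, pow_zero]))
        infer_instance
      · obtain rfl : r = 1 := by omega
        exact isCyclic_of_prime_card (p := p) (by rw [← Subgroup.index_eq_card, hr, pow_one])
    have := MonoidHom.isMulCommutative_of_isCyclic_of_ker_le_center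
      (QuotientGroup.mk' (Subgroup.center G)) (by rw [QuotientGroup.ker_mk'])
    exact commutator_eq_bot G
  have hk1 : k = 1 := by
    by_contra hk1
    refine hL (le_bot_iff.mp ((Subgroup.lowerCentralSeries_antitone (⊤ : Subgroup G)
      (by omega : r ≤ n - 2)).trans ?_))
    rw [show r = r - 1 + 1 by omega, Subgroup.lowerCentralSeries_succ, le_bot_iff,
      Subgroup.commutator_top_right_eq_bot_iff_le_center]
    exact lcs_le_of_index _ hr2 hr
  rw [hk, hk1, pow_one]

theorem frattini_eq_commutator_of_index_sq [Finite G] [Fact p.Prime] (hG : IsPGroup p G)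
    (hnc : ¬ IsCyclic G) (h : (commutator G).index = p ^ 2) : frattini G = commutator G := by
  refine le_antisymm ?_ (commutator_le_frattini hG)
  refine frattini_le (p := p) le_rfl fun x => (QuotientGroup.eq_one_iff _).mp ?_
  show QuotientGroup.mk' (commutator G) (x ^ p) = 1
  rw [map_pow, ← orderOf_dvd_iff_pow_eq_one]
  set y := QuotientGroup.mk' (commutator G) x with hy
  have hd : orderOf y ∣ p ^ 2 := by
    rw [← h, Subgroup.index_eq_card]; exact orderOf_dvd_natCard y
  obtain ⟨j, hj, hjo⟩ := (Nat.dvd_prime_pow Fact.out).mp hd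
  rw [hjo]
  rcases Nat.lt_or_ge j 2 with h1 | h1
  · calc p ^ j ∣ p ^ 1 := Nat.pow_dvd_pow p (by omega)
      _ = p := pow_one p
  · refine absurd ?_ hnc
    obtain rfl : j = 2 := by omega
    refine isCyclic_iff_exists_zpowers_eq_top.mpr ⟨x, ?_⟩
    rw [Subgroup.zpowers_eq_closure]
    refine closure_eq_top_of_sup_frattini (top_le_iff.mp ?_)
    rw [← Subgroup.zpowers_eq_closure]
    intro g _
    have hg : QuotientGroup.mk' (commutator G) g ∈ Subgroup.zpowers y := by
      rw [Subgroup.eq_top_of_card_eq (Subgroup.zpowers y)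
        (by rw [Nat.card_zpowers, hjo, ← h, Subgroup.index_eq_card])]
      exact Subgroup.mem_top _
    obtain ⟨i, hi⟩ := hg
    simp only [hy, ← map_zpow] at hi
    have h2 : (x ^ i)⁻¹ * g ∈ commutator G := QuotientGroup.eq.mp hi
    simpa using Subgroup.mul_mem_sup (Subgroup.zpow_mem_zpowers x i) (commutator_le_frattini hG h2)

/-- If `[G : Φ(G)] = p²` there are exactly `p + 1` maximal subgroups. -/
theorem card_subgroups_index_eq [Finite G] [Fact p.Prime] (hG : IsPGroup p G)
    (h : (frattini G).index = p ^ 2) :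
    Nat.card {N : Subgroup G // N.Normal ∧ N.index = p} = p + 1 := by
  classical
  have hp := Fact.out (p := p.Prime)
  have hnp : frattini G ≠ ⊤ := fun ht => by
    rw [ht, Subgroup.index_top] at h
    exact absurd h.symm (Nat.one_lt_pow two_ne_zero hp.one_lt).ne'
  obtain ⟨y, -, hy⟩ := SetLike.exists_of_lt (lt_top_iff_ne_top.mpr hnp)
  set My := frattini G ⊔ Subgroup.zpowers y with hMy
  have hindex : ∀ w, w ∉ frattini G → (frattini G ⊔ Subgroup.zpowers w).index = p := fun w hw => by
    have h1 := Subgroup.card_mul_index (frattini G ⊔ Subgroup.zpowers w)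
    rw [card_sup_zpowers_frattini hG le_rfl hw, ← Subgroup.card_mul_index (frattini G), h, mul_assoc,
      pow_two] at h1
    exact Nat.eq_of_mul_eq_mul_left hp.pos (Nat.eq_of_mul_eq_mul_left Nat.card_pos h1)
  have hMyi := hindex y hy
  obtain ⟨x, -, hx⟩ := SetLike.exists_of_lt (lt_top_iff_ne_top.mpr (isCoatom_of_index_eq hMyi).1)
  have hxy : ∀ i : ℤ, x * y ^ i ∉ My := fun i hi => hx (by
    simpa using mul_mem hi (inv_mem (Subgroup.zpow_mem My
      (Subgroup.mem_sup_right (Subgroup.mem_zpowers y)) i)))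
  have hxyF : ∀ i : ℤ, x * y ^ i ∉ frattini G := fun i hi => hxy i (Subgroup.mem_sup_left hi)
  have hnorm : ∀ M : Subgroup G, M.index = p → M.Normal ∧ M.index = p :=
    fun M hM => ⟨normal_of_index_eq hG hM, hM⟩
  let f : Option (Fin p) → {N : Subgroup G // N.Normal ∧ N.index = p} := fun
    | none => ⟨My, hnorm _ hMyi⟩
    | some i => ⟨frattini G ⊔ Subgroup.zpowers (x * y ^ (i : ℤ)), hnorm _ (hindex _ (hxyF i))⟩
  have hcyc : ∀ M : Subgroup G, M.index = p → y ∈ M → M = My := by
    intro M hM hyM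
    refine (isCoatom_of_index_eq hMyi).2 M |> fun hh => ?_
    have hle : My ≤ M := sup_le (frattini_le_coatom (isCoatom_of_index_eq hM))
      (Subgroup.zpowers_le.mpr hyM)
    rcases eq_or_lt_of_le hle with he | hlt
    · exact he.symm
    · exact absurd (hh hlt) (isCoatom_of_index_eq hM).1
  have hbij : Function.Bijective f := by
    constructor
    · rintro (_ | i) (_ | j) hij
      · rfl
      · exfalso
        have h1 : My = frattini G ⊔ Subgroup.zpowers (x * y ^ (j : ℤ)) := congrArg Subtype.val hij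
        exact hxy j (h1 ▸ Subgroup.mem_sup_right (Subgroup.mem_zpowers _))
      · exfalso
        have h1 : frattini G ⊔ Subgroup.zpowers (x * y ^ (i : ℤ)) = My := congrArg Subtype.val hij
        exact hxy i (h1 ▸ Subgroup.mem_sup_right (Subgroup.mem_zpowers _))
      · congr 1
        set M := frattini G ⊔ Subgroup.zpowers (x * y ^ (i : ℤ)) with hM
        have hi : x * y ^ (i : ℤ) ∈ M := Subgroup.mem_sup_right (Subgroup.mem_zpowers _)
        have hj : x * y ^ (j : ℤ) ∈ M := by
          rw [show M = frattini G ⊔ Subgroup.zpowers (x * y ^ (j : ℤ)) from congrArg Subtype.val hij]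
          exact Subgroup.mem_sup_right (Subgroup.mem_zpowers _)
        have hd : y ^ ((i : ℤ) - j) ∈ M := by
          have := mul_mem (inv_mem hj) hi
          rw [mul_inv_rev, mul_assoc, inv_mul_cancel_left, ← zpow_neg, ← zpow_add] at this
          rwa [show (i : ℤ) - j = -(j : ℤ) + i by ring]
        by_contra hne
        have hndvd : ¬ (p : ℤ) ∣ (i : ℤ) - j := fun hd' => hne (Fin.ext (by
          have h1 := Int.eq_zero_of_abs_lt_dvd hd' (by rw [abs_lt]; omega)
          omega))
        obtain ⟨u, v, huv⟩ := (Nat.prime_iff_prime_int.mp hp).coprime_iff_not_dvd.mpr hndvd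
        have hMi : M.index = p := hindex _ (hxyF i)
        have hyM : y ∈ M := by
          rw [← zpow_one y, ← huv, zpow_add, mul_comm u, zpow_mul, zpow_natCast, mul_comm v,
            zpow_mul]
          exact mul_mem (Subgroup.zpow_mem _
            ((le_sup_left : frattini G ≤ M) (pow_mem_frattini hG y)) u) (Subgroup.zpow_mem _ hd v)
        exact hxy i (hcyc M hMi hyM ▸ hi)
    · rintro ⟨M, hMn, hMi⟩
      by_cases hyM : y ∈ M
      · exact ⟨none, Subtype.ext (hcyc M hMi hyM).symm⟩
      · have hpc : Nat.card (G ⧸ M) = p := by rw [← Subgroup.index_eq_card, hMi]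
        have hgen : ∀ q : G ⧸ M, q ∈ Subgroup.zpowers (QuotientGroup.mk' M y) := by
          intro q
          have : Fact (Nat.card (G ⧸ M)).Prime := ⟨hpc.symm ▸ hp⟩
          rcases Subgroup.eq_bot_or_eq_top_of_prime_card
            (Subgroup.zpowers (QuotientGroup.mk' M y)) with h0 | h0
          · exact absurd ((QuotientGroup.eq_one_iff y).mp (Subgroup.zpowers_eq_bot.mp h0)) hyM
          · rw [h0]; exact Subgroup.mem_top q
        obtain ⟨k, hk⟩ := hgen (QuotientGroup.mk' M x)
        simp only [← map_zpow] at hk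
        have hk' : (y ^ k)⁻¹ * x ∈ M := QuotientGroup.eq.mp hk
        refine ⟨some ⟨((-k) % p).toNat, ?_⟩, Subtype.ext ?_⟩
        · have h1 := Int.emod_lt_of_pos (-k) (b := (p : ℤ)) (by exact_mod_cast hp.pos)
          have := hp.pos
          omega
        · set i := ((-k) % p).toNat with hi
          have hcast : (i : ℤ) = (-k) % p :=
            Int.toNat_of_nonneg (Int.emod_nonneg _ (by exact_mod_cast hp.ne_zero))
          have hxM : x * y ^ (i : ℤ) ∈ M := by
            refine (QuotientGroup.eq_one_iff _).mp ?_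
            show QuotientGroup.mk' M (x * y ^ (i : ℤ)) = 1
            rw [map_mul, ← hk, map_zpow, map_zpow, ← zpow_add, ← orderOf_dvd_iff_zpow_eq_one,
              hcast, Int.emod_def]
            refine (Int.natCast_dvd_natCast.mpr (orderOf_dvd_natCard _)).trans ?_
            rw [hpc]
            exact ⟨-(-k / p), by ring⟩
          show frattini G ⊔ Subgroup.zpowers (x * y ^ (i : ℤ)) = M
          refine Subgroup.eq_of_le_of_card_ge (sup_le (frattini_le_coatom (isCoatom_of_index_eq hMi))
            (Subgroup.zpowers_le.mpr hxM)) ?_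
          have h1 := Subgroup.card_mul_index M
          rw [hMi, ← Subgroup.card_mul_index (frattini G ⊔ Subgroup.zpowers (x * y ^ (i : ℤ))),
            hindex _ (hxyF i)] at h1
          exact (Nat.eq_of_mul_eq_mul_right hp.pos h1).le
  rw [← Nat.card_congr (Equiv.ofBijective f hbij), Nat.card_eq_fintype_card, Fintype.card_option,
    Fintype.card_fin]

/-! ### 2-groups -/

/-- A 2-group with `[G : G'] = 4` (and order at least 8) has a cyclic subgroup of index 2. -/
theorem exists_cyclic_index_two_of_commutator [Finite G] {n : ℕ} (hn : 3 ≤ n)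
    (hG : Nat.card G = 2 ^ n) (hc : (commutator G).index = 4) :
    ∃ C : Subgroup G, IsCyclic C ∧ C.index = 2 := by
  have h2 : Fact (Nat.Prime 2) := ⟨Nat.prime_two⟩
  induction n, hn using Nat.le_induction generalizing G with
  | base =>
    have hx : ∃ x : G, x ^ 2 ≠ 1 := by
      by_contra! hall
      have hcomm : commutator G = ⊥ := (commutator_eq_bot_iff G).mpr ⟨⟨fun a b => by
        have h1 := hall (a * b)
        rw [pow_two] at h1
        calc a * b = (a * b)⁻¹ := eq_inv_of_mul_eq_one_left h1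
          _ = b * a := by
            rw [mul_inv_rev, inv_eq_of_mul_eq_one_left (pow_two b ▸ hall b),
              inv_eq_of_mul_eq_one_left (pow_two a ▸ hall a)]⟩⟩
      rw [hcomm, Subgroup.index_bot, hG] at hc
      norm_num at hc
    obtain ⟨x, hx⟩ := hx
    obtain ⟨k, hk3, hk⟩ := (Nat.dvd_prime_pow Nat.prime_two).mp (hG ▸ orderOf_dvd_natCard x)
    have hk2 : k = 2 := by
      have h1 : 2 ≤ k := by
        by_contra h
        exact hx (orderOf_dvd_iff_pow_eq_one.mp (hk ▸ (Nat.pow_dvd_pow 2 (show k ≤ 1 by omega))))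
      rcases Nat.eq_or_lt_of_le hk3 with rfl | h3
      · exfalso
        have hcyc : IsCyclic G := isCyclic_of_orderOf_eq_card x (by rw [hk, hG])
        have := hcyc.isMulCommutative
        rw [commutator_eq_bot, Subgroup.index_bot, hG] at hc
        norm_num at hc
      · omega
    refine ⟨Subgroup.zpowers x, inferInstance, ?_⟩
    have h1 := Subgroup.card_mul_index (Subgroup.zpowers x)
    rw [Nat.card_zpowers, hk, hk2, hG] at h1
    omega
  | succ n hn ih =>
    have hP := IsPGroup.of_card hG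
    have hne : commutator G ≠ ⊥ := fun h => by
      rw [h, Subgroup.index_bot, hG, show (4 : ℕ) = 2 ^ 2 by norm_num] at hc
      have := Nat.pow_right_injective le_rfl hc
      omega
    obtain ⟨z, hzc, hzZ, hzo⟩ := exists_orderOf_eq_mem_center hP (commutator G) hne
    set N := Subgroup.zpowers z with hN
    have hNn : N.Normal := ⟨fun a ha g => by
      have hac : a ∈ Subgroup.center G := Subgroup.zpowers_le.mpr hzZ ha
      rw [Subgroup.mem_center_iff.mp hac g, mul_inv_cancel_right]
      exact ha⟩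
    have hNc : Nat.card ↥N = 2 := by rw [hN, Nat.card_zpowers, hzo]
    have hqcard : Nat.card (G ⧸ N) = 2 ^ n := by
      have h1 := Subgroup.card_mul_index N
      rw [hNc, hG, Subgroup.index_eq_card, pow_succ'] at h1
      exact Nat.eq_of_mul_eq_mul_left (by norm_num) h1
    have hqc : (commutator (G ⧸ N)).index = 4 := by
      rw [commutator_def, ← Subgroup.map_top_of_surjective _ (QuotientGroup.mk'_surjective N),
        ← Subgroup.map_commutator, ← commutator_def,
        Subgroup.index_map_eq _ (QuotientGroup.mk'_surjective N)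
          (by rw [QuotientGroup.ker_mk']; exact Subgroup.zpowers_le.mpr hzc), hc]
    obtain ⟨D, hDc, hDi⟩ := ih hqcard hqc
    set A := D.comap (QuotientGroup.mk' N) with hA
    have hAi : A.index = 2 := by
      rw [hA, Subgroup.index_comap_of_surjective _ (QuotientGroup.mk'_surjective N), hDi]
    obtain ⟨d, hd⟩ := (Subgroup.isCyclic_iff_exists_zpowers_eq_top D).mp hDc
    obtain ⟨x, rfl⟩ := QuotientGroup.mk'_surjective N d
    have hAeq : A = N ⊔ Subgroup.zpowers x := by
      rw [hA, ← hd, ← MonoidHom.map_zpowers, Subgroup.comap_map_eq, QuotientGroup.ker_mk', sup_comm]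
    by_cases hzx : z ∈ Subgroup.zpowers x
    · exact ⟨A, hAeq ▸ (sup_eq_right.mpr (Subgroup.zpowers_le.mpr hzx)).symm ▸ inferInstance, hAi⟩
    exfalso
    have hAc : IsMulCommutative ↥A := hAeq ▸ isMulCommutative_sup_zpowers (inferInstance)
      (fun a ha => (Subgroup.mem_center_iff.mp (Subgroup.zpowers_le.mpr hzZ ha) x).symm)
    have hAn : A.Normal := normal_of_index_eq hP hAi
    obtain ⟨b, -, hb⟩ := SetLike.exists_of_lt (lt_top_iff_ne_top.mpr (isCoatom_of_index_eq hAi).1)
    have hxA : x ∈ A := hAeq ▸ Subgroup.mem_sup_right (Subgroup.mem_zpowers x)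
    have hgen : A ⊔ Subgroup.zpowers b = ⊤ := (isCoatom_of_index_eq hAi).2 _
      (left_lt_sup.mpr fun h => hb (h (Subgroup.mem_zpowers b)))
    set c := x * (b * x * b⁻¹)⁻¹ with hcdef
    have hcA : c ∈ A := mul_mem hxA (inv_mem (hAn.conj_mem x hxA b))
    have hcx : ⁅x, b⁆ = c := by rw [hcdef, commutatorElement_def]; group
    -- `⟨c⟩` is normal
    have hbc : b * c * b⁻¹ ∈ Subgroup.zpowers c := by
      obtain ⟨w, hw, v, hv, he⟩ := Subgroup.mem_sup_of_normal_left.mp
        (show b * x * b⁻¹ ∈ N ⊔ Subgroup.zpowers x from hAeq ▸ hAn.conj_mem x hxA b)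
      obtain ⟨r, rfl⟩ := hv
      have hwc : w ∈ Subgroup.center G := Subgroup.zpowers_le.mpr hzZ hw
      have hcom : Commute x (b * x * b⁻¹)⁻¹ :=
        mul_comm_of_isMulCommutative hAc hxA (inv_mem (hAn.conj_mem x hxA b))
      refine ⟨r, ?_⟩
      show c ^ r = b * c * b⁻¹
      have hbw : b * w * b⁻¹ = w := by rw [Subgroup.mem_center_iff.mp hwc b, mul_inv_cancel_right]
      calc c ^ r = x ^ r * ((b * x * b⁻¹) ^ r)⁻¹ := by rw [hcdef, hcom.mul_zpow, inv_zpow]
        _ = x ^ r * (b * x ^ r * b⁻¹)⁻¹ := by rw [_root_.conj_zpow]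
        _ = (b * x * b⁻¹) * ((b * w * b⁻¹) * (b * x ^ r * b⁻¹))⁻¹ := by
          simp only at he
          rw [← he, hbw]
          generalize b * x ^ r * b⁻¹ = X
          rw [mul_inv_rev, ← mul_assoc, mul_assoc w,
            ← Subgroup.mem_center_iff.mp hwc (x ^ r * X⁻¹), mul_inv_cancel_right]
        _ = (b * x * b⁻¹) * (b * (w * x ^ r) * b⁻¹)⁻¹ := by group
        _ = b * c * b⁻¹ := by
          simp only at he
          rw [he, hcdef]; group
    have hcn : (Subgroup.zpowers c).Normal := by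
      rw [← Subgroup.normalizer_eq_top_iff, eq_top_iff, ← hgen]
      refine sup_le (fun g hg => ?_) (Subgroup.zpowers_le.mpr ?_)
      · rw [Subgroup.mem_normalizer_iff]
        intro h
        constructor
        · intro hh
          have hhA : h ∈ A := Subgroup.zpowers_le.mpr hcA hh
          rw [mul_comm_of_isMulCommutative hAc hg hhA, mul_inv_cancel_right]
          exact hh
        · intro hh
          have hhA : g * h * g⁻¹ ∈ A := Subgroup.zpowers_le.mpr hcA hh
          have : g⁻¹ * (g * h * g⁻¹) * g = g * h * g⁻¹ := by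
            rw [mul_comm_of_isMulCommutative hAc (inv_mem hg) hhA, inv_mul_cancel_right]
          rw [show g⁻¹ * (g * h * g⁻¹) * g = h by group] at this
          rw [this]
          exact hh
      · exact mem_normalizer_of_conj_mem_zpowers hbc
    have hcomm : commutator G ≤ Subgroup.zpowers c := by
      refine (Subgroup.Normal.quotient_commutative_iff_commutator_le).mp ⟨⟨fun q1 q2 => ?_⟩⟩
      have hgen2 : Subgroup.zpowers x ⊔ Subgroup.zpowers b = ⊤ := by
        rw [Subgroup.zpowers_eq_closure, Subgroup.zpowers_eq_closure, ← Subgroup.closure_union]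
        refine closure_eq_top_of_sup_frattini (top_le_iff.mp ?_)
        rw [← hgen, hAeq, Subgroup.closure_union, ← Subgroup.zpowers_eq_closure, ← Subgroup.zpowers_eq_closure]
        refine sup_le (sup_le ?_ (le_sup_left.trans le_sup_left)) (le_sup_right.trans le_sup_left)
        exact (Subgroup.zpowers_le.mpr hzc).trans ((commutator_le_frattini hP).trans le_sup_right)
      have hcm : Commute (QuotientGroup.mk' (Subgroup.zpowers c) x)
          (QuotientGroup.mk' (Subgroup.zpowers c) b) := by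
        refine commutatorElement_eq_one_iff_mul_comm.mp ?_
        rw [← map_commutatorElement, hcx]
        exact (QuotientGroup.eq_one_iff c).mpr (Subgroup.mem_zpowers c)
      refine commute_of_generators ?_ hcm q1 q2
      rw [← MonoidHom.map_zpowers, ← MonoidHom.map_zpowers, ← Subgroup.map_sup, hgen2,
        Subgroup.map_top_of_surjective _ (QuotientGroup.mk'_surjective _)]
    -- the order of `x`
    have hxM : x ^ 2 ^ (n - 1) = 1 := by
      have h1 : (QuotientGroup.mk' N x) ^ 2 ^ (n - 1) = 1 := by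
        rw [← orderOf_dvd_iff_pow_eq_one, ← Nat.card_zpowers, hd]
        have h2 := Subgroup.card_mul_index D
        rw [hDi, hqcard, show n = n - 1 + 1 by omega, pow_succ] at h2
        rw [Nat.eq_of_mul_eq_mul_right (by norm_num) h2]
      rw [← map_pow] at h1
      have h2 : x ^ 2 ^ (n - 1) ∈ N := (QuotientGroup.eq_one_iff _).mp h1
      have h3 : x ^ 2 ^ (n - 1) = 1 ∨ x ^ 2 ^ (n - 1) = z := by
        obtain ⟨k, hk⟩ := h2
        rcases Int.emod_two_eq_zero_or_one k with he | he
        · left; rw [← hk, show k = 2 * (k / 2) by omega]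
          show z ^ (2 * (k / 2)) = 1
          rw [zpow_mul, zpow_two, ← pow_two, ← hzo, pow_orderOf_eq_one, one_zpow]
        · right; rw [← hk, show k = 2 * (k / 2) + 1 by omega]
          show z ^ (2 * (k / 2) + 1) = z
          rw [zpow_add_one, zpow_mul, zpow_two, ← pow_two, ← hzo, pow_orderOf_eq_one, one_zpow, one_mul]
      exact h3.resolve_right fun h3 => hzx (h3 ▸ Subgroup.pow_mem _ (Subgroup.mem_zpowers x) _)
    -- `z` is the involution of `⟨c⟩`, hence lies in `⟨x⟩`
    apply hzx
    obtain ⟨k, hk⟩ := hcomm hzc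
    simp only at hk
    have hA2 : ∀ a ∈ A, a ^ 2 ∈ Subgroup.zpowers x := by
      intro a ha
      obtain ⟨w, hw, v, hv, rfl⟩ := Subgroup.mem_sup_of_normal_left.mp (hAeq ▸ ha)
      have hwc : w ∈ Subgroup.center G := Subgroup.zpowers_le.mpr hzZ hw
      rw [Commute.mul_pow (Subgroup.mem_center_iff.mp hwc v).symm,
        show w ^ 2 = 1 from orderOf_dvd_iff_pow_eq_one.mp (hNc ▸ Subgroup.orderOf_dvd_natCard N hw), one_mul]
      exact Subgroup.pow_mem _ hv 2
    rcases Int.emod_two_eq_zero_or_one k with he | he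
    · rw [← hk, show k = 2 * (k / 2) by omega, zpow_mul, zpow_two, ← pow_two]
      exact Subgroup.zpow_mem _ (hA2 c hcA) _
    · exfalso
      -- `c` would be an involution generating `G'`
      have h1 : c ^ (k * 2) = 1 := by
        rw [zpow_mul, hk, zpow_two, ← pow_two, ← hzo, pow_orderOf_eq_one]
      have hle : Nat.card ↥(commutator G) ≤ orderOf c := by
        rw [← Nat.card_zpowers]; exact Nat.le_of_dvd Nat.card_pos (Subgroup.card_dvd_of_le hcomm)
      have h2 : (orderOf c : ℤ) ∣ k * 2 := orderOf_dvd_iff_zpow_eq_one.mpr h1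
      obtain ⟨j, hj⟩ := IsPGroup.iff_orderOf.mp hP c
      rw [hj] at h2 hle
      have hj1 : j ≤ 1 := by
        by_contra hj1
        have h3 : (4 : ℤ) ∣ k * 2 := (show (4 : ℤ) ∣ ((2 ^ j : ℕ) : ℤ) by
          exact_mod_cast (Nat.pow_dvd_pow 2 (show 2 ≤ j by omega))).trans h2
        omega
      have h4 := Subgroup.card_mul_index (commutator G)
      rw [hc, hG] at h4
      have h5 : 2 ^ (n + 1) ≤ 2 ^ 1 * 4 := by
        rw [← h4]; exact Nat.mul_le_mul_right _ (hle.trans (Nat.pow_le_pow_right (by norm_num) hj1))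
      have h6 : 2 ^ 4 ≤ 2 ^ (n + 1) := Nat.pow_le_pow_right (by norm_num) (by omega)
      omega

/-- Structure of a 2-group with `[G : G'] = 4`: dihedral, quaternion or semidihedral relations. -/
theorem two_group_commutator_index_four [Finite G] {m : ℕ} (hm : 2 ≤ m)
    (hG : Nat.card G = 2 ^ (m + 1)) (hc : (commutator G).index = 4) :
    ∃ a b : G, orderOf a = 2 ^ m ∧ b ∉ Subgroup.zpowers a ∧
      Subgroup.zpowers a ⊔ Subgroup.zpowers b = ⊤ ∧
      ((b ^ 2 = 1 ∧ b * a * b⁻¹ = a⁻¹) ∨
        (b ^ 2 = a ^ (2 ^ (m - 1)) ∧ b * a * b⁻¹ = a⁻¹) ∨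
        (3 ≤ m ∧ b ^ 2 = 1 ∧ b * a * b⁻¹ = a ^ (2 ^ (m - 1) - 1))) := by
  obtain ⟨C, hC, hCi⟩ := exists_cyclic_index_two_of_commutator (by omega : 3 ≤ m + 1) hG hc
  have hna : ∃ x y : G, x * y ≠ y * x := by
    by_contra! h
    rw [(commutator_eq_bot_iff G).mpr ⟨⟨h⟩⟩, Subgroup.index_bot, hG,
      show (4 : ℕ) = 2 ^ 2 by norm_num] at hc
    have := Nat.pow_right_injective le_rfl hc
    omega
  obtain ⟨a, b, -, ha, hb, hgen, h⟩ := cyclic_index_two hm hG C hC hCi hna
  refine ⟨a, b, ha, hb, hgen, ?_⟩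
  rcases h with h | h | ⟨hm3, hb2, hconj⟩ | h
  · exact Or.inl h
  · exact Or.inr (Or.inl h)
  · exfalso
    set z := a ^ 2 ^ (m - 1) with hz
    have hz2 : z ^ 2 = 1 := by
      rw [hz, ← pow_mul, ← pow_succ, show m - 1 + 1 = m by omega, ← ha, pow_orderOf_eq_one]
    have hzn : (Subgroup.zpowers z).Normal := by
      have hbz : b * z * b⁻¹ = z := by
        rw [hz, ← conj_pow, hconj, ← pow_mul, mul_comm, pow_mul, ← hz, pow_add, pow_one,
          show 2 ^ (m - 1) = 2 * 2 ^ (m - 2) by rw [← pow_succ']; congr 1; omega, pow_mul, hz2,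
          one_pow, mul_one]
      refine ⟨fun w hw g => ?_⟩
      have hzc : z ∈ Subgroup.center G := by
        have htop : (⊤ : Subgroup G) ≤ Subgroup.centralizer {z} := by
          rw [← hgen]
          refine sup_le (Subgroup.zpowers_le.mpr ?_) (Subgroup.zpowers_le.mpr ?_)
          · exact Subgroup.mem_centralizer_singleton_iff.mpr ((Commute.refl a).pow_right _)
          · exact Subgroup.mem_centralizer_singleton_iff.mpr (mul_inv_eq_iff_eq_mul.mp hbz)
        exact Subgroup.mem_center_iff.mpr fun g =>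
          Subgroup.mem_centralizer_singleton_iff.mp (htop (Subgroup.mem_top g))
      rw [Subgroup.mem_center_iff.mp (Subgroup.zpowers_le.mpr hzc hw) g, mul_inv_cancel_right]
      exact hw
    have hcomm : commutator G ≤ Subgroup.zpowers z := by
      refine (Subgroup.Normal.quotient_commutative_iff_commutator_le).mp ⟨⟨fun q1 q2 => ?_⟩⟩
      have hgen' : Subgroup.zpowers (QuotientGroup.mk' (Subgroup.zpowers z) a) ⊔
          Subgroup.zpowers (QuotientGroup.mk' (Subgroup.zpowers z) b) = ⊤ := by
        rw [← MonoidHom.map_zpowers, ← MonoidHom.map_zpowers, ← Subgroup.map_sup, hgen,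
          Subgroup.map_top_of_surjective _ (QuotientGroup.mk'_surjective _)]
      refine commute_of_generators hgen' ?_ q1 q2
      refine (mul_inv_eq_iff_eq_mul.mp (?_ : _ * _ * _⁻¹ = _)).symm
      rw [← map_inv, ← map_mul, ← map_mul, hconj, pow_add, pow_one, map_mul,
        show QuotientGroup.mk' (Subgroup.zpowers z) (a ^ 2 ^ (m - 1)) = 1 from
          (QuotientGroup.eq_one_iff _).mpr (Subgroup.mem_zpowers z), mul_one]
    have h4 := Subgroup.card_mul_index (commutator G)
    rw [hc, hG] at h4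
    have h5 : Nat.card ↥(commutator G) ≤ 2 := by
      refine (Nat.le_of_dvd Nat.card_pos (Subgroup.card_dvd_of_le hcomm)).trans ?_
      rw [Nat.card_zpowers]
      exact Nat.le_of_dvd (by norm_num) (orderOf_dvd_of_pow_eq_one hz2)
    have h6 : 2 ^ 4 ≤ 2 ^ (m + 1) := Nat.pow_le_pow_right (by norm_num) (by omega)
    omega
  · exact Or.inr (Or.inr h)

/-- A 2-group with `[G : G'] = 4` has maximal class. -/
theorem class_of_commutator_index_four [Finite G] {n : ℕ} (hn : 3 ≤ n) (hG : Nat.card G = 2 ^ n)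
    (hc : (commutator G).index = 4) : Group.nilpotencyClass G = n - 1 := by
  have h2 : Fact (Nat.Prime 2) := ⟨Nat.prime_two⟩
  have := (IsPGroup.of_card hG).isNilpotent
  refine le_antisymm (Subgroup.lowerCentralSeries_eq_bot_iff_nilpotencyClass_le.mp
    (lcs_eq_bot_of_card (by omega) hG)) ?_
  by_contra hlt
  have hbot : γ (n - 2) = ⊥ :=
    Subgroup.lowerCentralSeries_eq_bot_iff_nilpotencyClass_le.mpr (by omega)
  obtain ⟨j, rfl⟩ : ∃ j, n = j + 3 := ⟨n - 3, by omega⟩
  rw [show j + 3 - 2 = j + 1 by omega] at hbot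
  obtain ⟨a, b, ha, -, -, h⟩ := two_group_commutator_index_four (by omega : 2 ≤ j + 2)
    (by rw [hG]) hc
  obtain ⟨r, hr, hr2⟩ : ∃ r : ℤ, b * a * b⁻¹ = a ^ r ∧ ∃ v, 1 - r = 2 * v ∧ v % 2 = 1 := by
    rcases h with ⟨-, h⟩ | ⟨-, h⟩ | ⟨hj, -, h⟩
    · exact ⟨-1, by rw [h, zpow_neg_one], 1, by norm_num, by norm_num⟩
    · exact ⟨-1, by rw [h, zpow_neg_one], 1, by norm_num, by norm_num⟩
    · refine ⟨((2 ^ (j + 2 - 1) - 1 : ℕ) : ℤ), by rw [h, zpow_natCast], 1 - 2 ^ j, ?_, ?_⟩
      · rw [Nat.cast_sub Nat.one_le_two_pow, show j + 2 - 1 = j + 1 by omega]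
        push_cast; ring
      · have h0 : (2 : ℤ) ∣ 2 ^ j := dvd_pow_self 2 (by omega)
        omega
  have hmem : ∀ i : ℕ, a ^ ((1 - r) ^ i) ∈ γ i := by
    intro i
    induction i with
    | zero => exact Subgroup.mem_top _
    | succ i ih =>
      have : a ^ ((1 - r) ^ (i + 1)) = ⁅a ^ ((1 - r) ^ i), b⁆ := by
        rw [commutatorElement_def]
        calc a ^ ((1 - r) ^ (i + 1)) = a ^ ((1 - r) ^ i) * a ^ (r * -((1 - r) ^ i)) := by
              rw [← zpow_add]; congr 1; ring
          _ = a ^ ((1 - r) ^ i) * (b * a ^ (-((1 - r) ^ i)) * b⁻¹) := by rw [PGroup.conj_zpow hr]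
          _ = _ := by rw [zpow_neg]; group
      rw [this]
      exact Subgroup.commutator_mem_commutator ih (Subgroup.mem_top b)
  have h1 := hmem (j + 1)
  rw [hbot, Subgroup.mem_bot, ← orderOf_dvd_iff_zpow_eq_one, ha] at h1
  obtain ⟨v, hv, hv2⟩ := hr2
  rw [hv, mul_pow] at h1
  push_cast at h1
  rw [show (2 : ℤ) ^ (j + 2) = 2 ^ (j + 1) * 2 by rw [← pow_succ]] at h1
  have h3 : (2 : ℤ) ∣ v ^ (j + 1) := (mul_dvd_mul_iff_left (by positivity)).mp h1
  have h4 := Int.Prime.dvd_pow' Nat.prime_two (by exact_mod_cast h3)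
  omega

end Cfsg.Agent.PGroup
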