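import Cfsg.Agent.Lib.PGroup.Frattini
import Cfsg.Agent.S3975

/-!
# Subgroups of index `p` and `p²` above the Frattini subgroup

* `hyperplanes_mul` : there are `(p^e - 1)/(p - 1)` subgroups of index `p` above `N ⊇ Φ(G)`,
  `[G : N] = p^e`.
* `hyperplanes_zmod` : this number is `1 + p` modulo `p²` for `e ≥ 2`.
* `card_index_sq_zmod` : the number of subgroups of index `p²` above `N` is `1` modulo `p`.
-/

set_option autoImplicit false

namespace Cfsg.Agent.PGroup

universe u

variable {G : Type u} [Group G] {p : ℕ}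

/-- The number of subgroups of index `p` containing `N`. -/
noncomputable def hyperplanes (p : ℕ) (N : Subgroup G) : ℕ :=
  Nat.card {M : Subgroup G // N ≤ M ∧ M.index = p}

theorem frattini_le_of_index_eq [Finite G] [Fact p.Prime] {M : Subgroup G} (hM : M.index = p) :
    frattini G ≤ M :=
  frattini_le_coatom (isCoatom_of_index_eq hM)

theorem normal_of_frattini_le [Finite G] [Fact p.Prime] (hG : IsPGroup p G) {N : Subgroup G}
    (hN : frattini G ≤ N) : N.Normal :=
  Subgroup.Normal.of_commutator_le G ((commutator_le_frattini hG).trans hN)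

/-- Double count: `∑_M |M| = ∑_x #{M ∋ x}`. -/
theorem sum_card_eq_sum_count [Fintype G] [DecidableEq G] (S : Finset (Subgroup G))
    [∀ (M : Subgroup G) (x : G), Decidable (x ∈ M)] :
    ∑ M ∈ S, Nat.card ↥M = ∑ x : G, (S.filter (fun M => x ∈ M)).card := by
  have h1 : ∀ M : Subgroup G, Nat.card ↥M = ∑ x : G, if x ∈ M then 1 else 0 := fun M => by
    rw [Finset.sum_boole, Nat.card_eq_fintype_card, ← Finset.card_subtype, Nat.cast_id]
    simp
  rw [Finset.sum_congr rfl fun M _ => h1 M, Finset.sum_comm]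
  refine Finset.sum_congr rfl fun x _ => ?_
  rw [Finset.sum_boole, Nat.cast_id]

theorem hyperplanes_mul [Finite G] [Fact p.Prime] (hG : IsPGroup p G) (e : ℕ) :
    ∀ N : Subgroup G, frattini G ≤ N → N.index = p ^ e →
      (hyperplanes p N : ℤ) * ((p : ℤ) - 1) + 1 = (p : ℤ) ^ e := by
  classical
  have := Fintype.ofFinite G
  have := Fintype.ofFinite (Subgroup G)
  have hp := (Fact.out (p := p.Prime))
  induction e with
  | zero =>
    intro N _ hN
    have hNtop : N = ⊤ := Subgroup.index_eq_one.mp (by rw [hN, pow_zero])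
    have : IsEmpty {M : Subgroup G // N ≤ M ∧ M.index = p} := ⟨fun ⟨M, hle, hM⟩ => by
      rw [hNtop, top_le_iff] at hle
      rw [hle, Subgroup.index_top] at hM
      exact hp.ne_one hM.symm⟩
    rw [hyperplanes, Nat.card_of_isEmpty]
    simp
  | succ f ih =>
    intro N hΦ hN
    rcases Nat.eq_zero_or_pos f with rfl | hf
    · have : Unique {M : Subgroup G // N ≤ M ∧ M.index = p} :=
        { default := ⟨N, le_rfl, by rw [hN, zero_add, pow_one]⟩
          uniq := fun ⟨M, hle, hM⟩ => Subtype.ext (Subgroup.eq_of_le_of_card_ge hle (by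
            have h1 := Subgroup.card_mul_index N
            have h2 := Subgroup.card_mul_index M
            rw [hN, zero_add, pow_one] at h1
            rw [hM, ← h1] at h2
            exact (Nat.eq_of_mul_eq_mul_right hp.pos h2).le)).symm }
      rw [hyperplanes, Nat.card_unique]
      simp
    set S := Finset.univ.filter (fun M : Subgroup G => N ≤ M ∧ M.index = p) with hS
    have hA : hyperplanes p N = S.card := by
      rw [hyperplanes, Nat.card_eq_fintype_card, Fintype.card_subtype]
    have hn := normal_of_frattini_le hG hΦ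
    set c := Nat.card ↥N with hc
    have hcG : (Nat.card G : ℤ) = c * (p : ℤ) ^ (f + 1) := by
      rw [← Subgroup.card_mul_index N, hN, ← hc]; push_cast; ring
    have hL : ∀ M ∈ S, (Nat.card ↥M : ℤ) = c * (p : ℤ) ^ f := fun M hM => by
      have h1 := Subgroup.card_mul_index M
      rw [(Finset.mem_filter.mp hM).2.2, ← Subgroup.card_mul_index N, hN, ← hc, pow_succ,
        ← mul_assoc] at h1
      exact_mod_cast Nat.eq_of_mul_eq_mul_right hp.pos h1
    have hsum : ∀ x : G, ((S.filter (fun M => x ∈ M)).card : ℤ) * ((p : ℤ) - 1) =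
        if x ∈ N then (S.card : ℤ) * ((p : ℤ) - 1) else (p : ℤ) ^ f - 1 := by
      intro x
      split_ifs with hx
      · rw [Finset.filter_true_of_mem fun M hM => (Finset.mem_filter.mp hM).2.1 hx]
      · have hidx : (N ⊔ Subgroup.zpowers x).index = p ^ f := by
          have h1 := Subgroup.card_mul_index (N ⊔ Subgroup.zpowers x)
          rw [card_sup_zpowers N hx (hΦ (pow_mem_frattini hG x)), ← Subgroup.card_mul_index N, hN,
            pow_succ', mul_assoc] at h1
          exact Nat.eq_of_mul_eq_mul_left hp.pos (Nat.eq_of_mul_eq_mul_left Nat.card_pos h1)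
        have h2 := ih _ (hΦ.trans le_sup_left) hidx
        have h3 : hyperplanes p (N ⊔ Subgroup.zpowers x) = (S.filter (fun M => x ∈ M)).card := by
          rw [hyperplanes, Nat.card_eq_fintype_card, Fintype.card_subtype, hS, Finset.filter_filter]
          refine congrArg Finset.card (Finset.filter_congr fun M _ => ?_)
          rw [sup_le_iff, Subgroup.zpowers_le]
          tauto
        rw [h3] at h2
        linarith
    have hNc : ((Finset.univ.filter (fun x : G => x ∈ N)).card : ℤ) = c := by
      rw [hc, Nat.card_eq_fintype_card, Fintype.card_subtype]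
    have hNc' : ((Finset.univ.filter (fun x : G => x ∉ N)).card : ℤ) = c * (p : ℤ) ^ (f + 1) - c := by
      rw [← hcG, ← hNc, Nat.card_eq_fintype_card, ← Finset.card_univ,
        ← Finset.card_filter_add_card_filter_not (s := Finset.univ) (fun x : G => x ∈ N)]
      push_cast; ring
    have h4 : (∑ M ∈ S, (Nat.card ↥M : ℤ)) * ((p : ℤ) - 1) =
        ∑ x : G, ((S.filter (fun M => x ∈ M)).card : ℤ) * ((p : ℤ) - 1) := by
      rw [← Finset.sum_mul, ← Nat.cast_sum, ← Nat.cast_sum, sum_card_eq_sum_count]
    rw [Finset.sum_congr rfl hL, Finset.sum_congr rfl (fun x _ => hsum x), Finset.sum_ite,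
      Finset.sum_const, Finset.sum_const, Finset.sum_const, nsmul_eq_mul, nsmul_eq_mul, nsmul_eq_mul,
      hNc, hNc'] at h4
    rw [hA]
    have hne : (c : ℤ) * ((p : ℤ) ^ f - 1) ≠ 0 := by
      refine mul_ne_zero (by exact_mod_cast Nat.card_pos.ne') (sub_ne_zero.mpr ?_)
      exact_mod_cast (Nat.one_lt_pow hf.ne' hp.one_lt).ne'
    refine mul_left_cancel₀ hne ?_
    linear_combination h4

theorem one_le_of_hyperplanes [Finite G] [Fact p.Prime] (hG : IsPGroup p G) {N : Subgroup G}
    (hΦ : frattini G ≤ N) (hN : N ≠ ⊤) : (hyperplanes p N : ZMod p) = 1 := by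
  obtain ⟨e, he⟩ := index_eq_pow hG N
  have he0 : e ≠ 0 := fun h => hN (Subgroup.index_eq_one.mp (by rw [he, h, pow_zero]))
  have h := congrArg (fun z : ℤ => (z : ZMod p)) (hyperplanes_mul hG e N hΦ he)
  simp only [Int.cast_add, Int.cast_mul, Int.cast_sub, Int.cast_one, Int.cast_pow, Int.cast_natCast,
    ZMod.natCast_self, zero_pow he0, zero_sub, mul_neg, mul_one] at h
  linear_combination -h

theorem hyperplanes_zmod [Finite G] [Fact p.Prime] (hG : IsPGroup p G) {N : Subgroup G}
    (hΦ : frattini G ≤ N) (hN : p ^ 2 ∣ N.index) :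
    (hyperplanes p N : ZMod (p ^ 2)) = 1 + p := by
  obtain ⟨e, he⟩ := index_eq_pow hG N
  have he2 : 2 ≤ e := (Nat.pow_dvd_pow_iff_le_right (Fact.out (p := p.Prime)).one_lt).mp (he ▸ hN)
  have hsq : (p : ZMod (p ^ 2)) ^ 2 = 0 := by rw [← Nat.cast_pow, ZMod.natCast_self]
  have h := congrArg (fun z : ℤ => (z : ZMod (p ^ 2))) (hyperplanes_mul hG e N hΦ he)
  simp only [Int.cast_add, Int.cast_mul, Int.cast_sub, Int.cast_one, Int.cast_pow, Int.cast_natCast,
    pow_eq_zero_of_le he2 hsq] at h
  linear_combination (-(1 : ZMod (p ^ 2)) - p) * h + (hyperplanes p N : ZMod (p ^ 2)) * hsq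

/-- The number of subgroups of index `p²` containing a normal subgroup of index divisible by `p²`. -/
theorem card_index_sq_zmod [Finite G] [Fact p.Prime] (hG : IsPGroup p G) (N : Subgroup G) [N.Normal]
    (hN : p ^ 2 ∣ N.index) :
    (Nat.card {K : Subgroup G // N ≤ K ∧ K.index = p ^ 2} : ZMod p) = 1 := by
  have hp := (Fact.out (p := p.Prime))
  obtain ⟨w, hw⟩ := hN
  have hw0 : 0 < w := Nat.pos_of_ne_zero fun h =>
    Subgroup.index_ne_zero_of_finite (H := N) (by rw [hw, h, mul_zero])
  have hequiv : Nat.card {K : Subgroup G // N ≤ K ∧ K.index = p ^ 2} =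
      Nat.card {L : Subgroup (G ⧸ N) // L.index = p ^ 2} := Nat.card_congr
    { toFun := fun K => ⟨K.1.map (QuotientGroup.mk' N), by
        rw [← Subgroup.index_comap_of_surjective _ (QuotientGroup.mk'_surjective N),
          QuotientGroup.comap_map_mk', sup_eq_right.mpr K.2.1, K.2.2]⟩
      invFun := fun L => ⟨L.1.comap (QuotientGroup.mk' N), QuotientGroup.le_comap_mk' N L.1, by
        rw [Subgroup.index_comap_of_surjective _ (QuotientGroup.mk'_surjective N), L.2]⟩
      left_inv := fun K => Subtype.ext (by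
        simp only [QuotientGroup.comap_map_mk', sup_eq_right.mpr K.2.1])
      right_inv := fun L => Subtype.ext
        (Subgroup.map_comap_eq_self_of_surjective (QuotientGroup.mk'_surjective N) L.1) }
  rw [hequiv]
  have hQ : Nat.card (G ⧸ N) = p ^ 2 * w := by rw [← Subgroup.index_eq_card, hw]
  have hiff : ∀ L : Subgroup (G ⧸ N), L.index = p ^ 2 ↔ Nat.card ↥L = w := by
    intro L
    have h1 := Subgroup.card_mul_index L
    rw [hQ] at h1
    constructor
    · intro h
      rw [h, mul_comm (p ^ 2)] at h1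
      exact Nat.eq_of_mul_eq_mul_right (pow_pos hp.pos _) h1
    · intro h
      rw [h, mul_comm (p ^ 2)] at h1
      exact Nat.eq_of_mul_eq_mul_left hw0 h1
  rw [Nat.card_congr (Equiv.subtypeEquivRight hiff)]
  obtain ⟨β, -, rfl⟩ := (Nat.dvd_prime_pow hp).mp (show w ∣ p ^ (index_eq_pow hG N).choose from
    ⟨p ^ 2, by rw [← (index_eq_pow hG N).choose_spec, hw, mul_comm]⟩)
  have h2 := S3975.result (G := G ⧸ N) p β hp (hQ ▸ Dvd.intro_left _ rfl)
  rw [← ZMod.natCast_eq_natCast_iff, Nat.cast_one] at h2
  exact h2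

end Cfsg.Agent.PGroup
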