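import Cfsg.Agent.Lib.PGroup.CyclicMaximal
import Cfsg.Agent.Lib.PGroup.ElementaryAbelian

/-!
# A cyclic normal self-centralizing subgroup `U` of a `p`-group

* `omegaOne_modular` : `Ω₁` of a modular group is elementary abelian of order `p²`
* `relIndex_centralizer_pow_le` : `[C(u^p) : ⟨u⟩] ≤ p`
* `index_two_of_centralizer_pow_eq` : if `C(u^p) = ⟨u⟩` then `p = 2` and `[G : ⟨u⟩] = 2`
-/

set_option autoImplicit false

namespace Cfsg.Agent.PGroup

open scoped commutatorElement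

universe u

variable {G : Type u} [Group G] {p : ℕ}

/-- `Ω₁` of a non-abelian `p`-group with a cyclic maximal subgroup `⟨c⟩` with `c^p` central
(`c` of order at least `8` if `p = 2`). -/
theorem omegaOne_modular [Finite G] [Fact p.Prime] {n : ℕ} (hn : 2 ≤ n) (h2 : p = 2 → 3 ≤ n)
    (hG : Nat.card G = p ^ (n + 1)) (C : Subgroup G) (hC : IsCyclic C) (hCi : C.index = p)
    (hna : ∃ x y : G, x * y ≠ y * x) (hcen : ∀ c ∈ C, c ^ p ∈ Subgroup.center G) :
    IsElementaryAbelian p (omegaOne p (⊤ : Subgroup G)) ∧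
      Nat.card ↥(omegaOne p (⊤ : Subgroup G)) = p ^ 2 := by
  have hp := Fact.out (p := p.Prime)
  suffices hkey : ∃ a b : G, orderOf a = p ^ n ∧ b ^ p = 1 ∧ b ∉ Subgroup.zpowers a ∧
      a ^ p ^ (n - 1) ∈ Subgroup.center G ∧
      ∀ x : G, x ^ p = 1 → x ∈ Subgroup.zpowers (a ^ p ^ (n - 1)) ⊔ Subgroup.zpowers b by
    obtain ⟨a, b, ha, hbp, hbA, hzc, hle⟩ := hkey
    set z := a ^ p ^ (n - 1) with hz
    have hzp : z ^ p = 1 := by
      rw [hz, ← pow_mul, ← pow_succ, show n - 1 + 1 = n by omega, ← ha, pow_orderOf_eq_one]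
    have hzn : (Subgroup.zpowers z).Normal := ⟨fun w hw g => by
      rw [Subgroup.mem_center_iff.mp (Subgroup.zpowers_le.mpr hzc hw) g, mul_inv_cancel_right]
      exact hw⟩
    have hel := isElementaryAbelian_sup (isElementaryAbelian_zpowers hzp)
      (isElementaryAbelian_zpowers hbp)
      (fun w hw v _ => (Subgroup.mem_center_iff.mp (Subgroup.zpowers_le.mpr hzc hw) v).symm)
    have heq : omegaOne p (⊤ : Subgroup G) = Subgroup.zpowers z ⊔ Subgroup.zpowers b :=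
      le_antisymm (omegaOne_le_iff.mpr fun x _ hx => hle x hx)
        fun x hx => mem_omegaOne_of_pow_eq_one (Subgroup.mem_top x) (hel.2 x hx)
    have hbz : b ∉ Subgroup.zpowers z := fun h =>
      hbA (Subgroup.zpowers_le.mpr (Subgroup.pow_mem _ (Subgroup.mem_zpowers a) _) h)
    rw [heq]
    refine ⟨hel, ?_⟩
    rw [card_sup_zpowers _ hbz (by rw [hbp]; exact one_mem _), Nat.card_zpowers, hz,
      orderOf_pow' a (pow_ne_zero _ hp.ne_zero), ha, Nat.gcd_eq_right (pow_dvd_pow p (by omega)),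
      Nat.pow_div (by omega) hp.pos, show n - (n - 1) = 1 by omega, pow_one, ← pow_two]
  by_cases hp2 : p = 2
  · subst hp2
    have hn3 := h2 rfl
    obtain ⟨a, b, hCa, ha, hbA, hgen, h⟩ := cyclic_index_two hn hG C hC hCi hna
    have hfix : b * a ^ 2 * b⁻¹ = a ^ 2 := by
      rw [Subgroup.mem_center_iff.mp (hcen a (hCa ▸ Subgroup.mem_zpowers a)) b, mul_inv_cancel_right]
    have hno : ∀ r : ℤ, b * a * b⁻¹ = a ^ r → (2 ^ n : ℤ) ∣ r * 2 - 2 := by
      intro r hr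
      have h1 := PGroup.conj_zpow hr 2
      rw [show a ^ (2 : ℤ) = a ^ (2 : ℕ) from zpow_natCast a 2, hfix, ← zpow_natCast,
        zpow_eq_zpow_iff_dvd, ha] at h1
      rw [← dvd_neg]
      push_cast at h1
      rwa [show -(r * 2 - 2) = 2 - r * 2 by ring]
    have h8 : (8 : ℤ) ∣ 2 ^ n := ⟨2 ^ (n - 3), by
      rw [show (8 : ℤ) = 2 ^ 3 by norm_num, ← pow_add]; congr 1; omega⟩
    rcases h with ⟨-, hc⟩ | ⟨-, hc⟩ | ⟨-, hb2, hc⟩ | ⟨-, -, hc⟩
    · have := h8.trans (hno (-1) (by rw [hc, zpow_neg_one])); omega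
    · have := h8.trans (hno (-1) (by rw [hc, zpow_neg_one])); omega
    · set z := a ^ 2 ^ (n - 1) with hz
      have hzc : z ∈ Subgroup.center G := by
        rw [hz, show 2 ^ (n - 1) = 2 * 2 ^ (n - 2) by rw [← pow_succ']; congr 1; omega, pow_mul]
        exact Subgroup.pow_mem _ (hcen a (hCa ▸ Subgroup.mem_zpowers a)) _
      refine ⟨a, b, ha, hb2, hbA, hzc, fun x hx => ?_⟩
      obtain ⟨i, hi | hi⟩ : ∃ i : ℤ, x = a ^ i ∨ x = b * a ^ i := by
        by_cases hxa : x ∈ Subgroup.zpowers a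
        · obtain ⟨i, hi⟩ := hxa; exact ⟨i, Or.inl hi.symm⟩
        · have h1 : b⁻¹ * x ∈ Subgroup.zpowers a := by
            rw [Subgroup.mul_mem_iff_of_index_two (hCa ▸ hCi), inv_mem_iff]
            exact iff_of_false hbA hxa
          obtain ⟨i, hi⟩ := h1
          exact ⟨i, Or.inr (by rw [show a ^ i = b⁻¹ * x from hi, mul_inv_cancel_left])⟩
      · subst hi
        rw [← zpow_natCast, ← zpow_mul, ← orderOf_dvd_iff_zpow_eq_one, ha] at hx
        obtain ⟨q, hq⟩ := hx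
        refine Subgroup.mem_sup_left ⟨q, ?_⟩
        show z ^ q = a ^ i
        rw [hz, ← zpow_natCast, ← zpow_mul]
        congr 1
        push_cast at hq ⊢
        rw [show (2 : ℤ) ^ n = 2 ^ (n - 1) * 2 by rw [← pow_succ]; congr 1; omega] at hq
        linarith
      · subst hi
        rw [mul_zpow_sq (r := ((1 + 2 ^ (n - 1) : ℕ) : ℤ)) (t := 0) (by rw [hc, zpow_natCast])
          (by rw [hb2, zpow_zero]), ← orderOf_dvd_iff_zpow_eq_one, ha] at hx
        push_cast at hx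
        obtain ⟨k, rfl⟩ : ∃ k, n = k + 2 := ⟨n - 2, by omega⟩
        rw [show k + 2 - 1 = k + 1 by omega] at hx hz
        obtain ⟨q, hq⟩ := hx
        have hk : (2 : ℤ) ∣ 2 ^ k := dvd_pow_self 2 (by omega)
        have hcop : IsCoprime ((2 : ℤ) ^ (k + 1)) (1 + 2 ^ k) :=
          IsCoprime.pow_left (Int.prime_two.coprime_iff_not_dvd.mpr (by omega))
        obtain ⟨w, hw⟩ : (2 : ℤ) ^ (k + 1) ∣ i := by
          refine hcop.dvd_of_dvd_mul_right (z := 1 + 2 ^ k) ⟨q, ?_⟩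
          have : (2 : ℤ) * (i * (1 + 2 ^ k)) = 2 * (2 ^ (k + 1) * q) := by
            linear_combination hq
          linarith
        refine Subgroup.mul_mem _ (Subgroup.mem_sup_right (Subgroup.mem_zpowers b))
          (Subgroup.mem_sup_left ⟨w, ?_⟩)
        show z ^ w = a ^ i
        rw [hz, ← zpow_natCast, ← zpow_mul, hw]
        congr 1
    · exfalso
      have h1 := hno ((2 ^ (n - 1) - 1 : ℕ) : ℤ) (by rw [hc, zpow_natCast])
      rw [Nat.cast_sub Nat.one_le_two_pow] at h1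
      push_cast at h1
      have hd : (2 : ℤ) ^ n = 2 ^ (n - 1) * 2 := by rw [← pow_succ]; congr 1; omega
      have h4 : (8 : ℤ) ∣ 4 := by
        have := dvd_sub (dvd_refl ((2 : ℤ) ^ n)) h1
        rw [show (2 : ℤ) ^ n - ((2 ^ (n - 1) - 1) * 2 - 2) = 4 by rw [hd]; ring] at this
        exact h8.trans this
      omega
  · have hnc : ¬ IsCyclic G := fun h => by
      obtain ⟨x, y, hxy⟩ := hna
      have := h.isMulCommutative
      exact hxy (Std.Commutative.comm (op := (· * ·)) x y)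
    obtain ⟨a, b, r, hCa, ha, hb, hbA, hgen, hzc, hconj⟩ :=
      cyclic_index_odd hp2 (by omega : 1 ≤ n) hG C hC hCi hnc
    set z := a ^ p ^ (n - 1) with hz
    have hbp : b ^ p = 1 := by rw [← hb, pow_orderOf_eq_one]
    refine ⟨a, b, ha, hbp, hbA, hzc, fun x hx => ?_⟩
    have hn' : (Subgroup.zpowers a).Normal :=
      normal_of_index_eq (IsPGroup.of_card hG) (hCa ▸ hCi)
    have hxmem : x ∈ Subgroup.zpowers a ⊔ Subgroup.zpowers b := hgen ▸ Subgroup.mem_top x
    obtain ⟨w, hw, v, hv, rfl⟩ := Subgroup.mem_sup_of_normal_left.mp hxmem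
    refine Subgroup.mul_mem _ (Subgroup.mem_sup_left ?_) (Subgroup.mem_sup_right hv)
    obtain ⟨i, rfl⟩ := hw
    obtain ⟨j, rfl⟩ := hv
    simp only at hx ⊢
    have hzp : z ^ p = 1 := by
      rw [hz, ← pow_mul, ← pow_succ, show n - 1 + 1 = n by omega, ← ha, pow_orderOf_eq_one]
    have hc : ⁅b, a⁆ = z ^ r := by
      have hcz : Commute a (z ^ r) := ((Commute.refl a).pow_right _).zpow_right _
      rw [commutatorElement_def, hconj, hcz.eq, mul_inv_cancel_right]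
    have hba : ⁅b, a⁆ ∈ Subgroup.center G := hc ▸ Subgroup.zpow_mem _ hzc r
    have hbai : ⁅b, a ^ i⁆ = ⁅b, a⁆ ^ i := by
      have h1 : ⁅a, b⁆ ∈ Subgroup.center G := by
        rw [← commutatorElement_inv]; exact inv_mem hba
      rw [← commutatorElement_inv, commutator_zpow_left h1, ← commutatorElement_inv b a, inv_zpow,
        inv_inv]
    have hbiai : ⁅b ^ j, a ^ i⁆ = (⁅b, a⁆ ^ i) ^ j := by
      rw [commutator_zpow_left (hbai ▸ Subgroup.zpow_mem _ hba i), hbai]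
    rw [mul_pow_prime hp hp2 (hbiai ▸ Subgroup.zpow_mem _ (Subgroup.zpow_mem _ hba i) j)
      (by rw [hbiai, hc, ← zpow_natCast, ← zpow_mul, ← zpow_mul, ← zpow_mul,
        show r * (i * (j * (p : ℤ))) = (p : ℤ) * (r * i * j) by ring,
        zpow_mul z (p : ℤ), zpow_natCast, hzp, one_zpow]),
      show (b ^ j) ^ p = 1 by rw [← zpow_natCast, ← zpow_mul, mul_comm, zpow_mul, zpow_natCast, hbp, one_zpow],
      mul_one, ← zpow_natCast, ← zpow_mul, ← orderOf_dvd_iff_zpow_eq_one, ha] at hx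
    obtain ⟨q, hq⟩ := hx
    refine ⟨q, ?_⟩
    show z ^ q = a ^ i
    rw [hz, ← zpow_natCast, ← zpow_mul]
    congr 1
    push_cast at hq ⊢
    rw [show (p : ℤ) ^ n = (p : ℤ) ^ (n - 1) * p by rw [← pow_succ]; congr 1; omega] at hq
    refine mul_right_cancel₀ (show (p : ℤ) ≠ 0 by exact_mod_cast hp.ne_zero) ?_
    linarith

/-- Elements centralizing `u^p` act on `⟨u⟩` by `u ↦ u z^k`; so `[C(u^p):⟨u⟩] ≤ p`. -/
theorem relIndex_centralizer_pow_le [Finite G] [Fact p.Prime] {n : ℕ} (hn : 1 ≤ n) {a : G}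
    (ha : orderOf a = p ^ n) (hn' : (Subgroup.zpowers a).Normal)
    (hself : Subgroup.centralizer (Subgroup.zpowers a : Set G) = Subgroup.zpowers a) :
    (Subgroup.zpowers a).relIndex (Subgroup.centralizer ({a ^ p} : Set G)) ≤ p := by
  have hp := Fact.out (p := p.Prime)
  set M := Subgroup.centralizer ({a ^ p} : Set G) with hM
  set z := a ^ p ^ (n - 1) with hz
  have hexp : ∀ g : ↥M, ∃ k : ℕ, k < p ∧ (g : G) * a * (g : G)⁻¹ = a * z ^ k := by
    intro g
    obtain ⟨r, hr⟩ := hn'.conj_mem a (Subgroup.mem_zpowers a) g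
    simp only at hr
    have hfix : (g : G) * a ^ p * (g : G)⁻¹ = a ^ p := by
      rw [Subgroup.mem_centralizer_singleton_iff.mp g.2, mul_inv_cancel_right]
    have h1 := PGroup.conj_zpow hr.symm (p : ℤ)
    rw [zpow_natCast, hfix, ← zpow_natCast, zpow_eq_zpow_iff_dvd, ha] at h1
    obtain ⟨q, hq⟩ := h1
    have hq' : r - 1 = (p : ℤ) ^ (n - 1) * -q := by
      push_cast at hq
      rw [show (p : ℤ) ^ n = (p : ℤ) ^ (n - 1) * p by rw [← pow_succ]; congr 1; omega] at hq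
      refine mul_right_cancel₀ (show (p : ℤ) ≠ 0 by exact_mod_cast hp.ne_zero) ?_
      linarith
    have hpos : (0 : ℤ) < p := by exact_mod_cast hp.pos
    refine ⟨((-q) % p).toNat, ?_, ?_⟩
    · have := Int.emod_lt_of_pos (-q) hpos
      omega
    · rw [← hr, ← zpow_natCast z, Int.toNat_of_nonneg (Int.emod_nonneg _ hpos.ne'), hz,
        ← zpow_natCast a (p ^ (n - 1)), ← zpow_mul, ← zpow_one_add, zpow_eq_zpow_iff_dvd, ha]
      refine ⟨(-q) / p, ?_⟩
      push_cast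
      rw [Int.emod_def, show (p : ℤ) ^ n = (p : ℤ) ^ (n - 1) * p by rw [← pow_succ]; congr 1; omega]
      linear_combination hq'
  choose k hk hkc using hexp
  rw [Subgroup.relIndex, Subgroup.index_eq_card]
  refine le_trans (Nat.card_le_card_of_injective (fun q => (⟨k q.out, hk q.out⟩ : Fin p))
    fun q1 q2 h => ?_) (le_of_eq (Nat.card_fin p))
  have h' : k q1.out = k q2.out := congrArg Fin.val h
  rw [← QuotientGroup.out_eq' q1, ← QuotientGroup.out_eq' q2]
  refine QuotientGroup.eq.mpr (Subgroup.mem_subgroupOf.mpr ?_)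
  refine (SetLike.ext_iff.mp hself _).mp ?_
  rintro _ ⟨i, rfl⟩
  refine (Commute.zpow_left ?_ i).eq
  refine Eq.symm ?_
  have he : (q1.out : G) * a * (q1.out : G)⁻¹ = (q2.out : G) * a * (q2.out : G)⁻¹ := by
    rw [hkc, hkc, h']
  calc ((q1.out⁻¹ * q2.out : ↥M) : G) * a
      = (q1.out : G)⁻¹ * ((q2.out : G) * a * (q2.out : G)⁻¹) * (q2.out : G) := by
        rw [Subgroup.coe_mul, Subgroup.coe_inv]; group
    _ = (q1.out : G)⁻¹ * ((q1.out : G) * a * (q1.out : G)⁻¹) * (q2.out : G) := by rw [he]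
    _ = a * ((q1.out⁻¹ * q2.out : ↥M) : G) := by
        rw [Subgroup.coe_mul, Subgroup.coe_inv]; group

/-- If `C(u^p) = ⟨u⟩` then `p = 2` and `⟨u⟩` has index 2. -/
theorem index_two_of_centralizer_pow_eq [Finite G] [Fact p.Prime] (hG : IsPGroup p G) {n : ℕ}
    (hn : 2 ≤ n) {a : G} (ha : orderOf a = p ^ n) (hn' : (Subgroup.zpowers a).Normal)
    (hne : Subgroup.zpowers a ≠ ⊤)
    (hM : Subgroup.centralizer ({a ^ p} : Set G) = Subgroup.zpowers a) :
    p = 2 ∧ (Subgroup.zpowers a).index = 2 := by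
  have hp := Fact.out (p := p.Prime)
  have hexp : ∀ g : G, ∃ r : ℤ, g * a * g⁻¹ = a ^ r := fun g => by
    obtain ⟨r, hr⟩ := hn'.conj_mem a (Subgroup.mem_zpowers a) g
    exact ⟨r, hr.symm⟩
  have hpn : (p : ℤ) ^ n = (p : ℤ) ^ (n - 1) * p := by rw [← pow_succ]; congr 1; omega
  have hmem : ∀ (g : G) (r : ℤ), g * a * g⁻¹ = a ^ r → (p : ℤ) ^ (n - 1) ∣ r - 1 →
      g ∈ Subgroup.zpowers a := by
    intro g r hr hd
    rw [← hM, Subgroup.mem_centralizer_singleton_iff, ← mul_inv_eq_iff_eq_mul, ← zpow_natCast,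
      PGroup.conj_zpow hr, zpow_eq_zpow_iff_dvd, ha]
    push_cast
    rw [hpn, show r * (p : ℤ) - p = (r - 1) * p by ring]
    exact mul_dvd_mul_right hd _
  have hprime : ∀ (g : G) (r : ℤ), g * a * g⁻¹ = a ^ r → g ^ p ∈ Subgroup.zpowers a →
      (p : ℤ) ^ n ∣ r ^ p - 1 := by
    intro g r hr hgp
    have h1 := conj_pow_zpow hr p
    obtain ⟨t, ht⟩ := hgp
    simp only at ht
    rw [← ht, ((Commute.refl a).zpow_left t).eq, mul_inv_cancel_right] at h1
    have h2 := (zpow_eq_zpow_iff_dvd a (r ^ p) 1).mp (by rw [zpow_one]; exact h1.symm)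
    rw [ha] at h2
    exact_mod_cast h2
  have hnormG := IsPGroup.to_quotient hG (Subgroup.zpowers a)
  obtain ⟨L, -, hAL, -, hLc⟩ := exists_normal_step hG _ ⊤ (lt_top_iff_ne_top.mpr hne)
  obtain ⟨g, hgL, hg⟩ := SetLike.exists_of_lt hAL
  have hgp : g ^ p ∈ Subgroup.zpowers a := by
    have h1 : ((Subgroup.zpowers a).subgroupOf L).index = p := by
      have h := Subgroup.card_mul_index ((Subgroup.zpowers a).subgroupOf L)
      rw [Nat.card_congr (Subgroup.subgroupOfEquivOfLe hAL.le).toEquiv, hLc] at h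
      exact Nat.eq_of_mul_eq_mul_left Nat.card_pos h
    have := pow_mem_of_index_eq ((Subgroup.zpowers a).subgroupOf L) h1 ⟨g, hgL⟩
    simpa [Subgroup.mem_subgroupOf] using this
  have hp2 : p = 2 := by
    by_contra h2
    obtain ⟨r, hr⟩ := hexp g
    exact hg (hmem g r hr (int_dvd_sub_one_of_pow_odd h2 (by omega) (hprime g r hr hgp)))
  subst hp2
  refine ⟨rfl, ?_⟩
  have hneg : ∀ (x : G) (r : ℤ), x * a * x⁻¹ = a ^ r → x ^ 2 ∈ Subgroup.zpowers a →
      x ∉ Subgroup.zpowers a → (2 : ℤ) ^ (n - 1) ∣ r + 1 := fun x r hr hx2 hx =>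
    (two_pow_dvd_sub_or_add (hprime x r hr hx2)).resolve_left fun hd => hx (hmem x r hr hd)
  -- every square lies in `⟨a⟩`
  have hall : ∀ x : G, x ^ 2 ∈ Subgroup.zpowers a := by
    intro x
    by_contra hx
    obtain ⟨k, hk⟩ := IsPGroup.iff_orderOf.mp hnormG (QuotientGroup.mk' _ x)
    have hk2 : 2 ≤ k := by
      by_contra hh
      refine hx ((QuotientGroup.eq_one_iff _).mp ?_)
      show QuotientGroup.mk' (Subgroup.zpowers a) (x ^ 2) = 1
      rw [map_pow, ← orderOf_dvd_iff_pow_eq_one, hk]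
      simpa using Nat.pow_dvd_pow 2 (show k ≤ 1 by omega)
    set y := x ^ (2 ^ (k - 2)) with hy
    have hyn : ∀ j, (y ^ 2 ^ j ∈ Subgroup.zpowers a ↔ 2 ≤ j) := by
      intro j
      rw [← QuotientGroup.eq_one_iff, ← QuotientGroup.mk'_apply, map_pow, hy, map_pow, ← pow_mul,
        ← orderOf_dvd_iff_pow_eq_one, hk, ← pow_add, Nat.pow_dvd_pow_iff_le_right (by norm_num)]
      omega
    have h1 : y ^ 2 ∉ Subgroup.zpowers a := fun h => by simpa using (hyn 1).mp (by simpa using h)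
    have h2 : (y ^ 2) ^ 2 ∈ Subgroup.zpowers a := by rw [← pow_mul]; exact (hyn 2).mpr le_rfl
    obtain ⟨r, hr⟩ := hexp y
    have h3 := hneg (y ^ 2) (r ^ 2) (conj_pow_zpow hr 2) h2 h1
    have hdvd : (2 : ℤ) ∣ r ^ 2 + 1 := (dvd_pow_self 2 (by omega)).trans h3
    rcases Nat.eq_or_lt_of_le hn with rfl | hn3
    · -- `n = 2` : squares fix `a` modulo `⟨a⟩`
      refine h1 (hmem (y ^ 2) (r ^ 2) (conj_pow_zpow hr 2) ?_)
      norm_num
      rw [show r ^ 2 - 1 = (r ^ 2 + 1) - 2 by ring]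
      exact dvd_sub hdvd dvd_rfl
    have h4 : (4 : ℤ) ∣ r ^ 2 + 1 := (show (4 : ℤ) ∣ 2 ^ (n - 1) from ⟨2 ^ (n - 3), by
      rw [show (4 : ℤ) = 2 ^ 2 by norm_num, ← pow_add]; congr 1; omega⟩).trans h3
    rcases Int.emod_two_eq_zero_or_one r with h | h
    · obtain ⟨q, rfl⟩ : ∃ q, r = 2 * q := ⟨r / 2, by omega⟩
      rw [mul_pow] at h4
      omega
    · obtain ⟨q, rfl⟩ : ∃ q, r = 2 * q + 1 := ⟨r / 2, by omega⟩
      rw [show (2 * q + 1) ^ 2 + 1 = 4 * (q ^ 2 + q) + 2 by ring] at h4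
      omega
  refine Subgroup.index_eq_two_iff.mpr ⟨g, fun x => ?_⟩
  by_cases hx : x ∈ Subgroup.zpowers a
  · exact Or.inr ⟨hx, fun h => hg (by simpa using mul_mem (inv_mem hx) h)⟩
  · refine Or.inl ⟨?_, hx⟩
    obtain ⟨r, hr⟩ := hexp g
    obtain ⟨s, hs⟩ := hexp x
    refine hmem (x * g) (s * r) ?_ ?_
    · calc x * g * a * (x * g)⁻¹ = x * (g * a * g⁻¹) * x⁻¹ := by group
        _ = a ^ (s * r) := by rw [hr, PGroup.conj_zpow hs]
    · obtain ⟨u, hu⟩ := hneg g r hr hgp hg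
      obtain ⟨v, hv⟩ := hneg x s hs (hall x) hx
      refine ⟨(2 : ℤ) ^ (n - 1) * u * v - u - v, ?_⟩
      rw [show r = 2 ^ (n - 1) * u - 1 by linarith, show s = 2 ^ (n - 1) * v - 1 by linarith]
      push_cast
      ring

end Cfsg.Agent.PGroup
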