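import Cfsg.Agent.Lib.PGroup.Regular
import Cfsg.Agent.Lib.PGroup.Frattini
import Cfsg.Agent.Lib.PGroup.Extraspecial
import Cfsg.Agent.S4224
import Cfsg.Agent.S0641

/-!
# `p`-groups of odd order with cyclic derived subgroup

* `isRegularPGroup_of_isCyclic_commutator`: they are regular.
* `commute_zpow_iff`: in a regular group `x^j` commutes with `y` iff `⁅x,y⁆^j = 1`.
* `card_mul_card_centralizer_le`: `|R| |C(R)|` is monotone; `card_mul_card_centralizer_eq`: it
  equals `|G| |Z(G)|` for `Z(G) ≤ R`, and is smaller otherwise (`center_le_of_card_mul_card_eq`).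
* `centralizer_centralizer_eq`, `index_centralizer_eq_orderOf`, `abelian_card_sq_le`.
-/

set_option autoImplicit false

namespace Cfsg.Agent.PGroup

open scoped commutatorElement

universe u

variable {G : Type u} [Group G] [Finite G] {p : ℕ} [Fact p.Prime]

/-- Subgroups of a cyclic normal subgroup are normal. -/
theorem normal_of_le_isCyclic {N : Subgroup G} (hN : N.Normal) (hc : IsCyclic ↥N) {H : Subgroup G}
    (hH : H ≤ N) : H.Normal := by
  refine ⟨fun h hh g => ?_⟩
  obtain ⟨c, hgen⟩ := hc.exists_zpow_surjective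
  obtain ⟨k, hk⟩ := hgen ⟨g * (c : G) * g⁻¹, hN.conj_mem _ c.2 g⟩
  obtain ⟨i, hi⟩ := hgen ⟨h, hH hh⟩
  have hk' : g * (c : G) * g⁻¹ = (c : G) ^ k := by
    have := congrArg Subtype.val hk
    simpa using this.symm
  have hi' : (c : G) ^ i = h := by simpa using congrArg Subtype.val hi
  rw [← hi', ← _root_.conj_zpow, hk', ← zpow_mul, mul_comm k i, zpow_mul, hi']
  exact H.zpow_mem hh k

/-- In an odd `p`-group a cyclic derived subgroup implies regularity. -/
theorem isRegularPGroup_of_isCyclic_commutator (hG : IsPGroup p G) (hp : p ≠ 2)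
    (hc : IsCyclic ↥(commutator G)) : IsRegularPGroup p G := by
  refine isRegularPGroup_of_hasPowerRule_one hG fun x y => ?_
  set L := Subgroup.closure ({x, y} : Set G) with hL
  have hxL : x ∈ L := Subgroup.subset_closure (Set.mem_insert _ _)
  have hyL : y ∈ L := Subgroup.subset_closure (Set.mem_insert_of_mem _ rfl)
  set D := ⁅L, L⁆ with hD
  have hDG : D ≤ commutator G := by
    rw [commutator_def]; exact Subgroup.commutator_mono le_top le_top
  set N := powerClosure p 1 D with hN
  have hND : N ≤ D := powerClosure_le D 1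
  have hNn : N.Normal := normal_of_le_isCyclic inferInstance hc (hND.trans hDG)
  have hDn : D.Normal := normal_of_le_isCyclic inferInstance hc hDG
  have hDc : IsCyclic ↥D := isCyclic_of_injective _ (Subgroup.inclusion_injective hDG)
  let q : G →* G ⧸ N := QuotientGroup.mk' N
  have hmap : (D.map q).Normal := Subgroup.Normal.map hDn q (QuotientGroup.mk'_surjective N)
  have hexp : ∀ d ∈ D.map q, d ^ p = 1 := by
    rintro _ ⟨d, hd, rfl⟩
    rw [← map_pow]
    refine (QuotientGroup.eq_one_iff _).mpr ?_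
    simpa using pow_mem_powerClosure (p := p) hd 1
  have hcent : D.map q ≤ Subgroup.center (G ⧸ N) := by
    rcases eq_or_ne (D.map q) ⊥ with h | h
    · rw [h]; exact bot_le
    refine le_center_of_card_eq (p := p) (hG.to_quotient N) _ ?_
    obtain ⟨c, hgen⟩ := hDc.exists_zpow_surjective
    have heq : D.map q = Subgroup.zpowers (q c) := by
      refine le_antisymm ?_ (Subgroup.zpowers_le.mpr ⟨c, c.2, rfl⟩)
      rintro _ ⟨d, hd, rfl⟩
      obtain ⟨i, hi⟩ := hgen ⟨d, hd⟩
      refine ⟨i, ?_⟩
      show q c ^ i = q d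
      rw [← map_zpow]
      exact congrArg q (by simpa using congrArg Subtype.val hi)
    rw [heq, Nat.card_zpowers]
    exact orderOf_eq_prime (hexp _ ⟨c, c.2, rfl⟩) fun h1 => h (by
      rw [heq, h1, Subgroup.zpowers_one_eq_bot])
  have hmem : ⁅y, x⁆ ∈ D := Subgroup.commutator_mem_commutator hyL hxL
  have hpow := mul_pow_prime (Fact.out (p := p.Prime)) hp (x := q x) (y := q y)
    (by rw [← map_commutatorElement]; exact hcent ⟨_, hmem, rfl⟩)
    (by rw [← map_commutatorElement]; exact hexp _ ⟨_, hmem, rfl⟩)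
  refine ⟨(x ^ p ^ 1 * y ^ p ^ 1)⁻¹ * (x * y) ^ p ^ 1, ?_, by group⟩
  rw [pow_one, ← QuotientGroup.eq]
  exact hpow.symm

section Regular

variable (hG : IsRegularPGroup p G)

include hG

theorem commute_pow_iff (x y : G) (k : ℕ) :
    Commute (x ^ p ^ k) y ↔ ⁅x, y⁆ ^ p ^ k = 1 := by
  have h := S4224.result hG x⁻¹ y⁻¹ k
  rw [inv_inv, inv_inv, inv_pow] at h
  rw [commutatorElement_def, ← h]
  show Commute (x ^ p ^ k) y ↔ Commute (x ^ p ^ k)⁻¹ y⁻¹
  exact ⟨fun hc => hc.inv_inv, fun hc => by simpa using hc.inv_inv⟩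

/-- In a regular `p`-group `x^j` commutes with `y` iff `⁅x,y⁆^j = 1`. -/
theorem commute_zpow_iff (x y : G) (j : ℤ) : Commute (x ^ j) y ↔ ⁅x, y⁆ ^ j = 1 := by
  constructor
  · intro hj
    obtain ⟨e, he⟩ := IsPGroup.iff_orderOf.mp hG.1 x
    obtain ⟨l, -, hl⟩ := (Nat.dvd_prime_pow (Fact.out (p := p.Prime))).mp
      (show Int.gcd j ((p ^ e : ℕ) : ℤ) ∣ p ^ e from
        Int.natCast_dvd_natCast.mp (Int.gcd_dvd_right _ _))
    have hx : x ^ p ^ l = (x ^ j) ^ Int.gcdA j ((p ^ e : ℕ) : ℤ) := by
      rw [← hl, ← zpow_natCast, Int.gcd_eq_gcd_ab, zpow_add, zpow_mul, zpow_mul, zpow_natCast,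
        ← he, pow_orderOf_eq_one, one_zpow, mul_one]
    have hcl : Commute (x ^ p ^ l) y := hx ▸ hj.zpow_left _
    refine orderOf_dvd_iff_zpow_eq_one.mp (dvd_trans ?_ (Int.gcd_dvd_left j ((p ^ e : ℕ) : ℤ)))
    rw [hl]
    exact Int.natCast_dvd_natCast.mpr (orderOf_dvd_of_pow_eq_one ((commute_pow_iff hG x y l).mp hcl))
  · intro hj
    obtain ⟨k, hk⟩ := IsPGroup.iff_orderOf.mp hG.1 ⁅x, y⁆
    obtain ⟨w, hw⟩ := orderOf_dvd_iff_zpow_eq_one.mpr hj
    rw [hw, zpow_mul, zpow_natCast, hk]
    exact ((commute_pow_iff hG x y k).mpr (hk ▸ pow_orderOf_eq_one _)).zpow_left w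

variable (hc : IsCyclic ↥(commutator G))

include hc

/-- `|R| |C(R)|` is monotone. -/
theorem card_mul_card_centralizer_le {R K : Subgroup G} (h : R ≤ K) :
    Nat.card ↥R * Nat.card ↥(Subgroup.centralizer (R : Set G)) ≤
      Nat.card ↥K * Nat.card ↥(Subgroup.centralizer (K : Set G)) := by
  classical
  induction K using WellFoundedLT.induction with
  | ind K ih =>
    rcases eq_or_lt_of_le h with rfl | hlt
    · exact le_rfl
    obtain ⟨M, hM, hRM⟩ := (eq_top_or_exists_le_coatom (R.subgroupOf K)).resolve_left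
      (fun htop => hlt.not_ge (Subgroup.subgroupOf_eq_top.mp htop))
    have hKp := hG.1.to_subgroup K
    have hidx := index_of_isCoatom hKp hM
    have hMn := normal_of_isCoatom hKp hM
    set M' := M.map K.subtype with hM'
    have hM'K : M' ≤ K := Subgroup.map_subtype_le M
    have hcard : Nat.card ↥M' * p = Nat.card ↥K := by
      rw [hM', Subgroup.card_map_of_injective K.subtype_injective, ← hidx, Subgroup.card_mul_index]
    have hlt' : M' < K := by
      refine lt_of_le_of_ne hM'K fun heq => ?_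
      rw [heq] at hcard
      have hp2 := (Fact.out (p := p.Prime)).two_le
      have hpos := Nat.card_pos (α := ↥K)
      nlinarith
    have hRM' : R ≤ M' := fun r hr => ⟨⟨r, h hr⟩, hRM hr, rfl⟩
    refine (ih M' hlt' hRM').trans ?_
    obtain ⟨x, hxK, hxM⟩ := SetLike.exists_of_lt hlt'
    have hxp : x ^ p ∈ M' := by
      have h0 : (⟨x, hxK⟩ : ↥K) ^ p ∈ M := pow_mem_of_index_eq M hidx _
      have h1 := Subgroup.mem_map_of_mem K.subtype h0
      rwa [map_pow] at h1
    have hgen : M' ⊔ Subgroup.zpowers x = K := by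
      refine le_antisymm (sup_le hM'K (Subgroup.zpowers_le.mpr hxK)) ?_
      have htop : M ⊔ Subgroup.zpowers (⟨x, hxK⟩ : ↥K) = ⊤ := hM.2 _ (lt_of_le_of_ne le_sup_left
        fun heq => hxM ⟨⟨x, hxK⟩,
          heq.symm ▸ Subgroup.mem_sup_right (Subgroup.mem_zpowers _), rfl⟩)
      intro k hk
      have hmem : (⟨k, hk⟩ : ↥K) ∈ M ⊔ Subgroup.zpowers (⟨x, hxK⟩ : ↥K) :=
        htop ▸ Subgroup.mem_top _
      have := Subgroup.mem_map_of_mem K.subtype hmem
      rwa [Subgroup.map_sup, MonoidHom.map_zpowers] at this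
    set C := Subgroup.centralizer (M' : Set G) with hC
    have hCK : Subgroup.centralizer (K : Set G) = C ⊓ Subgroup.centralizer {x} := by
      rw [← hgen, centralizer_sup_zpowers]
    have hstep : Nat.card ↥C ≤ p * Nat.card ↥(Subgroup.centralizer (K : Set G)) := by
      rw [hCK]
      set C₁ := C ⊓ Subgroup.centralizer {x} with hC₁
      have h1 : Nat.card ↥C = Nat.card ↥C₁ * (C₁.subgroupOf C).index := by
        rw [← Subgroup.card_mul_index (C₁.subgroupOf C),
          Nat.card_congr (Subgroup.subgroupOfEquivOfLe (inf_le_left : C₁ ≤ C)).toEquiv]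
      rw [h1, mul_comm p]
      refine Nat.mul_le_mul_left _ ?_
      have := Fintype.ofFinite ↥(commutator G)
      let T := {d : ↥(commutator G) // d ^ p = 1}
      have hT : Nat.card T ≤ p := by
        rw [Nat.card_eq_fintype_card, Fintype.card_subtype]
        exact IsCyclic.card_pow_eq_one_le (Fact.out (p := p.Prime)).pos
      have hcm : ∀ g : ↥C, ⁅(g : G), x⁆ ∈ commutator G := fun g =>
        Subgroup.commutator_mem_commutator (Subgroup.mem_top _) (Subgroup.mem_top x)
      have hpw : ∀ g : ↥C, ⁅(g : G), x⁆ ^ p = 1 := fun g => by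
        have h2 : Commute (x ^ p ^ 1) (g : G) := by
          rw [pow_one]; exact g.2 _ hxp
        have h3 := (commute_pow_iff hG x (g : G) 1).mp h2
        rw [pow_one] at h3
        rw [← commutatorElement_inv, inv_pow, h3, inv_one]
      let f : ↥C ⧸ C₁.subgroupOf C → T := fun q => Quotient.liftOn' q
        (fun g => ⟨⟨⁅(g : G), x⁆, hcm g⟩, Subtype.ext (hpw g)⟩)
        (fun g g' hgg => by
          refine Subtype.ext (Subtype.ext ?_)
          rw [QuotientGroup.leftRel_apply, Subgroup.mem_subgroupOf] at hgg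
          have h4 := Subgroup.mem_centralizer_singleton_iff.mp hgg.2
          simp only [Subgroup.coe_mul, Subgroup.coe_inv] at h4
          show ⁅(g : G), x⁆ = ⁅(g' : G), x⁆
          rw [commutatorElement_def, commutatorElement_def]
          calc (g : G) * x * (g : G)⁻¹ * x⁻¹
              = (g : G) * (x * ((g : G)⁻¹ * (g' : G))) * (g' : G)⁻¹ * x⁻¹ := by group
            _ = (g : G) * ((g : G)⁻¹ * (g' : G) * x) * (g' : G)⁻¹ * x⁻¹ := by rw [h4]
            _ = (g' : G) * x * (g' : G)⁻¹ * x⁻¹ := by group)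
      have hf : Function.Injective f := by
        rintro ⟨g⟩ ⟨g'⟩ heq
        have h5 : ⁅(g : G), x⁆ = ⁅(g' : G), x⁆ := congrArg (fun t : T => (t.1 : G)) heq
        rw [commutatorElement_def, commutatorElement_def, mul_left_inj] at h5
        refine Quotient.sound' ?_
        rw [QuotientGroup.leftRel_apply, Subgroup.mem_subgroupOf]
        refine ⟨(g⁻¹ * g').2, Subgroup.mem_centralizer_singleton_iff.mpr ?_⟩
        simp only [Subgroup.coe_mul, Subgroup.coe_inv]
        calc (g : G)⁻¹ * (g' : G) * x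
            = (g : G)⁻¹ * ((g' : G) * x * (g' : G)⁻¹) * (g' : G) := by group
          _ = (g : G)⁻¹ * ((g : G) * x * (g : G)⁻¹) * (g' : G) := by rw [h5]
          _ = x * ((g : G)⁻¹ * (g' : G)) := by group
      exact (Nat.card_le_card_of_injective f hf).trans hT
    calc Nat.card ↥M' * Nat.card ↥C ≤
          Nat.card ↥M' * (p * Nat.card ↥(Subgroup.centralizer (K : Set G))) :=
          Nat.mul_le_mul_left _ hstep
      _ = _ := by rw [← mul_assoc, hcard]

theorem card_mul_card_centralizer_le_max (R : Subgroup G) :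
    Nat.card ↥R * Nat.card ↥(Subgroup.centralizer (R : Set G)) ≤
      Nat.card G * Nat.card ↥(Subgroup.center G) := by
  have h := card_mul_card_centralizer_le hG hc (le_top : R ≤ ⊤)
  rwa [Subgroup.coe_top, Subgroup.centralizer_univ, Subgroup.card_top] at h

/-- `|R| |C(R)| = |G| |Z(G)|` for `Z(G) ≤ R`. -/
theorem card_mul_card_centralizer_eq {R : Subgroup G} (hR : Subgroup.center G ≤ R) :
    Nat.card ↥R * Nat.card ↥(Subgroup.centralizer (R : Set G)) =
      Nat.card G * Nat.card ↥(Subgroup.center G) := by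
  refine le_antisymm (card_mul_card_centralizer_le_max hG hc R) ?_
  have h := card_mul_card_centralizer_le hG hc hR
  rwa [Subgroup.centralizer_eq_top_iff_subset.mpr le_rfl, Subgroup.card_top, mul_comm] at h

omit hG hc [Finite G] in
theorem centralizer_sup_center (R : Subgroup G) :
    Subgroup.centralizer ((R ⊔ Subgroup.center G : Subgroup G) : Set G) =
      Subgroup.centralizer (R : Set G) :=
  le_antisymm (Subgroup.centralizer_le (le_sup_left : R ≤ _)) fun g hg => by
    have hle : R ⊔ Subgroup.center G ≤ Subgroup.centralizer {g} :=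
      sup_le (fun r hr => Subgroup.mem_centralizer_singleton_iff.mpr (hg r hr))
        (fun z hz => Subgroup.mem_centralizer_singleton_iff.mpr
          (Subgroup.mem_center_iff.mp hz g).symm)
    exact fun r hr => Subgroup.mem_centralizer_singleton_iff.mp (hle hr)

/-- The maximum of `|R| |C(R)|` is attained only for `Z(G) ≤ R`. -/
theorem center_le_of_card_mul_card_eq {R : Subgroup G}
    (h : Nat.card ↥R * Nat.card ↥(Subgroup.centralizer (R : Set G)) =
      Nat.card G * Nat.card ↥(Subgroup.center G)) : Subgroup.center G ≤ R := by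
  have h1 := card_mul_card_centralizer_eq hG hc (le_sup_right : Subgroup.center G ≤ R ⊔ _)
  rw [centralizer_sup_center, ← h] at h1
  have h2 := Nat.eq_of_mul_eq_mul_right Nat.card_pos h1
  have h3 := Subgroup.eq_of_le_of_card_ge (le_sup_left : R ≤ R ⊔ Subgroup.center G) h2.le
  exact le_sup_right.trans h3.ge

theorem centralizer_centralizer_eq {R : Subgroup G} (hR : Subgroup.center G ≤ R) :
    Subgroup.centralizer ((Subgroup.centralizer (R : Set G) : Subgroup G) : Set G) = R := by
  have hZC : Subgroup.center G ≤ Subgroup.centralizer (R : Set G) :=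
    fun _ hz a _ => Subgroup.mem_center_iff.mp hz a
  have h1 := card_mul_card_centralizer_eq hG hc hR
  have h2 := card_mul_card_centralizer_eq hG hc hZC
  refine (Subgroup.eq_of_le_of_card_ge (Subgroup.le_centralizer_iff.mpr le_rfl) ?_).symm
  refine (Nat.eq_of_mul_eq_mul_left (Nat.card_pos (α := ↥(Subgroup.centralizer (R : Set G)))) ?_).le
  rw [h2, ← h1, mul_comm]

/-- The class of `x` has as many elements as the order of `x` modulo the centre. -/
theorem index_centralizer_eq_orderOf (x : G) :
    (Subgroup.centralizer ({x} : Set G)).index =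
      orderOf (QuotientGroup.mk' (Subgroup.center G) x) := by
  set Z := Subgroup.center G with hZ
  set R := (Subgroup.zpowers (QuotientGroup.mk' Z x)).comap (QuotientGroup.mk' Z) with hR
  have hR' : R = Subgroup.zpowers x ⊔ Z := by
    rw [hR, ← MonoidHom.map_zpowers, Subgroup.comap_map_eq, QuotientGroup.ker_mk']
  have hCR : Subgroup.centralizer (R : Set G) = Subgroup.centralizer {x} := by
    rw [hR', centralizer_sup_center, Subgroup.zpowers_eq_closure, Subgroup.centralizer_closure]
  have hcard : Nat.card ↥R = Nat.card ↥Z * orderOf (QuotientGroup.mk' Z x) := by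
    have h1 := Subgroup.card_mul_index R
    rw [hR, Subgroup.index_comap_of_surjective _ (QuotientGroup.mk'_surjective Z), ← hR] at h1
    have h2 := Subgroup.card_mul_index (Subgroup.zpowers (QuotientGroup.mk' Z x))
    rw [Nat.card_zpowers, ← Subgroup.index_eq_card Z] at h2
    have h3 := Subgroup.card_mul_index Z
    refine Nat.eq_of_mul_eq_mul_right (Nat.pos_of_ne_zero (Subgroup.index_ne_zero_of_finite
      (H := Subgroup.zpowers (QuotientGroup.mk' Z x)))) ?_
    rw [h1, mul_assoc, h2, h3]
  have hZR : Z ≤ R := hR' ▸ le_sup_right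
  have h := card_mul_card_centralizer_eq hG hc hZR
  rw [hCR, hcard, ← Subgroup.card_mul_index (Subgroup.centralizer ({x} : Set G))] at h
  have hpos : 0 < Nat.card ↥(Subgroup.centralizer ({x} : Set G)) * Nat.card ↥Z :=
    Nat.mul_pos Nat.card_pos Nat.card_pos
  refine (Nat.eq_of_mul_eq_mul_left hpos ?_).symm
  calc Nat.card ↥(Subgroup.centralizer ({x} : Set G)) * Nat.card ↥Z *
        orderOf (QuotientGroup.mk' Z x)
      = Nat.card ↥Z * orderOf (QuotientGroup.mk' Z x) *
          Nat.card ↥(Subgroup.centralizer ({x} : Set G)) := by ring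
    _ = _ := h
    _ = _ := by ring

theorem abelian_card_sq_le {L : Subgroup G} (hL : IsMulCommutative ↥L) :
    Nat.card ↥L ^ 2 ≤ Nat.card G * Nat.card ↥(Subgroup.center G) := by
  rw [pow_two]
  exact (Nat.mul_le_mul_left _ (Subgroup.card_le_of_le
    (le_centralizer_of_isMulCommutative hL))).trans (card_mul_card_centralizer_le_max hG hc L)

end Regular

end Cfsg.Agent.PGroup
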