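import Cfsg.Prelude.Def_OddOrderLocal
import Cfsg.Agent.Lib.PGroup.CyclicDerived

/-!
# Metacyclic `p`-groups, `p` odd

`MetaGen a b`: `⟨a⟩` is normal and every element is `a^i b^j`. With `|G'| = p^n`:

* `isCyclic_commutator`, `isRegular`, `commute_iff` (`a^i, b^j` commute iff `p^n ∣ i j`)
* `mem_center_iff`, `index_center` (`p^(2n)`), `pow_mem_center_iff`
* `card_orderOf_mk_le` (`|{g : |g^G| ≤ p^s}| = |Z| p^(2s)`), `mem_frattini_iff`, `mem_powers_iff`
* `exists_subgroup_params`, `isMulCommutative_iff`, `center_le_of_not_commutative`,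
  `centralizer_le_of_not_commutative`
* `exists_cyclic_factorization`
-/

set_option autoImplicit false

namespace Cfsg.Agent.PGroup

open scoped commutatorElement

universe u

variable {G : Type u} [Group G]

/-- `⟨a⟩` is normal and `G = ⟨a⟩⟨b⟩`. -/
structure MetaGen (a b : G) : Prop where
  normal : (Subgroup.zpowers a).Normal
  gen : ∀ g : G, ∃ i j : ℤ, g = a ^ i * b ^ j

theorem exists_metaGen (h : IsMetacyclic G) : ∃ a b : G, MetaGen a b := by
  obtain ⟨N, hN, hNc, hQc⟩ := h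
  obtain ⟨a, ha⟩ := hNc.exists_zpow_surjective
  obtain ⟨β, hβ⟩ := hQc.exists_zpow_surjective
  obtain ⟨b, rfl⟩ := QuotientGroup.mk'_surjective N β
  have hNa : N = Subgroup.zpowers (a : G) := by
    refine le_antisymm (fun g hg => ?_) (Subgroup.zpowers_le.mpr a.2)
    obtain ⟨i, hi⟩ := ha ⟨g, hg⟩
    exact ⟨i, by simpa using congrArg Subtype.val hi⟩
  refine ⟨a, b, hNa ▸ hN, fun g => ?_⟩
  obtain ⟨j, hj⟩ := hβ (QuotientGroup.mk' N g)
  simp only at hj
  rw [← map_zpow] at hj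
  have hmem : g * (b ^ j)⁻¹ ∈ N := by
    rw [← QuotientGroup.eq_one_iff]
    show QuotientGroup.mk' N (g * (b ^ j)⁻¹) = 1
    rw [map_mul, map_inv, hj, mul_inv_cancel]
  rw [hNa] at hmem
  obtain ⟨i, hi⟩ := hmem
  exact ⟨i, j, eq_mul_of_mul_inv_eq hi.symm⟩

/-- `|Z(R)| = |R ∩ C(R)|`. -/
theorem card_center_subgroup (R : Subgroup G) :
    Nat.card ↥(Subgroup.center ↥R) = Nat.card ↥(R ⊓ Subgroup.centralizer (R : Set G)) := by
  rw [← Subgroup.card_map_of_injective R.subtype_injective]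
  refine congrArg (fun S : Subgroup G => Nat.card S) ?_
  ext g
  constructor
  · rintro ⟨w, hw, rfl⟩
    exact ⟨w.2, fun r hr => congrArg Subtype.val (Subgroup.mem_center_iff.mp hw ⟨r, hr⟩)⟩
  · rintro ⟨hgR, hgC⟩
    exact ⟨⟨g, hgR⟩, Subgroup.mem_center_iff.mpr fun r => Subtype.ext (hgC r r.2), rfl⟩

variable [Finite G] {p : ℕ} [Fact p.Prime] {a b : G}

/-- A subgroup of a cyclic `p`-group. -/
theorem exists_eq_zpowers_pow (hG : IsPGroup p G) {g : G} {H : Subgroup G}
    (hH : H ≤ Subgroup.zpowers g) :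
    ∃ u : ℕ, H = Subgroup.zpowers (g ^ p ^ u) ∧ Nat.card ↥H * p ^ u = orderOf g := by
  have hp := (Fact.out (p := p.Prime))
  obtain ⟨e, he⟩ := IsPGroup.iff_orderOf.mp hG g
  obtain ⟨s, hs⟩ := card_eq_pow hG H
  have hse : s ≤ e := by
    have := Subgroup.card_dvd_of_le hH
    rw [hs, Nat.card_zpowers, he] at this
    exact (Nat.pow_dvd_pow_iff_le_right hp.one_lt).mp this
  refine ⟨e - s, ?_, by rw [hs, he, ← pow_add, Nat.add_sub_cancel' hse]⟩
  refine Subgroup.eq_of_le_of_card_ge ?_ ?_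
  · intro h hh
    obtain ⟨k, hk⟩ := hH hh
    have h1 : h ^ p ^ s = 1 := by
      have := pow_card_eq_one' (x := (⟨h, hh⟩ : ↥H))
      rw [hs] at this
      simpa using congrArg Subtype.val this
    simp only at hk
    rw [← hk, ← zpow_natCast, ← zpow_mul, ← orderOf_dvd_iff_zpow_eq_one, he] at h1
    push_cast at h1
    have h2 : ((p : ℤ) ^ (e - s)) * (p : ℤ) ^ s ∣ k * (p : ℤ) ^ s := by
      rwa [← pow_add, Nat.sub_add_cancel hse]
    obtain ⟨w, hw⟩ := (mul_dvd_mul_iff_right (pow_ne_zero s (by exact_mod_cast hp.ne_zero))).mp h2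
    refine ⟨w, ?_⟩
    show (g ^ p ^ (e - s)) ^ w = h
    rw [← zpow_natCast, ← zpow_mul, Nat.cast_pow, ← hw, hk]
  · rw [Nat.card_zpowers, hs, orderOf_pow, he, Nat.gcd_eq_right (Nat.pow_dvd_pow p (Nat.sub_le e s)),
      Nat.pow_div (Nat.sub_le e s) hp.pos, Nat.sub_sub_self hse]

section Meta

variable (H : MetaGen a b)

include H

omit [Finite G] in
theorem MetaGen.closure_eq : Subgroup.closure ({a, b} : Set G) = ⊤ := by
  refine eq_top_iff.mpr fun g _ => ?_
  obtain ⟨i, j, rfl⟩ := H.gen g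
  have ha : a ∈ Subgroup.closure ({a, b} : Set G) := Subgroup.subset_closure (Set.mem_insert _ _)
  have hb : b ∈ Subgroup.closure ({a, b} : Set G) :=
    Subgroup.subset_closure (Set.mem_insert_of_mem _ rfl)
  exact Subgroup.mul_mem _ (Subgroup.zpow_mem _ ha i) (Subgroup.zpow_mem _ hb j)

omit [Finite G] in
theorem MetaGen.exists_conj (g : G) (i : ℤ) : ∃ i' : ℤ, g * a ^ i * g⁻¹ = a ^ i' := by
  obtain ⟨i', hi'⟩ := H.normal.conj_mem _ (Subgroup.zpow_mem _ (Subgroup.mem_zpowers a) i) g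
  exact ⟨i', hi'.symm⟩

omit [Finite G] in
theorem MetaGen.exists_pow (i j : ℤ) (m : ℕ) :
    ∃ i' : ℤ, (a ^ i * b ^ j) ^ m = a ^ i' * b ^ (j * m) := by
  induction m with
  | zero => exact ⟨0, by simp⟩
  | succ m ih =>
    obtain ⟨i', hi'⟩ := ih
    obtain ⟨k, hk⟩ := H.exists_conj (b ^ (j * m)) i
    refine ⟨i' + k, ?_⟩
    rw [pow_succ, hi', zpow_add, ← hk, Nat.cast_succ, mul_add, mul_one, zpow_add b]
    group

omit [Finite G] in
theorem MetaGen.commutator_mem : ⁅b, a⁆ ∈ Subgroup.zpowers a := by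
  rw [commutatorElement_def]
  exact Subgroup.mul_mem _ (H.normal.conj_mem a (Subgroup.mem_zpowers a) b)
    (Subgroup.inv_mem _ (Subgroup.mem_zpowers a))

theorem MetaGen.commutator_eq : commutator G = Subgroup.zpowers ⁅b, a⁆ := by
  refine le_antisymm ?_ (Subgroup.zpowers_le.mpr
    (Subgroup.commutator_mem_commutator (Subgroup.mem_top b) (Subgroup.mem_top a)))
  have hn := normal_of_le_isCyclic (H := Subgroup.zpowers ⁅b, a⁆) H.normal inferInstance
    (Subgroup.zpowers_le.mpr H.commutator_mem)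
  have hmem : a⁻¹ * b⁻¹ * a * b ∈ Subgroup.zpowers ⁅b, a⁆ := by
    have h1 := hn.conj_mem _ (Subgroup.inv_mem _ (Subgroup.mem_zpowers ⁅b, a⁆)) (a⁻¹ * b⁻¹)
    have h2 : a⁻¹ * b⁻¹ * ⁅b, a⁆⁻¹ * (a⁻¹ * b⁻¹)⁻¹ = a⁻¹ * b⁻¹ * a * b := by
      rw [commutatorElement_def]; group
    rwa [h2] at h1
  have htop : Subgroup.normalizer ((Subgroup.zpowers ⁅b, a⁆ : Subgroup G) : Set G) = ⊤ :=
    Subgroup.normalizer_eq_top_iff.mpr hn
  have h3 := S4225.derived_pair_le (htop ▸ Subgroup.mem_top a) (htop ▸ Subgroup.mem_top b) hmem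
  rwa [H.closure_eq, ← commutator_def] at h3

theorem MetaGen.commutator_le : commutator G ≤ Subgroup.zpowers a :=
  H.commutator_eq ▸ Subgroup.zpowers_le.mpr H.commutator_mem

theorem MetaGen.isCyclic_commutator : IsCyclic ↥(commutator G) :=
  H.commutator_eq ▸ inferInstance

variable (hG : IsPGroup p G) (hp : p ≠ 2)

include hG hp

theorem MetaGen.isRegular : IsRegularPGroup p G :=
  isRegularPGroup_of_isCyclic_commutator hG hp H.isCyclic_commutator

/-- `G' ≤ ⟨a^p⟩`. -/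
theorem MetaGen.commutator_le_pow : commutator G ≤ Subgroup.zpowers (a ^ p) := by
  obtain ⟨k, hk⟩ := H.commutator_mem
  simp only at hk
  rw [H.commutator_eq, Subgroup.zpowers_le]
  by_cases hpk : (p : ℤ) ∣ k
  · obtain ⟨w, hw⟩ := hpk
    exact ⟨w, by show (a ^ p) ^ w = _; rw [← zpow_natCast, ← zpow_mul, ← hw, hk]⟩
  · have hcop : IsCoprime (p : ℤ) k :=
      (Nat.prime_iff_prime_int.mp (Fact.out (p := p.Prime))).coprime_iff_not_dvd.mpr hpk
    obtain ⟨s, t, hst⟩ := hcop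
    have ha : a ∈ frattini G := by
      have h1 : a = (a ^ s) ^ p * ⁅b, a⁆ ^ t := by
        rw [← hk, ← zpow_natCast, ← zpow_mul, ← zpow_mul, ← zpow_add, mul_comm k t, hst, zpow_one]
      rw [h1]
      exact Subgroup.mul_mem _ (pow_mem_frattini hG _) (Subgroup.zpow_mem _
        (commutator_le_frattini hG
          (Subgroup.commutator_mem_commutator (Subgroup.mem_top b) (Subgroup.mem_top a))) t)
    have hb : Subgroup.zpowers b = ⊤ := by
      refine frattini_nongenerating (eq_top_iff.mpr fun g _ => ?_)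
      obtain ⟨i, j, rfl⟩ := H.gen g
      exact Subgroup.mul_mem _ (Subgroup.mem_sup_right (Subgroup.zpow_mem _ ha i))
        (Subgroup.mem_sup_left (Subgroup.zpow_mem _ (Subgroup.mem_zpowers b) j))
    obtain ⟨i, hi⟩ := Subgroup.mem_zpowers_iff.mp (hb ▸ Subgroup.mem_top a)
    have h1 : ⁅b, a⁆ = 1 := by
      rw [commutatorElement_eq_one_iff_mul_comm, ← hi]
      exact (Commute.self_zpow b i).eq
    rw [h1]
    exact Subgroup.one_mem _

variable {n : ℕ} (hn : Nat.card ↥(commutator G) = p ^ n)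

include hn

theorem MetaGen.orderOf_commutator : orderOf ⁅a, b⁆ = p ^ n := by
  rw [← commutatorElement_inv, orderOf_inv, ← Nat.card_zpowers, ← H.commutator_eq, hn]

/-- `a^i` and `b^j` commute iff `p^n ∣ i j`. -/
theorem MetaGen.commute_iff (i j : ℤ) :
    Commute (a ^ i) (b ^ j) ↔ ((p : ℤ) ^ n) ∣ i * j := by
  have hr := H.isRegular hG hp
  rw [Commute.symm_iff, commute_zpow_iff hr, ← commutatorElement_inv, inv_zpow', zpow_neg,
    inv_eq_one, ← commute_zpow_iff hr, ← zpow_mul, commute_zpow_iff hr,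
    ← orderOf_dvd_iff_zpow_eq_one, H.orderOf_commutator hG hp hn, Nat.cast_pow]

theorem MetaGen.mem_center_iff (i j : ℤ) :
    a ^ i * b ^ j ∈ Subgroup.center G ↔ (p : ℤ) ^ n ∣ i ∧ (p : ℤ) ^ n ∣ j := by
  have hai : ∀ i : ℤ, Commute (a ^ i) b ↔ (p : ℤ) ^ n ∣ i := fun i => by
    have := H.commute_iff hG hp hn i 1
    rwa [zpow_one, mul_one] at this
  have hbj : ∀ j : ℤ, Commute a (b ^ j) ↔ (p : ℤ) ^ n ∣ j := fun j => by
    have := H.commute_iff hG hp hn 1 j
    rwa [zpow_one, one_mul] at this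
  constructor
  · intro hz
    have hc : ∀ g : G, Commute (a ^ i * b ^ j) g := fun g => (Subgroup.mem_center_iff.mp hz g).symm
    constructor
    · rw [← hai]
      have h2 := (hc b).mul_left ((Commute.zpow_self b j).inv_left)
      rwa [mul_inv_cancel_right] at h2
    · rw [← hbj]
      refine Commute.symm ?_
      have h2 := ((Commute.zpow_self a i).inv_left).mul_left (hc a)
      rwa [inv_mul_cancel_left] at h2
  · rintro ⟨hi, hj⟩
    have ha : Commute (a ^ i * b ^ j) a :=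
      (Commute.zpow_self a i).mul_left ((hbj j).mpr hj).symm
    have hb : Commute (a ^ i * b ^ j) b :=
      ((hai i).mpr hi).mul_left (Commute.zpow_self b j)
    refine Subgroup.mem_center_iff.mpr fun g => ?_
    obtain ⟨k, l, rfl⟩ := H.gen g
    exact ((ha.zpow_right k).mul_right (hb.zpow_right l)).symm.eq

theorem MetaGen.mk_eq_iff (i j k l : ℤ) :
    ((a ^ i * b ^ j : G) : G ⧸ Subgroup.center G) = ((a ^ k * b ^ l : G) : G ⧸ Subgroup.center G) ↔
      (p : ℤ) ^ n ∣ i - k ∧ (p : ℤ) ^ n ∣ j - l := by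
  rw [eq_comm, QuotientGroup.eq, ← H.mem_center_iff hG hp hn]
  have h : a ^ (i - k) * b ^ (j - l) =
      b ^ l * ((a ^ k * b ^ l)⁻¹ * (a ^ i * b ^ j)) * (b ^ l)⁻¹ := by
    rw [zpow_sub, zpow_sub, ((Commute.refl a).zpow_zpow i k).inv_right.eq]
    group
  rw [h]
  refine ⟨fun hz => (inferInstance : (Subgroup.center G).Normal).conj_mem _ hz _, fun hz => ?_⟩
  have h2 := (inferInstance : (Subgroup.center G).Normal).conj_mem _ hz (b ^ l)⁻¹
  rw [inv_inv] at h2
  convert h2 using 1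
  group

/-- `|G : Z(G)| = |G'|^2`. -/
theorem MetaGen.index_center : (Subgroup.center G).index = p ^ (2 * n) := by
  have hppos : 0 < p ^ n := Nat.pow_pos (Fact.out (p := p.Prime)).pos
  have hpz : (0 : ℤ) < (p : ℤ) ^ n := by exact_mod_cast hppos
  let f : Fin (p ^ n) × Fin (p ^ n) → G ⧸ Subgroup.center G :=
    fun q => ((a ^ ((q.1 : ℕ) : ℤ) * b ^ ((q.2 : ℕ) : ℤ) : G) : G ⧸ Subgroup.center G)
  have hbij : Function.Bijective f := by
    constructor
    · intro q r h
      obtain ⟨h1, h2⟩ := (H.mk_eq_iff hG hp hn _ _ _ _).mp h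
      have e : ∀ x y : Fin (p ^ n), (p : ℤ) ^ n ∣ ((x : ℕ) : ℤ) - ((y : ℕ) : ℤ) → x = y := by
        intro x y hxy
        refine Fin.ext ?_
        have hx : ((x : ℕ) : ℤ) < (p : ℤ) ^ n := by exact_mod_cast x.2
        have hy : ((y : ℕ) : ℤ) < (p : ℤ) ^ n := by exact_mod_cast y.2
        have := Int.eq_zero_of_abs_lt_dvd hxy (abs_lt.mpr ⟨by omega, by omega⟩)
        omega
      exact Prod.ext (e _ _ h1) (e _ _ h2)
    · intro x
      obtain ⟨g, rfl⟩ := QuotientGroup.mk_surjective x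
      obtain ⟨i, j, rfl⟩ := H.gen g
      have hb : ∀ i : ℤ, (i % (p : ℤ) ^ n).toNat < p ^ n := fun i => by
        have h1 := Int.emod_lt_of_pos i hpz
        have h2 := Int.emod_nonneg i hpz.ne'
        have h3 : ((p ^ n : ℕ) : ℤ) = (p : ℤ) ^ n := by push_cast; rfl
        omega
      refine ⟨(⟨_, hb i⟩, ⟨_, hb j⟩), (H.mk_eq_iff hG hp hn _ _ _ _).mpr ?_⟩
      have e : ∀ i : ℤ, (p : ℤ) ^ n ∣ ((i % (p : ℤ) ^ n).toNat : ℤ) - i := fun i => by
        rw [Int.toNat_of_nonneg (Int.emod_nonneg i hpz.ne')]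
        exact Int.ModEq.dvd (Int.ModEq.symm (Int.mod_modEq i _))
      exact ⟨e i, e j⟩
  rw [Subgroup.index_eq_card, ← Nat.card_congr (Equiv.ofBijective f hbij), Nat.card_prod,
    Nat.card_fin, ← pow_add, two_mul]

theorem MetaGen.card_eq : Nat.card G = Nat.card ↥(Subgroup.center G) * p ^ (2 * n) := by
  rw [← H.index_center hG hp hn, Subgroup.card_mul_index]

theorem MetaGen.index_commutator_sq :
    (commutator G).index ^ 2 = Nat.card G * Nat.card ↥(Subgroup.center G) := by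
  have h1 := Subgroup.card_mul_index (commutator G)
  rw [hn] at h1
  have hpos : 0 < p ^ (2 * n) := Nat.pow_pos (Fact.out (p := p.Prime)).pos
  refine Nat.eq_of_mul_eq_mul_right hpos ?_
  rw [mul_assoc, ← H.card_eq hG hp hn, show p ^ (2 * n) = (p ^ n) ^ 2 by rw [← pow_mul, mul_comm],
    ← mul_pow, mul_comm (commutator G).index, h1, pow_two]

/-- `(a^i b^j)^(p^s)` is central iff `p^n` divides `i p^s` and `j p^s`. -/
theorem MetaGen.pow_mem_center_iff (i j : ℤ) (s : ℕ) :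
    (a ^ i * b ^ j) ^ p ^ s ∈ Subgroup.center G ↔
      (p : ℤ) ^ n ∣ i * (p : ℤ) ^ s ∧ (p : ℤ) ^ n ∣ j * (p : ℤ) ^ s := by
  have hq : IsRegularPGroup p (G ⧸ Subgroup.center G) :=
    S0641.result (H.isRegular hG hp) (Subgroup.center G)
  have hpre : ∀ g : G, g ^ p ^ s ∈ Subgroup.center G ↔
      QuotientGroup.mk' (Subgroup.center G) g ∈ S4225.omega hq s := fun g => by
    show _ ↔ QuotientGroup.mk' (Subgroup.center G) g ^ p ^ s = 1
    rw [← map_pow]
    exact (QuotientGroup.eq_one_iff _).symm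
  have ha : ∀ i : ℤ, (a ^ i) ^ p ^ s ∈ Subgroup.center G ↔ (p : ℤ) ^ n ∣ i * (p : ℤ) ^ s :=
    fun i => by
      have h := H.mem_center_iff hG hp hn (i * (p : ℤ) ^ s) 0
      rw [zpow_zero, mul_one] at h
      rw [← zpow_natCast, ← zpow_mul, Nat.cast_pow, h]
      exact and_iff_left (dvd_zero _)
  have hb : ∀ j : ℤ, (b ^ j) ^ p ^ s ∈ Subgroup.center G ↔ (p : ℤ) ^ n ∣ j * (p : ℤ) ^ s :=
    fun j => by
      have h := H.mem_center_iff hG hp hn 0 (j * (p : ℤ) ^ s)
      rw [zpow_zero, one_mul] at h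
      rw [← zpow_natCast, ← zpow_mul, Nat.cast_pow, h]
      exact and_iff_right (dvd_zero _)
  constructor
  · intro h
    obtain ⟨i', hi'⟩ := H.exists_pow i j (p ^ s)
    rw [hi', Nat.cast_pow] at h
    have hj := ((H.mem_center_iff hG hp hn _ _).mp h).2
    refine ⟨(ha i).mp ((hpre _).mpr ?_), hj⟩
    have h1 := (hpre _).mp ((hb j).mpr hj)
    have h2 : QuotientGroup.mk' (Subgroup.center G) (a ^ i * b ^ j) ∈ S4225.omega hq s := by
      refine (hpre _).mp ?_
      rw [hi', Nat.cast_pow]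
      exact h
    rw [map_mul] at h2
    exact (Subgroup.mul_mem_cancel_right _ h1).mp h2
  · rintro ⟨hi, hj⟩
    rw [hpre, map_mul]
    exact Subgroup.mul_mem _ ((hpre _).mp ((ha i).mpr hi)) ((hpre _).mp ((hb j).mpr hj))

theorem MetaGen.pow_top_mem_center (g : G) : g ^ p ^ n ∈ Subgroup.center G := by
  obtain ⟨i, j, rfl⟩ := H.gen g
  exact (H.pow_mem_center_iff hG hp hn i j n).mpr ⟨dvd_mul_left _ _, dvd_mul_left _ _⟩

/-- The class of `g` has at most `p^s` elements iff `g^(p^s)` is central. -/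
theorem MetaGen.index_centralizer_le_iff (g : G) (s : ℕ) :
    (Subgroup.centralizer ({g} : Set G)).index ≤ p ^ s ↔ g ^ p ^ s ∈ Subgroup.center G := by
  rw [index_centralizer_eq_orderOf (H.isRegular hG hp) H.isCyclic_commutator]
  have hmk : g ^ p ^ s ∈ Subgroup.center G ↔
      QuotientGroup.mk' (Subgroup.center G) g ^ p ^ s = 1 := by
    rw [← map_pow]; exact (QuotientGroup.eq_one_iff _).symm
  rw [hmk, ← orderOf_dvd_iff_pow_eq_one]
  obtain ⟨k, hk⟩ := IsPGroup.iff_orderOf.mp (hG.to_quotient (Subgroup.center G))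
    (QuotientGroup.mk' (Subgroup.center G) g)
  rw [hk, Nat.pow_le_pow_iff_right (Fact.out (p := p.Prime)).one_lt,
    Nat.pow_dvd_pow_iff_le_right (Fact.out (p := p.Prime)).one_lt]

/-- There are `|Z| p^(2s)` elements with class of size at most `p^s`. -/
theorem MetaGen.card_index_centralizer_le (s : ℕ) (hs : s ≤ n) :
    Nat.card {g : G // (Subgroup.centralizer ({g} : Set G)).index ≤ p ^ s} =
      Nat.card ↥(Subgroup.center G) * p ^ (2 * s) := by
  set Z := Subgroup.center G with hZ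
  have hppos : 0 < p ^ s := Nat.pow_pos (Fact.out (p := p.Prime)).pos
  have hpz : (0 : ℤ) < (p : ℤ) ^ s := by exact_mod_cast hppos
  have hpns : ((p : ℤ) ^ (n - s)) ≠ 0 := pow_ne_zero _ (by exact_mod_cast (Fact.out (p := p.Prime)).ne_zero)
  have hps : (p : ℤ) ^ n = (p : ℤ) ^ (n - s) * (p : ℤ) ^ s := by
    rw [← pow_add, Nat.sub_add_cancel hs]
  let T : Set (G ⧸ Z) := {q | q ^ p ^ s = 1}
  let e : {g : G // (Subgroup.centralizer ({g} : Set G)).index ≤ p ^ s} ≃ ↥Z × T := by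
    refine (Equiv.subtypeEquivRight fun g => ?_).trans (QuotientGroup.preimageMkEquivSubgroupProdSet Z T)
    show _ ↔ ((g : G ⧸ Z)) ^ p ^ s = 1
    rw [H.index_centralizer_le_iff hG hp hn, ← QuotientGroup.mk_pow, QuotientGroup.eq_one_iff]
  rw [Nat.card_congr e, Nat.card_prod]
  congr 1
  have hmem : ∀ x y : ℕ, ((a ^ ((x : ℤ) * (p : ℤ) ^ (n - s)) * b ^ ((y : ℤ) * (p : ℤ) ^ (n - s)) : G) :
      G ⧸ Z) ∈ T := fun x y => by
    show _ ^ p ^ s = 1
    rw [← QuotientGroup.mk_pow, QuotientGroup.eq_one_iff, H.pow_mem_center_iff hG hp hn, mul_assoc,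
      mul_assoc, ← hps]
    exact ⟨dvd_mul_left _ _, dvd_mul_left _ _⟩
  let f : Fin (p ^ s) × Fin (p ^ s) → T := fun q => ⟨_, hmem q.1 q.2⟩
  have hbij : Function.Bijective f := by
    constructor
    · intro q r h
      obtain ⟨h1, h2⟩ := (H.mk_eq_iff hG hp hn _ _ _ _).mp (congrArg Subtype.val h)
      have e' : ∀ x y : Fin (p ^ s), (p : ℤ) ^ n ∣
          ((x : ℕ) : ℤ) * (p : ℤ) ^ (n - s) - ((y : ℕ) : ℤ) * (p : ℤ) ^ (n - s) → x = y := by
        intro x y hxy
        rw [← sub_mul, hps, mul_comm ((p : ℤ) ^ (n - s)), mul_dvd_mul_iff_right hpns] at hxy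
        refine Fin.ext ?_
        have hx : ((x : ℕ) : ℤ) < (p : ℤ) ^ s := by exact_mod_cast x.2
        have hy : ((y : ℕ) : ℤ) < (p : ℤ) ^ s := by exact_mod_cast y.2
        have := Int.eq_zero_of_abs_lt_dvd hxy (abs_lt.mpr ⟨by omega, by omega⟩)
        omega
      exact Prod.ext (e' _ _ h1) (e' _ _ h2)
    · rintro ⟨q, hq⟩
      obtain ⟨g, rfl⟩ := QuotientGroup.mk_surjective q
      obtain ⟨i, j, rfl⟩ := H.gen g
      have hq' : (a ^ i * b ^ j) ^ p ^ s ∈ Z := by
        rw [← QuotientGroup.eq_one_iff, QuotientGroup.mk_pow]; exact hq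
      rw [H.pow_mem_center_iff hG hp hn] at hq'
      have hb : ∀ i : ℤ, (i % (p : ℤ) ^ s).toNat < p ^ s := fun i => by
        have h1 := Int.emod_lt_of_pos i hpz
        have h2 := Int.emod_nonneg i hpz.ne'
        have h3 : ((p ^ s : ℕ) : ℤ) = (p : ℤ) ^ s := by push_cast; rfl
        omega
      have hdiv : ∀ i : ℤ, (p : ℤ) ^ n ∣ i * (p : ℤ) ^ s → ∃ i', i = i' * (p : ℤ) ^ (n - s) := by
        intro i hi
        rw [hps, mul_dvd_mul_iff_right hpz.ne'] at hi
        obtain ⟨w, hw⟩ := hi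
        exact ⟨w, by rw [hw, mul_comm]⟩
      obtain ⟨i', rfl⟩ := hdiv i hq'.1
      obtain ⟨j', rfl⟩ := hdiv j hq'.2
      refine ⟨(⟨_, hb i'⟩, ⟨_, hb j'⟩), Subtype.ext ((H.mk_eq_iff hG hp hn _ _ _ _).mpr ?_)⟩
      have e' : ∀ i : ℤ, (p : ℤ) ^ n ∣
          ((i % (p : ℤ) ^ s).toNat : ℤ) * (p : ℤ) ^ (n - s) - i * (p : ℤ) ^ (n - s) := fun i => by
        rw [← sub_mul, Int.toNat_of_nonneg (Int.emod_nonneg i hpz.ne'), hps,
          mul_comm ((p : ℤ) ^ (n - s)), mul_dvd_mul_iff_right hpns]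
        exact Int.ModEq.dvd (Int.ModEq.symm (Int.mod_modEq i _))
      exact ⟨e' i', e' j'⟩
  rw [← Nat.card_congr (Equiv.ofBijective f hbij), Nat.card_prod, Nat.card_fin, ← pow_add, two_mul]

/-- `℧ₛ(G) = {g : g^(p^(n-s)) ∈ Z(G)}`. -/
theorem MetaGen.mem_powers_iff (s : ℕ) (hs : s ≤ n) (g : G) :
    g ∈ Subgroup.closure {x : G | ∃ y : G, y ^ p ^ s = x} ↔
      g ^ p ^ (n - s) ∈ Subgroup.center G := by
  constructor
  · intro hg
    have hq : IsRegularPGroup p (G ⧸ Subgroup.center G) :=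
      S0641.result (H.isRegular hG hp) (Subgroup.center G)
    have hle : Subgroup.closure {x : G | ∃ y : G, y ^ p ^ s = x} ≤
        (S4225.omega hq (n - s)).comap (QuotientGroup.mk' (Subgroup.center G)) := by
      refine (Subgroup.closure_le _).mpr ?_
      rintro _ ⟨y, rfl⟩
      show (QuotientGroup.mk' (Subgroup.center G) (y ^ p ^ s)) ^ p ^ (n - s) = 1
      rw [← map_pow, ← pow_mul, ← pow_add, Nat.add_sub_cancel' hs]
      exact (QuotientGroup.eq_one_iff _).mpr (H.pow_top_mem_center hG hp hn y)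
    have h1 : QuotientGroup.mk' (Subgroup.center G) g ^ p ^ (n - s) = 1 := hle hg
    rw [← map_pow] at h1
    exact (QuotientGroup.eq_one_iff _).mp h1
  · obtain ⟨i, j, rfl⟩ := H.gen g
    intro hg
    rw [H.pow_mem_center_iff hG hp hn] at hg
    have hne : ((p : ℤ) ^ (n - s)) ≠ 0 :=
      pow_ne_zero _ (by exact_mod_cast (Fact.out (p := p.Prime)).ne_zero)
    have hdiv : ∀ (c : G) (i : ℤ), (p : ℤ) ^ n ∣ i * (p : ℤ) ^ (n - s) →
        c ^ i ∈ Subgroup.closure {x : G | ∃ y : G, y ^ p ^ s = x} := by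
      intro c i hi
      rw [show (p : ℤ) ^ n = (p : ℤ) ^ s * (p : ℤ) ^ (n - s) by
        rw [← pow_add, Nat.add_sub_cancel' hs], mul_dvd_mul_iff_right hne] at hi
      obtain ⟨w, rfl⟩ := hi
      refine Subgroup.subset_closure ⟨c ^ w, ?_⟩
      rw [← zpow_natCast, ← zpow_mul, Nat.cast_pow, mul_comm]
    exact Subgroup.mul_mem _ (hdiv a i hg.1) (hdiv b j hg.2)

/-- For non-abelian `G`: `g ∈ Φ(G)` iff `g^(p^(n-1))` is central. -/
theorem MetaGen.mem_frattini_iff (hn1 : 1 ≤ n) (g : G) :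
    g ∈ frattini G ↔ g ^ p ^ (n - 1) ∈ Subgroup.center G := by
  rw [← H.mem_powers_iff hG hp hn 1 hn1]
  have heq : frattini G = Subgroup.closure {x : G | ∃ y : G, y ^ p ^ 1 = x} := by
    refine le_antisymm (frattini_le (p := p) ?_ fun x => ?_) ?_
    · intro c hc
      obtain ⟨w, hw⟩ := H.commutator_le_pow hG hp hc
      refine Subgroup.subset_closure ⟨a ^ w, ?_⟩
      simp only at hw
      rw [← hw, pow_one, ← zpow_natCast, ← zpow_natCast, ← zpow_mul, ← zpow_mul, mul_comm]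
    · exact Subgroup.subset_closure ⟨x, by rw [pow_one]⟩
    · refine (Subgroup.closure_le _).mpr ?_
      rintro _ ⟨y, rfl⟩
      rw [pow_one]
      exact pow_mem_frattini hG y
  rw [heq]

omit hp hn in
/-- Generators `a^(p^u)`, `a^i b^(p^v)` of a subgroup `L`, with `|L| p^(u+v) = |G|`. -/
theorem MetaGen.exists_subgroup_params (L : Subgroup G) :
    ∃ (u v : ℕ) (i : ℤ), a ^ p ^ u ∈ L ∧ a ^ i * b ^ p ^ v ∈ L ∧
      L ≤ Subgroup.closure {a ^ p ^ u, a ^ i * b ^ p ^ v} ∧
      Nat.card ↥L * p ^ (u + v) = Nat.card G := by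
  have hAn := H.normal
  set A := Subgroup.zpowers a with hA
  let q : G →* G ⧸ A := QuotientGroup.mk' A
  have hgenq : ∀ x : G ⧸ A, x ∈ Subgroup.zpowers (q b) := fun x => by
    obtain ⟨g, rfl⟩ := QuotientGroup.mk'_surjective A x
    obtain ⟨i, j, rfl⟩ := H.gen g
    refine ⟨j, ?_⟩
    show q b ^ j = q (a ^ i * b ^ j)
    rw [map_mul, map_zpow q b, show q (a ^ i) = 1 from (QuotientGroup.eq_one_iff _).mpr
      (Subgroup.zpow_mem _ (Subgroup.mem_zpowers a) i), one_mul]
  obtain ⟨u, hu, hucard⟩ := exists_eq_zpowers_pow hG (inf_le_right : L ⊓ A ≤ A)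
  obtain ⟨v, hv, hvcard⟩ := exists_eq_zpowers_pow (hG.to_quotient A)
    (fun x _ => hgenq x : L.map q ≤ Subgroup.zpowers (q b))
  obtain ⟨y, hyL, hy⟩ : q b ^ p ^ v ∈ L.map q := hv ▸ Subgroup.mem_zpowers _
  have hyA : y * (b ^ p ^ v)⁻¹ ∈ A := by
    rw [← QuotientGroup.eq_one_iff]
    show q (y * (b ^ p ^ v)⁻¹) = 1
    rw [map_mul, map_inv, map_pow, hy, mul_inv_cancel]
  obtain ⟨i, hi⟩ := hyA
  have hiy : a ^ i * b ^ p ^ v = y := by
    simp only at hi
    rw [hi, inv_mul_cancel_right]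
  have hau : a ^ p ^ u ∈ L ⊓ A := hu ▸ Subgroup.mem_zpowers _
  refine ⟨u, v, i, hau.1, hiy ▸ hyL, ?_, ?_⟩
  · rw [hiy]
    intro g hg
    obtain ⟨k, hk⟩ : q g ∈ Subgroup.zpowers (q b ^ p ^ v) := hv ▸ Subgroup.mem_map_of_mem q hg
    simp only at hk
    rw [← hy, ← map_zpow] at hk
    have hgA : g * (y ^ k)⁻¹ ∈ L ⊓ A := by
      refine ⟨L.mul_mem hg (L.inv_mem (L.zpow_mem hyL k)), ?_⟩
      show g * (y ^ k)⁻¹ ∈ A
      rw [← QuotientGroup.eq_one_iff]
      show q (g * (y ^ k)⁻¹) = 1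
      rw [map_mul, map_inv, hk, mul_inv_cancel]
    rw [hu, Subgroup.mem_zpowers_iff] at hgA
    obtain ⟨l, hl⟩ := hgA
    rw [show g = (a ^ p ^ u) ^ l * y ^ k by rw [hl, inv_mul_cancel_right]]
    have h1 : a ^ p ^ u ∈ Subgroup.closure ({a ^ p ^ u, y} : Set G) :=
      Subgroup.subset_closure (Set.mem_insert _ _)
    have h2 : y ∈ Subgroup.closure ({a ^ p ^ u, y} : Set G) :=
      Subgroup.subset_closure (Set.mem_insert_of_mem _ rfl)
    exact Subgroup.mul_mem _ (Subgroup.zpow_mem _ h1 l) (Subgroup.zpow_mem _ h2 k)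
  · have hL : Nat.card ↥L = Nat.card ↥(L ⊓ A) * Nat.card ↥(L.map q) := by
      have h1 := Subgroup.card_mul_index ((q.comp L.subtype).ker)
      rw [Subgroup.index_ker] at h1
      rw [← h1]
      refine congrArg₂ (· * ·) ?_ ?_
      · rw [← Subgroup.card_map_of_injective L.subtype_injective]
        refine congrArg (fun S : Subgroup G => Nat.card S) ?_
        ext g
        constructor
        · rintro ⟨w, hw, rfl⟩
          exact ⟨w.2, (QuotientGroup.eq_one_iff _).mp hw⟩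
        · rintro ⟨hgL, hgA⟩
          exact ⟨⟨g, hgL⟩, (QuotientGroup.eq_one_iff _).mpr hgA, rfl⟩
      · rw [MonoidHom.range_comp, Subgroup.range_subtype]
    have hA' : Nat.card G = orderOf a * orderOf (q b) := by
      rw [← Nat.card_zpowers a, ← Nat.card_zpowers (q b),
        show Subgroup.zpowers (q b) = ⊤ from eq_top_iff.mpr fun x _ => hgenq x, Subgroup.card_top,
        ← Subgroup.index_eq_card, Subgroup.card_mul_index]
    rw [hL, hA', ← hucard, ← hvcard, pow_add]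
    ring

/-- A subgroup is abelian iff its order is at most `|G : G'|`. -/
theorem MetaGen.isMulCommutative_iff (L : Subgroup G) :
    IsMulCommutative ↥L ↔ Nat.card ↥L ≤ (commutator G).index := by
  obtain ⟨u, v, i, hu, hv, hgen, hcard⟩ := H.exists_subgroup_params hG L
  have hp1 := (Fact.out (p := p.Prime)).one_lt
  have h1 := Subgroup.card_mul_index (commutator G)
  rw [hn, ← hcard] at h1
  have hiff : Nat.card ↥L ≤ (commutator G).index ↔ n ≤ u + v := by
    refine Iff.trans ?_ (Nat.pow_le_pow_iff_right hp1)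
    constructor
    · intro hle
      refine Nat.le_of_mul_le_mul_left ?_ (Nat.card_pos (α := ↥L))
      calc Nat.card ↥L * p ^ n ≤ (commutator G).index * p ^ n := Nat.mul_le_mul_right _ hle
        _ = _ := by rw [mul_comm, h1]
    · intro hle
      refine Nat.le_of_mul_le_mul_left ?_ (Nat.pow_pos (n := n) (Fact.out (p := p.Prime)).pos)
      rw [h1, mul_comm]
      exact Nat.mul_le_mul_left _ hle
  have hc : Commute (a ^ p ^ u) (a ^ i * b ^ p ^ v) ↔ n ≤ u + v := by
    have hca : Commute (a ^ p ^ u) (a ^ i) := ((Commute.refl a).pow_left _).zpow_right i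
    have h2 : Commute (a ^ p ^ u) (a ^ i * b ^ p ^ v) ↔ Commute (a ^ p ^ u) (b ^ p ^ v) :=
      ⟨fun h => by
        have := hca.inv_right.mul_right h
        rwa [inv_mul_cancel_left] at this, fun h => hca.mul_right h⟩
    rw [h2, ← zpow_natCast, ← zpow_natCast, H.commute_iff hG hp hn, ← Nat.cast_mul, ← pow_add,
      ← Nat.cast_pow, Int.natCast_dvd_natCast, Nat.pow_dvd_pow_iff_le_right hp1]
  rw [hiff, ← hc]
  refine ⟨fun h => mul_comm_of_isMulCommutative h hu hv, fun h => ?_⟩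
  have hab : IsMulCommutative ↥(Subgroup.closure ({a ^ p ^ u, a ^ i * b ^ p ^ v} : Set G)) :=
    Subgroup.isMulCommutative_closure (by
      rintro x (rfl | rfl) y (rfl | rfl)
      · rfl
      · exact h
      · exact h.symm
      · rfl)
  exact isMulCommutative_of_forall fun x hx y hy =>
    mul_comm_of_isMulCommutative hab (hgen hx) (hgen hy)

/-- A non-abelian subgroup contains the centre and its centralizer. -/
theorem MetaGen.center_le_of_not_commutative {R : Subgroup G} (hR : ¬ IsMulCommutative ↥R) :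
    Subgroup.center G ≤ R ∧ Subgroup.centralizer (R : Set G) ≤ R := by
  obtain ⟨u, v, i, hu, hv, hgen, hcard⟩ := H.exists_subgroup_params hG R
  have hp1 := (Fact.out (p := p.Prime)).one_lt
  have huv : u + v < n := by
    by_contra hle
    refine hR ((H.isMulCommutative_iff hG hp hn R).mpr ?_)
    have h1 := Subgroup.card_mul_index (commutator G)
    rw [hn, ← hcard] at h1
    refine Nat.le_of_mul_le_mul_left ?_ (Nat.pow_pos (n := n) (Fact.out (p := p.Prime)).pos)
    rw [h1, mul_comm]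
    exact Nat.mul_le_mul_left _ (Nat.pow_le_pow_right (Fact.out (p := p.Prime)).pos (not_lt.mp hle))
  have hAR : ∀ k : ℤ, (p : ℤ) ^ u ∣ k → a ^ k ∈ R := by
    rintro k ⟨w, rfl⟩
    rw [zpow_mul, ← Nat.cast_pow, zpow_natCast]
    exact R.zpow_mem hu w
  have hpu : ∀ m : ℕ, u ≤ m → a ^ p ^ m ∈ R := fun m hm => by
    have := hAR ((p : ℤ) ^ m) (pow_dvd_pow _ hm)
    rwa [← Nat.cast_pow, zpow_natCast] at this
  constructor
  · intro g hg
    obtain ⟨k, l, rfl⟩ := H.gen g
    obtain ⟨hk, hl⟩ := (H.mem_center_iff hG hp hn k l).mp hg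
    refine R.mul_mem (hAR k ((pow_dvd_pow _ (by omega)).trans hk)) ?_
    obtain ⟨w, rfl⟩ := hl
    rw [zpow_mul, ← Nat.cast_pow, zpow_natCast]
    refine R.zpow_mem ?_ w
    obtain ⟨c, hc, he⟩ := (H.isRegular hG hp).2 (a ^ i) (b ^ p ^ v) (n - v)
    rw [← pow_mul b, ← pow_add, Nat.add_sub_cancel' (by omega : v ≤ n)] at he
    have hcR : c ∈ R := by
      have hle : powerClosure p (n - v) ⁅Subgroup.closure ({a ^ i, b ^ p ^ v} : Set G),
          Subgroup.closure ({a ^ i, b ^ p ^ v} : Set G)⁆ ≤ R := by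
        refine powerClosure_le_iff.mpr fun x hx => ?_
        obtain ⟨k', hk'⟩ := H.commutator_le
          ((Subgroup.commutator_mono le_top le_top : _ ≤ commutator G) hx)
        simp only at hk'
        rw [← hk', ← zpow_natCast, ← zpow_mul]
        exact hAR _ (dvd_mul_of_dvd_right (by push_cast; exact pow_dvd_pow _ (by omega)) _)
      exact hle hc
    have hb : b ^ p ^ n = ((a ^ i) ^ p ^ (n - v))⁻¹ * (a ^ i * b ^ p ^ v) ^ p ^ (n - v) * c⁻¹ := by
      rw [he]; group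
    rw [hb]
    refine R.mul_mem (R.mul_mem (R.inv_mem ?_) (R.pow_mem hv _)) (R.inv_mem hcR)
    rw [← zpow_natCast, ← zpow_mul]
    exact hAR _ (dvd_mul_of_dvd_right (by push_cast; exact pow_dvd_pow _ (by omega)) _)
  · intro x hx
    have hxu : Commute x (a ^ p ^ u) := (hx _ hu).symm
    have hxy : Commute x (a ^ i * b ^ p ^ v) := (hx _ hv).symm
    obtain ⟨k, l, rfl⟩ := H.gen x
    have hca : Commute (a ^ k) (a ^ p ^ u) := ((Commute.refl a).zpow_left k).pow_right _
    have hl : (p : ℤ) ^ v ∣ l := by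
      have h1 : Commute (b ^ l) (a ^ p ^ u) := by
        have := hca.inv_left.mul_left hxu
        rwa [inv_mul_cancel_left] at this
      have h2 := h1.symm
      rw [← zpow_natCast, H.commute_iff hG hp hn, Nat.cast_pow] at h2
      have h3 : (p : ℤ) ^ u * (p : ℤ) ^ v ∣ (p : ℤ) ^ u * l := by
        rw [← pow_add]
        exact (pow_dvd_pow _ (by omega)).trans h2
      exact (mul_dvd_mul_iff_left
        (pow_ne_zero u (by exact_mod_cast (Fact.out (p := p.Prime)).ne_zero))).mp h3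
    obtain ⟨w, rfl⟩ := hl
    set y := a ^ i * b ^ p ^ v with hy
    obtain ⟨k', hk'⟩ : a ^ k * b ^ ((p : ℤ) ^ v * w) * (y ^ w)⁻¹ ∈ Subgroup.zpowers a := by
      have hAn := H.normal
      rw [← QuotientGroup.eq_one_iff]
      show QuotientGroup.mk' (Subgroup.zpowers a) _ = 1
      have ha1 : QuotientGroup.mk' (Subgroup.zpowers a) a = 1 :=
        (QuotientGroup.eq_one_iff a).mpr (Subgroup.mem_zpowers a)
      rw [hy, map_mul, map_mul, map_inv, map_zpow, map_zpow, map_zpow, map_mul, map_zpow, map_pow,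
        ha1, one_zpow, one_zpow, one_mul, one_mul, ← Nat.cast_pow, zpow_mul, zpow_natCast,
        mul_inv_cancel]
    simp only at hk'
    have hx' : a ^ k * b ^ ((p : ℤ) ^ v * w) = a ^ k' * y ^ w := by
      rw [hk', inv_mul_cancel_right]
    rw [hx'] at hxy ⊢
    refine R.mul_mem (hAR k' ?_) (R.zpow_mem hv w)
    have h4 : Commute (a ^ k') y := by
      have := hxy.mul_left ((Commute.zpow_self y w).inv_left)
      rwa [mul_inv_cancel_right] at this
    have h5 : Commute (a ^ k') (b ^ p ^ v) := by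
      have h6 : Commute (a ^ k') (a ^ i) := (Commute.refl a).zpow_zpow k' i
      have := h6.inv_right.mul_right h4
      rwa [hy, inv_mul_cancel_left] at this
    rw [← zpow_natCast, H.commute_iff hG hp hn, Nat.cast_pow] at h5
    have h7 : (p : ℤ) ^ u * (p : ℤ) ^ v ∣ k' * (p : ℤ) ^ v := by
      rw [← pow_add]
      exact (pow_dvd_pow _ (by omega)).trans h5
    exact (mul_dvd_mul_iff_right
      (pow_ne_zero v (by exact_mod_cast (Fact.out (p := p.Prime)).ne_zero))).mp h7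

/-- The maximal abelian subgroups are exactly those of order `|G : G'|`. -/
theorem MetaGen.maximal_iff (L : Subgroup G) :
    Maximal (fun K : Subgroup G => IsMulCommutative ↥K) L ↔
      Nat.card ↥L = (commutator G).index := by
  constructor
  · intro hL
    have hle := (H.isMulCommutative_iff hG hp hn L).mp hL.1
    obtain ⟨s, hs⟩ := card_eq_pow hG L
    obtain ⟨r, hr⟩ := index_eq_pow hG (commutator G)
    refine le_antisymm hle ?_
    rw [hs, hr, Nat.pow_le_pow_iff_right (Fact.out (p := p.Prime)).one_lt] at hle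
    obtain ⟨K, hK, hLK⟩ := Sylow.exists_subgroup_card_pow_prime_le p (m := r)
      ⟨Nat.card ↥(commutator G), by rw [← hr, mul_comm, Subgroup.card_mul_index]⟩ L hs hle
    have hKc : IsMulCommutative ↥K :=
      (H.isMulCommutative_iff hG hp hn K).mpr (by rw [hK, hr])
    rw [hr, ← hK]
    exact Subgroup.card_le_of_le (hL.2 hKc hLK)
  · intro hL
    refine ⟨(H.isMulCommutative_iff hG hp hn L).mpr hL.le, fun K hK hLK => ?_⟩
    exact (Subgroup.eq_of_le_of_card_ge hLK
      (((H.isMulCommutative_iff hG hp hn K).mp hK).trans hL.ge)).ge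

omit hn in
/-- `G` is a product of two cyclic subgroups with trivial intersection. -/
theorem MetaGen.exists_cyclic_factorization :
    ∃ A B : Subgroup G, IsCyclic ↥A ∧ IsCyclic ↥B ∧ A ⊓ B = ⊥ ∧
      Nat.card ↥A * Nat.card ↥B = Nat.card G := by
  have hp0 := (Fact.out (p := p.Prime))
  have hr := H.isRegular hG hp
  have hAn := H.normal
  set A := Subgroup.zpowers a with hA
  obtain ⟨m, hm⟩ := IsPGroup.iff_orderOf.mp hG a
  let q : G →* G ⧸ A := QuotientGroup.mk' A
  have hmk : ∀ g : G, q g = 1 ↔ g ∈ A := fun g => QuotientGroup.eq_one_iff g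
  obtain ⟨t, ht⟩ := IsPGroup.iff_orderOf.mp (hG.to_quotient A) (q b)
  have hgenq : Subgroup.zpowers (q b) = ⊤ := eq_top_iff.mpr fun x _ => by
    obtain ⟨g, rfl⟩ := QuotientGroup.mk'_surjective A x
    obtain ⟨i, j, rfl⟩ := H.gen g
    refine ⟨j, ?_⟩
    show q b ^ j = q (a ^ i * b ^ j)
    rw [map_mul, map_zpow q b, show q (a ^ i) = 1 from
      (hmk _).mpr (Subgroup.zpow_mem _ (Subgroup.mem_zpowers a) i), one_mul]
  have hcard : Nat.card G = Nat.card ↥A * p ^ t := by
    rw [← ht, ← Nat.card_zpowers (q b), hgenq, Subgroup.card_top, ← Subgroup.index_eq_card,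
      Subgroup.card_mul_index]
  obtain ⟨s, hs⟩ : b ^ p ^ t ∈ A := (hmk _).mp (by rw [map_pow, ← ht, pow_orderOf_eq_one])
  simp only at hs
  by_cases hcase : ∃ w : ℤ, b ^ p ^ t = (a ^ w) ^ p ^ t
  · obtain ⟨w, hw⟩ := hcase
    set c := b * (a ^ w)⁻¹ with hc
    have hct : c ^ p ^ t = 1 := (S4210.result hr b (a ^ w) t).mp hw
    refine ⟨A, Subgroup.zpowers c, inferInstance, inferInstance, ?_⟩
    have htop : A ⊔ Subgroup.zpowers c = ⊤ := eq_top_iff.mpr fun g _ => by
      obtain ⟨i, j, rfl⟩ := H.gen g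
      refine Subgroup.mul_mem _ (Subgroup.mem_sup_left (Subgroup.zpow_mem _ (Subgroup.mem_zpowers a) i))
        (Subgroup.zpow_mem _ ?_ j)
      have hbc : b = c * a ^ w := by rw [hc, inv_mul_cancel_right]
      rw [hbc]
      exact Subgroup.mul_mem _ (Subgroup.mem_sup_right (Subgroup.mem_zpowers c))
        (Subgroup.mem_sup_left (Subgroup.zpow_mem _ (Subgroup.mem_zpowers a) w))
    have hC : Nat.card ↥(Subgroup.zpowers c) ≤ p ^ t := by
      rw [Nat.card_zpowers]; exact Nat.le_of_dvd (Nat.pow_pos hp0.pos) (orderOf_dvd_of_pow_eq_one hct)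
    have hrel : A.relIndex (Subgroup.zpowers c) = p ^ t := by
      rw [← Subgroup.relIndex_sup_right (Subgroup.zpowers c) A, sup_comm, htop,
        Subgroup.relIndex_top_right]
      refine Nat.eq_of_mul_eq_mul_left (Nat.card_pos (α := ↥A)) ?_
      rw [Subgroup.card_mul_index, hcard]
    have hinf : Nat.card ↥(A ⊓ Subgroup.zpowers c) * p ^ t = Nat.card ↥(Subgroup.zpowers c) := by
      rw [← hrel, ← Subgroup.inf_relIndex_right A, ← Subgroup.relIndex_bot_left (A ⊓ _),
        Subgroup.relIndex_mul_relIndex _ _ _ bot_le inf_le_right, Subgroup.relIndex_bot_left]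
    have hone : Nat.card ↥(A ⊓ Subgroup.zpowers c) = 1 := by
      refine le_antisymm (Nat.le_of_mul_le_mul_right ?_ (Nat.pow_pos (n := t) hp0.pos)) Nat.card_pos
      rw [hinf, one_mul]; exact hC
    rw [hone, one_mul] at hinf
    exact ⟨Subgroup.card_eq_one.mp hone, by rw [← hinf, hcard]⟩
  · have hsne : s ≠ 0 := fun h0 => hcase ⟨0, by rw [← hs, h0]; simp⟩
    obtain ⟨σ, u, hu, hsu⟩ := Nat.exists_eq_pow_mul_and_not_dvd
      (Int.natAbs_ne_zero.mpr hsne) p hp0.ne_one
    obtain ⟨u', hu', hsu'⟩ : ∃ u' : ℤ, ¬ (p : ℤ) ∣ u' ∧ s = (p : ℤ) ^ σ * u' := by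
      rcases Int.natAbs_eq s with h | h
      · exact ⟨u, by exact_mod_cast hu, by rw [h, hsu]; push_cast; ring⟩
      · exact ⟨-(u : ℤ), by rw [dvd_neg]; exact_mod_cast hu, by rw [h, hsu]; push_cast; ring⟩
    have hσt : σ < t := by
      by_contra hle
      refine hcase ⟨(p : ℤ) ^ (σ - t) * u', ?_⟩
      rw [← hs, ← zpow_natCast, ← zpow_mul, hsu', Nat.cast_pow, mul_comm _ ((p : ℤ) ^ t),
        ← mul_assoc, ← pow_add, Nat.add_sub_cancel' (not_lt.mp hle)]
    have hσm : σ < m := by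
      by_contra hle
      refine hcase ⟨0, ?_⟩
      rw [zpow_zero, one_pow, ← hs, ← orderOf_dvd_iff_zpow_eq_one, hm, hsu', Nat.cast_pow]
      exact dvd_mul_of_dvd_left (pow_dvd_pow _ (not_lt.mp hle)) _
    obtain ⟨w₁, w₂, hw⟩ : IsCoprime u' ((p : ℤ) ^ m) :=
      (((Nat.prime_iff_prime_int.mp hp0).coprime_iff_not_dvd.mpr hu').symm).pow_right
    have haσ : a ^ p ^ σ = (b ^ p ^ t) ^ w₁ := by
      rw [← hs, ← zpow_mul, ← zpow_natCast, hsu', Nat.cast_pow]
      have hz : a ^ ((p : ℤ) ^ m) = 1 := by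
        rw [← orderOf_dvd_iff_zpow_eq_one, hm, Nat.cast_pow]
      calc a ^ ((p : ℤ) ^ σ) = a ^ ((p : ℤ) ^ σ * u' * w₁ + (p : ℤ) ^ m * ((p : ℤ) ^ σ * w₂)) := by
            congr 1
            linear_combination (norm := ring) (-(p : ℤ) ^ σ) * hw
        _ = _ := by rw [zpow_add, zpow_mul a ((p : ℤ) ^ m), hz, one_zpow, mul_one]
    set e := (p : ℤ) ^ (t - σ) * w₁ with he
    have hbe : (b ^ e) ^ p ^ σ = a ^ p ^ σ := by
      rw [haσ, ← zpow_natCast (b ^ e), ← zpow_mul, he, ← zpow_natCast b (p ^ t), ← zpow_mul,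
        Nat.cast_pow, Nat.cast_pow]
      congr 1
      rw [show (p : ℤ) ^ t = (p : ℤ) ^ (t - σ) * (p : ℤ) ^ σ by
        rw [← pow_add, Nat.sub_add_cancel hσt.le]]
      ring
    set x := a * (b ^ e)⁻¹ with hx
    have hxσ : x ^ p ^ σ = 1 := (S4210.result hr a (b ^ e) σ).mp hbe.symm
    set B := Subgroup.zpowers b with hB
    set C := Subgroup.zpowers x with hC
    -- `A ∩ B ≤ ⟨a^(p^σ)⟩`
    have hAB : ∀ g : G, g ∈ A → g ∈ B → g ∈ Subgroup.zpowers (a ^ p ^ σ) := by
      rintro g hgA ⟨j, rfl⟩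
      have h1 : q b ^ j = 1 := by rw [← map_zpow]; exact (hmk _).mpr hgA
      rw [← orderOf_dvd_iff_zpow_eq_one, ht] at h1
      obtain ⟨j', rfl⟩ := h1
      show b ^ (((p ^ t : ℕ) : ℤ) * j') ∈ _
      rw [zpow_mul, zpow_natCast, ← hs, hsu', ← Nat.cast_pow, zpow_mul, zpow_natCast]
      exact Subgroup.zpow_mem _ (Subgroup.zpow_mem _ (Subgroup.mem_zpowers _) _) _
    -- a power `x^(p^l)` in `B` forces `σ ≤ l`
    have hmin : ∀ l : ℕ, x ^ p ^ l ∈ B → σ ≤ l := by
      intro l hl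
      by_contra hlt
      obtain ⟨c, hc, hreq⟩ := hr.2 a (b ^ e)⁻¹ l
      have hcA : c ∈ Subgroup.zpowers (a ^ p ^ (l + 1)) := by
        have hle : powerClosure p l ⁅Subgroup.closure ({a, (b ^ e)⁻¹} : Set G),
            Subgroup.closure ({a, (b ^ e)⁻¹} : Set G)⁆ ≤ Subgroup.zpowers (a ^ p ^ (l + 1)) := by
          refine powerClosure_le_iff.mpr fun y hy => ?_
          obtain ⟨k, hk⟩ := H.commutator_le_pow hG hp
            ((Subgroup.commutator_mono le_top le_top : _ ≤ commutator G) hy)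
          simp only at hk
          refine ⟨k, ?_⟩
          show (a ^ p ^ (l + 1)) ^ k = y ^ p ^ l
          rw [← hk, ← zpow_natCast a, ← zpow_natCast a, ← zpow_natCast _ (p ^ l), ← zpow_mul,
            ← zpow_mul, ← zpow_mul]
          congr 1
          push_cast
          ring
        exact hle hc
      have hfB : ((b ^ e)⁻¹) ^ p ^ l ∈ B :=
        Subgroup.pow_mem _ (Subgroup.inv_mem _ (Subgroup.zpow_mem _ (Subgroup.mem_zpowers b) e)) _
      set f := ((b ^ e)⁻¹) ^ p ^ l with hf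
      have hD : (Subgroup.zpowers (a ^ p ^ (l + 1))).Normal := normal_of_le_isCyclic hAn inferInstance
        (Subgroup.zpowers_le.mpr (Subgroup.pow_mem _ (Subgroup.mem_zpowers a) _))
      obtain ⟨k, hk⟩ : f * c * f⁻¹ ∈ Subgroup.zpowers (a ^ p ^ (l + 1)) := hD.conj_mem c hcA f
      simp only at hk
      have hprod : a ^ p ^ l * (a ^ p ^ (l + 1)) ^ k ∈ B := by
        have h1 : x ^ p ^ l * f⁻¹ ∈ B := Subgroup.mul_mem _ hl (Subgroup.inv_mem _ hfB)
        rw [hx, hreq] at h1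
        rw [hk]
        have e' : a ^ p ^ l * (f * c * f⁻¹) = a ^ p ^ l * f * c * f⁻¹ := by group
        rw [e']
        exact h1
      obtain ⟨k', hk'⟩ := hAB _ (Subgroup.mul_mem _ (Subgroup.pow_mem _ (Subgroup.mem_zpowers a) _)
        (Subgroup.zpow_mem _ (Subgroup.pow_mem _ (Subgroup.mem_zpowers a) _) k)) hprod
      simp only at hk'
      rw [← zpow_natCast a, ← zpow_natCast a, ← zpow_natCast a, ← zpow_mul, ← zpow_mul, ← zpow_add,
        ← orderOf_dvd_sub_iff_zpow_eq_zpow, hm] at hk'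
      push_cast at hk'
      have h2 : (p : ℤ) ^ (l + 1) ∣ (p : ℤ) ^ σ * k' - ((p : ℤ) ^ l + (p : ℤ) ^ (l + 1) * k) :=
        (pow_dvd_pow _ (by omega)).trans hk'
      have h3 : (p : ℤ) ^ (l + 1) ∣ (p : ℤ) ^ l :=
        (dvd_sub (dvd_sub (dvd_mul_of_dvd_left (pow_dvd_pow _ (by omega : l + 1 ≤ σ)) k') h2)
          (dvd_mul_right _ k)).trans (dvd_of_eq (by ring))
      rw [← Nat.cast_pow, ← Nat.cast_pow, Int.natCast_dvd_natCast,
        Nat.pow_dvd_pow_iff_le_right hp0.one_lt] at h3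
      omega
    have hBC : B ⊓ C = ⊥ := by
      refine (Subgroup.eq_bot_iff_forall _).mpr ?_
      rintro g ⟨hgB, k, rfl⟩
      obtain ⟨l, -, hl⟩ := (Nat.dvd_prime_pow hp0).mp
        (show Int.gcd k ((p ^ σ : ℕ) : ℤ) ∣ p ^ σ from
          Int.natCast_dvd_natCast.mp (Int.gcd_dvd_right _ _))
      have hxl : x ^ p ^ l ∈ B := by
        rw [← hl, ← zpow_natCast, Int.gcd_eq_gcd_ab, zpow_add, zpow_mul, zpow_mul, zpow_natCast,
          hxσ, one_zpow, mul_one]
        exact Subgroup.zpow_mem _ hgB _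
      have hσl := hmin l hxl
      obtain ⟨k', hk'⟩ : ((p : ℤ) ^ σ) ∣ k := by
        have h2 := Int.gcd_dvd_left k ((p ^ σ : ℕ) : ℤ)
        rw [hl, Nat.cast_pow] at h2
        exact (pow_dvd_pow _ hσl).trans h2
      show x ^ k = 1
      rw [hk', zpow_mul, ← Nat.cast_pow, zpow_natCast, hxσ, one_zpow]
    refine ⟨B, C, inferInstance, inferInstance, hBC, ?_⟩
    refine le_antisymm ?_ ?_
    · rw [← Nat.card_prod]
      refine Nat.card_le_card_of_injective (fun r : ↥B × ↥C => (r.1 : G) * r.2) ?_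
      rintro ⟨r, r'⟩ ⟨r₂, r₂'⟩ hrr
      have h4 : (r₂ : G)⁻¹ * r ∈ B ⊓ C := by
        refine ⟨B.mul_mem (B.inv_mem r₂.2) r.2, ?_⟩
        have h5 : (r₂ : G)⁻¹ * r = (r₂' : G) * (r' : G)⁻¹ := by
          rw [eq_mul_inv_iff_mul_eq, mul_assoc, inv_mul_eq_iff_eq_mul]
          exact hrr
        rw [h5]
        exact C.mul_mem r₂'.2 (C.inv_mem r'.2)
      rw [hBC, Subgroup.mem_bot, inv_mul_eq_one] at h4
      have h6 : r₂ = r := Subtype.ext h4
      subst h6
      exact Prod.ext rfl (Subtype.ext (mul_left_cancel hrr))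
    · have hCcard : Nat.card ↥C = p ^ σ := by
        rw [Nat.card_zpowers]
        obtain ⟨d, hd, hd'⟩ := (Nat.dvd_prime_pow hp0).mp (orderOf_dvd_of_pow_eq_one hxσ)
        have h7 : x ^ p ^ d ∈ B := by rw [← hd', pow_orderOf_eq_one]; exact B.one_mem
        rw [hd', le_antisymm hd (hmin d h7)]
      have hABc : Nat.card ↥A ≤ Nat.card ↥(A ⊓ B) * p ^ σ := by
        have h8 : Subgroup.zpowers (a ^ p ^ σ) ≤ A ⊓ B := by
          refine Subgroup.zpowers_le.mpr ⟨Subgroup.pow_mem _ (Subgroup.mem_zpowers a) _, ?_⟩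
          rw [haσ]
          exact Subgroup.zpow_mem _ (Subgroup.pow_mem _ (Subgroup.mem_zpowers b) _) _
        refine le_trans ?_ (Nat.mul_le_mul_right _ (Subgroup.card_le_of_le h8))
        rw [Nat.card_zpowers, Nat.card_zpowers, orderOf_pow, hm,
          Nat.gcd_eq_right (Nat.pow_dvd_pow p hσm.le), Nat.pow_div hσm.le hp0.pos, ← pow_add,
          Nat.sub_add_cancel hσm.le]
      have hBc : Nat.card ↥(A ⊓ B) * p ^ t = Nat.card ↥B := by
        have hrel : A.relIndex B = p ^ t := by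
          rw [← Subgroup.relIndex_sup_right B A, sup_comm,
            show A ⊔ B = ⊤ from eq_top_iff.mpr fun g _ => by
              obtain ⟨i, j, rfl⟩ := H.gen g
              exact Subgroup.mul_mem _
                (Subgroup.mem_sup_left (Subgroup.zpow_mem _ (Subgroup.mem_zpowers a) i))
                (Subgroup.mem_sup_right (Subgroup.zpow_mem _ (Subgroup.mem_zpowers b) j)),
            Subgroup.relIndex_top_right]
          refine Nat.eq_of_mul_eq_mul_left (Nat.card_pos (α := ↥A)) ?_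
          rw [Subgroup.card_mul_index, hcard]
        rw [← hrel, ← Subgroup.inf_relIndex_right A, ← Subgroup.relIndex_bot_left (A ⊓ B),
          Subgroup.relIndex_mul_relIndex _ _ _ bot_le inf_le_right, Subgroup.relIndex_bot_left]
      rw [hCcard, ← hBc, hcard]
      calc Nat.card ↥A * p ^ t ≤ Nat.card ↥(A ⊓ B) * p ^ σ * p ^ t := Nat.mul_le_mul_right _ hABc
        _ = _ := by ring

end Meta

end Cfsg.Agent.PGroup
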