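import Cfsg.Prelude.Def_CaseTheorems
import Cfsg.Agent.Lib.PGroup.Critical
import Cfsg.Agent.Lib.PGroup.Extraspecial
import Cfsg.Agent.Lib.PGroup.CyclicSelfCentralizing
import Cfsg.Agent.Lib.PGroup.Metacyclic

/-!
# `p`-groups of symplectic type (P. Hall)

* `isExtraspecial_of`: a recognition criterion for extraspecial groups.
* `exists_symplecticType`: if every characteristic abelian subgroup is cyclic, then `G = E ∘ R` with
  `E` extraspecial or trivial and `R` cyclic, or `p = 2` and `R` dihedral, semidihedral or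
  generalized quaternion of order at least 16.
-/

set_option autoImplicit false

namespace Cfsg.Agent.PGroup

open scoped commutatorElement

universe u

variable {G : Type u} [Group G] {p : ℕ}

/-- A non-abelian `p`-group whose centre has order `p` and contains all commutators and `p`-th
powers is extraspecial. -/
theorem isExtraspecial_of [Finite G] [Fact p.Prime] (hG : IsPGroup p G)
    (hZ : Nat.card ↥(Subgroup.center G) = p) (hna : Subgroup.center G ≠ ⊤)
    (hc : ∀ a b : G, ⁅a, b⁆ ∈ Subgroup.center G) (hp : ∀ a : G, a ^ p ∈ Subgroup.center G) :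
    IsExtraspecial p G := by
  have hle : commutator G ≤ Subgroup.center G := Subgroup.commutator_le.mpr fun a _ b _ => hc a b
  have heq : commutator G = Subgroup.center G := by
    refine Subgroup.eq_of_le_of_card_ge hle ?_
    have hd : Nat.card ↥(commutator G) ∣ p := hZ ▸ Subgroup.card_dvd_of_le hle
    rcases (Nat.dvd_prime (Fact.out (p := p.Prime))).mp hd with h | h
    · exact absurd ((commutator_eq_bot_iff_center_eq_top G).mp (Subgroup.card_eq_one.mp h)) hna
    · rw [h, hZ]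
  exact ⟨⟨hG, le_antisymm (frattini_le (p := p) hle hp) (heq ▸ commutator_le_frattini hG), heq⟩, hZ⟩

/-- The subgroup form of `isExtraspecial_of`. -/
theorem isExtraspecial_subgroup_of [Finite G] [Fact p.Prime] (hG : IsPGroup p G) (E Z : Subgroup G)
    (hZE : Z ≤ E) (hZ : Nat.card ↥Z = p) (hZc : Z ≤ Subgroup.center G)
    (hinf : E ⊓ Subgroup.centralizer (E : Set G) ≤ Z) (hne : ¬ E ≤ Z)
    (hc : ∀ a ∈ E, ∀ b ∈ E, ⁅a, b⁆ ∈ Z) (hp : ∀ a ∈ E, a ^ p ∈ Z) :
    IsExtraspecial p ↥E := by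
  have hcen : Subgroup.center ↥E = Z.subgroupOf E := by
    ext x
    refine ⟨fun hx => hinf ⟨x.2, fun a ha =>
      congrArg Subtype.val (Subgroup.mem_center_iff.mp hx ⟨a, ha⟩)⟩, fun hx => ?_⟩
    exact Subgroup.mem_center_iff.mpr fun y => Subtype.ext (Subgroup.mem_center_iff.mp (hZc hx) y)
  refine isExtraspecial_of (hG.to_subgroup E) ?_ ?_ ?_ ?_
  · rw [hcen, Nat.card_congr (Subgroup.subgroupOfEquivOfLe hZE).toEquiv, hZ]
  · rw [hcen]
    exact fun h => hne (Subgroup.subgroupOf_eq_top.mp h)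
  · intro a b
    rw [hcen]
    exact hc a a.2 b b.2
  · intro a
    rw [hcen, Subgroup.mem_subgroupOf, SubmonoidClass.coe_pow]
    exact hp a a.2

/-- Relative version of `card_centralizer_le_mul`. -/
theorem card_inf_centralizer_le_mul [Finite G] (Z : Subgroup G) (hZ : Z ≤ Subgroup.center G)
    (hZc : Nat.card ↥Z = p) (M H : Subgroup G) (x : G) (hx : ∀ g ∈ M, ⁅g, x⁆ ∈ Z) :
    Nat.card ↥(M ⊓ Subgroup.centralizer (H : Set G)) ≤
      Nat.card ↥(M ⊓ Subgroup.centralizer ((H ⊔ Subgroup.zpowers x : Subgroup G) : Set G)) * p := by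
  set D := M ⊓ Subgroup.centralizer (H : Set G) with hD
  set f := commHom D x (fun g hg => hZ (hx g hg.1)) with hf
  have hle : Nat.card ↥f.range ≤ p := by
    rw [← hZc, ← Subgroup.card_map_of_injective (Subgroup.center G).subtype_injective (K := f.range)]
    refine Nat.le_of_dvd Nat.card_pos (Subgroup.card_dvd_of_le ?_)
    rintro _ ⟨_, ⟨g, rfl⟩, rfl⟩
    exact hx g g.2.1
  have hker : f.ker.map D.subtype ≤
      M ⊓ Subgroup.centralizer ((H ⊔ Subgroup.zpowers x : Subgroup G) : Set G) := by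
    rintro _ ⟨g, hg, rfl⟩
    rw [centralizer_sup_zpowers]
    refine ⟨g.2.1, g.2.2, Subgroup.mem_centralizer_singleton_iff.mpr ?_⟩
    exact commutatorElement_eq_one_iff_mul_comm.mp (congrArg Subtype.val (MonoidHom.mem_ker.mp hg))
  have hkle : Nat.card ↥f.ker ≤
      Nat.card ↥(M ⊓ Subgroup.centralizer ((H ⊔ Subgroup.zpowers x : Subgroup G) : Set G)) := by
    rw [← Subgroup.card_map_of_injective D.subtype_injective (K := f.ker)]
    exact Nat.le_of_dvd Nat.card_pos (Subgroup.card_dvd_of_le hker)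
  calc Nat.card ↥D = Nat.card ↥f.ker * f.ker.index := (Subgroup.card_mul_index _).symm
    _ = Nat.card ↥f.ker * Nat.card ↥f.range := by rw [Subgroup.index_ker]
    _ ≤ _ := Nat.mul_le_mul hkle hle

/-- Relative orthogonality: `|H| |C_C(H)|` is monotone for `A ≤ H ≤ C` if `[G, C] ≤ A`,
`C^p ⊆ A` and `[C, C] ≤ Z`, with `Z` central of order `p`. -/
theorem card_mul_card_inf_centralizer_mono [Finite G] [Fact p.Prime] (Z A C : Subgroup G)
    (hZ : Z ≤ Subgroup.center G) (hZc : Nat.card ↥Z = p)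
    (hcomm : ∀ g : G, ∀ e ∈ C, ⁅g, e⁆ ∈ A) (hCC : ∀ g ∈ C, ∀ e ∈ C, ⁅g, e⁆ ∈ Z)
    (hpow : ∀ e ∈ C, e ^ p ∈ A) {H K : Subgroup G} (hAH : A ≤ H) (hHK : H ≤ K) (hKC : K ≤ C) :
    Nat.card ↥H * Nat.card ↥(C ⊓ Subgroup.centralizer (H : Set G)) ≤
      Nat.card ↥K * Nat.card ↥(C ⊓ Subgroup.centralizer (K : Set G)) := by
  suffices h : ∀ d : ℕ, ∀ H : Subgroup G, Nat.card ↥K - Nat.card ↥H ≤ d → A ≤ H → H ≤ K →
      Nat.card ↥H * Nat.card ↥(C ⊓ Subgroup.centralizer (H : Set G)) ≤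
        Nat.card ↥K * Nat.card ↥(C ⊓ Subgroup.centralizer (K : Set G)) from h _ H le_rfl hAH hHK
  intro d
  induction d with
  | zero =>
    intro H hd hAH hHK
    rw [Subgroup.eq_of_le_of_card_ge hHK (Nat.sub_eq_zero_iff_le.mp (Nat.le_zero.mp hd))]
  | succ d ih =>
    intro H hd hAH hHK
    rcases eq_or_lt_of_le hHK with rfl | hlt
    · exact le_rfl
    obtain ⟨x, hxK, hxH⟩ := SetLike.exists_of_lt hlt
    have hHn : H.Normal := by
      refine Subgroup.commutator_top_left_le_iff.mp (Subgroup.commutator_le.mpr fun g _ e he => ?_)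
      exact hAH (hcomm g e (hKC (hHK he)))
    have hcard := card_sup_zpowers H hxH (hAH (hpow x (hKC hxK)))
    have hle : H ⊔ Subgroup.zpowers x ≤ K := sup_le hHK (Subgroup.zpowers_le.mpr hxK)
    have hstep := card_inf_centralizer_le_mul Z hZ hZc C H x (fun g hg => hCC g hg x (hKC hxK))
    refine le_trans ?_ (ih (H ⊔ Subgroup.zpowers x) ?_ (hAH.trans le_sup_left) hle)
    · rw [hcard, mul_assoc, mul_comm p]
      exact Nat.mul_le_mul_left _ hstep
    · have h2 : Nat.card ↥H * 2 ≤ Nat.card ↥(H ⊔ Subgroup.zpowers x) := by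
        rw [hcard]; exact Nat.mul_le_mul_left _ (Fact.out (p := p.Prime)).two_le
      have := Nat.card_pos (α := ↥H)
      omega

/-- In a cyclic subgroup of a `p`-group there is only one subgroup of order `p`. -/
theorem mem_zpowers_of_isCyclic [Finite G] [Fact p.Prime] (hG : IsPGroup p G) {B : Subgroup G}
    (hB : IsCyclic ↥B) {y z : G} (hy : y ∈ B) (hyp : y ^ p = 1) (hz : z ∈ B)
    (hzo : orderOf z = p) : y ∈ Subgroup.zpowers z := by
  rcases eq_or_ne y 1 with rfl | hy1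
  · exact one_mem _
  obtain ⟨g, hg⟩ := (Subgroup.isCyclic_iff_exists_zpowers_eq_top B).mp hB
  obtain ⟨u, hu, huc⟩ := exists_eq_zpowers_pow hG (g := g) (H := Subgroup.zpowers y)
    (hg.symm ▸ Subgroup.zpowers_le.mpr hy)
  obtain ⟨v, hv, hvc⟩ := exists_eq_zpowers_pow hG (g := g) (H := Subgroup.zpowers z)
    (hg.symm ▸ Subgroup.zpowers_le.mpr hz)
  rw [Nat.card_zpowers, orderOf_eq_prime hyp hy1] at huc
  rw [Nat.card_zpowers, hzo] at hvc
  have hp := (Fact.out (p := p.Prime))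
  have huv : u = v := Nat.pow_right_injective hp.two_le
    (Nat.eq_of_mul_eq_mul_left hp.pos (huc.trans hvc.symm))
  rw [hv, ← huv, ← hu]
  exact Subgroup.mem_zpowers y

/-- A 2-group with a cyclic subgroup `⟨a⟩` of index 2 and order at least 8, such that
`C(a^2) = ⟨a⟩`, is dihedral, generalized quaternion or quasi-dihedral. -/
theorem maximal_class_of_centralizer_sq [Finite G] {n : ℕ} (hn : 3 ≤ n) {a : G}
    (ha : orderOf a = 2 ^ n) (hi : (Subgroup.zpowers a).index = 2)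
    (hM : Subgroup.centralizer ({a ^ 2} : Set G) = Subgroup.zpowers a) :
    16 ≤ Nat.card G ∧ ((∃ m : ℕ, Nonempty (G ≃* DihedralGroup m)) ∨
      (∃ m : ℕ, Nonempty (G ≃* QuaternionGroup m)) ∨ IsQuasiDihedral G) := by
  have hcard : Nat.card G = 2 ^ (n + 1) := by
    rw [← Subgroup.card_mul_index (Subgroup.zpowers a), Nat.card_zpowers, ha, hi, pow_succ]
  refine ⟨hcard ▸ (show 16 = 2 ^ 4 by norm_num) ▸ Nat.pow_le_pow_right (by norm_num) (by omega), ?_⟩
  have hmemc : ∀ {g : G}, g * a ^ 2 = a ^ 2 * g → g ∈ Subgroup.zpowers a := fun h => by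
    rw [← hM]; exact Subgroup.mem_centralizer_singleton_iff.mpr h
  have hna : ∃ x y : G, x * y ≠ y * x := by
    obtain ⟨g, -, hg⟩ := SetLike.exists_of_lt (lt_top_iff_ne_top.mpr
      (fun h => by rw [h, Subgroup.index_top] at hi; omega) : Subgroup.zpowers a < ⊤)
    exact ⟨g, a ^ 2, fun h => hg (hmemc h)⟩
  obtain ⟨c, b, hc, hco, hb, -, h⟩ := cyclic_index_two (by omega : 2 ≤ n) hcard
    (Subgroup.zpowers a) inferInstance hi hna
  have h2 : 2 ^ n = 2 * 2 ^ (n - 1) := by rw [← pow_succ']; congr 1; omega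
  rcases h with ⟨hb2, hconj⟩ | ⟨hb2, hconj⟩ | ⟨-, -, hconj⟩ | ⟨-, hb2, hconj⟩
  · exact Or.inl ⟨2 ^ n, dihedralEquivOfRel hco hb hb2 hconj (by rw [hcard, pow_succ']) ⟩
  · refine Or.inr (Or.inl ⟨2 ^ (n - 1), quaternionEquivOfRel (hco.trans h2) hb hb2 hconj ?_⟩)
    rw [hcard, pow_succ, h2]
    ring
  · refine absurd (hc ▸ hmemc ?_) hb
    have h1 : b * c ^ 2 * b⁻¹ = c ^ 2 := by
      rw [← conj_pow, hconj, ← pow_mul, add_mul, one_mul, ← pow_succ, show n - 1 + 1 = n by omega,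
        pow_add, ← hco, pow_orderOf_eq_one, mul_one]
    obtain ⟨k, hk⟩ := (hc ▸ Subgroup.mem_zpowers a : a ∈ Subgroup.zpowers c)
    simp only at hk
    have h2c : Commute b (c ^ 2) := mul_inv_eq_iff_eq_mul.mp h1
    rw [← hk, ← zpow_natCast, ← zpow_mul, mul_comm, zpow_mul, zpow_natCast]
    exact (h2c.zpow_right k).eq
  · refine Or.inr (Or.inr ⟨n, hn, hcard, c, b, hco, orderOf_eq_prime hb2 ?_, hconj⟩)
    rintro rfl
    exact hb (one_mem _)

/-- P. Hall: the structure of `p`-groups of symplectic type. -/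
theorem exists_symplecticType [Finite G] [Fact p.Prime] (hG : IsPGroup p G)
    (hsymp : ∀ A : Subgroup G, A.Characteristic → IsMulCommutative A → IsCyclic A) :
    ∃ E R : Subgroup G, (∀ e ∈ E, ∀ r ∈ R, e * r = r * e) ∧ E ⊔ R = ⊤ ∧
      (E = ⊥ ∨ IsExtraspecial p ↥E) ∧ (IsCyclic R ∨ (p = 2 ∧ 16 ≤ Nat.card R ∧
        ((∃ m : ℕ, Nonempty (↥R ≃* DihedralGroup m)) ∨ (∃ m : ℕ, Nonempty (↥R ≃* QuaternionGroup m)) ∨
          IsQuasiDihedral ↥R))) := by
  classical
  have hp := (Fact.out (p := p.Prime))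
  rcases subsingleton_or_nontrivial G with hsub | hnt
  · exact ⟨⊥, ⊤, fun e he r _ => Subsingleton.elim _ _, bot_sup_eq _, Or.inl rfl, Or.inl inferInstance⟩
  obtain ⟨C, hCchar, hCfr, hCG, hCC⟩ := exists_critical hG
  set A := Subgroup.centralizer (C : Set G) with hAdef
  have hAC : A ≤ C := hCC
  have hAchar : A.Characteristic := inferInstance
  have hAab : IsMulCommutative ↥A :=
    isMulCommutative_of_forall fun x hx y hy => hy x (hAC hx)
  obtain ⟨a, ha⟩ := (Subgroup.isCyclic_iff_exists_zpowers_eq_top A).mp (hsymp A hAchar hAab)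
  have haA : a ∈ A := ha ▸ Subgroup.mem_zpowers a
  have haC : a ∈ C := hAC haA
  obtain ⟨n, hn⟩ := IsPGroup.iff_orderOf.mp hG a
  have hcA : ∀ {x : G}, x ∈ A → ∀ c ∈ C, c * x = x * c := fun hx c hc => hx c hc
  have hZA : Subgroup.center G ≤ A := fun z hz c _ => Subgroup.mem_center_iff.mp hz c
  have hAne : A ≠ ⊥ := fun h => by
    have h1 := inf_center_ne_bot hG (⊤ : Subgroup G) top_ne_bot
    rw [top_inf_eq] at h1
    exact h1 (le_bot_iff.mp (h ▸ hZA))
  obtain ⟨z, hzA, hzc, hzo⟩ := exists_orderOf_eq_mem_center hG A hAne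
  have hn1 : 1 ≤ n := by
    by_contra h0
    refine hAne ?_
    rw [← ha, Subgroup.zpowers_eq_bot, ← orderOf_eq_one_iff, hn, show n = 0 by omega, pow_zero]
  set Z₀ := Subgroup.zpowers z with hZ₀
  have hZ₀card : Nat.card ↥Z₀ = p := by rw [Nat.card_zpowers, hzo]
  have hZ₀c : Z₀ ≤ Subgroup.center G := Subgroup.zpowers_le.mpr hzc
  have hZ₀A : Z₀ ≤ A := Subgroup.zpowers_le.mpr hzA
  have hZ₀p : ∀ x ∈ Z₀, x ^ p = 1 := (isElementaryAbelian_zpowers (hzo ▸ pow_orderOf_eq_one z)).2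
  have hZ₀n : Z₀.Normal := ⟨fun x hx g => by
    rw [Subgroup.mem_center_iff.mp (hZ₀c hx) g, mul_inv_cancel_right]; exact hx⟩
  -- the elements of order `p` of `A` are in `Z₀`
  have hpow : Subgroup.zpowers (a ^ p ^ (n - 1)) = Z₀ := by
    obtain ⟨u, hu, hucard⟩ := exists_eq_zpowers_pow hG (show Z₀ ≤ Subgroup.zpowers a from ha ▸ hZ₀A)
    rw [hZ₀card, hn, mul_comm, ← pow_succ] at hucard
    rw [hu, ← Nat.pow_right_injective hp.two_le hucard, Nat.add_sub_cancel]
  have hAp : ∀ x ∈ A, x ^ p = 1 → x ∈ Z₀ := by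
    intro x hx hxp
    rw [← ha] at hx
    obtain ⟨i, rfl⟩ := hx
    simp only at hxp ⊢
    rw [← zpow_natCast, ← zpow_mul, ← orderOf_dvd_iff_zpow_eq_one, hn] at hxp
    push_cast at hxp
    rw [show (p : ℤ) ^ n = (p : ℤ) ^ (n - 1) * p by rw [← pow_succ]; congr 1; omega,
      mul_dvd_mul_iff_right (by exact_mod_cast hp.ne_zero)] at hxp
    obtain ⟨w, rfl⟩ := hxp
    rw [← hpow, zpow_mul, ← Nat.cast_pow, zpow_natCast]
    exact Subgroup.zpow_mem _ (Subgroup.mem_zpowers _) w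
  -- commutators with `C`
  have hgc : ∀ g : G, ∀ c ∈ C, ⁅g, c⁆ ∈ A := fun g c hc => by
    rw [← commutatorElement_inv]
    exact A.inv_mem (hCG (Subgroup.commutator_mem_commutator hc (Subgroup.mem_top g))).2
  have hcpA : ∀ c ∈ C, c ^ p ∈ A := fun c hc =>
    hCfr ⟨(⟨c, hc⟩ : ↥C) ^ p, pow_mem_frattini (hG.to_subgroup C) _, by simp⟩
  have hcc : ∀ c ∈ C, ∀ d ∈ C, ⁅c, d⁆ ∈ Z₀ := by
    intro c hc d hd
    refine hAp _ (hgc c d hd) ?_
    have hclC : commutator ↥C ≤ Subgroup.center ↥C := Subgroup.commutator_le.mpr fun x _ y _ =>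
      Subgroup.mem_center_iff.mpr fun w => Subtype.ext (hgc x y y.2 w w.2)
    have h1 := commutator_pow_eq_one (p := p) hclC (fun x =>
      Subgroup.mem_center_iff.mpr fun w => Subtype.ext (hcpA x x.2 w w.2)) ⟨c, hc⟩ ⟨d, hd⟩
    exact congrArg Subtype.val h1
  have hccG : ∀ c ∈ C, ∀ d ∈ C, ⁅c, d⁆ ∈ Subgroup.center G := fun c hc d hd =>
    hZ₀c (hcc c hc d hd)
  have hmulpow : ∀ c ∈ C, ∀ d ∈ C, ∃ w ∈ Z₀, (c * d) ^ p = c ^ p * d ^ p * w ∧
      (p ≠ 2 → w = 1) := fun c hc d hd => by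
    refine ⟨⁅d, c⁆ ^ p.choose 2, Subgroup.pow_mem _ (hcc d hd c hc) _,
      mul_pow_of_central (hccG d hd c hc) p, fun h2 => ?_⟩
    obtain ⟨k, hk⟩ := dvd_choose_two hp h2
    rw [hk, pow_mul, hZ₀p _ (hcc d hd c hc), one_pow]
  -- orthogonality inside `C`
  have hAcC : ∀ H : Subgroup G, H ≤ C → A ≤ Subgroup.centralizer (H : Set G) := fun H hH =>
    Subgroup.centralizer_le hH
  have horth : ∀ H : Subgroup G, A ≤ H → H ≤ C →
      Nat.card ↥H * Nat.card ↥(C ⊓ Subgroup.centralizer (H : Set G)) =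
        Nat.card ↥C * Nat.card ↥A := by
    intro H hAH hHC
    have h1 := card_mul_card_inf_centralizer_mono Z₀ A C hZ₀c hZ₀card hgc hcc hcpA le_rfl hAH hHC
    have h2 := card_mul_card_inf_centralizer_mono Z₀ A C hZ₀c hZ₀card hgc hcc hcpA hAH hHC le_rfl
    rw [inf_eq_left.mpr (Subgroup.le_centralizer_iff.mp (hAcC C le_rfl)), mul_comm] at h1
    rw [← hAdef, inf_eq_right.mpr hAC] at h2
    exact le_antisymm h2 h1
  have hdc : ∀ H : Subgroup G, A ≤ H → H ≤ C → C ⊓ Subgroup.centralizer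
      ((C ⊓ Subgroup.centralizer (H : Set G) : Subgroup G) : Set G) = H := by
    intro H hAH hHC
    set D := C ⊓ Subgroup.centralizer (H : Set G)
    refine (Subgroup.eq_of_le_of_card_ge
      (le_inf hHC (Subgroup.le_centralizer_iff.mp inf_le_right)) (le_of_eq ?_)).symm
    refine Nat.eq_of_mul_eq_mul_left (Nat.card_pos (α := ↥D)) ?_
    rw [horth D (le_inf hAC (hAcC H hHC)) inf_le_left, ← horth H hAH hHC, mul_comm]
  have hAchar' : ∀ (φ : G ≃* G), ∀ x ∈ A, φ x ∈ A := fun φ x hx =>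
    Subgroup.characteristic_iff_map_le.mp hAchar φ (Subgroup.mem_map_of_mem _ hx)
  have hCchar' : ∀ (φ : G ≃* G), ∀ x ∈ C, φ x ∈ C := fun φ x hx =>
    Subgroup.characteristic_iff_map_le.mp hCchar φ (Subgroup.mem_map_of_mem _ hx)
  have hZchar : ∀ (φ : G ≃* G), ∀ x ∈ Z₀, φ x ∈ Z₀ := fun φ x hx =>
    hAp _ (hAchar' φ x (hZ₀A hx)) (by rw [← map_pow, hZ₀p x hx, map_one])
  set P₁ := Subgroup.zpowers (a ^ p) with hP₁
  have hP₁A : P₁ ≤ A := Subgroup.zpowers_le.mpr (A.pow_mem haA p)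
  have hP₁char : P₁.Characteristic := by
    rw [Subgroup.characteristic_iff_map_le]
    intro φ
    rw [MonoidHom.map_zpowers, Subgroup.zpowers_le]
    obtain ⟨i, hi⟩ := (ha.symm ▸ hAchar' φ a haA : φ a ∈ Subgroup.zpowers a)
    refine ⟨i, ?_⟩
    show (a ^ p) ^ i = φ (a ^ p)
    rw [map_pow, ← hi, ← zpow_natCast, ← zpow_natCast, ← zpow_mul, ← zpow_mul, mul_comm]
  have hP₁char' : ∀ (φ : G ≃* G), ∀ x ∈ P₁, φ x ∈ P₁ := fun φ x hx =>
    Subgroup.characteristic_iff_map_le.mp hP₁char φ (Subgroup.mem_map_of_mem _ hx)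
  have hZP : 2 ≤ n → Z₀ ≤ P₁ := fun h2 => by
    rw [← hpow, Subgroup.zpowers_le, show n - 1 = (n - 2) + 1 by omega, pow_succ', pow_mul]
    exact Subgroup.pow_mem _ (Subgroup.mem_zpowers _) _
  -- Step 2: `C^p ⊆ ⟨a^p⟩`
  have hroot : (p ≠ 2 ∨ 2 ≤ n) → ∀ c ∈ C, c ^ p ∈ P₁ := by
    intro hcase
    have hw : ∀ c ∈ C, ∀ d ∈ C, ∃ w ∈ P₁, (c * d) ^ p = c ^ p * d ^ p * w := fun c hc d hd => by
      obtain ⟨w, hwZ, hwe, hw1⟩ := hmulpow c hc d hd
      refine ⟨w, ?_, hwe⟩
      rcases hcase with h | h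
      · rw [hw1 h]; exact one_mem _
      · exact hZP h hwZ
    let K : Subgroup G :=
      { carrier := {c | c ∈ C ∧ c ^ p ∈ P₁}
        mul_mem' := fun {c d} hc hd => by
          refine ⟨C.mul_mem hc.1 hd.1, ?_⟩
          obtain ⟨w, hwP, hwe⟩ := hw c hc.1 d hd.1
          rw [hwe]
          exact P₁.mul_mem (P₁.mul_mem hc.2 hd.2) hwP
        one_mem' := ⟨one_mem _, by rw [one_pow]; exact one_mem _⟩
        inv_mem' := fun {c} hc => ⟨C.inv_mem hc.1, by rw [inv_pow]; exact P₁.inv_mem hc.2⟩ }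
    by_contra hne
    obtain ⟨c₀, hc₀, hc₀P⟩ : ∃ c ∈ C, c ^ p ∉ P₁ := by simpa only [not_forall, exists_prop] using hne
    have hKC : K ≤ C := fun x hx => hx.1
    have hAK : A ≤ K := fun x hx => by
      refine ⟨hAC hx, ?_⟩
      rw [← ha] at hx
      obtain ⟨i, rfl⟩ := hx
      exact ⟨i, by simp only [← zpow_natCast, ← zpow_mul, mul_comm]⟩
    have hKchar : K.Characteristic := by
      rw [Subgroup.characteristic_iff_map_le]
      rintro φ _ ⟨x, hx, rfl⟩
      refine ⟨hCchar' φ x hx.1, ?_⟩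
      show φ x ^ p ∈ P₁
      rw [← map_pow]
      exact hP₁char' φ _ hx.2
    obtain ⟨k, hkD, hkA⟩ : ∃ k ∈ C ⊓ Subgroup.centralizer (K : Set G), k ∉ A := by
      by_contra! hall
      have h1 := horth K hAK hKC
      rw [le_antisymm hall (le_inf hAC (hAcC K hKC))] at h1
      exact hc₀P ((Subgroup.eq_of_le_of_card_ge hKC
        (Nat.eq_of_mul_eq_mul_right Nat.card_pos h1).ge).symm ▸ hc₀ : c₀ ∈ K).2
    by_cases hkK : k ^ p ∈ P₁
    · obtain ⟨w, hwk⟩ := hkK
      simp only at hwk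
      have hy : a ^ (-w) ∈ A := A.zpow_mem haA _
      have hyC : Commute k (a ^ (-w)) := hcA hy k hkD.1
      set y := k * a ^ (-w) with hydef
      have hyp : y ^ p = 1 := by
        rw [hydef, hyC.mul_pow, ← hwk, ← zpow_natCast, ← zpow_natCast (a ^ (-w)), ← zpow_mul,
          ← zpow_mul, ← zpow_add]
        rw [show (p : ℤ) * w + -w * p = 0 by ring, zpow_zero]
      have hyA : y ∉ A := fun h => hkA ((A.mul_mem_cancel_right hy).mp h)
      have hkK' : k ∈ K := ⟨hkD.1, w, hwk⟩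
      have hyB : y ∈ K ⊓ Subgroup.centralizer (K : Set G) :=
        ⟨K.mul_mem hkK' (hAK hy), Subgroup.mul_mem _ hkD.2 (hAcC K hKC hy)⟩
      have hB := hsymp _ (inf_centralizer_characteristic K)
        (isMulCommutative_of_forall fun x hx y hy => (hx.2 y hy.1).symm)
      exact hyA (hZ₀A (mem_zpowers_of_isCyclic hG hB hyB hyp
        ⟨hAK hzA, hAcC K hKC hzA⟩ hzo))
    · refine hkA ?_
      intro c hc
      obtain ⟨j, hj⟩ := (ha.symm ▸ hcpA k hkD.1 : k ^ p ∈ Subgroup.zpowers a)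
      obtain ⟨l, hl⟩ := (ha.symm ▸ hcpA c hc : c ^ p ∈ Subgroup.zpowers a)
      simp only at hj hl
      have hjp : ¬ (p : ℤ) ∣ j := fun ⟨q, hq⟩ => hkK ⟨q, by
        show (a ^ p) ^ q = k ^ p
        rw [← hj, hq, zpow_mul, zpow_natCast]⟩
      obtain ⟨u, v, huv⟩ := (Nat.prime_iff_prime_int.mp hp).coprime_iff_not_dvd.mpr hjp
      set i := l * v with hidef
      have hcK : c * k ^ (-i) ∈ K := by
        refine ⟨C.mul_mem hc (C.zpow_mem hkD.1 _), ?_⟩
        obtain ⟨w, hwP, hwe⟩ := hw c hc _ (C.zpow_mem hkD.1 (-i))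
        rw [hwe]
        refine P₁.mul_mem ⟨l * u, ?_⟩ hwP
        show (a ^ p) ^ (l * u) = c ^ p * (k ^ (-i)) ^ p
        have h1 : (k ^ (-i)) ^ p = a ^ (j * -i) := by
          rw [← zpow_natCast, ← zpow_mul, mul_comm, zpow_mul, zpow_natCast, ← hj, ← zpow_mul]
        have h2 : (a ^ p) ^ (l * u) = a ^ ((p : ℤ) * (l * u)) := by
          rw [← zpow_natCast a p, ← zpow_mul]
        rw [h1, h2, ← hl, ← zpow_add, hidef]
        congr 1
        linear_combination l * huv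
      have hcom : Commute (c * k ^ (-i)) k := hkD.2 _ hcK
      have := hcom.mul_left ((Commute.refl k).zpow_left i)
      rwa [mul_assoc, ← zpow_add, neg_add_cancel, zpow_zero, mul_one] at this
  -- `W`
  let W : Subgroup G :=
    { carrier := {e | e ∈ C ∧ e ^ p ∈ Z₀ ∧ (p ≠ 2 → e ^ p = 1)}
      mul_mem' := fun {c d} hc hd => by
        obtain ⟨w, hwZ, hwe, hw1⟩ := hmulpow c hc.1 d hd.1
        refine ⟨C.mul_mem hc.1 hd.1, ?_, fun h => ?_⟩
        · rw [hwe]; exact Z₀.mul_mem (Z₀.mul_mem hc.2.1 hd.2.1) hwZ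
        · rw [hwe, hc.2.2 h, hd.2.2 h, hw1 h, one_mul, one_mul]
      one_mem' := ⟨one_mem _, by rw [one_pow]; exact one_mem _, fun _ => one_pow p⟩
      inv_mem' := fun {c} hc => ⟨C.inv_mem hc.1, by rw [inv_pow]; exact Z₀.inv_mem hc.2.1,
        fun h => by rw [inv_pow, hc.2.2 h, inv_one]⟩ }
  have hWC : W ≤ C := fun x hx => hx.1
  have hZW : Z₀ ≤ W := fun x hx =>
    ⟨hAC (hZ₀A hx), (hZ₀p x hx).symm ▸ one_mem _, fun _ => hZ₀p x hx⟩
  have hWchar : W.Characteristic := by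
    rw [Subgroup.characteristic_iff_map_le]
    rintro φ _ ⟨x, ⟨hxC, hxZ, hx1⟩, rfl⟩
    refine ⟨hCchar' φ x hxC, ?_, fun h => ?_⟩
    · show φ x ^ p ∈ Z₀
      rw [← map_pow]
      exact hZchar φ _ hxZ
    · show φ x ^ p = 1
      rw [← map_pow, hx1 h, map_one]
  have hCW : ∀ c ∈ C, ∃ x ∈ A, c * x ∈ W := by
    intro c hc
    by_cases hcase : p ≠ 2 ∨ 2 ≤ n
    · obtain ⟨w, hw⟩ := hroot hcase c hc
      simp only at hw
      refine ⟨a ^ (-w), A.zpow_mem haA _, C.mul_mem hc (hAC (A.zpow_mem haA _)), ?_⟩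
      have h1 : (c * a ^ (-w)) ^ p = 1 := by
        rw [(show Commute c (a ^ (-w)) from hcA (A.zpow_mem haA _) c hc).mul_pow, ← hw,
          ← zpow_natCast, ← zpow_natCast (a ^ (-w)), ← zpow_mul, ← zpow_mul, ← zpow_add,
          show (p : ℤ) * w + -w * p = 0 by ring, zpow_zero]
      exact ⟨h1 ▸ one_mem _, fun _ => h1⟩
    · obtain ⟨hp2, hn2⟩ := not_or.mp hcase
      refine ⟨1, one_mem _, ?_⟩
      rw [mul_one]
      refine ⟨hc, hAp _ (hcpA c hc) ?_, fun h => absurd h hp2⟩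
      obtain ⟨i, hi⟩ := (ha.symm ▸ hcpA c hc : c ^ p ∈ Subgroup.zpowers a)
      simp only at hi
      rw [← hi, ← zpow_natCast, ← zpow_mul, mul_comm, zpow_mul, zpow_natCast,
        show p = orderOf a by rw [hn, show n = 1 by omega, pow_one], pow_orderOf_eq_one, one_zpow]
  have hWG : ∀ g : G, ∀ e ∈ W, ⁅g, e⁆ ∈ Z₀ := by
    intro g e he
    refine hAp _ (hgc g e he.1) ?_
    set x := ⁅g, e⁆ with hx
    have hxe : Commute x e := (hcA (hgc g e he.1) e he.1).symm
    have h1 : g * e * g⁻¹ = x * e := by rw [hx, commutatorElement_def]; group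
    have h2 : (x * e) ^ p = e ^ p := by
      rw [← h1, conj_pow, Subgroup.mem_center_iff.mp (hZ₀c he.2.1) g, mul_inv_cancel_right]
    rwa [hxe.mul_pow, mul_eq_right] at h2
  -- `E`
  obtain ⟨E, ⟨hZE, hEW, hEinf⟩, hEmax⟩ := (Set.toFinite {E : Subgroup G |
      Z₀ ≤ E ∧ E ≤ W ∧ E ⊓ Subgroup.centralizer (E : Set G) ≤ Z₀}).exists_maximal
    ⟨Z₀, le_rfl, hZW, inf_le_left⟩
  have hEC : E ≤ C := hEW.trans hWC
  have hnorm : ∀ F : Subgroup G, Z₀ ≤ F → F ≤ W → F.Normal := fun F hZF hFW =>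
    Subgroup.commutator_top_left_le_iff.mp
      (Subgroup.commutator_le.mpr fun g _ e he => hZF (hWG g e (hFW he)))
  have hEn : E.Normal := hnorm E hZE hEW
  have hEA : E ⊔ A = C := by
    have hH : E ⊔ A ≤ C := sup_le hEC hAC
    set D := C ⊓ Subgroup.centralizer ((E ⊔ A : Subgroup G) : Set G) with hD
    by_cases hDA : D ≤ A
    · have h1 := horth (E ⊔ A) le_sup_right hH
      rw [← hD, le_antisymm hDA (le_inf hAC (hAcC _ hH))] at h1
      exact Subgroup.eq_of_le_of_card_ge hH (Nat.eq_of_mul_eq_mul_right Nat.card_pos h1).ge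
    exfalso
    obtain ⟨x₀, hx₀, hx₀A⟩ := SetLike.not_le_iff_exists.mp hDA
    obtain ⟨x, hx, he⟩ := hCW x₀ hx₀.1
    set e := x₀ * x
    have hAD : A ≤ D := le_inf hAC (hAcC _ hH)
    have heD : e ∈ D := D.mul_mem hx₀ (hAD hx)
    have heA : e ∉ A := fun h => hx₀A ((A.mul_mem_cancel_right hx).mp h)
    have heE : ∀ u ∈ E, Commute u e := fun u hu => heD.2 u (Subgroup.mem_sup_left hu)
    obtain ⟨c, hcD, hec⟩ : ∃ c ∈ D, ¬ Commute c e := by
      by_contra! hall
      have h1 : e ∈ E ⊔ A := hdc (E ⊔ A) le_sup_right hH ▸ ⟨heD.1, fun c hc => hall c hc⟩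
      obtain ⟨u, hu, v, hv, huv⟩ := Subgroup.mem_sup_of_normal_left.mp h1
      refine heA (huv ▸ A.mul_mem (hZ₀A (hEinf ⟨hu, fun y hy => ?_⟩)) hv)
      have h2 : Commute y (u * v * v⁻¹) :=
        (huv.symm ▸ heE y hy).mul_right ((hAcC E hEC (A.inv_mem hv)) y hy)
      rwa [mul_inv_cancel_right] at h2
    obtain ⟨x', hx', hd⟩ := hCW c hcD.1
    set d := c * x'
    have hdD : d ∈ D := D.mul_mem hcD (hAD hx')
    have hdE : ∀ u ∈ E, Commute u d := fun u hu => hdD.2 u (Subgroup.mem_sup_left hu)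
    have hde : ¬ Commute d e := fun h => hec (by
      simpa [d] using h.mul_left (show Commute x'⁻¹ e from (hcA (A.inv_mem hx') e he.1).symm))
    have hdiv : ∀ x y : G, x ∈ W → y ∈ W → ¬ Commute x y → ∀ j : ℤ, Commute (x ^ j) y →
        x ^ j ∈ Z₀ := by
      intro x y hx hy hxy j hj
      have h1 := hcc x hx.1 y hy.1
      rw [← commutatorElement_eq_one_iff_commute, commutator_zpow_left (hZ₀c h1),
        ← orderOf_dvd_iff_zpow_eq_one, orderOf_eq_prime (hZ₀p _ h1)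
          (fun h => hxy (commutatorElement_eq_one_iff_commute.mp h))] at hj
      obtain ⟨q, rfl⟩ := hj
      rw [zpow_mul, zpow_natCast]
      exact Z₀.zpow_mem hx.2.1 q
    have hF : E ⊔ Subgroup.zpowers e ⊔ Subgroup.zpowers d ≤ W :=
      sup_le (sup_le hEW (Subgroup.zpowers_le.mpr he)) (Subgroup.zpowers_le.mpr hd)
    have hmem : E ⊔ Subgroup.zpowers e ⊔ Subgroup.zpowers d ≤ E := by
      refine hEmax ⟨hZE.trans (le_sup_left.trans le_sup_left), hF, ?_⟩ (le_sup_left.trans le_sup_left)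
      rintro v ⟨hvF, hvC⟩
      have : (E ⊔ Subgroup.zpowers e).Normal :=
        hnorm _ (hZE.trans le_sup_left) (le_sup_left.trans hF)
      obtain ⟨r, hr, s, hs, rfl⟩ := Subgroup.mem_sup_of_normal_left.mp hvF
      obtain ⟨u, hu, t, ht, rfl⟩ := Subgroup.mem_sup_of_normal_left.mp hr
      obtain ⟨i, rfl⟩ := ht
      obtain ⟨j, rfl⟩ := hs
      simp only at hvC ⊢
      have hve : Commute e (u * e ^ i * d ^ j) :=
        hvC e (Subgroup.mem_sup_left (Subgroup.mem_sup_right (Subgroup.mem_zpowers e)))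
      have hvd : Commute d (u * e ^ i * d ^ j) :=
        hvC d (Subgroup.mem_sup_right (Subgroup.mem_zpowers d))
      have h1 : d ^ j ∈ Z₀ := hdiv d e hd he hde j (by
        have h2 := (((heE u hu).symm.mul_right ((Commute.refl e).zpow_right i)).inv_right).mul_right hve
        rw [inv_mul_cancel_left] at h2
        exact h2.symm)
      have h2 : e ^ i ∈ Z₀ := hdiv e d he hd (fun h => hde h.symm) i (by
        have h3 := ((hdE u hu).symm.inv_right).mul_right
          (hvd.mul_right ((Commute.refl d).zpow_right j).inv_right)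
        rw [mul_inv_cancel_right, inv_mul_cancel_left] at h3
        exact h3.symm)
      have h4 : u * e ^ i * d ^ j ∈ E := E.mul_mem (E.mul_mem hu (hZE h2)) (hZE h1)
      exact hEinf ⟨h4, fun y hy => hvC y (Subgroup.mem_sup_left (Subgroup.mem_sup_left hy))⟩
    have heE' : e ∈ E := hmem (Subgroup.mem_sup_left (Subgroup.mem_sup_right (Subgroup.mem_zpowers e)))
    exact heA (hZ₀A (hEinf ⟨heE', fun y hy => heE y hy⟩))
  -- `G = E R`
  set R := Subgroup.centralizer (E : Set G) with hRdef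
  have hEcen : E ⊓ R ≤ Subgroup.center G := hEinf.trans hZ₀c
  have hcomm : ∀ e ∈ E, ∀ r ∈ R, e * r = r * e := fun e he r hr => hr e he
  have hsup : E ⊔ R = ⊤ := by
    by_cases hEZ : E ≤ Z₀
    · have hRtop : R = ⊤ := Subgroup.centralizer_eq_top_iff_subset.mpr (hEZ.trans hZ₀c)
      rw [hRtop, sup_top_eq]
    · refine sup_centralizer_eq_top E (isExtraspecial_subgroup_of hG E Z₀ hZE hZ₀card hZ₀c hEinf hEZ
        (fun x hx y hy => hWG x y (hEW hy)) fun x hx => (hEW hx).2.1) hEcen ?_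
      exact (Subgroup.commutator_le.mpr fun g _ e he => hWG g e (hEW he)).trans
        (le_inf hZE fun w hw e _ => Subgroup.mem_center_iff.mp (hZ₀c hw) e)
  suffices hR : (IsExtraspecial p ↥(⊤ : Subgroup G)) ∨ (IsCyclic ↥R ∨ (p = 2 ∧ 16 ≤ Nat.card R ∧
      ((∃ m : ℕ, Nonempty (↥R ≃* DihedralGroup m)) ∨ (∃ m : ℕ, Nonempty (↥R ≃* QuaternionGroup m)) ∨
        IsQuasiDihedral ↥R))) by
    rcases hR with hx | hR
    · refine ⟨⊤, ⊥, fun e _ r hr => ?_, top_sup_eq _, Or.inr ?_, Or.inl inferInstance⟩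
      · rw [Subgroup.mem_bot.mp hr, mul_one, one_mul]
      · exact hx
    · by_cases hEZ : E ≤ Z₀
      · exact ⟨⊥, R, fun e he r _ => by rw [Subgroup.mem_bot.mp he, mul_one, one_mul], by
          rw [bot_sup_eq]
          exact Subgroup.centralizer_eq_top_iff_subset.mpr (hEZ.trans hZ₀c), Or.inl rfl, hR⟩
      · exact ⟨E, R, hcomm, hsup, Or.inr (isExtraspecial_subgroup_of hG E Z₀ hZE hZ₀card hZ₀c hEinf
          hEZ (fun x hx y hy => hWG x y (hEW hy)) fun x hx => (hEW hx).2.1), hR⟩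
  have hAR : A ≤ R := hAcC E hEC
  have hAn : (Subgroup.zpowers a).Normal := by rw [ha]; infer_instance
  have hRa : ∀ r ∈ R, Commute r a → r ∈ A := by
    intro r hr hra c hc
    rw [← hEA] at hc
    obtain ⟨u, hu, v, hv, rfl⟩ := Subgroup.mem_sup_of_normal_left.mp hc
    obtain ⟨i, rfl⟩ := (ha.symm ▸ hv : v ∈ Subgroup.zpowers a)
    exact (show Commute u r from hr u hu).mul_left (hra.symm.zpow_left i)
  rcases eq_or_lt_of_le hAR with hEq | hlt
  · exact Or.inr (Or.inl (hEq ▸ hsymp A hAchar hAab))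
  obtain ⟨r₀, hr₀, hr₀A⟩ := SetLike.exists_of_lt hlt
  have hn2 : 2 ≤ n := by
    by_contra h1
    refine hr₀A (hRa r₀ hr₀ ?_)
    have hA1 : Subgroup.zpowers a = Z₀ := by
      rw [← hpow, show n - 1 = 0 by omega, pow_zero, pow_one]
    exact Subgroup.mem_center_iff.mp (hZ₀c (hA1 ▸ Subgroup.mem_zpowers a)) r₀
  -- the picture inside `R`
  set aR : ↥R := ⟨a, hAR haA⟩ with haR
  have hoR : orderOf aR = p ^ n := by rw [haR, Subgroup.orderOf_mk, hn]
  have hzR : ∀ x : ↥R, x ∈ Subgroup.zpowers aR ↔ (x : G) ∈ A := fun x => by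
    rw [← ha, ← Subgroup.mem_map_iff_mem (f := R.subtype) R.subtype_injective,
      MonoidHom.map_zpowers]
    rfl
  have hnR : (Subgroup.zpowers aR).Normal := ⟨fun x hx g => (hzR _).mpr (by
    rw [← ha] at *
    simpa using hAn.conj_mem _ (ha ▸ (hzR x).mp hx) (g : G))⟩
  have hself : Subgroup.centralizer (Subgroup.zpowers aR : Set ↥R) = Subgroup.zpowers aR := by
    refine le_antisymm (fun x hx => (hzR x).mpr (hRa x x.2 ?_)) ?_
    · exact congrArg Subtype.val (hx aR (Subgroup.mem_zpowers aR)).symm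
    · exact le_centralizer_of_isMulCommutative inferInstance
  have hneR : Subgroup.zpowers aR ≠ ⊤ := fun h =>
    hr₀A ((hzR ⟨r₀, hr₀⟩).mp (h ▸ Subgroup.mem_top _))
  by_cases hspec : p = 2 ∧ n = 2
  · obtain ⟨rfl, rfl⟩ := hspec
    left
    have hA4 : ∀ x ∈ A, ∀ r : G, Commute r x → r ∈ R → r ∉ A → x ∈ Z₀ := by
      intro x hx r hrx hr hrA
      rw [← ha] at hx
      obtain ⟨i, rfl⟩ := hx
      simp only at hrx ⊢
      rcases Int.emod_two_eq_zero_or_one i with hi | hi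
      · obtain ⟨q, rfl⟩ : ∃ q, i = 2 * q := ⟨i / 2, by omega⟩
        rw [← hpow, zpow_mul]
        exact ⟨q, by norm_num⟩
      · obtain ⟨q, rfl⟩ : ∃ q, i = 2 * q + 1 := ⟨i / 2, by omega⟩
        refine absurd (hRa r hr ?_) hrA
        have h2 : Commute r (a ^ (2 * q)) := by
          refine Subgroup.mem_center_iff.mp (hZ₀c ?_) r
          rw [← hpow, zpow_mul]
          exact ⟨q, by norm_num⟩
        have := h2.inv_right.mul_right hrx
        rwa [← zpow_neg, ← zpow_add, show -(2 * q) + (2 * q + 1) = (1 : ℤ) by ring, zpow_one] at this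
    have hR2 : ∀ r ∈ R, r ^ 2 ∈ Z₀ := by
      intro r hr
      by_cases hrA : r ∈ A
      · refine hAp _ (A.pow_mem hrA 2) ?_
        obtain ⟨i, rfl⟩ := (ha.symm ▸ hrA : r ∈ Subgroup.zpowers a)
        rw [← pow_mul, ← zpow_natCast, ← zpow_mul, mul_comm, zpow_mul, zpow_natCast,
          show 2 * 2 = orderOf a by rw [hn]; norm_num, pow_orderOf_eq_one, one_zpow]
      · refine hA4 _ ?_ r ((Commute.refl r).pow_right 2) hr hrA
        have h1 := relIndex_centralizer_pow_le (by omega : 1 ≤ 2) hoR hnR hself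
        have htop : Subgroup.centralizer ({aR ^ 2} : Set ↥R) = ⊤ := by
          rw [eq_top_iff]
          intro x _
          refine Subgroup.mem_centralizer_singleton_iff.mpr (Subtype.ext ?_)
          have h2 : a ^ 2 ∈ Z₀ := hpow ▸ (by norm_num)
          exact Subgroup.mem_center_iff.mp (hZ₀c h2) x
        rw [htop, Subgroup.relIndex_top_right] at h1
        have hne1 : (Subgroup.zpowers aR).index ≠ 1 := fun h => hneR (Subgroup.index_eq_one.mp h)
        have hne0 : (Subgroup.zpowers aR).index ≠ 0 := Subgroup.index_ne_zero_of_finite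
        have h3 := pow_mem_of_index_eq (p := 2) (Subgroup.zpowers aR) (by omega) ⟨r, hr⟩
        exact (hzR _).mp h3
    have hsq : ∀ g : G, g ^ 2 ∈ Z₀ := by
      intro g
      obtain ⟨e, he, r, hr, rfl⟩ := Subgroup.mem_sup_of_normal_left.mp
        (hsup ▸ Subgroup.mem_top g : g ∈ E ⊔ R)
      rw [(show Commute e r from hcomm e he r hr).mul_pow]
      exact Z₀.mul_mem (hEW he).2.1 (hR2 r hr)
    have hZeq : Subgroup.center G = Z₀ := by
      refine le_antisymm (fun w hw => hA4 w (hZA hw) r₀ ?_ hr₀ hr₀A) hZ₀c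
      exact Subgroup.mem_center_iff.mp hw r₀
    refine isExtraspecial_subgroup_of hG ⊤ Z₀ le_top hZ₀card hZ₀c ?_ ?_ (fun g _ h _ => ?_)
      fun g _ => hsq g
    · rw [Subgroup.coe_top, Subgroup.centralizer_univ, top_inf_eq, hZeq]
    · exact fun h => hr₀A (hZ₀A (h (Subgroup.mem_top r₀)))
    · rw [show ⁅g, h⁆ = g ^ 2 * (g⁻¹ * h) ^ 2 * (h ^ 2)⁻¹ by
        rw [commutatorElement_def]; simp [sq, mul_assoc]]
      exact Z₀.mul_mem (Z₀.mul_mem (hsq g) (hsq _)) (Z₀.inv_mem (hsq h))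
  right; right
  -- `M = R ∩ C(a^p)` is characteristic
  have hWle : W ≤ E ⊔ P₁ := by
    intro w hw
    obtain ⟨u, hu, x, hx, rfl⟩ := Subgroup.mem_sup_of_normal_left.mp (hEA.symm ▸ hw.1 : w ∈ E ⊔ A)
    refine Subgroup.mul_mem _ (Subgroup.mem_sup_left hu) ?_
    have hxW : x ∈ W := (W.mul_mem_cancel_left (hEW hu)).mp hw
    by_cases h2 : p = 2
    · subst h2
      refine Subgroup.mem_sup_right ?_
      have h4 := hZ₀p _ hxW.2.1
      obtain ⟨i, rfl⟩ := (ha.symm ▸ hx : x ∈ Subgroup.zpowers a)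
      simp only at h4 ⊢
      rw [← pow_mul, ← zpow_natCast, ← zpow_mul, ← orderOf_dvd_iff_zpow_eq_one, hn] at h4
      push_cast at h4
      have h8 : (8 : ℤ) ∣ i * 4 := (show (8 : ℤ) ∣ 2 ^ n from ⟨2 ^ (n - 3), by
        rw [show (8 : ℤ) = 2 ^ 3 by norm_num, ← pow_add]; congr 1
        have : n ≠ 2 := fun h => hspec ⟨rfl, h⟩
        omega⟩).trans (by simpa using h4)
      obtain ⟨q, rfl⟩ : ∃ q, i = 2 * q := ⟨i / 2, by omega⟩
      exact ⟨q, by show (a ^ 2) ^ q = _; rw [← zpow_natCast, ← zpow_mul]; norm_num⟩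
    · exact Subgroup.mem_sup_left (hZE (hAp x hx (hxW.2.2 h2)))
  set M := R ⊓ Subgroup.centralizer (P₁ : Set G) with hMdef
  have hMeq : M = Subgroup.centralizer (W : Set G) ⊓ Subgroup.centralizer (P₁ : Set G) := by
    refine le_antisymm (le_inf ?_ inf_le_right) (inf_le_inf_right _ (Subgroup.centralizer_le hEW))
    refine Subgroup.le_centralizer_iff.mp (hWle.trans (sup_le ?_ ?_))
    · exact Subgroup.le_centralizer_iff.mp inf_le_left
    · exact Subgroup.le_centralizer_iff.mp inf_le_right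
  have hMchar : M.Characteristic := by
    rw [hMeq, Subgroup.characteristic_iff_map_le]
    intro φ
    exact (Subgroup.map_inf_le _ _ _).trans (inf_le_inf
      (Subgroup.characteristic_iff_map_le.mp inferInstance φ)
      (Subgroup.characteristic_iff_map_le.mp inferInstance φ))
  have hmemM : ∀ x : ↥R, x ∈ Subgroup.centralizer ({aR ^ p} : Set ↥R) ↔ (x : G) ∈ M := by
    intro x
    rw [Subgroup.mem_centralizer_singleton_iff, hMdef, hP₁, Subgroup.mem_inf,
      and_iff_right x.2]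
    constructor
    · rintro h _ ⟨i, rfl⟩
      exact (((show Commute (x : G) (a ^ p) from congrArg Subtype.val h)).zpow_right i).symm
    · exact fun h => Subtype.ext (h _ (Subgroup.mem_zpowers _)).symm
  have hAM : A ≤ M := le_inf hAR (hAcC P₁ (hP₁A.trans hAC))
  by_cases hMA : M ≤ A
  · have hMR : Subgroup.centralizer ({aR ^ p} : Set ↥R) = Subgroup.zpowers aR := by
      ext x
      rw [hmemM, hzR]
      exact ⟨fun h => hMA h, fun h => hAM h⟩
    obtain ⟨rfl, hidx⟩ := index_two_of_centralizer_pow_eq (hG.to_subgroup R) hn2 hoR hnR hneR hMR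
    have hn3 : 3 ≤ n := by
      have : n ≠ 2 := fun h => hspec ⟨rfl, h⟩
      omega
    exact ⟨rfl, maximal_class_of_centralizer_sq hn3 hoR hidx hMR⟩
  exfalso
  obtain ⟨m₀, hm₀, hm₀A⟩ := SetLike.not_le_iff_exists.mp hMA
  have hcyc : IsCyclic ↥(A.subgroupOf M) :=
    have := hsymp A hAchar hAab
    isCyclic_of_injective (Subgroup.subgroupOfEquivOfLe hAM).toMonoidHom
      (Subgroup.subgroupOfEquivOfLe hAM).injective
  have hrel := relIndex_centralizer_pow_le hn1 hoR hnR hself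
  have hMR : Subgroup.centralizer ({aR ^ p} : Set ↥R) = M.subgroupOf R := by
    ext x; rw [hmemM, Subgroup.mem_subgroupOf]
  have hzAR : Subgroup.zpowers aR = A.subgroupOf R := by
    ext x; rw [hzR, Subgroup.mem_subgroupOf]
  rw [hMR, hzAR, Subgroup.relIndex_subgroupOf inf_le_left] at hrel
  have hcardA : Nat.card ↥(A.subgroupOf M) = p ^ n := by
    rw [Nat.card_congr (Subgroup.subgroupOfEquivOfLe hAM).toEquiv, ← ha, Nat.card_zpowers, hn]
  have hidx : (A.subgroupOf M).index = p := by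
    obtain ⟨k, hk⟩ := index_eq_pow (hG.to_subgroup M) (A.subgroupOf M)
    have hk0 : k ≠ 0 := fun h0 => hm₀A (by
      have h1 : A.subgroupOf M = ⊤ := Subgroup.index_eq_one.mp (by rw [hk, h0, pow_zero])
      exact Subgroup.subgroupOf_eq_top.mp h1 hm₀)
    rw [Subgroup.relIndex, hk] at hrel
    have h3 : k ≤ 1 := by
      refine (Nat.pow_le_pow_iff_right hp.one_lt).mp ?_
      rwa [pow_one]
    rw [hk, show k = 1 by omega, pow_one]
  have hcardM : Nat.card ↥M = p ^ (n + 1) := by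
    rw [← Subgroup.card_mul_index (A.subgroupOf M), hcardA, hidx, pow_succ]
  have hna : ∃ x y : ↥M, x * y ≠ y * x :=
    ⟨⟨m₀, hm₀⟩, ⟨a, hAM haA⟩, fun h => hm₀A (hRa m₀ hm₀.1 (congrArg Subtype.val h))⟩
  have hcen : ∀ c ∈ A.subgroupOf M, c ^ p ∈ Subgroup.center ↥M := by
    intro c hc
    obtain ⟨i, hi⟩ := (ha.symm ▸ hc : (c : G) ∈ Subgroup.zpowers a)
    refine Subgroup.mem_center_iff.mpr fun g => Subtype.ext ?_
    have h1 : Commute (g : G) ((a ^ p) ^ i) :=
      ((show Commute (a ^ p) (g : G) from g.2.2 _ (Subgroup.mem_zpowers _)).symm).zpow_right i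
    simp only at hi
    show (g : G) * (c : G) ^ p = (c : G) ^ p * (g : G)
    rw [← hi, ← zpow_natCast, ← zpow_mul, mul_comm i, zpow_mul, zpow_natCast]
    exact h1.eq
  obtain ⟨hel, hcardO⟩ := omegaOne_modular hn2 (fun h => by
    have : n ≠ 2 := fun h2 => hspec ⟨h, h2⟩
    omega) hcardM _ hcyc hidx hna hcen
  have hmap : omegaOne p M = (omegaOne p (⊤ : Subgroup ↥M)).map M.subtype := by
    rw [map_omegaOne_of_injective M.subtype_injective, ← MonoidHom.range_eq_map,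
      Subgroup.range_subtype]
  have helG : IsElementaryAbelian p (omegaOne p M) := hmap ▸ isElementaryAbelian_map hel M.subtype
  obtain ⟨g, hg⟩ := (Subgroup.isCyclic_iff_exists_zpowers_eq_top _).mp
    (hsymp (omegaOne p M) (omegaOne_characteristic M) helG.1)
  have hgp : g ^ p = 1 := helG.2 g (hg ▸ Subgroup.mem_zpowers g)
  have hle := Nat.le_of_dvd hp.pos (orderOf_dvd_of_pow_eq_one hgp)
  rw [← Nat.card_zpowers, hg, hmap, Subgroup.card_map_of_injective M.subtype_injective, hcardO,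
    sq] at hle
  nlinarith [hp.two_le]

end Cfsg.Agent.PGroup
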