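import Cfsg.Agent.Lib.PGroup.Basic
import Cfsg.Agent.Lib.PGroup.ElementaryAbelian
import Cfsg.Prelude.Def_PLocal

/-!
An abelian subgroup of largest order of a finite `p`-group not centralizing the normal abelian
subgroup `V` yields an element of order `p` modulo `C(V)` fixing the `p`-th powers of `V`.
-/

set_option autoImplicit false

namespace Cfsg.Agent.PGroup

open scoped commutatorElement

variable {M : Type*} [Group M] [Finite M] {p : ℕ} [hp : Fact p.Prime]

/-- One replacement step: some abelian subgroup of largest order outside `C(V)` meets `V` in more,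
unless all commutators of `V` with `A` lie in `A`. -/
theorem replacement_step (hM : IsPGroup p M) (V : Subgroup M) [V.Normal]
    (hV : ∀ u ∈ V, ∀ v ∈ V, u * v = v * u) {A : Subgroup M} (hA : A ∈ maxAbelianSubgroups M)
    {v : M} (hv : v ∈ V) {a0 : M} (ha0 : a0 ∈ A)
    (hnot : v⁻¹ * (a0 * v * a0⁻¹) ∉ A) :
    ∃ B ∈ maxAbelianSubgroups M, ¬ B ≤ Subgroup.centralizer (V : Set M) ∧
      Nat.card ↥(A ⊓ V) < Nat.card ↥(B ⊓ V) := by
  have hAc : ∀ a ∈ A, ∀ b ∈ A, a * b = b * a := fun a ha b hb =>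
    mul_comm_of_isMulCommutative hA.1 ha hb
  set m : M → M := fun a => v⁻¹ * (a * v * a⁻¹) with hm
  have hmV : ∀ a, m a ∈ V := fun a =>
    V.mul_mem (V.inv_mem hv) (Subgroup.Normal.conj_mem inferInstance v hv a)
  set L : Subgroup M := Subgroup.closure (m '' (A : Set M)) with hL
  have hLV : L ≤ V := (Subgroup.closure_le _).2 (by rintro _ ⟨a, -, rfl⟩; exact hmV a)
  set C : Subgroup M := A ⊓ Subgroup.centralizer (L : Set M) with hC
  have hcommLC : ∀ l ∈ L, ∀ c ∈ C, l * c = c * l := fun l hl c hc =>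
    Subgroup.mem_centralizer_iff.1 hc.2 l hl
  set B : Subgroup M := L ⊔ C with hB
  have hBc : IsMulCommutative B := by
    refine isMulCommutative_of_forall ?_
    have h : B ≤ Subgroup.centralizer (B : Set M) := by
      refine sup_le ?_ ?_
      · intro l hl
        refine Subgroup.mem_centralizer_iff.2 fun b hb => ?_
        have : B ≤ Subgroup.centralizer {l} := sup_le
          (fun l' hl' => Subgroup.mem_centralizer_singleton_iff.2 (hV l' (hLV hl') l (hLV hl)))
          (fun c hc => Subgroup.mem_centralizer_singleton_iff.2 (hcommLC l hl c hc).symm)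
        exact Subgroup.mem_centralizer_singleton_iff.1 (this hb)
      · intro c hc
        refine Subgroup.mem_centralizer_iff.2 fun b hb => ?_
        have : B ≤ Subgroup.centralizer {c} := sup_le
          (fun l hl => Subgroup.mem_centralizer_singleton_iff.2 (hcommLC l hl c hc))
          (fun c' hc' => Subgroup.mem_centralizer_singleton_iff.2 (hAc c' hc'.1 c hc.1))
        exact Subgroup.mem_centralizer_singleton_iff.1 (this hb)
    exact fun a ha b hb => (Subgroup.mem_centralizer_iff.1 (h ha) b hb).symm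
  have hCB : C ≤ B := le_sup_right
  -- the injection `A / C → B / C`
  have hinj : ∀ a ∈ A, ∀ a' ∈ A, (m a)⁻¹ * m a' ∈ C → a⁻¹ * a' ∈ C := by
    intro a ha a' ha' h
    refine ⟨A.mul_mem (A.inv_mem ha) ha', ?_⟩
    rw [hL, Subgroup.centralizer_closure]
    rintro _ ⟨b, hb, rfl⟩
    set f := (m a)⁻¹ * m a' with hf
    have hfA : f ∈ A := h.1
    have hfV : f ∈ V := V.mul_mem (V.inv_mem (hmV a)) (hmV a')
    set d := a⁻¹ * a' with hd
    have hdA : d ∈ A := A.mul_mem (A.inv_mem ha) ha'
    -- `d v d⁻¹ = v f`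
    have h1 : d * v * d⁻¹ = v * f := by
      have h2 : a' * v * a'⁻¹ = a * v * a⁻¹ * f := by
        rw [hf]; simp only [hm]; group
      calc d * v * d⁻¹ = a⁻¹ * (a' * v * a'⁻¹) * a := by rw [hd]; group
        _ = v * (a⁻¹ * f * a) := by rw [h2]; group
        _ = v * f := by rw [mul_assoc a⁻¹, hAc f hfA a ha, inv_mul_cancel_left]
    have hbv : b * v * b⁻¹ ∈ V := Subgroup.Normal.conj_mem inferInstance v hv b
    have h3 : d * (b * v * b⁻¹) * d⁻¹ = b * v * b⁻¹ * f := by
      calc d * (b * v * b⁻¹) * d⁻¹ = (d * b) * v * (d * b)⁻¹ := by group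
        _ = b * (d * v * d⁻¹) * b⁻¹ := by rw [hAc d hdA b hb]; group
        _ = b * v * (f * b⁻¹) := by rw [h1]; group
        _ = _ := by rw [hAc f hfA b⁻¹ (A.inv_mem hb)]; group
    have h4 : d * m b * d⁻¹ = m b := by
      calc d * m b * d⁻¹ = (d * v * d⁻¹)⁻¹ * (d * (b * v * b⁻¹) * d⁻¹) := by
            simp only [hm]; group
        _ = (v * f)⁻¹ * (b * v * b⁻¹ * f) := by rw [h1, h3]
        _ = f⁻¹ * (v⁻¹ * (b * v * b⁻¹) * f) := by group
        _ = _ := by
          rw [hV (v⁻¹ * (b * v * b⁻¹)) (V.mul_mem (V.inv_mem hv) hbv) f hfV, inv_mul_cancel_left]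
    exact (mul_inv_eq_iff_eq_mul.1 h4).symm
  have hle : Nat.card A ≤ Nat.card B := by
    rw [← Subgroup.card_mul_index (C.subgroupOf A), ← Subgroup.card_mul_index (C.subgroupOf B),
      Nat.card_congr (Subgroup.subgroupOfEquivOfLe inf_le_left).toEquiv,
      Nat.card_congr (Subgroup.subgroupOfEquivOfLe hCB).toEquiv]
    refine Nat.mul_le_mul_left _ ?_
    rw [Subgroup.index_eq_card, Subgroup.index_eq_card]
    refine Nat.card_le_card_of_injective (fun q =>
      (QuotientGroup.mk (⟨m (q.out : A), Subgroup.mem_sup_left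
        (Subgroup.subset_closure ⟨_, (q.out : A).2, rfl⟩)⟩ : B) : B ⧸ C.subgroupOf B)) ?_
    intro q q' h
    have h1 := Subgroup.mem_subgroupOf.1 (QuotientGroup.eq.1 h)
    rw [← q.out_eq, ← q'.out_eq]
    refine QuotientGroup.eq.2 (Subgroup.mem_subgroupOf.2 ?_)
    exact hinj _ (q.out : A).2 _ (q'.out : A).2 h1
  have hBA : Nat.card B ≤ Nat.card A := hA.2 B hBc
  have hBmax : B ∈ maxAbelianSubgroups M := ⟨hBc, fun D hD => (hA.2 D hD).trans hle⟩
  refine ⟨B, hBmax, ?_, ?_⟩
  · -- `B ≤ C(V)` forces `[V, A] = [V, A, A]`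
    intro hBV
    have hCV : C ≤ Subgroup.centralizer (V : Set M) := hCB.trans hBV
    set B' : Subgroup M := V ⊔ C with hB'
    have hB'c : IsMulCommutative B' := by
      refine isMulCommutative_of_forall fun a ha b hb => ?_
      have h : B' ≤ Subgroup.centralizer (B' : Set M) := by
        refine sup_le ?_ ?_
        · intro l hl
          refine Subgroup.mem_centralizer_iff.2 fun b hb => ?_
          have : B' ≤ Subgroup.centralizer {l} := sup_le
            (fun l' hl' => Subgroup.mem_centralizer_singleton_iff.2 (hV l' hl' l hl))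
            (fun c hc => Subgroup.mem_centralizer_singleton_iff.2
              (Subgroup.mem_centralizer_iff.1 (hCV hc) l hl).symm)
          exact Subgroup.mem_centralizer_singleton_iff.1 (this hb)
        · intro c hc
          refine Subgroup.mem_centralizer_iff.2 fun b hb => ?_
          have : B' ≤ Subgroup.centralizer {c} := sup_le
            (fun l hl => Subgroup.mem_centralizer_singleton_iff.2
              (Subgroup.mem_centralizer_iff.1 (hCV hc) l hl))
            (fun c' hc' => Subgroup.mem_centralizer_singleton_iff.2 (hAc c' hc'.1 c hc.1))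
          exact Subgroup.mem_centralizer_singleton_iff.1 (this hb)
      exact (Subgroup.mem_centralizer_iff.1 (h ha) b hb).symm
    have hBB' : B = B' :=
      Subgroup.eq_of_le_of_card_ge (sup_le (hLV.trans le_sup_left) le_sup_right)
        ((hA.2 B' hB'c).trans hle)
    -- every element of `V` is an element of `L` times one fixed by `A`
    have hsplit : ∀ w ∈ V, ∃ l ∈ L, ∃ c ∈ C, w = l * c := by
      intro w hw
      have hwB : w ∈ ((L ⊔ C : Subgroup M) : Set M) := by
        rw [← hB, hBB']; exact Subgroup.mem_sup_left hw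
      rw [Subgroup.coe_mul_of_right_le_normalizer_left L C
        (fun c hc => Subgroup.centralizer_le_normalizer _ hc.2)] at hwB
      obtain ⟨l, hl, c, hc, rfl⟩ := hwB
      exact ⟨l, hl, c, hc, rfl⟩
    set W : Subgroup M := Subgroup.closure {x | ∃ w ∈ V, ∃ a ∈ A, w⁻¹ * (a * w * a⁻¹) = x} with hW
    have hWV : W ≤ V := (Subgroup.closure_le _).2 (by
      rintro _ ⟨w, hw, a, -, rfl⟩
      exact V.mul_mem (V.inv_mem hw) (Subgroup.Normal.conj_mem inferInstance w hw a))
    have hLW : L ≤ W := Subgroup.closure_mono (by rintro _ ⟨a, ha, rfl⟩; exact ⟨v, hv, a, ha, rfl⟩)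
    set H : Subgroup M := A ⊔ W with hH
    have hWn : H ≤ Subgroup.normalizer (W : Set M) := by
      refine sup_le (fun a ha => ?_) Subgroup.le_normalizer
      have hmem : ∀ a ∈ A, ∀ x ∈ W, a * x * a⁻¹ ∈ W := by
        intro a ha x hx
        have : W.map (MulAut.conj a).toMonoidHom ≤ W := by
          rw [hW, MonoidHom.map_closure]
          refine Subgroup.closure_mono ?_
          rintro _ ⟨_, ⟨w, hw, b, hb, rfl⟩, rfl⟩
          refine ⟨a * w * a⁻¹, Subgroup.Normal.conj_mem inferInstance w hw a, b, hb, ?_⟩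
          show (a * w * a⁻¹)⁻¹ * (b * (a * w * a⁻¹) * b⁻¹) = a * (w⁻¹ * (b * w * b⁻¹)) * a⁻¹
          calc (a * w * a⁻¹)⁻¹ * (b * (a * w * a⁻¹) * b⁻¹)
              = a * w⁻¹ * a⁻¹ * ((b * a) * w * (b * a)⁻¹) := by group
            _ = _ := by rw [hAc b hb a ha]; group
        exact this ⟨x, hx, rfl⟩
      refine Subgroup.mem_normalizer_iff.2 fun x => ⟨hmem a ha x, fun h => ?_⟩
      simpa [mul_assoc] using hmem a⁻¹ (A.inv_mem ha) _ h
    have hWbot : W.subgroupOf H = ⊥ := by
      by_contra hne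
      have : (W.subgroupOf H).Normal := Subgroup.normal_subgroupOf_of_le_normalizer hWn
      have hlt := commutator_top_lt (hM.to_subgroup H) (W.subgroupOf H) hne
      refine hlt.not_ge fun x hx => ?_
      have hgen : W ≤ (⁅W.subgroupOf H, (⊤ : Subgroup H)⁆).map H.subtype := by
        refine (Subgroup.closure_le _).2 ?_
        rintro _ ⟨w, hw, a, ha, rfl⟩
        obtain ⟨l, hl, c, hc, rfl⟩ := hsplit w hw
        have hlH : l ∈ H := Subgroup.mem_sup_right (hLW hl)
        have haH : a ∈ H := Subgroup.mem_sup_left ha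
        refine ⟨⁅(⟨l, hlH⟩ : H)⁻¹, (⟨a, haH⟩ : H)⁆,
          Subgroup.commutator_mem_commutator
            (Subgroup.inv_mem _ (Subgroup.mem_subgroupOf.2 (hLW hl))) (Subgroup.mem_top _), ?_⟩
        show l⁻¹ * a * l⁻¹⁻¹ * a⁻¹ = (l * c)⁻¹ * (a * (l * c) * a⁻¹)
        have hla : a * l * a⁻¹ ∈ V := Subgroup.Normal.conj_mem inferInstance l (hLV hl) a
        have hcc : c⁻¹ * (l⁻¹ * (a * l * a⁻¹)) * c = l⁻¹ * (a * l * a⁻¹) := by
          rw [mul_assoc, Subgroup.mem_centralizer_iff.1 (hCV hc) _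
            (V.mul_mem (V.inv_mem (hLV hl)) hla), inv_mul_cancel_left]
        calc l⁻¹ * a * l⁻¹⁻¹ * a⁻¹ = l⁻¹ * (a * l * a⁻¹) := by group
          _ = c⁻¹ * (l⁻¹ * (a * l * a⁻¹)) * c := hcc.symm
          _ = c⁻¹ * l⁻¹ * (a * l * (c * a⁻¹)) := by
            rw [← hAc a⁻¹ (A.inv_mem ha) c hc.1]; group
          _ = _ := by group
      obtain ⟨y, hy, hyx⟩ := hgen (Subgroup.mem_subgroupOf.1 hx)
      exact (Subtype.ext hyx : y = x) ▸ hy
    apply hnot
    have hmW : m a0 ∈ W := hLW (Subgroup.subset_closure ⟨a0, ha0, rfl⟩)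
    have hm1 : (⟨m a0, Subgroup.mem_sup_right hmW⟩ : H) ∈ W.subgroupOf H :=
      Subgroup.mem_subgroupOf.2 hmW
    rw [hWbot, Subgroup.mem_bot] at hm1
    have : m a0 = 1 := congrArg Subtype.val hm1
    show m a0 ∈ A
    rw [this]
    exact A.one_mem
  · have hle' : A ⊓ V ≤ B ⊓ V := fun x hx => ⟨hCB ⟨hx.1, Subgroup.mem_centralizer_iff.2
      fun l hl => hV l (hLV hl) x hx.2⟩, hx.2⟩
    refine lt_of_le_of_ne (Subgroup.card_le_of_le hle') fun hc => hnot ?_
    have heq := Subgroup.eq_of_le_of_card_ge hle' hc.ge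
    exact (heq.ge ⟨Subgroup.mem_sup_left (Subgroup.subset_closure ⟨a0, ha0, rfl⟩), hmV a0⟩).1

/-- An element of order `p` modulo `C(V)` fixing the `p`-th powers of `V`. -/
theorem exists_fixes_powers (hM : IsPGroup p M) (V : Subgroup M) [V.Normal]
    (hV : ∀ u ∈ V, ∀ v ∈ V, u * v = v * u) {A : Subgroup M} (hA : A ∈ maxAbelianSubgroups M)
    (hAC : ¬ A ≤ Subgroup.centralizer (V : Set M)) :
    ∃ a : M, a ∉ Subgroup.centralizer (V : Set M) ∧ ∀ v ∈ V, a * v ^ p = v ^ p * a := by
  obtain ⟨B, ⟨hB, hBC⟩, hmax⟩ := (Set.toFinite {B : Subgroup M | B ∈ maxAbelianSubgroups M ∧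
    ¬ B ≤ Subgroup.centralizer (V : Set M)}).exists_maximalFor
    (fun B : Subgroup M => Nat.card ↥(B ⊓ V)) _ ⟨A, hA, hAC⟩
  have hquad : ∀ v ∈ V, ∀ b ∈ B, v⁻¹ * (b * v * b⁻¹) ∈ B := by
    intro v hv b hb
    by_contra h
    obtain ⟨B', hB', hB'C, hlt⟩ := replacement_step hM V hV hB hv hb h
    exact absurd (hmax ⟨hB', hB'C⟩ hlt.le) (not_le.2 hlt)
  obtain ⟨b, hb, hbC⟩ := SetLike.not_le_iff_exists.1 hBC
  classical
  obtain ⟨k, hk⟩ := hM b
  have hex : ∃ j, b ^ p ^ j ∈ Subgroup.centralizer (V : Set M) :=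
    ⟨k, by rw [hk]; exact Subgroup.one_mem _⟩
  have hj := Nat.find_spec hex
  have hpos : Nat.find hex ≠ 0 := fun h0 => hbC (by rw [h0, pow_zero, pow_one] at hj; exact hj)
  set a := b ^ p ^ (Nat.find hex - 1) with ha
  have haB : a ∈ B := pow_mem hb _
  have hap : a ^ p ∈ Subgroup.centralizer (V : Set M) := by
    rw [ha, ← pow_mul, ← pow_succ, Nat.sub_add_cancel (Nat.pos_of_ne_zero hpos)]
    exact hj
  refine ⟨a, Nat.find_min hex (by omega), fun v hv => ?_⟩
  set c := v⁻¹ * (a * v * a⁻¹) with hc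
  have hac : a * c = c * a := mul_comm_of_isMulCommutative hB.1 haB (hquad v hv a haB)
  have hpow : ∀ j : ℕ, a ^ j * v * (a ^ j)⁻¹ = v * c ^ j := by
    intro j
    induction j with
    | zero => simp
    | succ j ih =>
      calc a ^ (j + 1) * v * (a ^ (j + 1))⁻¹ = a * (a ^ j * v * (a ^ j)⁻¹) * a⁻¹ := by
            rw [pow_succ']; group
        _ = a * v * a⁻¹ * (a * c ^ j * a⁻¹) := by rw [ih]; group
        _ = v * c ^ (j + 1) := by
          rw [(show Commute a (c ^ j) from (show Commute a c from hac).pow_right j).eq,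
            mul_inv_cancel_right, show a * v * a⁻¹ = v * c by rw [hc, mul_inv_cancel_left],
            mul_assoc, pow_succ']
  have hcp : c ^ p = 1 := by
    have h := hpow p
    rw [← Subgroup.mem_centralizer_iff.1 hap v hv, mul_inv_cancel_right] at h
    exact mul_eq_left.1 h.symm
  have hcV : c ∈ V := V.mul_mem (V.inv_mem hv) (Subgroup.Normal.conj_mem inferInstance v hv a)
  have h1 : a * v ^ p * a⁻¹ = v ^ p := by
    rw [← conj_pow, show a * v * a⁻¹ = v * c by rw [hc, mul_inv_cancel_left],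
      (show Commute v c from hV v hv c hcV).mul_pow, hcp, mul_one]
  exact mul_inv_eq_iff_eq_mul.1 h1

end Cfsg.Agent.PGroup
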