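import Cfsg.Agent.Lib.PGroup.ElementaryAbelian
import Cfsg.Agent.Lib.PGroup.SCN
import Cfsg.Agent.Lib.PGroup.Class2

/-!
# Alperin: elements of order `p` centralizing a maximal normal elementary abelian subgroup, `p` odd

* `mem_of_pow_eq_one_of_mem_centralizer`: they lie in it.
-/

set_option autoImplicit false

namespace Cfsg.Agent.PGroup

open scoped commutatorElement

universe u

variable {G : Type u} [Group G] {p : ℕ}

theorem conj_pow_formula {x h d e : G} (hde : Commute d e) (hh : Commute h d) (hh' : Commute h e)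
    (h1 : x * h * x⁻¹ = d * h) (h2 : x * d * x⁻¹ = e * d) (h3 : x * e * x⁻¹ = e) (i : ℕ) :
    x ^ i * h * (x ^ i)⁻¹ = h * d ^ i * e ^ i.choose 2 := by
  induction i with
  | zero => simp
  | succ i ih =>
    calc x ^ (i + 1) * h * (x ^ (i + 1))⁻¹ = x * (x ^ i * h * (x ^ i)⁻¹) * x⁻¹ := by
          rw [pow_succ']; group
      _ = (x * h * x⁻¹) * (x * d * x⁻¹) ^ i * (x * e * x⁻¹) ^ i.choose 2 := by
          rw [ih, conj_pow, conj_pow]; group
      _ = h * d ^ (i + 1) * e ^ (i + 1).choose 2 := by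
          rw [h1, h2, h3, hde.symm.mul_pow, (hde.pow_pow i i).symm.eq, hh.symm.eq,
            Nat.choose_succ_succ' i 1, Nat.choose_one_right]
          simp only [pow_succ' d i, pow_add e, mul_assoc]

variable [Finite G] [hp : Fact p.Prime]

/-- An element of order `p` fixing `Ω₁` of an abelian normal subgroup moves it into `Ω₁`. -/
theorem commutator_pow_eq_one_of_fix_omega (h2 : p ≠ 2) {H : Subgroup G} [H.Normal]
    (hH : IsMulCommutative H) {x : G} (hx : x ^ p = 1) (hfix : ∀ v ∈ H, v ^ p = 1 → x * v = v * x) :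
    ∀ (k : ℕ) (h : G), h ∈ H → h ^ p ^ k = 1 → ⁅x, h⁆ ^ p = 1 := by
  have hfix' : ∀ v ∈ H, v ^ p = 1 → ⁅x, v⁆ = 1 := fun v hv hvp =>
    commutatorElement_eq_one_iff_mul_comm.mpr (hfix v hv hvp)
  have hmem : ∀ v ∈ H, ⁅x, v⁆ ∈ H := fun v hv =>
    mul_mem ((inferInstance : H.Normal).conj_mem v hv x) (inv_mem hv)
  have hcomm : ∀ a ∈ H, ∀ b ∈ H, Commute a b := fun a ha b hb => mul_comm_of_isMulCommutative hH ha hb
  have hconj : ∀ v : G, x * v * x⁻¹ = ⁅x, v⁆ * v := fun v => by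
    rw [commutatorElement_def, inv_mul_cancel_right]
  have hhom : ∀ v ∈ H, ∀ n : ℕ, ⁅x, v ^ n⁆ = ⁅x, v⁆ ^ n := fun v hv n => by
    rw [commutatorElement_def, ← conj_pow, hconj, (hcomm _ (hmem v hv) v hv).mul_pow, mul_inv_cancel_right]
  intro k
  induction k with
  | zero =>
    intro h _ hk
    rw [pow_zero, pow_one] at hk
    rw [hk, commutatorElement_one_right, one_pow]
  | succ k ih =>
    intro h hh hk
    set d := ⁅x, h⁆ with hd
    set e := ⁅x, d⁆ with he
    have hdp2 : (d ^ p) ^ p = 1 := by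
      rw [← hhom h hh p]
      exact ih (h ^ p) (pow_mem hh p) (by rw [← pow_mul, ← pow_succ', hk])
    have hep : e ^ p = 1 := by
      rw [he, ← hhom d (hmem h hh) p, hfix' _ (pow_mem (hmem h hh) p) hdp2]
    have hed : e ∈ H := hmem d (hmem h hh)
    have hxe : x * e * x⁻¹ = e := by rw [hfix e hed hep, mul_inv_cancel_right]
    have h1 := conj_pow_formula (hcomm _ (hmem h hh) _ hed) (hcomm _ hh _ (hmem h hh)) (hcomm _ hh _ hed)
      (hconj h) (hconj d) hxe p
    obtain ⟨j, hj⟩ := dvd_choose_two hp.out h2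
    rw [hx, one_mul, inv_one, mul_one, hj, pow_mul, hep, one_pow, mul_one] at h1
    exact mul_eq_left.mp h1.symm

/-- **Alperin.** For odd `p`, a maximal normal elementary abelian subgroup `V` of a finite `p`-group
contains every element of order `p` of its centralizer. -/
theorem mem_of_pow_eq_one_of_mem_centralizer (hG : IsPGroup p G) (h2 : p ≠ 2) {V : Subgroup G} [V.Normal]
    (hV : IsElementaryAbelian p V)
    (hmax : ∀ W : Subgroup G, W.Normal → IsElementaryAbelian p W → V ≤ W → W = V)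
    {x : G} (hx : x ∈ Subgroup.centralizer (V : Set G)) (hxp : x ^ p = 1) : x ∈ V := by
  obtain ⟨H, hVH, hHn, hH, hHmax⟩ := exists_maximal_abelian_normal_ge V hV.1
  have hCH := centralizer_eq_of_maximal_abelian_normal hG hH hHmax
  have hΩ : ∀ v ∈ H, v ^ p = 1 → v ∈ V := fun v hv hvp => by
    rw [← hmax (omegaOne p H) (omegaOne_normal H) (isElementaryAbelian_omegaOne hH)
      (fun a ha => mem_omegaOne_of_pow_eq_one (hVH ha) (hV.2 a ha))]
    exact mem_omegaOne_of_pow_eq_one hv hvp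
  set C := Subgroup.centralizer (V : Set G) with hC
  have hfix : ∀ a ∈ C, ∀ v ∈ H, v ^ p = 1 → a * v = v * a := fun a ha v hv hvp =>
    (Subgroup.mem_centralizer_iff.mp ha v (hΩ v hv hvp)).symm
  have hstab : ∀ a ∈ C, a ^ p = 1 → ∀ h ∈ H, ⁅a, h⁆ ∈ V := fun a ha hap h hh => by
    obtain ⟨k, hk⟩ := hG h
    exact hΩ _ (mul_mem (hHn.conj_mem h hh a) (inv_mem hh))
      (commutator_pow_eq_one_of_fix_omega h2 hH hap (hfix a ha) k h hh hk)
  have hprod : ∀ a ∈ C, a ^ p = 1 → ∀ b ∈ C, b ^ p = 1 → ⁅b, a⁆ ∈ V := by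
    intro a ha hap b hb hbp
    have hconj : ∀ (g : G) (h : G), g * h * g⁻¹ = ⁅g, h⁆ * h := fun g h => by
      rw [commutatorElement_def, inv_mul_cancel_right]
    have hcH : ⁅b, a⁆ ∈ H := by
      rw [← hCH, Subgroup.mem_centralizer_iff]
      intro h hh
      obtain ⟨k, hk'⟩ : ∃ k, k = (a * b)⁻¹ * h * (a * b) := ⟨_, rfl⟩
      have hk : k ∈ H := by simpa [hk'] using hHn.conj_mem h hh (a * b)⁻¹
      have f1 : ∀ g₁ ∈ C, ∀ g₂ ∈ C, g₂ ^ p = 1 →
          g₁ * g₂ * k * (g₁ * g₂)⁻¹ = ⁅g₂, k⁆ * (⁅g₁, k⁆ * k) := by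
        intro g₁ hg₁ g₂ hg₂ hp₂
        calc g₁ * g₂ * k * (g₁ * g₂)⁻¹ = g₁ * (g₂ * k * g₂⁻¹) * g₁⁻¹ := by group
          _ = g₁ * ⁅g₂, k⁆ * g₁⁻¹ * (g₁ * k * g₁⁻¹) := by rw [hconj g₂ k]; group
          _ = _ := by
            rw [hconj g₁ k, (Subgroup.mem_centralizer_iff.mp hg₁ _ (hstab g₂ hg₂ hp₂ k hk)).symm,
              mul_inv_cancel_right]
      have e6 : b * a * k * (b * a)⁻¹ = a * b * k * (a * b)⁻¹ := by
        rw [f1 b hb a ha hap, f1 a ha b hb hbp, ← mul_assoc, ← mul_assoc,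
          mul_comm_of_isMulCommutative hH (hVH (hstab a ha hap k hk)) (hVH (hstab b hb hbp k hk))]
      have e7 : ⁅b, a⁆ * h * ⁅b, a⁆⁻¹ = h := by
        calc ⁅b, a⁆ * h * ⁅b, a⁆⁻¹ = b * a * k * (b * a)⁻¹ := by
              rw [hk', commutatorElement_def]; group
          _ = a * b * k * (a * b)⁻¹ := e6
          _ = h := by rw [hk']; group
      exact (mul_inv_eq_iff_eq_mul.mp e7).symm
    -- its `p`-th power is trivial
    set c := ⁅b, a⁆ with hc
    have hdV : ⁅a, c⁆ ∈ V := hstab a ha hap c hcH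
    have hcc : ⁅a, c⁆ ^ p = 1 := hV.2 _ hdV
    have hkey : ∀ n : ℕ, b * a ^ n * b⁻¹ = c ^ n * ⁅a, c⁆ ^ n.choose 2 * a ^ n := by
      intro n
      induction n with
      | zero => simp
      | succ n ih =>
        have hac : a * c = ⁅a, c⁆ * c * a := by rw [commutatorElement_def]; group
        have hav : a * ⁅a, c⁆ = ⁅a, c⁆ * a := (Subgroup.mem_centralizer_iff.mp ha _ hdV).symm
        have hcv : Commute c ⁅a, c⁆ := mul_comm_of_isMulCommutative hH hcH (hVH hdV)
        have hacn : ∀ m : ℕ, a * c ^ m = c ^ m * ⁅a, c⁆ ^ m * a := by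
          intro m
          induction m with
          | zero => simp
          | succ m ihm =>
            rw [pow_succ c, ← mul_assoc, ihm, mul_assoc, hac, pow_succ ⁅a, c⁆]
            simp only [mul_assoc]
            congr 1
            rw [← mul_assoc (⁅a, c⁆ ^ m) ⁅a, c⁆, ← pow_succ, ← mul_assoc, ← (hcv.pow_right _).eq,
              mul_assoc, pow_succ ⁅a, c⁆ m]
            simp only [mul_assoc]
        calc b * a ^ (n + 1) * b⁻¹ = b * a * b⁻¹ * (b * a ^ n * b⁻¹) := by rw [pow_succ']; group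
          _ = c * a * (c ^ n * ⁅a, c⁆ ^ n.choose 2 * a ^ n) := by
            rw [ih, show b * a * b⁻¹ = c * a by rw [hc, commutatorElement_def, inv_mul_cancel_right]]
          _ = c * (c ^ n * ⁅a, c⁆ ^ n * a) * (⁅a, c⁆ ^ n.choose 2 * a ^ n) := by
            rw [← hacn]; group
          _ = c ^ (n + 1) * ⁅a, c⁆ ^ n * ((a * ⁅a, c⁆ ^ n.choose 2) * a ^ n) := by
            rw [pow_succ']; group
          _ = _ := by
            rw [(Commute.pow_right hav _).eq, Nat.choose_succ_succ', Nat.choose_one_right, pow_add,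
              pow_succ' a, pow_add ⁅a, c⁆]
            simp only [mul_assoc]
    have h := hkey p
    obtain ⟨j, hj⟩ := dvd_choose_two hp.out h2
    rw [hap, mul_one, mul_inv_cancel, mul_one, hj, pow_mul, hcc, one_pow, mul_one] at h
    exact hΩ c hcH h.symm
  let S : Subgroup G :=
    { carrier := {a | a ∈ C ∧ a ^ p = 1}
      one_mem' := ⟨one_mem _, one_pow p⟩
      mul_mem' := by
        rintro a b ⟨ha, hap⟩ ⟨hb, hbp⟩
        refine ⟨mul_mem ha hb, ?_⟩
        have hcen : ⁅(⟨b, hb⟩ : ↥C), (⟨a, ha⟩ : ↥C)⁆ ∈ Subgroup.center ↥C :=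
          Subgroup.mem_center_iff.mpr fun g => Subtype.ext
            (Subgroup.mem_centralizer_iff.mp g.2 _ (hprod a ha hap b hb hbp)).symm
        have h := mul_pow_prime hp.out h2 hcen (Subtype.ext (hV.2 _ (hprod a ha hap b hb hbp)))
        have h' := congrArg (fun g : ↥C => (g : G)) h
        simpa [hap, hbp] using h'
      inv_mem' := by
        rintro a ⟨ha, hap⟩
        exact ⟨inv_mem ha, by rw [inv_pow, hap, inv_one]⟩ }
  have hSn : S.Normal := ⟨fun a ha g => ⟨(Subgroup.normal_centralizer (H := V)).conj_mem a ha.1 g, by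
    rw [conj_pow, ha.2, mul_one, mul_inv_cancel]⟩⟩
  have hVS : V ≤ S := fun v hv => ⟨le_centralizer_of_isMulCommutative hV.1 hv, hV.2 v hv⟩
  by_contra hxV
  have hlt : V < S := lt_of_le_not_ge hVS fun h => hxV (h (show x ∈ S from ⟨hx, hxp⟩))
  obtain ⟨L, hL, hVL, hLS, hLc⟩ := exists_normal_step hG V S hlt
  obtain ⟨s, hsL, hsV⟩ := SetLike.exists_of_lt hVL
  have hs := hLS hsL
  have hle : V ⊔ Subgroup.zpowers s ≤ L := sup_le hVL.le (Subgroup.zpowers_le.mpr hsL)
  have heq : V ⊔ Subgroup.zpowers s = L := by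
    refine Subgroup.eq_of_le_of_card_ge hle ?_
    rw [hLc, mul_comm]
    exact mul_card_le_card hG (left_lt_sup.mpr fun h => hsV (h (Subgroup.mem_zpowers s)))
  have hLel : IsElementaryAbelian p L := by
    rw [← heq]
    refine isElementaryAbelian_sup hV (isElementaryAbelian_zpowers hs.2) ?_
    rintro v hv _ ⟨i, rfl⟩
    exact Commute.zpow_right (Subgroup.mem_centralizer_iff.mp hs.1 v hv) i
  exact hVL.ne (hmax L hL hLel hVL.le).symm

end Cfsg.Agent.PGroup
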