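import Cfsg.Agent.Lib.PGroup.UniqueOrderP
import Mathlib.GroupTheory.SpecificGroups.Quaternion

/-!
# Generators of a nonabelian 2-group with a unique involution
-/

set_option autoImplicit false

namespace Cfsg.Agent.PGroup

/-- A nonabelian finite 2-group with a unique involution is generated by `a, b` with the relations of a
generalized quaternion group. -/
theorem exists_quaternion_generators {Q : Type*} [Group Q] [Finite Q] (hQ : IsPGroup 2 Q)
    (hna : ¬ IsMulCommutative Q) (huniq : ∃! x : Q, orderOf x = 2) :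
    ∃ (n : ℕ) (a b : Q), 1 ≤ n ∧ orderOf a = 2 ^ (n + 1) ∧ b * a * b⁻¹ = a⁻¹ ∧ b ^ 2 = a ^ (2 ^ n) ∧
      b ∉ Subgroup.zpowers a ∧ ∀ g : Q, ∃ k : ℕ, g = a ^ k ∨ g = b * a ^ k := by
  have hp : Fact (Nat.Prime 2) := ⟨Nat.prime_two⟩
  obtain ⟨t, ht, htu⟩ := huniq
  have hsub : ∀ H K : Subgroup Q, Nat.card H = 2 → Nat.card K = 2 → H = K := by
    have key : ∀ H : Subgroup Q, Nat.card H = 2 → H = Subgroup.zpowers t := by
      intro H hH
      obtain ⟨h, hh⟩ := exists_prime_orderOf_dvd_card' 2 (dvd_of_eq hH.symm)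
      have hht : (h : Q) = t := htu _ (by show orderOf (h : Q) = 2; rw [Subgroup.orderOf_coe, hh])
      refine (Subgroup.eq_of_le_of_card_ge (Subgroup.zpowers_le.2 (hht ▸ h.2)) ?_).symm
      rw [hH, Nat.card_zpowers, ht]
    intro H K hH hK
    rw [key H hH, key K hK]
  rcases cyclic_or_quaternion_of_unique hQ hsub with hc | ⟨-, n, hn, -, ⟨e⟩⟩
  · exact absurd (IsCyclic.isMulCommutative (α := Q)) hna
  have : NeZero (2 ^ n) := ⟨by positivity⟩
  refine ⟨n, e.symm (QuaternionGroup.a 1), e.symm (QuaternionGroup.xa 0), hn, ?_, ?_, ?_, ?_, ?_⟩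
  · rw [MulEquiv.orderOf_eq, QuaternionGroup.orderOf_a_one, pow_succ']
  · rw [← map_inv, ← map_inv, ← map_mul, ← map_mul, EmbeddingLike.apply_eq_iff_eq]
    rw [mul_inv_eq_iff_eq_mul, eq_inv_mul_iff_mul_eq, QuaternionGroup.xa_mul_a, QuaternionGroup.a_mul_xa]
    simp
  · rw [← map_pow, ← map_pow, EmbeddingLike.apply_eq_iff_eq, pow_two, QuaternionGroup.xa_mul_xa,
      QuaternionGroup.a_one_pow]
    simp
  · intro h
    obtain ⟨k, hk⟩ := (mem_powers_iff_mem_zpowers).2 h
    simp only at hk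
    rw [← map_pow, QuaternionGroup.a_one_pow, EmbeddingLike.apply_eq_iff_eq] at hk
    exact absurd hk (by simp)
  · intro g
    have hcast : ∀ i : ZMod (2 * 2 ^ n), ((i.val : ℕ) : ZMod (2 * 2 ^ n)) = i := fun i => ZMod.natCast_zmod_val i
    obtain ⟨w, rfl⟩ := e.symm.surjective g
    cases w with
    | a i => exact ⟨i.val, Or.inl (by rw [← map_pow, QuaternionGroup.a_one_pow, hcast])⟩
    | xa i => exact ⟨i.val, Or.inr (by rw [← map_pow, ← map_mul, QuaternionGroup.a_one_pow, hcast, QuaternionGroup.xa_mul_a]; simp)⟩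

end Cfsg.Agent.PGroup
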