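import Cfsg.Agent.Lib.PGroup.Metacyclic

/-!
# Fixed cosets of automorphisms of metacyclic `p`-groups, `p` odd

* `MetaGen.index_frattini_le` (`|P : Φ(P)| ≤ p²`).
* `MetaGen.exists_fixed_coset`: if `P` is non-abelian, then for any set `Γ` of automorphisms there
  are an invariant `N ≥ Φ(P)` and `s ∉ N` with `γ s ∈ N s` for all `γ ∈ Γ`.
-/

set_option autoImplicit false

namespace Cfsg.Agent.PGroup

open scoped commutatorElement

universe u

variable {G : Type u} [Group G] [Finite G] {p : ℕ} [Fact p.Prime] {a b : G}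

/-- A metacyclic `p`-group has Frattini index at most `p²`. -/
theorem MetaGen.index_frattini_le (H : MetaGen a b) (hG : IsPGroup p G) :
    (frattini G).index ≤ p ^ 2 := by
  classical
  have h := card_closure_sup_frattini_le hG ({a, b} : Finset G)
  rw [Finset.coe_pair, H.closure_eq, top_sup_eq, Subgroup.card_top,
    ← Subgroup.card_mul_index (frattini G)] at h
  refine (Nat.le_of_mul_le_mul_left h Nat.card_pos).trans ?_
  exact Nat.pow_le_pow_right (Fact.out (p := p.Prime)).pos Finset.card_le_two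

/-- In a non-abelian metacyclic `p`-group (`p` odd) any set of automorphisms fixes a non-trivial
coset of an invariant subgroup containing `Φ(P)`. -/
theorem MetaGen.exists_fixed_coset (H : MetaGen a b) (hG : IsPGroup p G) (hp : p ≠ 2)
    (hna : commutator G ≠ ⊥) (Γ : Set (MulAut G)) :
    ∃ (N : Subgroup G) (s : G), frattini G ≤ N ∧ s ∉ N ∧ (∀ γ : MulAut G, γ ∈ Γ → ∀ x ∈ N, γ x ∈ N) ∧
      ∀ γ : MulAut G, γ ∈ Γ → γ s * s⁻¹ ∈ N := by
  have hp0 := (Fact.out (p := p.Prime))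
  have hr := H.isRegular hG hp
  set c := ⁅b, a⁆ with hcdef
  have hD : commutator G = Subgroup.zpowers c := H.commutator_eq
  have hc1 : c ≠ 1 := fun h => hna (by rw [hD, h, Subgroup.zpowers_one_eq_bot])
  have hcD : c ∈ commutator G := hD ▸ Subgroup.mem_zpowers c
  -- the largest power `p^k` of which `c` is a power
  have hk1 : ∃ k : ℕ, k ≤ Nat.card G ∧ 1 ≤ k ∧ ∃ h : G, h ^ p ^ k = c := by
    obtain ⟨w, hw⟩ := H.commutator_le_pow hG hp hcD
    simp only at hw
    refine ⟨1, Nat.card_pos, le_rfl, a ^ w, ?_⟩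
    rw [pow_one, ← hw, ← zpow_natCast, ← zpow_natCast, ← zpow_mul, ← zpow_mul, mul_comm]
  obtain ⟨k, hk1, h, hh, hmax⟩ : ∃ k, 1 ≤ k ∧ ∃ h : G, h ^ p ^ k = c ∧
      ∀ y : G, y ^ p ^ (k + 1) ≠ c := by
    classical
    obtain ⟨k₀, hk₀, hk₀1, hk₀h⟩ := hk1
    set P : ℕ → Prop := fun k => 1 ≤ k ∧ ∃ h : G, h ^ p ^ k = c with hP
    have hbound : ∀ k, P k → k ≤ Nat.card G := by
      rintro k ⟨-, h, hh⟩
      by_contra hlt
      refine hc1 ?_
      obtain ⟨e, he⟩ := IsPGroup.iff_orderOf.mp hG h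
      rw [← hh, ← orderOf_dvd_iff_pow_eq_one, he]
      refine Nat.pow_dvd_pow p ?_
      have h1 : p ^ e ≤ Nat.card G :=
        he ▸ Nat.le_of_dvd Nat.card_pos (orderOf_dvd_natCard h)
      have h2 : e < p ^ e := Nat.lt_pow_self hp0.one_lt
      omega
    have hsp := Nat.findGreatest_spec (P := P) hk₀ ⟨hk₀1, hk₀h⟩
    refine ⟨_, hsp.1, hsp.2.choose, hsp.2.choose_spec, fun y hy => ?_⟩
    have h1 : Nat.findGreatest P (Nat.card G) + 1 ≤ Nat.card G := hbound _ ⟨by omega, y, hy⟩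
    have h2 := Nat.le_findGreatest (P := P) h1 ⟨by omega, y, hy⟩
    omega
  set S := S4225.omega hr k with hS
  set Φ := frattini G with hΦ
  have hΦn : Φ.Normal := inferInstance
  -- `Φ = ℧₁`
  have hΦpow : ∀ x ∈ Φ, ∃ y : G, x = y ^ p := by
    intro x hx
    have hle : Φ ≤ powerClosure p 1 (⊤ : Subgroup G) := frattini_le (p := p)
      (fun g hg => by
        obtain ⟨w, hw⟩ := H.commutator_le_pow hG hp hg
        simp only at hw
        have := pow_mem_powerClosure (p := p) (Subgroup.mem_top (a ^ w)) 1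
        rwa [pow_one, ← zpow_natCast, ← zpow_mul, mul_comm, zpow_mul, zpow_natCast, hw] at this)
      (fun g => by simpa using pow_mem_powerClosure (p := p) (Subgroup.mem_top g) 1)
    obtain ⟨y, -, hy⟩ :=
      exists_eq_pow_of_mem_powerClosure hG (fun a b => hr.2 a b 1) ⊤ x (hle hx)
    exact ⟨y, by rwa [pow_one] at hy⟩
  -- `h ∉ S Φ`
  have hhT : h ∉ S ⊔ Φ := by
    intro hmem
    obtain ⟨s, hs, φ, hφ, hsφ⟩ := Subgroup.mem_sup_of_normal_right.mp hmem
    obtain ⟨y, hy⟩ := hΦpow φ hφ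
    refine hmax y ?_
    have h1 : (h * φ⁻¹) ^ p ^ k = 1 := by
      rw [← hsφ, mul_inv_cancel_right]; exact hs
    rw [pow_succ', pow_mul, ← hy, ← (S4210.result hr h φ k).mpr h1, hh]
  have hh1 : h ∉ Φ := fun hmem => hhT (Subgroup.mem_sup_right hmem)
  -- the quotient by `⟨c^p⟩`
  set N₀ := Subgroup.zpowers (c ^ p) with hN₀
  have hN₀n : N₀.Normal := normal_of_le_isCyclic inferInstance H.isCyclic_commutator
    (Subgroup.zpowers_le.mpr (Subgroup.pow_mem _ hcD p))
  let q : G →* G ⧸ N₀ := QuotientGroup.mk' N₀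
  have hqc : q c ≠ 1 := fun hq => by
    obtain ⟨w, hw⟩ := (QuotientGroup.eq_one_iff c).mp hq
    simp only at hw
    have h1 : c ^ (((p : ℕ) : ℤ) * w) = c ^ (1 : ℤ) := by rw [zpow_mul, zpow_natCast, hw, zpow_one]
    rw [← orderOf_dvd_sub_iff_zpow_eq_zpow] at h1
    obtain ⟨e, he⟩ := IsPGroup.iff_orderOf.mp hG c
    have he0 : e ≠ 0 := fun h0 => hc1 (orderOf_eq_one_iff.mp (by rw [he, h0, pow_zero]))
    have h2 : ((p : ℕ) : ℤ) ∣ 1 - ((p : ℕ) : ℤ) * w :=
      dvd_trans (Int.natCast_dvd_natCast.mpr (he ▸ dvd_pow_self p he0)) (dvd_sub_comm.mp h1)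
    have h3 : ((p : ℕ) : ℤ) ∣ (1 : ℤ) := by simpa using dvd_add h2 (dvd_mul_right _ w)
    exact hp0.one_lt.ne' (Nat.dvd_one.mp (by exact_mod_cast h3))
  have hqcp : q c ^ p = 1 := by
    rw [← map_pow]
    exact (QuotientGroup.eq_one_iff _).mpr (Subgroup.mem_zpowers _)
  have hsurj := QuotientGroup.mk'_surjective N₀
  have hqD : commutator (G ⧸ N₀) = Subgroup.zpowers (q c) := by
    rw [commutator_def, ← Subgroup.map_top_of_surjective q hsurj, ← Subgroup.map_commutator,
      ← commutator_def, hD, MonoidHom.map_zpowers]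
  have hcl : commutator (G ⧸ N₀) ≤ Subgroup.center (G ⧸ N₀) := by
    refine le_center_of_card_eq (p := p) (hG.to_quotient N₀) _ ?_
    rw [hqD, Nat.card_zpowers, orderOf_eq_prime hqcp hqc]
  have hcent : ∀ x ∈ Φ, q x ∈ Subgroup.center (G ⧸ N₀) := fun x hx => by
    have hle : Φ ≤ (Subgroup.center (G ⧸ N₀)).comap q := frattini_le (p := p)
      (fun g hg => hcl (hqD ▸ by rw [← MonoidHom.map_zpowers, ← hD]; exact Subgroup.mem_map_of_mem q hg))
      (fun g => by
        rw [Subgroup.mem_comap, map_pow]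
        refine Subgroup.mem_center_iff.mpr fun y => ?_
        obtain ⟨y', rfl⟩ := hsurj y
        have h1 : ⁅q g ^ p, q y'⁆ = 1 := by
          rw [commutator_pow_left (mem_center_of_class_two hcl _ _)]
          have h2 : ⁅q g, q y'⁆ ∈ Subgroup.zpowers (q c) :=
            hqD ▸ Subgroup.commutator_mem_commutator (Subgroup.mem_top _) (Subgroup.mem_top _)
          obtain ⟨i, hi⟩ := h2
          simp only at hi
          rw [← hi, ← zpow_natCast, ← zpow_mul, mul_comm, zpow_mul, zpow_natCast, hqcp, one_zpow]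
        exact (commutatorElement_eq_one_iff_mul_comm.mp h1).symm)
    exact hle hx
  -- the choice of `N`, `s`
  obtain ⟨N, s, hΦN, hsN, hhs, hNinv, hspan, hδ, hγ⟩ :
      ∃ (N : Subgroup G) (s : G), Φ ≤ N ∧ s ∉ N ∧ Φ ⊔ Subgroup.zpowers h ⊔ Subgroup.zpowers s = ⊤ ∧
        (∀ γ : MulAut G, (∀ x ∈ Φ, γ x ∈ Φ) → (∀ x ∈ S, γ x ∈ S) →
          (∃ r : ℤ, γ h * (h ^ r)⁻¹ ∈ S) → ∀ x ∈ N, γ x ∈ N) ∧
        (∀ γ : MulAut G, (∀ x ∈ Φ, γ x ∈ Φ) → (∀ x ∈ S, γ x ∈ S) →
          ∃ t : ℤ, γ s * (s ^ t)⁻¹ ∈ N) ∧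
        (∀ x ∈ S, Commute (q x) (q s) ∧ ∀ y ∈ N, Commute (q x) (q y)) ∧
        ∀ y ∈ N, Commute (q h) (q y) := by
    by_cases hT : S ≤ Φ
    · have hne : Φ ⊔ Subgroup.zpowers h ≠ ⊤ := by
        intro htop
        have hz : Subgroup.zpowers h = ⊤ := frattini_nongenerating (by rw [sup_comm]; exact htop)
        refine hna ((commutator_eq_bot_iff_center_eq_top G).mpr (eq_top_iff.mpr fun x _ => ?_))
        refine Subgroup.mem_center_iff.mpr fun y => ?_
        obtain ⟨i, rfl⟩ := (hz ▸ Subgroup.mem_top x : x ∈ Subgroup.zpowers h)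
        obtain ⟨j, rfl⟩ := (hz ▸ Subgroup.mem_top y : y ∈ Subgroup.zpowers h)
        exact ((Commute.refl h).zpow_zpow j i).eq
      obtain ⟨s, -, hs⟩ := SetLike.exists_of_lt (lt_top_iff_ne_top.mpr hne)
      have hspan : Φ ⊔ Subgroup.zpowers h ⊔ Subgroup.zpowers s = ⊤ := by
        refine Subgroup.eq_top_of_le_card _ ?_
        rw [card_sup_zpowers_frattini hG le_sup_left hs, card_sup_zpowers_frattini hG le_rfl hh1,
          ← Subgroup.card_mul_index Φ, mul_assoc, ← pow_two]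
        exact Nat.mul_le_mul_left _ (H.index_frattini_le hG)
      refine ⟨Φ ⊔ Subgroup.zpowers h, s, le_sup_left, hs, hspan, ?_, ?_, ?_, ?_⟩
      · intro γ hγΦ _ hγh
        obtain ⟨r, hr'⟩ := hγh
        have hle : Φ ⊔ Subgroup.zpowers h ≤ (Φ ⊔ Subgroup.zpowers h).comap γ.toMonoidHom := by
          refine sup_le (fun x hx => Subgroup.mem_sup_left (hγΦ x hx))
            (Subgroup.zpowers_le.mpr ?_)
          show γ h ∈ Φ ⊔ Subgroup.zpowers h
          rw [show γ h = γ h * (h ^ r)⁻¹ * h ^ r by group]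
          exact Subgroup.mul_mem _ (Subgroup.mem_sup_left (hT hr'))
            (Subgroup.mem_sup_right (Subgroup.zpow_mem _ (Subgroup.mem_zpowers h) r))
        exact fun x hx => hle hx
      · intro γ _ _
        have hMn : (Φ ⊔ Subgroup.zpowers h).Normal :=
          Subgroup.Normal.of_commutator_le G ((commutator_le_frattini hG).trans le_sup_left)
        obtain ⟨n, hn, z, hz, hnz⟩ :=
          Subgroup.mem_sup_of_normal_left.mp (hspan ▸ Subgroup.mem_top (γ s) : γ s ∈ _)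
        obtain ⟨t, rfl⟩ := hz
        exact ⟨t, by rw [← hnz, mul_inv_cancel_right]; exact hn⟩
      · exact fun x hx => ⟨(Subgroup.mem_center_iff.mp (hcent x (hT hx)) _).symm, fun y _ =>
          (Subgroup.mem_center_iff.mp (hcent x (hT hx)) _).symm⟩
      · intro y hy
        have hle : Φ ⊔ Subgroup.zpowers h ≤ (Subgroup.centralizer ({q h} : Set (G ⧸ N₀))).comap q :=
          sup_le (fun x hx => Subgroup.mem_centralizer_singleton_iff.mpr
            (Subgroup.mem_center_iff.mp (hcent x hx) _).symm)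
            (Subgroup.zpowers_le.mpr (Subgroup.mem_centralizer_singleton_iff.mpr rfl))
        exact (Subgroup.mem_centralizer_singleton_iff.mp (hle hy)).symm
    · obtain ⟨s, hsS, hsΦ⟩ := SetLike.not_le_iff_exists.mp hT
      have hle : Φ ⊔ Subgroup.zpowers s ≤ S ⊔ Φ :=
        sup_le le_sup_right (Subgroup.zpowers_le.mpr (Subgroup.mem_sup_left hsS))
      have hspan : Φ ⊔ Subgroup.zpowers h ⊔ Subgroup.zpowers s = ⊤ := by
        rw [sup_right_comm]
        refine Subgroup.eq_top_of_le_card _ ?_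
        rw [card_sup_zpowers_frattini hG le_sup_left (fun hm => hhT (hle hm)),
          card_sup_zpowers_frattini hG le_rfl hsΦ, ← Subgroup.card_mul_index Φ, mul_assoc, ← pow_two]
        exact Nat.mul_le_mul_left _ (H.index_frattini_le hG)
      have hSle : S ≤ Φ ⊔ Subgroup.zpowers s := by
        intro x hx
        by_contra hxn
        refine hhT ?_
        have hall : S ⊔ Φ = ⊤ := by
          rw [eq_top_iff]
          refine le_trans (ge_of_eq ?_) (sup_le hle (Subgroup.zpowers_le.mpr (Subgroup.mem_sup_left hx)))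
          refine Subgroup.eq_top_of_le_card _ ?_
          rw [card_sup_zpowers_frattini hG le_sup_left hxn, card_sup_zpowers_frattini hG le_rfl hsΦ,
            ← Subgroup.card_mul_index Φ, mul_assoc, ← pow_two]
          exact Nat.mul_le_mul_left _ (H.index_frattini_le hG)
        exact hall ▸ Subgroup.mem_top h
      refine ⟨Φ, s, le_rfl, hsΦ, hspan, fun γ hγΦ _ _ => hγΦ, ?_, ?_, ?_⟩
      · intro γ _ hγS
        obtain ⟨n, hn, z, hz, hnz⟩ := Subgroup.mem_sup_of_normal_left.mp (hSle (hγS s hsS))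
        obtain ⟨t, rfl⟩ := hz
        exact ⟨t, by rw [← hnz, mul_inv_cancel_right]; exact hn⟩
      · intro x hx
        have hle2 : Φ ⊔ Subgroup.zpowers s ≤ (Subgroup.centralizer ({q s} : Set (G ⧸ N₀))).comap q :=
          sup_le (fun x hx => Subgroup.mem_centralizer_singleton_iff.mpr
            (Subgroup.mem_center_iff.mp (hcent x hx) _).symm)
            (Subgroup.zpowers_le.mpr (Subgroup.mem_centralizer_singleton_iff.mpr rfl))
        exact ⟨Subgroup.mem_centralizer_singleton_iff.mp (hle2 (hSle hx)),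
          fun y hy => Subgroup.mem_center_iff.mp (hcent y hy) _⟩
      · exact fun y hy => Subgroup.mem_center_iff.mp (hcent y hy) _
  -- `⁅h, s⁆ ≠ 1` modulo `⟨c^p⟩`
  have hne : ⁅q h, q s⁆ ≠ 1 := by
    intro h1
    have hcomm : Commute (q h) (q s) := commutatorElement_eq_one_iff_mul_comm.mp h1
    have hgenC : ∀ x : G, q x ∈ Subgroup.center (G ⧸ N₀) := by
      intro x
      have hle : Φ ⊔ Subgroup.zpowers h ⊔ Subgroup.zpowers s ≤ (Subgroup.center (G ⧸ N₀)).comap q := by
        have key : ∀ z : G, Commute (q z) (q h) → Commute (q z) (q s) →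
            q z ∈ Subgroup.center (G ⧸ N₀) := by
          intro z hzh hzs
          refine Subgroup.mem_center_iff.mpr fun y => ?_
          obtain ⟨y', rfl⟩ := hsurj y
          have hle2 : Φ ⊔ Subgroup.zpowers h ⊔ Subgroup.zpowers s ≤
              (Subgroup.centralizer ({q z} : Set (G ⧸ N₀))).comap q :=
            sup_le (sup_le (fun x hx => Subgroup.mem_centralizer_singleton_iff.mpr
              (Subgroup.mem_center_iff.mp (hcent x hx) _).symm)
              (Subgroup.zpowers_le.mpr (Subgroup.mem_centralizer_singleton_iff.mpr hzh.symm.eq)))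
              (Subgroup.zpowers_le.mpr (Subgroup.mem_centralizer_singleton_iff.mpr hzs.symm.eq))
          exact Subgroup.mem_centralizer_singleton_iff.mp (hle2 (hhs ▸ Subgroup.mem_top y'))
        exact sup_le (sup_le hcent (Subgroup.zpowers_le.mpr (key h (Commute.refl _) hcomm)))
          (Subgroup.zpowers_le.mpr (key s hcomm.symm (Commute.refl _)))
      exact hle (hhs ▸ Subgroup.mem_top x)
    refine hqc ?_
    rw [hcdef, map_commutatorElement, commutatorElement_eq_one_iff_mul_comm]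
    exact Subgroup.mem_center_iff.mp (hgenC a) _
  have hN₀Φ : ∀ γ : MulAut G, ∀ x ∈ Φ, γ x ∈ Φ := fun γ x hx => by
    have := Subgroup.mem_map_of_mem γ.toMonoidHom hx
    rwa [hΦ, map_frattini hG _ γ.surjective] at this
  have hSinv : ∀ γ : MulAut G, ∀ x ∈ S, γ x ∈ S := fun γ x (hx : x ^ p ^ k = 1) =>
    show (γ x) ^ p ^ k = 1 by rw [← map_pow, hx, map_one]
  have hγc : ∀ γ : MulAut G, ∃ r : ℤ, γ c = c ^ r := by
    intro γ
    have h1 : γ c ∈ commutator G := by
      rw [hcdef, map_commutatorElement]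
      exact Subgroup.commutator_mem_commutator (Subgroup.mem_top _) (Subgroup.mem_top _)
    obtain ⟨r, hr'⟩ := (hD ▸ h1 : γ c ∈ Subgroup.zpowers c)
    exact ⟨r, hr'.symm⟩
  have hγh : ∀ γ : MulAut G, ∀ r : ℤ, γ c = c ^ r → γ h * (h ^ r)⁻¹ ∈ S := fun γ r hr' => by
    refine (S4210.result hr (γ h) (h ^ r) k).mp ?_
    rw [← map_pow, hh, hr', ← hh, ← zpow_natCast, ← zpow_natCast, ← zpow_mul, ← zpow_mul, mul_comm]
  refine ⟨N, s, hΦN, hsN, fun γ _ => hNinv γ (hN₀Φ γ) (hSinv γ)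
    (let ⟨r, hr'⟩ := hγc γ; ⟨r, hγh γ r hr'⟩), fun γ _ => ?_⟩
  obtain ⟨r, hr'⟩ := hγc γ
  obtain ⟨t, ht⟩ := hspan γ (hN₀Φ γ) (hSinv γ)
  set δ := γ h * (h ^ r)⁻¹ with hδdef
  set η := γ s * (s ^ t)⁻¹ with hηdef
  have hδS : δ ∈ S := hγh γ r hr'
  obtain ⟨hδs, hδN⟩ := hδ δ hδS
  have hz2 : ∀ x y : G ⧸ N₀, ⁅x, y⁆ ∈ Subgroup.center (G ⧸ N₀) := mem_center_of_class_two hcl
  have hd : ⁅h, s⁆ ∈ Subgroup.zpowers c :=
    hD ▸ Subgroup.commutator_mem_commutator (Subgroup.mem_top h) (Subgroup.mem_top s)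
  obtain ⟨e, he⟩ := hd
  simp only at he
  have hγd : γ ⁅h, s⁆ = ⁅h, s⁆ ^ r := by
    rw [← he, map_zpow, hr', ← zpow_mul, ← zpow_mul, mul_comm]
  clear_value δ η
  have hl : ⁅q (γ h), q (γ s)⁆ = ⁅q h, q s⁆ ^ (r * t) := by
    have e1 : γ h = δ * h ^ r := by rw [hδdef, inv_mul_cancel_right]
    have e2 : γ s = η * s ^ t := by rw [hηdef, inv_mul_cancel_right]
    rw [e1, e2, map_mul, map_mul, map_zpow, map_zpow, commutator_mul_left (hz2 _ _),
      commutatorElement_eq_one_iff_mul_comm.mpr ((hδN η ht).mul_right (hδs.zpow_right t)).eq, one_mul,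
      commutator_mul_right (hz2 _ _),
      commutatorElement_eq_one_iff_mul_comm.mpr ((hγ η ht).zpow_left r).eq, one_mul,
      commutator_zpow_left (hz2 _ _), ← commutatorElement_inv (q s ^ t) (q h),
      commutator_zpow_left (hz2 _ _), ← commutatorElement_inv (q h) (q s)]
    simp only [inv_zpow, inv_inv, ← zpow_mul]
    rw [mul_comm]
  rw [← map_commutatorElement q, ← map_commutatorElement γ, hγd, map_zpow,
    ← map_commutatorElement q, ← orderOf_dvd_sub_iff_zpow_eq_zpow] at hl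
  have hord : orderOf (q ⁅h, s⁆) = p := by
    refine orderOf_eq_prime ?_ (by rw [map_commutatorElement]; exact hne)
    rw [← he, map_zpow, ← zpow_natCast, ← zpow_mul, mul_comm, zpow_mul, zpow_natCast, hqcp, one_zpow]
  rw [hord] at hl
  have hpr : ¬ (p : ℤ) ∣ r := by
    rintro ⟨r', rfl⟩
    have h1 : γ c ∈ Subgroup.zpowers (c ^ p) :=
      ⟨r', by show (c ^ p) ^ r' = γ c; rw [hr', zpow_mul, zpow_natCast]⟩
    have h2 : orderOf c ∣ orderOf (c ^ p) := by
      rw [← MulEquiv.orderOf_eq γ c, ← Nat.card_zpowers, ← Nat.card_zpowers]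
      exact Subgroup.card_dvd_of_le (Subgroup.zpowers_le.mpr h1)
    obtain ⟨e', he'⟩ := IsPGroup.iff_orderOf.mp hG c
    have he0 : e' ≠ 0 := fun h0 => hc1 (orderOf_eq_one_iff.mp (by rw [he', h0, pow_zero]))
    rw [orderOf_pow, he', Nat.gcd_eq_right (dvd_pow_self p he0)] at h2
    have h3 := Nat.le_of_dvd (Nat.div_pos (Nat.le_of_dvd (Nat.pow_pos hp0.pos) (dvd_pow_self p he0))
      hp0.pos) h2
    exact absurd (Nat.div_lt_self (Nat.pow_pos (n := e') hp0.pos) hp0.one_lt) h3.not_gt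
  have hsp : ∀ j : ℤ, (p : ℤ) ∣ j → s ^ j ∈ N := by
    rintro j ⟨w, rfl⟩
    rw [zpow_mul, zpow_natCast]
    exact Subgroup.zpow_mem _ (hΦN (pow_mem_frattini hG s)) w
  have ht1 : (p : ℤ) ∣ t - 1 := by
    rcases (Nat.prime_iff_prime_int.mp hp0).dvd_or_dvd
      (show (p : ℤ) ∣ r * (t - 1) by rw [mul_sub, mul_one]; exact dvd_sub_comm.mp hl) with h' | h'
    · exact absurd h' hpr
    · exact h'
  have hfin : γ s * s⁻¹ = η * s ^ (t - 1) := by
    rw [hηdef, zpow_sub, zpow_one]; group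
  rw [hfin]
  exact N.mul_mem ht (hsp _ ht1)

end Cfsg.Agent.PGroup
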