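import Cfsg.Agent.Lib.PGroup.Extraspecial

/-!
# Classification of extraspecial groups by generators and relations

* `commutator_mem_of_generators`, `card_le_of_generators`: groups generated by a central `W` and
  elements commuting modulo `W` with `p`-th powers in `W`.
* `nonempty_mulEquiv_of_generators`: two such groups of full order with the same commutator and
  power relations are isomorphic.
* `IsSympSys`, `exists_sympSys_exponent`, `exists_sympSys_two`: symplectic generators of extraspecial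
  groups; `nonempty_mulEquiv_of_sympSys`.
-/

set_option autoImplicit false

namespace Cfsg.Agent.PGroup

open scoped commutatorElement

universe u v w

section Generators

variable {G : Type u} [Group G] {p : ℕ}

/-- If `G` is generated by a central `W` and elements commuting modulo `W`, then `G / W` is abelian. -/
theorem commutator_mem_of_generators {ι : Type w} (W : Subgroup G) (hW : W ≤ Subgroup.center G)
    (g : ι → G) (hgen : Subgroup.closure ((W : Set G) ∪ Set.range g) = ⊤)
    (hcomm : ∀ i j, ⁅g i, g j⁆ ∈ W) (a b : G) : ⁅a, b⁆ ∈ W := by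
  have hleft : ∀ y : G, (∀ i, ⁅g i, y⁆ ∈ W) → ∀ x : G, ⁅x, y⁆ ∈ W := by
    intro y hy x
    have hx : x ∈ Subgroup.closure ((W : Set G) ∪ Set.range g) := hgen ▸ Subgroup.mem_top x
    induction hx using Subgroup.closure_induction with
    | mem x hx =>
      rcases hx with hx | ⟨i, rfl⟩
      · have hcx : x * y = y * x := (Subgroup.mem_center_iff.mp (hW hx) y).symm
        rw [commutatorElement_eq_one_iff_mul_comm.mpr hcx]
        exact W.one_mem
      · exact hy i
    | one => rw [commutatorElement_one_left]; exact W.one_mem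
    | mul a b _ _ iha ihb => rw [commutator_mul_left (hW ihb)]; exact W.mul_mem iha ihb
    | inv a _ ih => rw [commutator_inv_left (hW ih)]; exact W.inv_mem ih
  refine hleft b (fun i => ?_) a
  rw [← commutatorElement_inv]
  exact W.inv_mem (hleft (g i) (fun j => hcomm j i) b)

/-- The order of a group generated by a central `W` and `k` elements commuting modulo `W`, with
`p`-th powers in `W`, is at most `|W| p^k`. -/
theorem card_le_of_generators [Finite G] [Fact p.Prime] {ι : Type w} (W : Subgroup G)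
    (hW : W ≤ Subgroup.center G) (g : ι → G)
    (hgen : Subgroup.closure ((W : Set G) ∪ Set.range g) = ⊤)
    (hcomm : ∀ i j, ⁅g i, g j⁆ ∈ W) (hpow : ∀ i, g i ^ p ∈ W) (S : Finset ι) :
    Nat.card ↥(W ⊔ Subgroup.closure (g '' (S : Set ι))) ≤ Nat.card ↥W * p ^ S.card := by
  classical
  have hp := (Fact.out (p := p.Prime))
  have hc := commutator_mem_of_generators W hW g hgen hcomm
  induction S using Finset.induction with
  | empty => rw [Finset.coe_empty, Set.image_empty, Subgroup.closure_empty, sup_bot_eq]; simp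
  | insert i S hi ih =>
    set H := W ⊔ Subgroup.closure (g '' (S : Set ι)) with hH
    haveI : H.Normal :=
      Subgroup.commutator_top_left_le_iff.mp
        (Subgroup.commutator_le.mpr fun a _ b _ => (le_sup_left : W ≤ H) (hc a b))
    have heq : W ⊔ Subgroup.closure (g '' (↑(insert i S) : Set ι)) = H ⊔ Subgroup.zpowers (g i) := by
      rw [Finset.coe_insert, Set.image_insert_eq, Set.insert_eq, Subgroup.closure_union,
        ← Subgroup.zpowers_eq_closure, hH, sup_assoc, sup_comm (Subgroup.zpowers (g i))]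
    rw [heq, Finset.card_insert_of_notMem hi, pow_succ, ← mul_assoc]
    by_cases hgi : g i ∈ H
    · rw [sup_eq_left.mpr (Subgroup.zpowers_le.mpr hgi)]
      exact ih.trans (Nat.le_mul_of_pos_right _ hp.pos)
    · rw [card_sup_zpowers H hgi ((le_sup_left : W ≤ H) (hpow i))]
      exact Nat.mul_le_mul_right _ ih

end Generators

/-- Two finite groups with generators satisfying the same commutator and power relations modulo a
central element of order dividing `p`, both of order at least `p^(k+1)`, are isomorphic. -/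
theorem nonempty_mulEquiv_of_generators {E₁ : Type u} {E₂ : Type v} [Group E₁] [Group E₂]
    [Finite E₁] [Finite E₂] {p : ℕ} [Fact p.Prime] {ι : Type w} [Fintype ι] (s : ι → E₁)
    (t : ι → E₂) {z₁ : E₁} {z₂ : E₂} (hz₁ : z₁ ∈ Subgroup.center E₁)
    (hz₂ : z₂ ∈ Subgroup.center E₂) (hz₁p : z₁ ^ p = 1) (hz₂p : z₂ ^ p = 1)
    (hs : Subgroup.closure (insert z₁ (Set.range s)) = ⊤)
    (ht : Subgroup.closure (insert z₂ (Set.range t)) = ⊤)
    (c : ι → ι → ℤ) (hcs : ∀ i j, ⁅s i, s j⁆ = z₁ ^ c i j) (hct : ∀ i j, ⁅t i, t j⁆ = z₂ ^ c i j)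
    (e : ι → ℤ) (hes : ∀ i, s i ^ p = z₁ ^ e i) (het : ∀ i, t i ^ p = z₂ ^ e i)
    (h₁ : p ^ (Fintype.card ι + 1) ≤ Nat.card E₁) (h₂ : p ^ (Fintype.card ι + 1) ≤ Nat.card E₂) :
    Nonempty (E₁ ≃* E₂) := by
  classical
  have hp := (Fact.out (p := p.Prime))
  set gens : Set (E₁ × E₂) := insert (z₁, z₂) (Set.range fun i => (s i, t i)) with hgens
  set K := Subgroup.closure gens with hK
  let w : ↥K := ⟨(z₁, z₂), Subgroup.subset_closure (Set.mem_insert _ _)⟩
  let g : ι → ↥K := fun i =>
    ⟨(s i, t i), Subgroup.subset_closure (Set.mem_insert_of_mem _ ⟨i, rfl⟩)⟩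
  have hw : Subgroup.zpowers w ≤ Subgroup.center ↥K :=
    Subgroup.zpowers_le.mpr (Subgroup.mem_center_iff.mpr fun a => Subtype.ext (Prod.ext
      (Subgroup.mem_center_iff.mp hz₁ _) (Subgroup.mem_center_iff.mp hz₂ _)))
  have hgen : Subgroup.closure ((Subgroup.zpowers w : Set ↥K) ∪ Set.range g) = ⊤ := by
    rw [eq_top_iff, ← Subgroup.map_le_map_iff_of_injective K.subtype_injective,
      MonoidHom.map_closure, ← MonoidHom.range_eq_map, Subgroup.range_subtype]
    refine (Subgroup.closure_le _).mpr ?_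
    rintro x (rfl | ⟨i, rfl⟩)
    · exact Subgroup.subset_closure ⟨w, Or.inl (Subgroup.mem_zpowers w), rfl⟩
    · exact Subgroup.subset_closure ⟨g i, Or.inr ⟨i, rfl⟩, rfl⟩
  have hcomm : ∀ i j, ⁅g i, g j⁆ ∈ Subgroup.zpowers w := fun i j =>
    ⟨c i j, (Subtype.ext (Prod.ext (hcs i j) (hct i j))).symm⟩
  have hpow : ∀ i, g i ^ p ∈ Subgroup.zpowers w := fun i =>
    ⟨e i, (Subtype.ext (Prod.ext (hes i) (het i))).symm⟩
  have hcard : Nat.card ↥K ≤ p ^ (Fintype.card ι + 1) := by
    have h := card_le_of_generators (Subgroup.zpowers w) hw g hgen hcomm hpow Finset.univ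
    rw [Finset.coe_univ, Set.image_univ, ← Subgroup.closure_eq (Subgroup.zpowers w),
      ← Subgroup.closure_union, hgen, Subgroup.card_top, Subgroup.closure_eq,
      Finset.card_univ] at h
    refine h.trans ?_
    rw [pow_succ']
    refine Nat.mul_le_mul_right _ ?_
    rw [Nat.card_zpowers]
    have hwp : w ^ p = 1 := Subtype.ext (Prod.ext hz₁p hz₂p)
    exact Nat.le_of_dvd hp.pos (orderOf_dvd_of_pow_eq_one hwp)
  let f₁ : ↥K →* E₁ := (MonoidHom.fst E₁ E₂).comp K.subtype
  let f₂ : ↥K →* E₂ := (MonoidHom.snd E₁ E₂).comp K.subtype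
  have hsurj₁ : Function.Surjective f₁ := by
    rw [← MonoidHom.range_eq_top, eq_top_iff, ← hs, Subgroup.closure_le]
    rintro x (rfl | ⟨i, rfl⟩)
    · exact ⟨w, rfl⟩
    · exact ⟨g i, rfl⟩
  have hsurj₂ : Function.Surjective f₂ := by
    rw [← MonoidHom.range_eq_top, eq_top_iff, ← ht, Subgroup.closure_le]
    rintro x (rfl | ⟨i, rfl⟩)
    · exact ⟨w, rfl⟩
    · exact ⟨g i, rfl⟩
  have hb₁ : Function.Bijective f₁ :=
    Function.Surjective.bijective_of_nat_card_le hsurj₁ (hcard.trans h₁)
  have hb₂ : Function.Bijective f₂ :=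
    Function.Surjective.bijective_of_nat_card_le hsurj₂ (hcard.trans h₂)
  exact ⟨(MulEquiv.ofBijective f₁ hb₁).symm.trans (MulEquiv.ofBijective f₂ hb₂)⟩

/-! ### Symplectic generators of an extraspecial group -/

/-- `k` pairs `(x i, y i)` with `⁅x i, y i⁆ = z`, all other pairs commuting. -/
def IsSympSys {E : Type u} [Group E] (z : E) (k : ℕ) (x y : ℕ → E) : Prop :=
  ∀ i, i < k → ∀ j, j < k →
    ⁅x i, x j⁆ = 1 ∧ ⁅y i, y j⁆ = 1 ∧ ⁅x i, y j⁆ = if i = j then z else 1

/-- The subgroup generated by the centre and the first `k` pairs. -/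
def sympSpan {E : Type u} [Group E] (k : ℕ) (x y : ℕ → E) : Subgroup E :=
  Subgroup.center E ⊔ Subgroup.closure (x '' Set.Iio k ∪ y '' Set.Iio k)

/-- The power exponents of the symplectic generators: only the last pair may be nontrivial. -/
def sympExp (n : ℕ) (ε : Bool) (i : ℕ) : ℕ := if ε = true ∧ i + 1 = n then 1 else 0

section Symp

variable {E : Type u} [Group E] {p : ℕ}

theorem center_le_sympSpan (k : ℕ) (x y : ℕ → E) : Subgroup.center E ≤ sympSpan k x y :=
  le_sup_left

theorem sympSpan_zero (x y : ℕ → E) : sympSpan 0 x y = Subgroup.center E := by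
  have h0 : Set.Iio (0 : ℕ) = ∅ := Set.ext fun i => by simp
  rw [sympSpan, h0, Set.image_empty, Set.image_empty, Set.empty_union, Subgroup.closure_empty,
    sup_bot_eq]

theorem sympSpan_update (k : ℕ) (x y : ℕ → E) (a b : E) :
    sympSpan (k + 1) (Function.update x k a) (Function.update y k b) =
      sympSpan k x y ⊔ Subgroup.zpowers a ⊔ Subgroup.zpowers b := by
  have h1 : Set.Iio (k + 1) = insert k (Set.Iio k) := by
    ext i; simp only [Set.mem_Iio, Set.mem_insert_iff]; omega
  have h2 : ∀ (f : ℕ → E) (c : E), Function.update f k c '' Set.Iio k = f '' Set.Iio k :=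
    fun f c => Set.image_congr fun i hi =>
      Function.update_of_ne (ne_of_lt (Set.mem_Iio.mp hi)) _ _
  rw [sympSpan, sympSpan, h1, Set.image_insert_eq, Set.image_insert_eq, Function.update_self,
    Function.update_self, h2, h2, Subgroup.closure_union, Set.insert_eq, Set.insert_eq,
    Subgroup.closure_union, Subgroup.closure_union, Subgroup.closure_union,
    ← Subgroup.zpowers_eq_closure, ← Subgroup.zpowers_eq_closure]
  ac_rfl

theorem center_eq_zpowers [Finite E] [Fact p.Prime] (h : IsExtraspecial p E) {z : E}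
    (hz : z ∈ Subgroup.center E) (hz1 : z ≠ 1) : Subgroup.zpowers z = Subgroup.center E := by
  refine Subgroup.eq_of_le_of_card_ge (Subgroup.zpowers_le.mpr hz) ?_
  rw [h.2, Nat.card_zpowers, orderOf_eq_prime (special_center_pow h.1 hz) hz1]

theorem normal_of_center_le [Finite E] [Fact p.Prime] (h : IsExtraspecial p E) {H : Subgroup E}
    (hH : Subgroup.center E ≤ H) : H.Normal :=
  Subgroup.commutator_top_left_le_iff.mp
    (Subgroup.commutator_le.mpr fun a _ b _ => hH (special_commutator_mem_center h.1 a b))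

/-- If `Z ≤ H` and `H ∩ C(H) ≤ Z`, every non-central element of `C(H)` has a partner in `C(H)`. -/
theorem exists_partner [Finite E] [Fact p.Prime] (h : IsExtraspecial p E) {H : Subgroup E}
    (hH : Subgroup.center E ≤ H)
    (hinf : H ⊓ Subgroup.centralizer (H : Set E) ≤ Subgroup.center E) {a : E}
    (ha : a ∈ Subgroup.centralizer (H : Set E)) (hac : a ∉ Subgroup.center E) {z : E}
    (hz : z ∈ Subgroup.center E) (hz1 : z ≠ 1) :
    ∃ b ∈ Subgroup.centralizer (H : Set E), ⁅a, b⁆ = z := by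
  by_contra hcon
  have hall : ∀ b ∈ Subgroup.centralizer (H : Set E), ⁅a, b⁆ = 1 := by
    intro b hb
    by_contra hb1
    have hbz := special_commutator_mem_center h.1 a b
    have hzm : z ∈ Subgroup.zpowers ⁅a, b⁆ := by rw [center_eq_zpowers h hbz hb1]; exact hz
    obtain ⟨m, hm⟩ := mem_powers_iff_mem_zpowers.mpr hzm
    exact hcon ⟨b ^ m, Subgroup.pow_mem _ hb m, by rw [commutator_pow_right hbz]; exact hm⟩
  have h2 : a ∈ Subgroup.centralizer
      ((Subgroup.centralizer (H : Set E) : Subgroup E) : Set E) := fun b hb =>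
    (commutatorElement_eq_one_iff_mul_comm.mp (hall b hb)).symm
  rw [centralizer_centralizer_extraspecial h hH] at h2
  exact hac (hinf ⟨h2, ha⟩)

/-- Adjoining a pair `a, b` of `C(H)` with `⁅a, b⁆ ≠ 1`. -/
theorem symp_step [Finite E] [Fact p.Prime] (h : IsExtraspecial p E) {H : Subgroup E}
    (hH : Subgroup.center E ≤ H)
    (hinf : H ⊓ Subgroup.centralizer (H : Set E) ≤ Subgroup.center E) {a b : E}
    (ha : a ∈ Subgroup.centralizer (H : Set E)) (hb : b ∈ Subgroup.centralizer (H : Set E))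
    (hab : ⁅a, b⁆ ≠ 1) :
    Nat.card ↥(H ⊔ Subgroup.zpowers a ⊔ Subgroup.zpowers b) = Nat.card ↥H * p * p ∧
      (H ⊔ Subgroup.zpowers a ⊔ Subgroup.zpowers b) ⊓
        Subgroup.centralizer ((H ⊔ Subgroup.zpowers a ⊔ Subgroup.zpowers b : Subgroup E) : Set E) ≤
        Subgroup.center E := by
  have hp := (Fact.out (p := p.Prime))
  have := normal_of_center_le h hH
  have hHa : H ≤ Subgroup.centralizer ({a} : Set E) := fun x hx =>
    Subgroup.mem_centralizer_singleton_iff.mpr (ha x hx)
  have hHb : H ≤ Subgroup.centralizer ({b} : Set E) := fun x hx =>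
    Subgroup.mem_centralizer_singleton_iff.mpr (hb x hx)
  have hne : ¬ a * b = b * a := fun hc => hab (commutatorElement_eq_one_iff_mul_comm.mpr hc)
  have haH : a ∉ H := fun hh => hne (hb a hh)
  set A := H ⊔ Subgroup.zpowers a with hA
  have hAa : A ≤ Subgroup.centralizer ({a} : Set E) :=
    sup_le hHa (Subgroup.zpowers_le.mpr (Subgroup.mem_centralizer_singleton_iff.mpr rfl))
  have hbA : b ∉ A := fun hh => hne (Subgroup.mem_centralizer_singleton_iff.mp (hAa hh)).symm
  have : A.Normal := normal_of_center_le h (hH.trans le_sup_left)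
  have hcA : Nat.card ↥A = Nat.card ↥H * p :=
    card_sup_zpowers H haH (hH (special_pow_mem_center h.1 a))
  have hcB : Nat.card ↥(A ⊔ Subgroup.zpowers b) = Nat.card ↥A * p :=
    card_sup_zpowers A hbA ((hH.trans le_sup_left) (special_pow_mem_center h.1 b))
  refine ⟨by rw [hcB, hcA], ?_⟩
  rintro g ⟨hgB, hgC⟩
  rw [SetLike.mem_coe, centralizer_sup_zpowers, hA, centralizer_sup_zpowers] at hgC
  obtain ⟨⟨hgH, hga⟩, hgb⟩ := hgC
  have hgA : g ∈ A := by
    have h1 : A = (A ⊔ Subgroup.zpowers b) ⊓ Subgroup.centralizer ({a} : Set E) := by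
      refine Subgroup.eq_of_le_of_card_ge (le_inf le_sup_left hAa) ?_
      have hlt : (A ⊔ Subgroup.zpowers b) ⊓ Subgroup.centralizer ({a} : Set E) <
          A ⊔ Subgroup.zpowers b :=
        inf_lt_left.mpr fun hc => hne (Subgroup.mem_centralizer_singleton_iff.mp
          (hc (Subgroup.mem_sup_right (Subgroup.mem_zpowers b)))).symm
      refine Nat.le_of_mul_le_mul_left ?_ hp.pos
      rw [mul_comm p (Nat.card ↥A), ← hcB]
      exact mul_card_le_card h.1.1 hlt
    rw [h1]
    exact ⟨hgB, hga⟩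
  have hgHH : g ∈ H := by
    have h1 : H = A ⊓ Subgroup.centralizer ({b} : Set E) := by
      refine Subgroup.eq_of_le_of_card_ge (le_inf le_sup_left hHb) ?_
      have hlt : A ⊓ Subgroup.centralizer ({b} : Set E) < A :=
        inf_lt_left.mpr fun hc => hne (Subgroup.mem_centralizer_singleton_iff.mp
          (hc (Subgroup.mem_sup_right (Subgroup.mem_zpowers a))))
      refine Nat.le_of_mul_le_mul_left ?_ hp.pos
      rw [mul_comm p (Nat.card ↥H), ← hcA]
      exact mul_card_le_card h.1.1 hlt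
    rw [h1]
    exact ⟨hgA, hgb⟩
  exact hinf ⟨hgHH, hgH⟩

theorem isSympSys_update {z : E} {k : ℕ} {x y : ℕ → E} (hs : IsSympSys z k x y) {a b : E}
    (ha : a ∈ Subgroup.centralizer (sympSpan k x y : Set E))
    (hb : b ∈ Subgroup.centralizer (sympSpan k x y : Set E)) (hab : ⁅a, b⁆ = z) :
    IsSympSys z (k + 1) (Function.update x k a) (Function.update y k b) := by
  have hxm : ∀ i, i < k → x i ∈ sympSpan k x y := fun i hi =>
    Subgroup.mem_sup_right (Subgroup.subset_closure (Or.inl ⟨i, hi, rfl⟩))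
  have hym : ∀ i, i < k → y i ∈ sympSpan k x y := fun i hi =>
    Subgroup.mem_sup_right (Subgroup.subset_closure (Or.inr ⟨i, hi, rfl⟩))
  have hc : ∀ {c : E}, c ∈ Subgroup.centralizer (sympSpan k x y : Set E) →
      ∀ g ∈ sympSpan k x y, ⁅c, g⁆ = 1 ∧ ⁅g, c⁆ = 1 := fun hc g hg =>
    ⟨commutatorElement_eq_one_iff_mul_comm.mpr (hc g hg).symm,
      commutatorElement_eq_one_iff_mul_comm.mpr (hc g hg)⟩
  intro i hi j hj
  rcases Nat.lt_succ_iff_lt_or_eq.mp hi with hi' | rfl
  · rcases Nat.lt_succ_iff_lt_or_eq.mp hj with hj' | rfl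
    · rw [Function.update_of_ne hi'.ne, Function.update_of_ne hi'.ne, Function.update_of_ne hj'.ne,
        Function.update_of_ne hj'.ne]
      exact hs i hi' j hj'
    · rw [Function.update_of_ne hi'.ne, Function.update_of_ne hi'.ne, Function.update_self,
        Function.update_self, if_neg hi'.ne]
      exact ⟨(hc ha _ (hxm i hi')).2, (hc hb _ (hym i hi')).2, (hc hb _ (hxm i hi')).2⟩
  · rcases Nat.lt_succ_iff_lt_or_eq.mp hj with hj' | rfl
    · rw [Function.update_of_ne hj'.ne, Function.update_of_ne hj'.ne, Function.update_self,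
        Function.update_self, if_neg hj'.ne']
      exact ⟨(hc ha _ (hxm j hj')).1, (hc hb _ (hym j hj')).1, (hc ha _ (hym j hj')).1⟩
    · rw [Function.update_self, Function.update_self, if_pos rfl]
      exact ⟨commutatorElement_self _, commutatorElement_self _, hab⟩

/-- Iterated extension of symplectic systems whose generators satisfy a property `Q`. -/
theorem exists_sympSys_of_step [Finite E] [Fact p.Prime] (h : IsExtraspecial p E) {z : E}
    (hz1 : z ≠ 1) {n : ℕ} (m : ℕ)
    (Q : E → Prop)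
    (hstep : ∀ k, k < m → ∀ H : Subgroup E, Subgroup.center E ≤ H →
      Nat.card ↥H = p ^ (2 * k + 1) → H ⊓ Subgroup.centralizer (H : Set E) ≤ Subgroup.center E →
      ∃ a ∈ Subgroup.centralizer (H : Set E), ∃ b ∈ Subgroup.centralizer (H : Set E),
        ⁅a, b⁆ = z ∧ Q a ∧ Q b) (hmn : m ≤ n) :
    ∃ x y : ℕ → E, IsSympSys z m x y ∧ Nat.card ↥(sympSpan m x y) = p ^ (2 * m + 1) ∧
      sympSpan m x y ⊓ Subgroup.centralizer (sympSpan m x y : Set E) ≤ Subgroup.center E ∧
      ∀ i, i < m → Q (x i) ∧ Q (y i) := by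
  induction m with
  | zero =>
    refine ⟨fun _ => 1, fun _ => 1, fun i hi => absurd hi (Nat.not_lt_zero i), ?_, ?_,
      fun i hi => absurd hi (Nat.not_lt_zero i)⟩
    · rw [sympSpan_zero, h.2, mul_zero, zero_add, pow_one]
    · rw [sympSpan_zero]; exact inf_le_left
  | succ m ih =>
    obtain ⟨x, y, hs, hc, hinf, hQ⟩ := ih (fun k hk => hstep k (hk.trans (Nat.lt_succ_self m)))
      (by omega)
    obtain ⟨a, ha, b, hb, hab, hQa, hQb⟩ :=
      hstep m (Nat.lt_succ_self m) (sympSpan m x y) (center_le_sympSpan m x y) hc hinf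
    have hst := symp_step h (center_le_sympSpan m x y) hinf ha hb (hab ▸ hz1)
    refine ⟨Function.update x m a, Function.update y m b, isSympSys_update hs ha hb hab, ?_, ?_, ?_⟩
    · rw [sympSpan_update, hst.1, hc, mul_assoc, ← pow_two, ← pow_add]
      congr 1
    · rw [sympSpan_update]; exact hst.2
    · intro i hi
      rcases Nat.lt_succ_iff_lt_or_eq.mp hi with hi' | rfl
      · rw [Function.update_of_ne hi'.ne, Function.update_of_ne hi'.ne]; exact hQ i hi'
      · rw [Function.update_self, Function.update_self]; exact ⟨hQa, hQb⟩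

/-- `C(H)` is not central while `H` is proper. -/
theorem exists_noncentral_centralizer [Finite E] [Fact p.Prime] (h : IsExtraspecial p E)
    {n k : ℕ} (hcard : Nat.card E = p ^ (2 * n + 1)) (hk : k < n) {H : Subgroup E}
    (hH : Subgroup.center E ≤ H) (hHc : Nat.card ↥H = p ^ (2 * k + 1)) :
    ∃ a ∈ Subgroup.centralizer (H : Set E), a ∉ Subgroup.center E := by
  by_contra hcon
  push Not at hcon
  have hp := (Fact.out (p := p.Prime))
  have hle : Subgroup.centralizer (H : Set E) ≤ Subgroup.center E := fun a ha => hcon a ha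
  have h1 := extraspecial_card_mul_card_centralizer h hH
  rw [le_antisymm hle (center_le_centralizer H), h.2, hHc, hcard, mul_comm] at h1
  have := Nat.pow_right_injective hp.two_le (Nat.eq_of_mul_eq_mul_left hp.pos h1)
  omega

/-- Symplectic generators of an extraspecial group of exponent `p`. -/
theorem exists_sympSys_exponent [Finite E] [Fact p.Prime] (h : IsExtraspecial p E)
    (hexp : ∀ g : E, g ^ p = 1) {n : ℕ} (hcard : Nat.card E = p ^ (2 * n + 1)) {z : E}
    (hz : z ∈ Subgroup.center E) (hz1 : z ≠ 1) :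
    ∃ x y : ℕ → E, IsSympSys z n x y ∧ Nat.card ↥(sympSpan n x y) = p ^ (2 * n + 1) ∧
      ∀ i, i < n → x i ^ p = z ^ sympExp n false i ∧ y i ^ p = z ^ sympExp n false i := by
  obtain ⟨x, y, hs, hc, -, -⟩ := exists_sympSys_of_step h hz1 n (fun _ => True)
    (fun k hk H hH hHc hinf => by
      obtain ⟨a, ha, hac⟩ := exists_noncentral_centralizer h hcard hk hH hHc
      obtain ⟨b, hb, hab⟩ := exists_partner h hH hinf ha hac hz hz1
      exact ⟨a, ha, b, hb, hab, trivial, trivial⟩) le_rfl
  exact ⟨x, y, hs, hc, fun i _ => by simp [sympExp, hexp]⟩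

theorem exists_center_ne_one [Finite E] [Fact p.Prime] (h : IsExtraspecial p E) :
    ∃ z : E, z ∈ Subgroup.center E ∧ z ≠ 1 := by
  refine (Subgroup.center E).bot_or_exists_ne_one.resolve_left fun hbot => ?_
  have := h.2
  rw [hbot, Subgroup.card_bot] at this
  exact (Fact.out (p := p.Prime)).ne_one this.symm

theorem eq_or_eq_of_mem_center [Finite E] (h : IsExtraspecial 2 E) {z c : E}
    (hz : z ∈ Subgroup.center E) (hz1 : z ≠ 1) (hc : c ∈ Subgroup.center E) : c = 1 ∨ c = z := by
  have : Fact (Nat.Prime 2) := ⟨Nat.prime_two⟩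
  have hc2 : c ∈ Subgroup.zpowers z := by rw [center_eq_zpowers h hz hz1]; exact hc
  have hord : orderOf z = 2 := orderOf_eq_prime (special_center_pow h.1 hz) hz1
  obtain ⟨m, hm⟩ := mem_powers_iff_mem_zpowers.mpr hc2
  have hm' : z ^ m = c := hm
  rw [← pow_mod_orderOf, hord] at hm'
  rcases Nat.mod_two_eq_zero_or_one m with hm2 | hm2
  · rw [hm2, pow_zero] at hm'; exact Or.inl hm'.symm
  · rw [hm2, pow_one] at hm'; exact Or.inr hm'.symm

/-- A non-central involution of `C(H)` has an involution partner in `C(H)`. -/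
theorem exists_involution_pair [Finite E] (h : IsExtraspecial 2 E) {H : Subgroup E}
    (hH : Subgroup.center E ≤ H)
    (hinf : H ⊓ Subgroup.centralizer (H : Set E) ≤ Subgroup.center E) {a : E}
    (ha : a ∈ Subgroup.centralizer (H : Set E)) (hac : a ∉ Subgroup.center E) (ha2 : a ^ 2 = 1)
    {z : E} (hz : z ∈ Subgroup.center E) (hz1 : z ≠ 1) :
    ∃ b ∈ Subgroup.centralizer (H : Set E), ⁅a, b⁆ = z ∧ b ^ 2 = 1 := by
  have : Fact (Nat.Prime 2) := ⟨Nat.prime_two⟩
  obtain ⟨b, hb, hab⟩ := exists_partner h hH hinf ha hac hz hz1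
  rcases eq_or_eq_of_mem_center h hz hz1 (special_pow_mem_center h.1 b) with h1 | h1
  · exact ⟨b, hb, hab, h1⟩
  · refine ⟨b * a, Subgroup.mul_mem _ hb ha, ?_, ?_⟩
    · rw [commutator_mul_right (by rw [commutatorElement_self]; exact Subgroup.one_mem _), hab,
        commutatorElement_self, mul_one]
    · rw [mul_pow_of_central (hab ▸ hz), h1, ha2, mul_one, hab, Nat.choose_self, pow_one, ← pow_two]
      exact special_center_pow h.1 hz

/-- `C(H)` contains a non-central involution as long as at least two pairs are missing. -/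
theorem exists_involution_centralizer [Finite E] (h : IsExtraspecial 2 E) {n k : ℕ}
    (hcard : Nat.card E = 2 ^ (2 * n + 1)) (hk : k + 1 < n) {H : Subgroup E}
    (hH : Subgroup.center E ≤ H) (hHc : Nat.card ↥H = 2 ^ (2 * k + 1)) {z : E}
    (hz : z ∈ Subgroup.center E) (hz1 : z ≠ 1) :
    ∃ a ∈ Subgroup.centralizer (H : Set E), a ∉ Subgroup.center E ∧ a ^ 2 = 1 := by
  have : Fact (Nat.Prime 2) := ⟨Nat.prime_two⟩
  obtain ⟨a, ha, hac⟩ :=
    exists_noncentral_centralizer h hcard (show k < n by omega) hH hHc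
  have := normal_of_center_le h (le_refl (Subgroup.center E))
  have hZa : Nat.card ↥(Subgroup.center E ⊔ Subgroup.zpowers a) = 4 := by
    rw [card_sup_zpowers (p := 2) _ hac (special_pow_mem_center h.1 a), h.2]
  have hbig : ¬ (Subgroup.centralizer (H : Set E) ⊓ Subgroup.centralizer ({a} : Set E)) ≤
      Subgroup.center E ⊔ Subgroup.zpowers a := by
    intro hle
    have h1 := extraspecial_card_mul_card_centralizer h hH
    have h2 := card_centralizer_le_mul (Subgroup.center E) le_rfl h.2 H a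
      (fun g _ => special_commutator_mem_center h.1 g a)
    rw [centralizer_sup_zpowers] at h2
    have h3 := Subgroup.card_le_of_le hle
    rw [hZa] at h3
    have h4 : Nat.card ↥(Subgroup.centralizer (H : Set E)) ≤ 2 ^ 3 := by
      exact h2.trans ((Nat.mul_le_mul_right 2 h3).trans (by norm_num))
    rw [hHc, hcard] at h1
    have h5 : 2 * 2 ^ (2 * n + 1) ≤ 2 ^ (2 * k + 1) * 2 ^ 3 := h1 ▸ Nat.mul_le_mul_left _ h4
    rw [← pow_succ', ← pow_add] at h5
    have := (Nat.pow_le_pow_iff_right Nat.one_lt_two).mp h5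
    omega
  obtain ⟨b, ⟨hb, hba⟩, hbn⟩ := SetLike.not_le_iff_exists.mp hbig
  have hbc : b ∉ Subgroup.center E := fun hh => hbn (Subgroup.mem_sup_left hh)
  rcases eq_or_eq_of_mem_center h hz hz1 (special_pow_mem_center h.1 a) with ha2 | ha2
  · exact ⟨a, ha, hac, ha2⟩
  rcases eq_or_eq_of_mem_center h hz hz1 (special_pow_mem_center h.1 b) with hb2 | hb2
  · exact ⟨b, hb, hbc, hb2⟩
  refine ⟨a * b, Subgroup.mul_mem _ ha hb, fun hab => hbn ?_, ?_⟩
  · have : b = a⁻¹ * (a * b) := by group
    rw [this]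
    exact Subgroup.mul_mem _ (Subgroup.inv_mem _ (Subgroup.mem_sup_right (Subgroup.mem_zpowers a)))
      (Subgroup.mem_sup_left hab)
  · have hcomm : Commute a b := (Subgroup.mem_centralizer_singleton_iff.mp hba).symm
    rw [hcomm.mul_pow, ha2, hb2, ← pow_two]
    exact special_center_pow h.1 hz

/-- Symplectic generators of an extraspecial `2`-group: all but possibly the last pair are
involutions, and the last pair consists either of involutions or of elements squaring to `z`. -/
theorem exists_sympSys_two [Finite E] (h : IsExtraspecial 2 E) {n : ℕ}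
    (hcard : Nat.card E = 2 ^ (2 * n + 1)) {z : E} (hz : z ∈ Subgroup.center E) (hz1 : z ≠ 1) :
    ∃ (ε : Bool) (x y : ℕ → E), IsSympSys z n x y ∧
      Nat.card ↥(sympSpan n x y) = 2 ^ (2 * n + 1) ∧
      ∀ i, i < n → x i ^ 2 = z ^ sympExp n ε i ∧ y i ^ 2 = z ^ sympExp n ε i := by
  have : Fact (Nat.Prime 2) := ⟨Nat.prime_two⟩
  obtain ⟨x, y, hs, hc, hinf, hQ⟩ := exists_sympSys_of_step h hz1 (n - 1)
    (fun g => g ^ 2 = 1) (fun k hk H hH hHc hinf => by
      obtain ⟨a, ha, hac, ha2⟩ :=
        exists_involution_centralizer h hcard (show k + 1 < n by omega) hH hHc hz hz1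
      obtain ⟨b, hb, hab, hb2⟩ := exists_involution_pair h hH hinf ha hac ha2 hz hz1
      exact ⟨a, ha, b, hb, hab, ha2, hb2⟩) (Nat.sub_le n 1)
  rcases n with _ | n
  · exact ⟨false, x, y, hs, hc, fun i hi => absurd hi (Nat.not_lt_zero i)⟩
  have hn1 : n + 1 - 1 = n := by omega
  rw [hn1] at hs hc hinf hQ
  have key : ∀ (ε : Bool) (a b : E), a ∈ Subgroup.centralizer (sympSpan n x y : Set E) →
      b ∈ Subgroup.centralizer (sympSpan n x y : Set E) → ⁅a, b⁆ = z →
      a ^ 2 = z ^ sympExp (n + 1) ε n → b ^ 2 = z ^ sympExp (n + 1) ε n →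
      ∃ (ε : Bool) (x y : ℕ → E), IsSympSys z (n + 1) x y ∧
        Nat.card ↥(sympSpan (n + 1) x y) = 2 ^ (2 * (n + 1) + 1) ∧
        ∀ i, i < n + 1 → x i ^ 2 = z ^ sympExp (n + 1) ε i ∧ y i ^ 2 = z ^ sympExp (n + 1) ε i := by
    intro ε a b ha hb hab ha2 hb2
    refine ⟨ε, Function.update x n a, Function.update y n b, isSympSys_update hs ha hb hab, ?_, ?_⟩
    · rw [sympSpan_update, (symp_step h (center_le_sympSpan n x y) hinf ha hb (hab ▸ hz1)).1, hc,
        mul_assoc, ← pow_two, ← pow_add]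
      congr 1
    · intro i hi
      rcases Nat.lt_succ_iff_lt_or_eq.mp hi with hi' | rfl
      · have he : sympExp (n + 1) ε i = 0 := if_neg fun hh => by omega
        rw [Function.update_of_ne hi'.ne, Function.update_of_ne hi'.ne, he, pow_zero]
        exact hQ i hi'
      · rw [Function.update_self, Function.update_self]; exact ⟨ha2, hb2⟩
  by_cases hinv : ∃ a ∈ Subgroup.centralizer (sympSpan n x y : Set E),
      a ∉ Subgroup.center E ∧ a ^ 2 = 1
  · obtain ⟨a, ha, hac, ha2⟩ := hinv
    obtain ⟨b, hb, hab, hb2⟩ :=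
      exists_involution_pair h (center_le_sympSpan n x y) hinf ha hac ha2 hz hz1
    exact key false a b ha hb hab (by simp [sympExp, ha2]) (by simp [sympExp, hb2])
  · push Not at hinv
    obtain ⟨a, ha, hac⟩ := exists_noncentral_centralizer h hcard (Nat.lt_succ_self n)
      (center_le_sympSpan n x y) hc
    obtain ⟨b, hb, hab⟩ := exists_partner h (center_le_sympSpan n x y) hinf ha hac hz hz1
    have hbc : b ∉ Subgroup.center E := fun hh => hz1 (by
      rw [← hab]
      exact commutatorElement_eq_one_iff_mul_comm.mpr (Subgroup.mem_center_iff.mp hh a))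
    have hsq : ∀ c ∈ Subgroup.centralizer (sympSpan n x y : Set E), c ∉ Subgroup.center E →
        c ^ 2 = z := fun c hc hcc =>
      (eq_or_eq_of_mem_center h hz hz1 (special_pow_mem_center h.1 c)).resolve_left (hinv c hc hcc)
    exact key true a b ha hb hab (by simp [sympExp, hsq a ha hac]) (by simp [sympExp, hsq b hb hbc])

theorem closure_insert_sympGen [Finite E] [Fact p.Prime] (h : IsExtraspecial p E) {z : E}
    (hz : z ∈ Subgroup.center E) (hz1 : z ≠ 1) {n : ℕ} {x y : ℕ → E}
    (hspan : sympSpan n x y = ⊤) :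
    Subgroup.closure
      (insert z (Set.range fun q : Fin n × Bool => if q.2 then y q.1 else x q.1)) = ⊤ := by
  rw [eq_top_iff, ← hspan, sympSpan]
  refine sup_le ?_ ((Subgroup.closure_le _).mpr ?_)
  · rw [← center_eq_zpowers h hz hz1, Subgroup.zpowers_le]
    exact Subgroup.subset_closure (Set.mem_insert _ _)
  · rintro _ (⟨i, hi, rfl⟩ | ⟨i, hi, rfl⟩)
    · exact Subgroup.subset_closure
        (Set.mem_insert_of_mem _ ⟨(⟨i, hi⟩, false), by simp⟩)
    · exact Subgroup.subset_closure
        (Set.mem_insert_of_mem _ ⟨(⟨i, hi⟩, true), by simp⟩)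

theorem sympGen_commutator {z : E} {n : ℕ} {x y : ℕ → E} (hs : IsSympSys z n x y)
    (q r : Fin n × Bool) :
    ⁅(if q.2 then y q.1 else x q.1), (if r.2 then y r.1 else x r.1)⁆ =
      z ^ (if q.1 = r.1 then (if q.2 then (if r.2 then (0 : ℤ) else -1)
        else (if r.2 then 1 else 0)) else 0) := by
  obtain ⟨i, a⟩ := q
  obtain ⟨j, b⟩ := r
  obtain ⟨hxx, hyy, hxy⟩ := hs i i.2 j j.2
  have hyx : ⁅y i, x j⁆ = (if (i : ℕ) = j then z else 1)⁻¹ := by
    rw [← commutatorElement_inv, (hs j j.2 i i.2).2.2]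
    by_cases hij : (i : ℕ) = j
    · rw [if_pos hij, if_pos hij.symm]
    · rw [if_neg hij, if_neg (Ne.symm hij)]
  by_cases hij : i = j
  · subst hij
    cases a <;> cases b <;> simp_all
  · have hne : (i : ℕ) ≠ j := fun hh => hij (Fin.ext hh)
    cases a <;> cases b <;> simp_all

end Symp

/-- Extraspecial groups with symplectic systems of the same type are isomorphic. -/
theorem nonempty_mulEquiv_of_sympSys {E₁ : Type u} {E₂ : Type v} [Group E₁] [Group E₂]
    [Finite E₁] [Finite E₂] {p : ℕ} [Fact p.Prime] (h₁ : IsExtraspecial p E₁)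
    (h₂ : IsExtraspecial p E₂) {n : ℕ} {ε : Bool} {z₁ : E₁} {z₂ : E₂}
    (hz₁ : z₁ ∈ Subgroup.center E₁) (hz₁' : z₁ ≠ 1) (hz₂ : z₂ ∈ Subgroup.center E₂)
    (hz₂' : z₂ ≠ 1) {x₁ y₁ : ℕ → E₁} {x₂ y₂ : ℕ → E₂}
    (hc₁ : Nat.card E₁ = p ^ (2 * n + 1)) (hc₂ : Nat.card E₂ = p ^ (2 * n + 1))
    (hs₁ : IsSympSys z₁ n x₁ y₁) (hs₂ : IsSympSys z₂ n x₂ y₂)
    (hg₁ : Nat.card ↥(sympSpan n x₁ y₁) = p ^ (2 * n + 1))
    (hg₂ : Nat.card ↥(sympSpan n x₂ y₂) = p ^ (2 * n + 1))
    (he₁ : ∀ i, i < n → x₁ i ^ p = z₁ ^ sympExp n ε i ∧ y₁ i ^ p = z₁ ^ sympExp n ε i)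
    (he₂ : ∀ i, i < n → x₂ i ^ p = z₂ ^ sympExp n ε i ∧ y₂ i ^ p = z₂ ^ sympExp n ε i) :
    Nonempty (E₁ ≃* E₂) := by
  have hι : p ^ (Fintype.card (Fin n × Bool) + 1) = p ^ (2 * n + 1) := by
    rw [Fintype.card_prod, Fintype.card_fin, Fintype.card_bool, mul_comm]
  refine nonempty_mulEquiv_of_generators (p := p)
    (fun q : Fin n × Bool => if q.2 then y₁ q.1 else x₁ q.1)
    (fun q : Fin n × Bool => if q.2 then y₂ q.1 else x₂ q.1) hz₁ hz₂
    (special_center_pow h₁.1 hz₁) (special_center_pow h₂.1 hz₂)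
    (closure_insert_sympGen h₁ hz₁ hz₁'
      (Subgroup.eq_top_of_card_eq _ (hg₁.trans hc₁.symm)))
    (closure_insert_sympGen h₂ hz₂ hz₂'
      (Subgroup.eq_top_of_card_eq _ (hg₂.trans hc₂.symm)))
    _ (sympGen_commutator hs₁) (sympGen_commutator hs₂)
    (fun q => (sympExp n ε q.1 : ℤ)) ?_ ?_ (hι ▸ hc₁.ge) (hι ▸ hc₂.ge)
  · rintro ⟨i, _ | _⟩
    · simpa using (he₁ i i.2).1
    · simpa using (he₁ i i.2).2
  · rintro ⟨i, _ | _⟩
    · simpa using (he₂ i i.2).1
    · simpa using (he₂ i i.2).2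

end Cfsg.Agent.PGroup
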