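import Cfsg.Agent.Lib.PGroup.Frattini
import Cfsg.Agent.Lib.PGroup.Class2
import Mathlib.GroupTheory.Nilpotent

/-!
# `p`-th powers when the elements of order `p` are central, `p` odd

* `div_pow_eq_one`: `x ^ p = y ^ p` implies `(x y⁻¹) ^ p = 1`;
* `frattini_index_le`: `[G : Φ(G)] ≤ #{x | x ^ p = 1}` (Thompson).
-/

set_option autoImplicit false

namespace Cfsg.Agent.PGroup

open scoped commutatorElement

variable {p : ℕ} [Fact p.Prime]

theorem div_pow_eq_one_aux (hp : p ≠ 2) : ∀ N : ℕ, ∀ {G : Type*} [Group G] [Finite G],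
    Nat.card G ≤ N → IsPGroup p G → (∀ z : G, z ^ p = 1 → z ∈ Subgroup.center G) →
      ∀ x y : G, x ^ p = y ^ p → (x * y⁻¹) ^ p = 1 := by
  intro N
  induction N with
  | zero => intro G _ _ h; exact absurd h (Nat.card_pos).not_ge
  | succ N ih =>
    intro G _ _ hcard hG hz x y hxy
    -- proper subgroups
    have hsub : ∀ K : Subgroup G, K ≠ ⊤ → ∀ a b : G, a ∈ K → b ∈ K → a ^ p = b ^ p → (a * b⁻¹) ^ p = 1 := by
      intro K hK a b ha hb hab
      have hlt : Nat.card K < Nat.card G := lt_of_le_of_ne K.card_le_card_group fun h =>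
        hK (Subgroup.eq_top_of_card_eq K h)
      have := ih (G := K) (by omega) (hG.to_subgroup K) (fun z hz' => Subgroup.mem_center_iff.2 fun w =>
        Subtype.ext (Subgroup.mem_center_iff.1 (hz z (by exact_mod_cast congrArg Subtype.val hz')) w))
        ⟨a, ha⟩ ⟨b, hb⟩ (Subtype.ext (by simpa using hab))
      simpa using congrArg Subtype.val this
    by_cases htop : Subgroup.closure ({x, y} : Set G) ≠ ⊤
    · exact hsub _ htop x y (Subgroup.subset_closure (by simp)) (Subgroup.subset_closure (by simp)) hxy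
    push Not at htop
    -- `c` has order `p`
    have hc : ⁅y, x⁆ ^ p = 1 := by
      have hconj : (y * x * y⁻¹) ^ p = x ^ p := by
        rw [conj_pow, hxy, ← pow_succ', mul_inv_eq_iff_eq_mul, ← pow_succ]
      by_cases hx : Subgroup.closure ({x} : Set G) = ⊤
      · have hy : y ∈ Subgroup.zpowers x := by
          rw [Subgroup.zpowers_eq_closure, hx]; exact Subgroup.mem_top y
        obtain ⟨k, rfl⟩ := hy
        rw [(commutatorElement_eq_one_iff_mul_comm.2 (Commute.zpow_self x k).eq), one_pow]
      obtain ⟨K, hK, hxK⟩ := (eq_top_or_exists_le_coatom (Subgroup.closure ({x} : Set G))).resolve_left hx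
      have hKn := normal_of_isCoatom hG hK
      have hxm : x ∈ K := hxK (Subgroup.subset_closure rfl)
      have := hsub K hK.1 _ _ (hKn.conj_mem x hxm y) hxm hconj
      simpa [commutatorElement_def] using this
    have hcz : ⁅y, x⁆ ∈ Subgroup.center G := hz _ hc
    have hd : ⁅y⁻¹, x⁆ = ⁅y, x⁆⁻¹ := commutator_inv_left hcz
    rw [mul_pow_prime (Fact.out : p.Prime) hp (hd ▸ inv_mem hcz) (by rw [hd, inv_pow, hc, inv_one]), inv_pow, hxy,
      mul_inv_cancel]

variable {G : Type*} [Group G] [Finite G]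

/-- For `p` odd and `p`-elements of order `p` central, equal `p`-th powers differ by order `p`. -/
theorem div_pow_eq_one (hp : p ≠ 2) (hG : IsPGroup p G)
    (hz : ∀ z : G, z ^ p = 1 → z ∈ Subgroup.center G) {x y : G} (hxy : x ^ p = y ^ p) :
    (x * y⁻¹) ^ p = 1 :=
  div_pow_eq_one_aux hp _ le_rfl hG hz x y hxy

/-- Thompson: `[G : Φ(G)]` is at most the number of solutions of `x ^ p = 1`. -/
theorem frattini_index_le (hp : p ≠ 2) (hG : IsPGroup p G)
    (hz : ∀ z : G, z ^ p = 1 → z ∈ Subgroup.center G) :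
    (frattini G).index ≤ Nat.card {x : G // x ^ p = 1} := by
  classical
  have := Fintype.ofFinite G
  let r : G → G := fun x => Function.invFun (fun a : G => a ^ p) (x ^ p)
  have hr : ∀ x, r x ^ p = x ^ p := fun x => Function.invFun_eq (f := fun a : G => a ^ p) ⟨x, rfl⟩
  have hinj : Function.Injective
      (fun x : G => ((⟨x * (r x)⁻¹, div_pow_eq_one hp hG hz (hr x).symm⟩ : {x : G // x ^ p = 1}),
        (⟨x ^ p, pow_mem_frattini hG x⟩ : frattini G))) := by
    intro a b h
    simp only [Prod.mk.injEq, Subtype.mk.injEq] at h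
    obtain ⟨h1, h2⟩ := h
    simp only [r, h2] at h1
    exact mul_right_cancel h1
  have h1 := Nat.card_le_card_of_injective _ hinj
  rw [Nat.card_prod, ← (frattini G).card_mul_index, mul_comm (Nat.card {x : G // x ^ p = 1})] at h1
  exact Nat.le_of_mul_le_mul_left h1 Nat.card_pos

end Cfsg.Agent.PGroup
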