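import Cfsg.Prelude.Def_Transfer
import Cfsg.Agent.Lib.PGroup.Frattini
import Cfsg.Agent.Lib.PGroup.Class2
import Cfsg.Agent.Lib.PGroup.CyclicMaximal

/-!
A nonabelian `p`-group with `|G'| = p`, `Φ(G) ≤ G'`, an elementary abelian maximal subgroup and an
element of order `p` outside it is `E × A` with `|E| = p ^ 3` and `A` elementary abelian.
-/

set_option autoImplicit false

namespace Cfsg.Agent.PGroup

open scoped commutatorElement

variable {G : Type*} [Group G] [Finite G] {p : ℕ} [hp : Fact p.Prime]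

theorem exists_prod_of_abelian_maximal (hG : IsPGroup p G)
    (hd : Nat.card ↥(commutator G) = p) (C : Subgroup G)
    (hCi : C.index = p) (hCc : ∀ a ∈ C, ∀ b ∈ C, a * b = b * a) (hCe : ∀ a ∈ C, a ^ p = 1)
    (x : G) (hx : x ∉ C) (hxp : x ^ p = 1) :
    ∃ (E A : Subgroup G) (c : ↥E) (x' : ↥E), (∀ a ∈ A, ∀ b ∈ A, a * b = b * a) ∧
      (∀ a ∈ A, a ^ p = 1) ∧ Nat.card E = p ^ 3 ∧ Nonempty (G ≃* E × A) ∧
      c ^ p = 1 ∧ x' ^ p = 1 ∧ ⁅c, x'⁆ ≠ 1 ∧ ⁅c, x'⁆ ∈ Subgroup.center E ∧
      Subgroup.center E = Subgroup.zpowers ⁅c, x'⁆ ∧ commutator E = Subgroup.zpowers ⁅c, x'⁆ := by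
  classical
  set Z := commutator G with hZdef
  have hZc : Z ≤ Subgroup.center G := le_center_of_card_eq hG Z hd
  have hCn : C.Normal := normal_of_index_eq hG hCi
  have hgen : C ⊔ Subgroup.zpowers x = ⊤ := by
    refine Subgroup.eq_top_of_card_eq _ ?_
    rw [card_sup_zpowers C hx (by rw [hxp]; exact C.one_mem), ← hCi, Subgroup.card_mul_index]
  have hcen : ∀ a ∈ C, ⁅a, x⁆ = 1 → a ∈ Subgroup.center G := by
    intro a ha hax
    refine Subgroup.mem_center_iff.2 fun g => ?_
    have hle : C ⊔ Subgroup.zpowers x ≤ Subgroup.centralizer {a} := sup_le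
      (fun b hb => Subgroup.mem_centralizer_singleton_iff.2 (hCc b hb a ha))
      (Subgroup.zpowers_le.2 (Subgroup.mem_centralizer_singleton_iff.2
        (commutatorElement_eq_one_iff_mul_comm.1 hax).symm))
    exact Subgroup.mem_centralizer_singleton_iff.1 (hle (hgen ▸ Subgroup.mem_top g))
  have hnab : ¬ ∀ a ∈ C, ⁅a, x⁆ = 1 := by
    intro h
    have h1 : C ≤ Subgroup.center G := fun a ha => hcen a ha (h a ha)
    have htop : Subgroup.center G = ⊤ := by
      refine eq_top_iff.2 (hgen ▸ sup_le h1 (Subgroup.zpowers_le.2 ?_))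
      refine Subgroup.mem_center_iff.2 fun g => ?_
      have hle : C ⊔ Subgroup.zpowers x ≤ Subgroup.centralizer {x} := sup_le
        (fun b hb => Subgroup.mem_centralizer_singleton_iff.2
          (commutatorElement_eq_one_iff_mul_comm.1 (h b hb)))
        (Subgroup.zpowers_le.2 (Subgroup.mem_centralizer_singleton_iff.2 rfl))
      exact Subgroup.mem_centralizer_singleton_iff.1 (hle (hgen ▸ Subgroup.mem_top g))
    have hbot : Z = ⊥ := by
      rw [hZdef, commutator_def, Subgroup.commutator_eq_bot_iff_le_centralizer]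
      intro a _ b _
      exact (Subgroup.mem_center_iff.1 (htop ▸ Subgroup.mem_top a : a ∈ Subgroup.center G) b)
    rw [hbot, Subgroup.card_bot] at hd
    exact hp.out.one_lt.ne hd
  push Not at hnab
  obtain ⟨c, hcC, hw1⟩ := hnab
  set w := ⁅c, x⁆ with hwdef
  have hwZ : w ∈ Z := by
    rw [hwdef, hZdef, commutator_def]
    exact Subgroup.commutator_mem_commutator (Subgroup.mem_top _) (Subgroup.mem_top _)
  have hwc := hZc hwZ
  have hwC : w ∈ C := by
    rw [hwdef, commutatorElement_def, mul_assoc, mul_assoc]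
    exact C.mul_mem hcC (by simpa [mul_assoc] using hCn.conj_mem _ (C.inv_mem hcC) x)
  have hwp : w ^ p = 1 := hCe w hwC
  have hZw : Z = Subgroup.zpowers w := by
    refine (Subgroup.eq_of_le_of_card_ge (Subgroup.zpowers_le.2 hwZ) ?_).symm
    rw [Nat.card_zpowers, orderOf_eq_prime hwp hw1, hd]
  have hZC : Z ≤ C := hZw ▸ Subgroup.zpowers_le.2 hwC
  -- the centre inside `C`
  set K := C ⊓ Subgroup.center G with hKdef
  have hZK : Z ≤ K := le_inf hZC hZc
  have hclass : ∀ a b : G, ⁅a, b⁆ ∈ Subgroup.center G := fun a b => hZc (by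
    rw [hZdef, commutator_def]
    exact Subgroup.commutator_mem_commutator (Subgroup.mem_top _) (Subgroup.mem_top _))
  let f := commHom C x fun a _ => hclass a x
  have hfk : f.ker.map C.subtype = K := by
    ext a
    constructor
    · rintro ⟨b, hb, rfl⟩
      exact ⟨b.2, hcen b b.2 (congrArg Subtype.val (MonoidHom.mem_ker.1 hb))⟩
    · rintro ⟨ha, hac⟩
      refine ⟨⟨a, ha⟩, MonoidHom.mem_ker.2 (Subtype.ext ?_), rfl⟩
      exact commutatorElement_eq_one_iff_mul_comm.2 (Subgroup.mem_center_iff.1 hac x).symm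
  have hCK : Nat.card C = Nat.card K * p := by
    rw [← hfk, Subgroup.card_map_of_injective C.subtype_injective, ← Subgroup.card_mul_index f.ker,
      Subgroup.index_ker]
    congr 1
    have hr : f.range.map (Subgroup.center G).subtype = Z := by
      refine le_antisymm ?_ (hZw ▸ Subgroup.zpowers_le.2 ⟨_, ⟨⟨c, hcC⟩, rfl⟩, rfl⟩)
      rintro _ ⟨_, ⟨b, rfl⟩, rfl⟩
      rw [hZdef, commutator_def]
      exact Subgroup.commutator_mem_commutator (Subgroup.mem_top _) (Subgroup.mem_top _)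
    rw [← Subgroup.card_map_of_injective (Subgroup.center G).subtype_injective, hr, hd]
  -- a complement of `Z` in `K`
  obtain ⟨A, ⟨hAK, hAZ⟩, hAmax⟩ := Set.Finite.exists_maximalFor id {A : Subgroup G | A ≤ K ∧ A ⊓ Z = ⊥}
    (Set.toFinite _) ⟨⊥, bot_le, bot_inf_eq _⟩
  have hAn : A.Normal :=
    ⟨fun a ha g => by rw [Subgroup.mem_center_iff.1 (hAK ha).2 g, mul_inv_cancel_right]; exact ha⟩
  have hwA : w ∉ A := fun h => hw1 (by
    have h2 : w ∈ A ⊓ Z := ⟨h, hwZ⟩
    rw [hAZ, Subgroup.mem_bot] at h2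
    exact h2)
  have hKA : Nat.card K = Nat.card A * p := by
    suffices h : A ⊔ Subgroup.zpowers w = K by
      rw [← card_sup_zpowers A hwA (by rw [hwp]; exact A.one_mem), h]
    rw [← hZw]
    refine le_antisymm (sup_le hAK hZK) fun k hk => ?_
    by_contra hkn
    have hkA : k ∉ A := fun h => hkn (Subgroup.mem_sup_left h)
    have hnot : ¬ (A ⊔ Subgroup.zpowers k ≤ K ∧ (A ⊔ Subgroup.zpowers k) ⊓ Z = ⊥) := fun h =>
      hkA (hAmax h le_sup_left (Subgroup.mem_sup_right (Subgroup.mem_zpowers k)))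
    refine hnot ⟨sup_le hAK (Subgroup.zpowers_le.2 hk), eq_bot_iff.2 fun z hz => ?_⟩
    obtain ⟨hzs, hzZ⟩ := hz
    have hzs' : z ∈ ((A ⊔ Subgroup.zpowers k : Subgroup G) : Set G) := hzs
    rw [Subgroup.normal_mul] at hzs'
    obtain ⟨a, ha, b, hb, rfl⟩ := hzs'
    obtain ⟨i, rfl⟩ := Subgroup.mem_zpowers_iff.1 hb
    by_cases hi : (p : ℤ) ∣ i
    · obtain ⟨j, rfl⟩ := hi
      have h1 : k ^ ((p : ℤ) * j) = 1 := by rw [zpow_mul, zpow_natCast, hCe k hk.1, one_zpow]
      simp only [h1, mul_one] at hzZ ⊢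
      exact hAZ.le ⟨ha, hzZ⟩
    · exfalso
      apply hkn
      have hkm : k ^ i ∈ A ⊔ Z := by
        have := Subgroup.mul_mem _ (Subgroup.mem_sup_left (T := Z) (A.inv_mem ha))
          (Subgroup.mem_sup_right (S := A) hzZ)
        simpa using this
      obtain ⟨u, v, huv⟩ := ((Nat.prime_iff_prime_int.1 hp.out).coprime_iff_not_dvd.2 hi)
      have : k = (k ^ i) ^ v * (k ^ (p : ℤ)) ^ u := by
        rw [← zpow_mul, ← zpow_mul, ← zpow_add, show i * v + (p : ℤ) * u = 1 by linear_combination huv,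
          zpow_one]
      rw [this, zpow_natCast, hCe k hk.1, one_zpow, mul_one]
      exact Subgroup.zpow_mem _ hkm v
  -- the subgroup of order `p ^ 3`
  set E0 := Z ⊔ Subgroup.zpowers c with hE0
  have hcZ : c ∉ Z := fun h =>
    hw1 (commutatorElement_eq_one_iff_mul_comm.2 (Subgroup.mem_center_iff.1 (hZc h) x).symm)
  have hE0c : Nat.card E0 = p * p := by
    rw [hE0, card_sup_zpowers Z hcZ (by rw [hCe c hcC]; exact Z.one_mem), hd]
  have hnorm : ∀ H : Subgroup G, Z ≤ H → H.Normal := fun H hH => ⟨fun a ha g => by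
    have h1 : ⁅g, a⁆ ∈ H := hH (by
      rw [hZdef, commutator_def]
      exact Subgroup.commutator_mem_commutator (Subgroup.mem_top _) (Subgroup.mem_top _))
    simpa [commutatorElement_def] using H.mul_mem h1 ha⟩
  have hE0n : E0.Normal := hnorm _ le_sup_left
  have hE0C : E0 ≤ C := sup_le hZC (Subgroup.zpowers_le.2 hcC)
  set E := E0 ⊔ Subgroup.zpowers x with hE
  have hxE0 : x ∉ E0 := fun h => hx (hE0C h)
  have hEc : Nat.card E = p ^ 3 := by
    rw [hE, card_sup_zpowers E0 hxE0 (by rw [hxp]; exact E0.one_mem), hE0c]; ring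
  have hcE : c ∈ E := Subgroup.mem_sup_left (Subgroup.mem_sup_right (Subgroup.mem_zpowers c))
  have hxE : x ∈ E := Subgroup.mem_sup_right (Subgroup.mem_zpowers x)
  -- central elements of `E` lie in `Z`
  have hkey : ∀ e ∈ E, Commute e c → Commute e x → e ∈ Z := by
    intro e he hec hex
    have he' : e ∈ ((E0 ⊔ Subgroup.zpowers x : Subgroup G) : Set G) := he
    rw [Subgroup.normal_mul] at he'
    obtain ⟨a, ha, b, hb, rfl⟩ := he'
    obtain ⟨i, rfl⟩ := Subgroup.mem_zpowers_iff.1 hb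
    have h1 : ⁅x ^ i, c⁆ = 1 := by
      refine commutatorElement_eq_one_iff_mul_comm.2 ?_
      have h2 : Commute a c := hCc a (hE0C ha) c hcC
      simpa using (h2.inv_left.mul_left hec).eq
    rw [commutator_zpow_left (hclass x c), ← commutatorElement_inv, ← hwdef, inv_zpow, inv_eq_one,
      ← orderOf_dvd_iff_zpow_eq_one, orderOf_eq_prime hwp hw1] at h1
    obtain ⟨j, rfl⟩ := h1
    have hxi : x ^ ((p : ℤ) * j) = 1 := by rw [zpow_mul, zpow_natCast, hxp, one_zpow]
    simp only [hxi, mul_one] at hex ⊢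
    -- `a = z c ^ m`
    have ha' : a ∈ ((Z ⊔ Subgroup.zpowers c : Subgroup G) : Set G) := ha
    have : Z.Normal := hnorm Z le_rfl
    rw [Subgroup.normal_mul] at ha'
    obtain ⟨z, hz, b, hb, rfl⟩ := ha'
    obtain ⟨m, rfl⟩ := Subgroup.mem_zpowers_iff.1 hb
    have h3 : ⁅c ^ m, x⁆ = 1 := by
      refine commutatorElement_eq_one_iff_mul_comm.2 ?_
      have hzx : Commute z x := (Subgroup.mem_center_iff.1 (hZc hz) x).symm
      simpa using (hzx.inv_left.mul_left hex).eq
    rw [commutator_zpow_left (hclass c x), ← hwdef, ← orderOf_dvd_iff_zpow_eq_one,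
      orderOf_eq_prime hwp hw1] at h3
    obtain ⟨n, rfl⟩ := h3
    simpa only [zpow_mul, zpow_natCast, hCe c hcC, one_zpow, mul_one, SetLike.mem_coe] using hz
  have hwE : w ∈ E := Subgroup.mem_sup_left (Subgroup.mem_sup_left hwZ)
  have hwE' : ⁅(⟨c, hcE⟩ : E), (⟨x, hxE⟩ : E)⁆ = (⟨w, hwE⟩ : E) := Subtype.ext rfl
  have hzw : ∀ e : E, (e : G) ∈ Z → e ∈ Subgroup.zpowers (⟨w, hwE⟩ : E) := fun e he => by
    rw [hZw] at he
    obtain ⟨m, hm⟩ := Subgroup.mem_zpowers_iff.1 he
    exact Subgroup.mem_zpowers_iff.2 ⟨m, Subtype.ext hm⟩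
  refine ⟨E, A, ⟨c, hcE⟩, ⟨x, hxE⟩, fun a ha b _ => ?_, fun a ha => hCe a (hAK ha).1, hEc, ?_,
    Subtype.ext (hCe c hcC), Subtype.ext hxp, fun h => hw1 (congrArg Subtype.val (hwE' ▸ h)),
    ?_, ?_, ?_⟩
  · exact (Subgroup.mem_center_iff.1 (hAK ha).2 b).symm
  · let m : E × A →* G :=
      { toFun := fun u => (u.1 : G) * (u.2 : G)
        map_one' := mul_one 1
        map_mul' := fun u v => by
          have h : Commute (u.2 : G) (v.1 : G) :=
            (Subgroup.mem_center_iff.1 (hAK u.2.2).2 _).symm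
          show (u.1 : G) * v.1 * (u.2 * v.2) = u.1 * u.2 * (v.1 * v.2)
          rw [mul_assoc, mul_assoc, h.left_comm] }
    have hinj : Function.Injective m := by
      rw [injective_iff_map_eq_one]
      rintro ⟨e, a⟩ h
      have hea : (e : G) = (a : G)⁻¹ := eq_inv_of_mul_eq_one_left h
      have hec : (e : G) ∈ Subgroup.center G := hea ▸ Subgroup.inv_mem _ (hAK a.2).2
      have heZ := hkey e e.2 ((Subgroup.mem_center_iff.1 hec c).symm)
        ((Subgroup.mem_center_iff.1 hec x).symm)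
      have h1 : (e : G) ∈ A ⊓ Z := ⟨hea ▸ A.inv_mem a.2, heZ⟩
      rw [hAZ, Subgroup.mem_bot] at h1
      exact Prod.ext (Subtype.ext h1) (Subtype.ext (inv_eq_one.1 (hea ▸ h1)))
    refine ⟨(MulEquiv.ofBijective m (hinj.bijective_of_nat_card_le ?_)).symm⟩
    rw [Nat.card_prod, hEc, ← Subgroup.card_mul_index C, hCi, hCK, hKA]
    exact le_of_eq (by ring)
  · exact hwE' ▸ Subgroup.mem_center_iff.2 fun g => Subtype.ext (Subgroup.mem_center_iff.1 hwc g)
  · refine le_antisymm (fun e he => hwE' ▸ hzw e ?_)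
      (hwE' ▸ Subgroup.zpowers_le.2
        (Subgroup.mem_center_iff.2 fun g => Subtype.ext (Subgroup.mem_center_iff.1 hwc g)))
    exact hkey e e.2 (congrArg Subtype.val (Subgroup.mem_center_iff.1 he ⟨c, hcE⟩)).symm
      (congrArg Subtype.val (Subgroup.mem_center_iff.1 he ⟨x, hxE⟩)).symm
  · rw [hwE']
    refine le_antisymm ?_ (Subgroup.zpowers_le.2 (hwE' ▸ by
      rw [commutator_def]
      exact Subgroup.commutator_mem_commutator (Subgroup.mem_top _) (Subgroup.mem_top _)))
    rw [commutator_def, Subgroup.commutator_le]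
    intro a _ b _
    refine hzw _ ?_
    rw [hZdef, commutator_def]
    exact Subgroup.commutator_mem_commutator (Subgroup.mem_top (a : G)) (Subgroup.mem_top (b : G))

end Cfsg.Agent.PGroup
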