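import Cfsg.Agent.Lib.PGroup.Hyperplanes
import Cfsg.Agent.Lib.PGroup.MaximalClassTwo
import Cfsg.Agent.Lib.PGroup.SymplecticType

/-!
# How many maximal subgroups of a `p`-group are cyclic, or 2-groups of maximal class

* `card_cyclic_hyperplanes` : in a non-cyclic `p`-group of order at least `p³` (not a 2-group of
  maximal class) the number of cyclic maximal subgroups is divisible by `p`.
* `card_maxClass_hyperplanes` : in a 2-group not of maximal class the number of maximal subgroups
  of maximal class is even.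
* `hyperplanes_of_maxClass` : the maximal subgroups of a 2-group of maximal class.
-/

set_option autoImplicit false

namespace Cfsg.Agent.PGroup

open scoped commutatorElement

universe u

variable {G : Type u} [Group G] {p : ℕ}

theorem frattini_ne_top [Finite G] [Fact p.Prime] (_hG : IsPGroup p G) {b : G} (hnc : ¬ IsCyclic G) :
    frattini G ⊔ Subgroup.zpowers b ≠ ⊤ := by
  intro h
  rw [sup_comm, Subgroup.zpowers_eq_closure] at h
  have h1 := closure_eq_top_of_sup_frattini h
  rw [← Subgroup.zpowers_eq_closure] at h1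
  exact hnc (isCyclic_iff_exists_zpowers_eq_top.mpr ⟨b, h1⟩)

/-- The maximal subgroups not containing a proper `N ⊇ Φ(G)` number `0` modulo `p`. -/
theorem card_not_le_hyperplanes [Finite G] [Fact p.Prime] (hG : IsPGroup p G) {N : Subgroup G}
    (hΦ : frattini G ≤ N) (hN : N ≠ ⊤) :
    (Nat.card {M : Subgroup G // M.index = p ∧ ¬ N ≤ M} : ZMod p) = 0 := by
  classical
  have := Fintype.ofFinite (Subgroup G)
  have h1 := one_le_of_hyperplanes hG hΦ hN
  have h2 := one_le_of_hyperplanes hG (N := frattini G) le_rfl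
    (fun h => hN (top_le_iff.mp (h ▸ hΦ)))
  rw [hyperplanes, Nat.card_eq_fintype_card, Fintype.card_subtype] at h1 h2
  rw [Nat.card_eq_fintype_card, Fintype.card_subtype]
  have h3 := Finset.card_filter_add_card_filter_not
    (s := Finset.univ.filter (fun M : Subgroup G => M.index = p)) (fun M => N ≤ M)
  rw [Finset.filter_filter, Finset.filter_filter] at h3
  have h4 : (Finset.univ.filter (fun M : Subgroup G => frattini G ≤ M ∧ M.index = p)) =
      Finset.univ.filter (fun M : Subgroup G => M.index = p) :=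
    Finset.filter_congr fun M _ => ⟨fun h => h.2, fun h => ⟨frattini_le_of_index_eq h, h⟩⟩
  rw [h4] at h2
  have h5 := congrArg (fun z : ℕ => (z : ZMod p)) h3
  rw [show Finset.univ.filter (fun M : Subgroup G => M.index = p ∧ N ≤ M) =
    Finset.univ.filter (fun M : Subgroup G => N ≤ M ∧ M.index = p) from
      Finset.filter_congr fun M _ => and_comm] at h5
  push_cast at h5
  rw [h1, h2] at h5
  linear_combination h5

theorem orderOf_eq_of_pow_eq [Finite G] [Fact p.Prime] {n : ℕ} (hn : 2 ≤ n) {a x : G}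
    (ha : orderOf a = p ^ n) {i : ℤ} (hi : ¬ (p : ℤ) ∣ i) (hx : x ^ p = a ^ ((p : ℤ) * i)) :
    orderOf x = p ^ n := by
  have hp := (Fact.out (p := p.Prime))
  obtain ⟨j, rfl⟩ : ∃ j, n = j + 2 := ⟨n - 2, by omega⟩
  have hx' : ∀ u : ℕ, x ^ p ^ (u + 1) = a ^ ((p : ℤ) ^ (u + 1) * i) := fun u => by
    rw [pow_succ', pow_mul, hx, ← zpow_natCast, ← zpow_mul]
    congr 1
    push_cast
    ring
  refine orderOf_eq_prime_pow (n := j + 1) (fun h => hi ?_) ?_
  · rw [hx' j, ← orderOf_dvd_iff_zpow_eq_one, ha] at h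
    push_cast at h
    rw [pow_succ (p : ℤ) (j + 1)] at h
    exact (mul_dvd_mul_iff_left (pow_ne_zero _ (by exact_mod_cast hp.ne_zero))).mp h
  · rw [hx' (j + 1), ← orderOf_dvd_iff_zpow_eq_one, ha]
    push_cast
    exact dvd_mul_right _ _

/-- The cyclic maximal subgroups are those avoiding `b`. -/
theorem isCyclic_hyperplane_iff [Finite G] [Fact p.Prime] (hG : IsPGroup p G) (hnc : ¬ IsCyclic G)
    {n : ℕ} (hn : 2 ≤ n) (hcard : Nat.card G = p ^ (n + 1)) {a b : G} (ha : orderOf a = p ^ n)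
    (hbp : b ^ p = 1) (hba : b ∉ Subgroup.zpowers a)
    (hord : ∀ x : G, x ∉ Subgroup.zpowers (a ^ p) ⊔ Subgroup.zpowers b → orderOf x = p ^ n)
    {M : Subgroup G} (hM : M.index = p) :
    IsCyclic ↥M ↔ ¬ frattini G ⊔ Subgroup.zpowers b ≤ M := by
  have hp := (Fact.out (p := p.Prime))
  have hΦM := frattini_le_of_index_eq hM
  constructor
  · intro hc hle
    set z := a ^ p ^ (n - 1) with hz
    have hzo : orderOf z = p := by
      rw [hz, orderOf_pow, ha, Nat.gcd_eq_right (pow_dvd_pow p (by omega)),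
        Nat.pow_div (by omega) hp.pos, show n - (n - 1) = 1 by omega, pow_one]
    have hzM : z ∈ M := hΦM (by
      rw [hz, show n - 1 = (n - 2) + 1 by omega, pow_succ', pow_mul]
      exact Subgroup.pow_mem _ (pow_mem_frattini hG a) _)
    exact hba (Subgroup.zpowers_le.mpr (Subgroup.pow_mem _ (Subgroup.mem_zpowers a) _)
      (mem_zpowers_of_isCyclic hG hc (hle (Subgroup.mem_sup_right (Subgroup.mem_zpowers b))) hbp hzM hzo))
  · intro hnle
    have hP : Subgroup.zpowers (a ^ p) ⊔ Subgroup.zpowers b ≤ frattini G ⊔ Subgroup.zpowers b :=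
      sup_le_sup_right (Subgroup.zpowers_le.mpr (pow_mem_frattini hG a)) _
    obtain ⟨x, hxM, hx⟩ : ∃ x ∈ M, x ∉ Subgroup.zpowers (a ^ p) ⊔ Subgroup.zpowers b := by
      by_contra! hall
      exact hnle (((isCoatom_of_index_eq hM).le_iff.mp
        (show M ≤ frattini G ⊔ Subgroup.zpowers b from fun x hx => hP (hall x hx))).resolve_left
          (frattini_ne_top hG hnc)).le
    have hcM : Nat.card ↥M = p ^ n := by
      have h := Subgroup.card_mul_index M
      rw [hM, hcard, pow_succ] at h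
      exact Nat.eq_of_mul_eq_mul_right hp.pos h
    exact isCyclic_of_orderOf_eq_card ⟨x, hxM⟩ (by rw [Subgroup.orderOf_mk, hord x hx, hcM])

theorem eq_zpowers_mul_of_index [Finite G] [Fact p.Prime] {n : ℕ} (hcard : Nat.card G = p ^ (n + 1))
    {a : G} (ha : orderOf a = p ^ n) : (Subgroup.zpowers a).index = p := by
  have h := Subgroup.card_mul_index (Subgroup.zpowers a)
  rw [Nat.card_zpowers, ha, hcard, pow_succ] at h
  exact Nat.eq_of_mul_eq_mul_left (pow_pos (Fact.out (p := p.Prime)).pos _) h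

theorem mem_sup_zpowers_of_dvd {a b : G} {i : ℤ} (hi : (p : ℤ) ∣ i) :
    a ^ i ∈ Subgroup.zpowers (a ^ p) ⊔ Subgroup.zpowers b := by
  obtain ⟨q, rfl⟩ := hi
  refine Subgroup.mem_sup_left ⟨q, ?_⟩
  show (a ^ p) ^ q = a ^ ((p : ℤ) * q)
  rw [zpow_mul, zpow_natCast]

/-- The structure used to count cyclic maximal subgroups, `p` odd. -/
theorem exists_avoid_odd [Finite G] [Fact p.Prime] (h2 : p ≠ 2) (hnc : ¬ IsCyclic G) {n : ℕ}
    (hn : 2 ≤ n) (hcard : Nat.card G = p ^ (n + 1)) {C : Subgroup G} (hC : IsCyclic ↥C)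
    (hCi : C.index = p) :
    ∃ a b : G, orderOf a = p ^ n ∧ b ^ p = 1 ∧ b ∉ Subgroup.zpowers a ∧
      ∀ x : G, x ∉ Subgroup.zpowers (a ^ p) ⊔ Subgroup.zpowers b → orderOf x = p ^ n := by
  have hp := (Fact.out (p := p.Prime))
  have hG := IsPGroup.of_card hcard
  obtain ⟨a, b, r, hCa, ha, hb, hba, hgen, hzc, hconj⟩ :=
    cyclic_index_odd h2 (by omega : 1 ≤ n) hcard C hC hCi hnc
  set z := a ^ p ^ (n - 1) with hz
  have hbp : b ^ p = 1 := by rw [← hb, pow_orderOf_eq_one]
  refine ⟨a, b, ha, hbp, hba, fun x hx => ?_⟩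
  have hn' : (Subgroup.zpowers a).Normal := normal_of_index_eq hG (eq_zpowers_mul_of_index hcard ha)
  obtain ⟨w, hw, v, hv, rfl⟩ := Subgroup.mem_sup_of_normal_left.mp
    (hgen ▸ Subgroup.mem_top x : x ∈ Subgroup.zpowers a ⊔ Subgroup.zpowers b)
  obtain ⟨i, rfl⟩ := hw
  obtain ⟨j, rfl⟩ := hv
  simp only at hx ⊢
  have hzp : z ^ p = 1 := by
    rw [hz, ← pow_mul, ← pow_succ, show n - 1 + 1 = n by omega, ← ha, pow_orderOf_eq_one]
  have hi : ¬ (p : ℤ) ∣ i := fun hi => hx (Subgroup.mul_mem _ (mem_sup_zpowers_of_dvd hi)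
    (Subgroup.mem_sup_right (Subgroup.zpow_mem _ (Subgroup.mem_zpowers b) j)))
  refine orderOf_eq_of_pow_eq hn ha hi ?_
  have hc : ⁅b, a⁆ = z ^ r := by
    have hcz : Commute a (z ^ r) := ((Commute.refl a).pow_right _).zpow_right _
    rw [commutatorElement_def, hconj, hcz.eq, mul_inv_cancel_right]
  have hba' : ⁅b, a⁆ ∈ Subgroup.center G := hc ▸ Subgroup.zpow_mem _ hzc r
  have hbai : ⁅b, a ^ i⁆ = ⁅b, a⁆ ^ i := by
    have h1 : ⁅a, b⁆ ∈ Subgroup.center G := by
      rw [← commutatorElement_inv]; exact inv_mem hba'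
    rw [← commutatorElement_inv, commutator_zpow_left h1, ← commutatorElement_inv b a, inv_zpow,
      inv_inv]
  have hbiai : ⁅b ^ j, a ^ i⁆ = (⁅b, a⁆ ^ i) ^ j := by
    rw [commutator_zpow_left (hbai ▸ Subgroup.zpow_mem _ hba' i), hbai]
  rw [mul_pow_prime hp h2 (hbiai ▸ Subgroup.zpow_mem _ (Subgroup.zpow_mem _ hba' i) j)
    (by rw [hbiai, hc, ← zpow_natCast, ← zpow_mul, ← zpow_mul, ← zpow_mul,
      show r * (i * (j * (p : ℤ))) = (p : ℤ) * (r * i * j) by ring,
      zpow_mul z (p : ℤ), zpow_natCast, hzp, one_zpow]),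
    show (b ^ j) ^ p = 1 by rw [← zpow_natCast, ← zpow_mul, mul_comm, zpow_mul, zpow_natCast, hbp, one_zpow],
    mul_one, ← zpow_natCast, ← zpow_mul, mul_comm]

theorem mem_zpowers_zpow_of_odd [Finite G] {a : G} {n : ℕ} (ha : orderOf a = 2 ^ n) (d : ℤ) {v : ℤ}
    (hv : v % 2 = 1) : a ^ d ∈ Subgroup.zpowers (a ^ (d * v)) := by
  obtain ⟨s, t, hst⟩ : IsCoprime v ((2 : ℤ) ^ n) :=
    (IsCoprime.pow_left (Int.prime_two.coprime_iff_not_dvd.mpr (by omega : ¬ (2 : ℤ) ∣ v))).symm
  refine ⟨s, ?_⟩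
  show (a ^ (d * v)) ^ s = a ^ d
  rw [← zpow_mul, zpow_eq_zpow_iff_dvd, ha]
  push_cast
  exact ⟨-(d * t), by linear_combination d * hst⟩

/-- A non-cyclic 2-group with a cyclic maximal subgroup, not of maximal class. -/
theorem exists_avoid_two [Finite G] (hnc : ¬ IsCyclic G) {n : ℕ} (hn : 2 ≤ n)
    (hcard : Nat.card G = 2 ^ (n + 1)) (hmax : (commutator G).index ≠ 4) {C : Subgroup G}
    (hC : IsCyclic ↥C) (hCi : C.index = 2) :
    ∃ a b : G, orderOf a = 2 ^ n ∧ b ^ 2 = 1 ∧ b ∉ Subgroup.zpowers a ∧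
      ∀ x : G, x ∉ Subgroup.zpowers (a ^ 2) ⊔ Subgroup.zpowers b → orderOf x = 2 ^ n := by
  have : Fact (Nat.Prime 2) := ⟨Nat.prime_two⟩
  have key : ∀ (a b : G) (r : ℤ), orderOf a = 2 ^ n → b ∉ Subgroup.zpowers a → b ^ 2 = 1 →
      b * a * b⁻¹ = a ^ r → (r = 1 ∨ (3 ≤ n ∧ r = 1 + 2 ^ (n - 1))) →
      ∃ a b : G, orderOf a = 2 ^ n ∧ b ^ 2 = 1 ∧ b ∉ Subgroup.zpowers a ∧
        ∀ x : G, x ∉ Subgroup.zpowers (a ^ 2) ⊔ Subgroup.zpowers b → orderOf x = 2 ^ n := by
    intro a b r ha hba hb2 hab hr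
    refine ⟨a, b, ha, hb2, hba, fun x hx => ?_⟩
    obtain ⟨i, hi⟩ := two_group_elements hcard ha hba x
    have hodd : ¬ (2 : ℤ) ∣ i := fun hd => hx (by
      rcases hi with rfl | rfl
      · exact mem_sup_zpowers_of_dvd hd
      · exact Subgroup.mul_mem _ (Subgroup.mem_sup_right (Subgroup.mem_zpowers b))
          (mem_sup_zpowers_of_dvd hd))
    rcases hi with rfl | rfl
    · refine orderOf_eq_of_pow_eq hn ha hodd ?_
      rw [← zpow_natCast, ← zpow_mul, mul_comm]
    · have hsq : (b * a ^ i) ^ 2 = a ^ (i * r + i) := by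
        calc (b * a ^ i) ^ 2 = b * a ^ i * b⁻¹ * b ^ 2 * a ^ i := by simp [pow_two, mul_assoc]
          _ = _ := by rw [PGroup.conj_zpow hab, hb2, mul_one, ← zpow_add, mul_comm r i]
      rcases hr with rfl | ⟨hn3, rfl⟩
      · refine orderOf_eq_of_pow_eq hn ha hodd ?_
        rw [hsq]; congr 1; push_cast; ring
      · refine orderOf_eq_of_pow_eq (i := i * (1 + 2 ^ (n - 2))) hn ha (fun hd => ?_) ?_
        · rcases Int.prime_two.dvd_mul.mp (by exact_mod_cast hd) with h | h
          · exact hodd h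
          · have : (2 : ℤ) ∣ 2 ^ (n - 2) := dvd_pow_self 2 (by omega)
            exact Int.prime_two.not_dvd_one ((dvd_add_left this).mp h)
        · rw [hsq]; congr 1
          rw [show n - 1 = n - 2 + 1 by omega]
          push_cast; ring
  by_cases hab : ∃ x y : G, x * y ≠ y * x
  · obtain ⟨a, b, -, ha, hba, -, h⟩ := cyclic_index_two hn hcard C hC hCi hab
    rcases h with h | h | ⟨hn3, hb2, hc⟩ | h
    pick_goal 3
    · exact key a b (1 + 2 ^ (n - 1)) ha hba hb2
        (by rw [hc, ← zpow_natCast]; push_cast; rfl) (Or.inr ⟨hn3, rfl⟩)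
    all_goals
      exfalso
      refine hmax (index_commutator_eq_four_of_le hcard
        (fun hc => by obtain ⟨x, y, hxy⟩ := hab; exact hxy (hc.is_comm.comm x y)) ?_)
      obtain ⟨r, v, hr, hrv, hv⟩ := two_group_relations (a := a) (b := b) (m := n) (by tauto)
      have hmem : a ^ (2 : ℤ) ∈ commutator G := by
        refine Subgroup.zpowers_le.mpr ?_ (mem_zpowers_zpow_of_odd ha 2 hv)
        have : a ^ (2 * v) = ⁅b, a⁆ := by
          rw [commutatorElement_def, hr, ← hrv, zpow_sub, zpow_one]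
        rw [this]
        exact Subgroup.commutator_mem_commutator (Subgroup.mem_top b) (Subgroup.mem_top a)
      rw [zpow_ofNat] at hmem
      have h1 := Subgroup.index_antitone (Subgroup.zpowers_le.mpr hmem)
      have h2 := Subgroup.card_mul_index (Subgroup.zpowers (a ^ 2))
      rw [Nat.card_zpowers, orderOf_pow, ha, Nat.gcd_eq_right (dvd_pow_self 2 (by omega)), hcard,
        show 2 ^ n = 2 * 2 ^ (n - 1) by rw [← pow_succ']; congr 1; omega,
        Nat.mul_div_cancel_left _ two_pos,
        show n + 1 = (n - 1) + 2 by omega, pow_add] at h2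
      have h3 : (Subgroup.zpowers (a ^ 2)).index = 4 :=
        Nat.eq_of_mul_eq_mul_left (Nat.pow_pos two_pos) h2
      omega
  · push Not at hab
    obtain ⟨a, b, r, t, -, ha, hba, hgen, hconj, hbt, -, -⟩ := exists_cyclic_index_data hcard C hC hCi
    have ht : (2 : ℤ) ∣ t := by
      by_contra hodd
      refine hnc (isCyclic_iff_exists_zpowers_eq_top.mpr ⟨b, ?_⟩)
      refine le_antisymm le_top (hgen ▸ sup_le (Subgroup.zpowers_le.mpr ?_) le_rfl)
      have h1 := mem_zpowers_zpow_of_odd ha 1 (v := t) (by omega)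
      rw [one_mul, zpow_one, ← hbt] at h1
      exact Subgroup.zpowers_le.mpr (Subgroup.pow_mem _ (Subgroup.mem_zpowers b) _) h1
    obtain ⟨q, rfl⟩ := ht
    refine key a (b * a ^ (-q)) 1 ha (fun h => hba ?_) ?_ ?_ (Or.inl rfl)
    · exact (Subgroup.mul_mem_cancel_right _ (Subgroup.zpow_mem _ (Subgroup.mem_zpowers a) _)).mp h
    · have hc : Commute b (a ^ (-q)) := hab _ _
      rw [hc.mul_pow, hbt, ← zpow_natCast (a ^ (-q)), ← zpow_mul, ← zpow_add,
        show 2 * q + -q * ((2 : ℕ) : ℤ) = 0 by push_cast; ring, zpow_zero]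
    · rw [hab (b * a ^ (-q)) a, mul_inv_cancel_right, zpow_one]

/-- The number of cyclic maximal subgroups is divisible by `p`. -/
theorem card_cyclic_hyperplanes [Finite G] [Fact p.Prime] (hnc : ¬ IsCyclic G) {n : ℕ} (hn : 2 ≤ n)
    (hcard : Nat.card G = p ^ (n + 1)) (hmax : p = 2 → (commutator G).index ≠ 4) :
    (Nat.card {M : Subgroup G // M.index = p ∧ IsCyclic ↥M} : ZMod p) = 0 := by
  by_cases hex : ∃ C : Subgroup G, C.index = p ∧ IsCyclic ↥C
  · obtain ⟨C, hCi, hC⟩ := hex
    have hG := IsPGroup.of_card hcard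
    obtain ⟨a, b, ha, hb, hba, hord⟩ : ∃ a b : G, orderOf a = p ^ n ∧ b ^ p = 1 ∧
        b ∉ Subgroup.zpowers a ∧
        ∀ x : G, x ∉ Subgroup.zpowers (a ^ p) ⊔ Subgroup.zpowers b → orderOf x = p ^ n := by
      by_cases h2 : p = 2
      · subst h2; exact exists_avoid_two hnc hn hcard (hmax rfl) hC hCi
      · exact exists_avoid_odd h2 hnc hn hcard hC hCi
    rw [Nat.card_congr (Equiv.subtypeEquivRight fun M => and_congr_right fun hM =>
      isCyclic_hyperplane_iff hG hnc hn hcard ha hb hba hord hM)]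
    exact card_not_le_hyperplanes hG le_sup_left (frattini_ne_top hG hnc)
  · have : IsEmpty {M : Subgroup G // M.index = p ∧ IsCyclic ↥M} :=
      ⟨fun M => hex ⟨M.1, M.2.1, M.2.2⟩⟩
    rw [Nat.card_of_isEmpty, Nat.cast_zero]

theorem card_commutator_eq_iff [Finite G] (M : Subgroup G) {n : ℕ} (hn : 2 ≤ n)
    (hM : Nat.card ↥M = 2 ^ n) :
    (commutator ↥M).index = 4 ↔ Nat.card ↥(⁅M, M⁆ : Subgroup G) = 2 ^ (n - 2) := by
  have h1 := Subgroup.card_mul_index (commutator ↥M)
  rw [← Subgroup.map_subtype_commutator, Subgroup.card_map_of_injective M.subtype_injective]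
  rw [hM, show 2 ^ n = 2 ^ (n - 2) * 4 by
    rw [show (4 : ℕ) = 2 ^ 2 by norm_num, ← pow_add]; congr 1; omega] at h1
  constructor
  · intro h
    rw [h] at h1
    exact Nat.eq_of_mul_eq_mul_right (by norm_num) h1
  · intro h
    rw [h] at h1
    exact Nat.eq_of_mul_eq_mul_left (Nat.pow_pos two_pos) h1

/-- In a 2-group not of maximal class the number of maximal subgroups of maximal class is even. -/
theorem card_maxClass_hyperplanes [Finite G] {n : ℕ} (hn : 3 ≤ n) (hcard : Nat.card G = 2 ^ (n + 1))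
    (hmax : (commutator G).index ≠ 4) :
    (Nat.card {M : Subgroup G // M.index = 2 ∧ (commutator ↥M).index = 4} : ZMod 2) = 0 := by
  have : Fact (Nat.Prime 2) := ⟨Nat.prime_two⟩
  have hG := IsPGroup.of_card hcard
  by_cases hex : ∃ M : Subgroup G, M.index = 2 ∧ (commutator ↥M).index = 4
  swap
  · have : IsEmpty {M : Subgroup G // M.index = 2 ∧ (commutator ↥M).index = 4} :=
      ⟨fun M => hex ⟨M.1, M.2.1, M.2.2⟩⟩
    rw [Nat.card_of_isEmpty, Nat.cast_zero]
  obtain ⟨M₀, hM₀, hM₀c⟩ := hex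
  have hcardM : ∀ M : Subgroup G, M.index = 2 → Nat.card ↥M = 2 ^ n := fun M hM => by
    have h := Subgroup.card_mul_index M
    rw [hM, hcard, pow_succ] at h
    exact Nat.eq_of_mul_eq_mul_right two_pos h
  have hnaM : ¬ IsMulCommutative ↥M₀ := fun hc => by
    have h := Subgroup.card_mul_index (commutator ↥M₀)
    rw [(commutator_eq_bot_iff ↥M₀).mpr hc, Subgroup.card_bot, one_mul, Subgroup.index_bot,
      hcardM M₀ hM₀] at h
    rw [(commutator_eq_bot_iff ↥M₀).mpr hc, Subgroup.index_bot, hcardM M₀ hM₀] at hM₀c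
    have : 2 ^ 3 ≤ 2 ^ n := Nat.pow_le_pow_right two_pos hn
    omega
  have hnaG : ¬ IsMulCommutative G := fun hc =>
    hnaM ⟨⟨fun x y => Subtype.ext (hc.is_comm.comm x.1 y.1)⟩⟩
  set D := commutator G with hD
  have hsubD : ∀ M : Subgroup G, ⁅M, M⁆ ≤ D := fun M => Subgroup.commutator_mono le_top le_top
  have hM₀d := (card_commutator_eq_iff M₀ (by omega) (hcardM M₀ hM₀)).mp hM₀c
  -- `D = M₀'` is cyclic
  obtain ⟨d, hd⟩ := index_eq_pow hG D
  have hd8 : 3 ≤ d := by
    by_contra h
    refine hmax (index_commutator_eq_four_of_le hcard hnaG ?_)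
    rw [← hD, hd, show (4 : ℕ) = 2 ^ 2 by norm_num]
    exact Nat.pow_le_pow_right two_pos (by omega)
  have hDeq : ⁅M₀, M₀⁆ = D := by
    refine Subgroup.eq_of_le_of_card_ge (hsubD M₀) ?_
    rw [hM₀d]
    have h := Subgroup.card_mul_index D
    rw [hd, hcard, show n + 1 = (n - 2) + 3 by omega, pow_add] at h
    have h8 : 2 ^ 3 ≤ 2 ^ d := Nat.pow_le_pow_right two_pos hd8
    by_contra hlt
    push Not at hlt
    have := Nat.mul_lt_mul_of_lt_of_le hlt h8 (Nat.pow_pos two_pos)
    omega
  have hDcard : Nat.card ↥D = 2 ^ (n - 2) := hDeq ▸ hM₀d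
  have hDc : IsCyclic ↥D := by
    obtain ⟨C, hC, hCi⟩ := exists_cyclic_index_two_of_commutator hn (hcardM M₀ hM₀) hM₀c
    rw [← hDeq, ← Subgroup.map_subtype_commutator]
    have : C.Normal := Subgroup.normal_of_index_eq_two hCi
    have h1 : IsCyclic ↥(commutator ↥M₀) := isCyclic_of_injective _
      (Subgroup.inclusion_injective (commutator_le_of_index_eq (p := 2) C hCi))
    exact isCyclic_of_surjective _
      (Subgroup.equivMapOfInjective _ M₀.subtype M₀.subtype_injective).surjective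
  -- `P` the subgroup of index 2 in `D`
  obtain ⟨P, hPn, -, hPD, hPc⟩ := exists_normal_card_between hG ⊥ D bot_le (n - 3)
    (by rw [Subgroup.card_bot]; exact Nat.one_le_pow _ _ two_pos)
    (by rw [hDcard]; exact Nat.pow_le_pow_right two_pos (by omega))
  have hDP : ¬ D ≤ P := fun h => by
    have h1 := Subgroup.card_le_of_le h
    rw [hDcard, hPc] at h1
    have := (Nat.pow_le_pow_iff_right (by norm_num : 1 < 2)).mp h1
    omega
  obtain ⟨g, hg⟩ := (Subgroup.isCyclic_iff_exists_zpowers_eq_top D).mp hDc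
  have hprop : ∀ H : Subgroup G, H ≤ D → (H ≤ P ↔ H ≠ D) := by
    intro H hH
    refine ⟨fun h he => hDP (he ▸ h), fun hne => ?_⟩
    obtain ⟨u, hu, huc⟩ := exists_eq_zpowers_pow (p := 2) hG (g := g) (H := H) (hg.symm ▸ hH)
    obtain ⟨v, hv, hvc⟩ := exists_eq_zpowers_pow (p := 2) hG (g := g) (H := P) (hg.symm ▸ hPD)
    have hog : orderOf g = 2 ^ (n - 2) := by rw [← Nat.card_zpowers, hg, hDcard]
    rw [hPc, hog, ← pow_add] at hvc
    have hv1 : v = 1 := by
      have := Nat.pow_right_injective le_rfl hvc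
      omega
    have hu1 : 1 ≤ u := by
      by_contra h0
      rw [show u = 0 by omega, pow_zero, pow_one, hg] at hu
      exact hne hu
    obtain ⟨w, rfl⟩ : ∃ w, u = w + 1 := ⟨u - 1, by omega⟩
    rw [hu, hv, hv1, pow_one, Subgroup.zpowers_le, show 2 ^ (w + 1) = 2 * 2 ^ w from pow_succ' 2 w,
      pow_mul]
    exact Subgroup.pow_mem _ (Subgroup.mem_zpowers _) _
  -- `R` : the centre modulo `P`
  let q : G →* G ⧸ P := QuotientGroup.mk' P
  set R := (Subgroup.center (G ⧸ P)).comap q with hR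
  have hQcard : Nat.card (G ⧸ P) = 16 := by
    have h := Subgroup.card_mul_index P
    rw [hPc, hcard, show n + 1 = (n - 3) + 4 by omega, pow_add, Subgroup.index_eq_card] at h
    exact Nat.eq_of_mul_eq_mul_left (Nat.pow_pos two_pos) h
  have hQna : ¬ IsMulCommutative (G ⧸ P) := fun hc => hDP (by
    rw [hD, commutator_def, Subgroup.commutator_le]
    intro x _ y _
    rw [← QuotientGroup.eq_one_iff, ← QuotientGroup.mk'_apply, map_commutatorElement,
      commutatorElement_eq_one_iff_mul_comm]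
    exact hc.is_comm.comm _ _)
  have hQG := hG.to_quotient P
  have hDq : commutator (G ⧸ P) = D.map q := by
    rw [hD, commutator_def, commutator_def, Subgroup.map_commutator,
      Subgroup.map_top_of_surjective q (QuotientGroup.mk'_surjective P)]
  have hDqc : Nat.card ↥(commutator (G ⧸ P)) = 2 := by
    have h1 : Nat.card ↥(D.map q) = (P.subgroupOf D).index := by
      rw [show D.map q = (q.comp D.subtype).range by
        rw [MonoidHom.range_comp, Subgroup.range_subtype], ← Subgroup.index_ker]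
      congr 1
      ext a
      simp [q, Subgroup.mem_subgroupOf]
    have h2 := Subgroup.card_mul_index (P.subgroupOf D)
    rw [Nat.card_congr (Subgroup.subgroupOfEquivOfLe hPD).toEquiv, hPc, hDcard,
      show n - 2 = (n - 3) + 1 by omega, pow_succ] at h2
    rw [hDq, h1]
    exact Nat.eq_of_mul_eq_mul_left (Nat.pow_pos two_pos) h2
  have hDqz : commutator (G ⧸ P) ≤ Subgroup.center (G ⧸ P) :=
    le_center_of_card_eq (p := 2) hQG _ hDqc
  have hsq : ∀ x : G ⧸ P, x ^ 2 ∈ Subgroup.center (G ⧸ P) := by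
    intro x
    refine Subgroup.mem_center_iff.mpr fun y => ?_
    have hxy := mem_center_of_class_two hDqz x y
    refine (commutatorElement_eq_one_iff_mul_comm.mp ?_).symm
    rw [commutator_pow_left hxy]
    have := pow_card_eq_one' (x := (⟨⁅x, y⁆,
      Subgroup.commutator_mem_commutator (Subgroup.mem_top x) (Subgroup.mem_top y)⟩ : ↥(commutator (G ⧸ P))))
    rw [hDqc] at this
    exact congrArg Subtype.val this
  obtain ⟨zc, hzc⟩ := card_eq_pow hQG (Subgroup.center (G ⧸ P))
  have hz2 : zc = 2 := by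
    have hdvd := Subgroup.card_mul_index (Subgroup.center (G ⧸ P))
    rw [hzc, hQcard] at hdvd
    have h1 : Nat.card ↥(commutator (G ⧸ P)) ≤ Nat.card ↥(Subgroup.center (G ⧸ P)) :=
      Subgroup.card_le_of_le hDqz
    rw [hDqc, hzc] at h1
    have hz1 : 1 ≤ zc := by
      by_contra h0
      rw [show zc = 0 by omega] at h1
      norm_num at h1
    have hne : zc ≠ 1 := fun h0 => by
      have hx := isExtraspecial_of hQG (by rw [hzc, h0, pow_one])
        (fun htop => hQna ⟨⟨fun x y => Subgroup.mem_center_iff.mp (htop ▸ Subgroup.mem_top y) x⟩⟩)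
        (fun x y => mem_center_of_class_two hDqz x y) hsq
      obtain ⟨w, -, hw, -⟩ := extraspecial_card hx
      rw [hQcard, show 16 = 2 ^ 4 by norm_num] at hw
      have := Nat.pow_right_injective le_rfl hw
      omega
    have hlt : ¬ 3 ≤ zc := fun h3 => by
      have hle : (Subgroup.center (G ⧸ P)).index ≤ 2 := by
        have : 2 ^ 3 ≤ 2 ^ zc := Nat.pow_le_pow_right two_pos h3
        nlinarith
      have hcy : IsCyclic ((G ⧸ P) ⧸ Subgroup.center (G ⧸ P)) := by
        rcases Nat.le_succ_iff.mp hle |>.imp id id with h | h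
        · have : Subsingleton ((G ⧸ P) ⧸ Subgroup.center (G ⧸ P)) := by
            rw [← Finite.card_le_one_iff_subsingleton, ← Subgroup.index_eq_card]; omega
          infer_instance
        · exact isCyclic_of_prime_card (p := 2) (by rw [← Subgroup.index_eq_card]; exact h)
      exact hQna (MonoidHom.isMulCommutative_of_isCyclic_of_ker_le_center
        (QuotientGroup.mk' (Subgroup.center (G ⧸ P))) (by rw [QuotientGroup.ker_mk']))
    omega
  have hRi : R.index = 4 := by
    rw [hR, Subgroup.index_comap_of_surjective _ (QuotientGroup.mk'_surjective P)]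
    have hdvd := Subgroup.card_mul_index (Subgroup.center (G ⧸ P))
    rw [hzc, hz2, hQcard] at hdvd
    omega
  have hRΦ : frattini G ≤ R := by
    refine frattini_le (p := 2) (fun x hx => ?_) fun x => ?_
    · rw [hR, Subgroup.mem_comap]
      exact hDqz (hDq ▸ Subgroup.mem_map_of_mem q hx)
    · rw [hR, Subgroup.mem_comap, map_pow]
      exact hsq _
  have hiff : ∀ M : Subgroup G, M.index = 2 → ((commutator ↥M).index = 4 ↔ ¬ R ≤ M) := by
    intro M hM
    rw [card_commutator_eq_iff M (by omega) (hcardM M hM)]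
    have h1 : Nat.card ↥(⁅M, M⁆ : Subgroup G) = 2 ^ (n - 2) ↔ ¬ ⁅M, M⁆ ≤ P := by
      rw [hprop _ (hsubD M), not_not]
      exact ⟨fun h => Subgroup.eq_of_le_of_card_ge (hsubD M) (by rw [h, hDcard]),
        fun h => by rw [h, hDcard]⟩
    rw [h1, not_iff_not]
    have hcomm : ⁅M, M⁆ ≤ P ↔ IsMulCommutative ↥(M.map q) := by
      rw [Subgroup.commutator_le]
      constructor
      · intro h
        refine isMulCommutative_of_forall ?_
        rintro _ ⟨x, hx, rfl⟩ _ ⟨y, hy, rfl⟩
        rw [← commutatorElement_eq_one_iff_mul_comm, ← map_commutatorElement]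
        exact (QuotientGroup.eq_one_iff _).mpr (h x hx y hy)
      · intro h x hx y hy
        rw [← QuotientGroup.eq_one_iff, ← QuotientGroup.mk'_apply, map_commutatorElement,
          commutatorElement_eq_one_iff_mul_comm]
        exact mul_comm_of_isMulCommutative h ⟨x, hx, rfl⟩ ⟨y, hy, rfl⟩
    rw [hcomm]
    constructor
    · intro hab
      by_contra hRM
      refine hQna ⟨⟨fun x y => ?_⟩⟩
      have hMR : M ⊔ R = ⊤ := (isCoatom_of_index_eq (p := 2) hM).2 _ (left_lt_sup.mpr hRM)
      have htop : M.map q ⊔ Subgroup.center (G ⧸ P) = ⊤ := by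
        rw [← Subgroup.map_comap_eq_self_of_surjective (QuotientGroup.mk'_surjective P)
          (Subgroup.center (G ⧸ P)), ← Subgroup.map_sup, ← hR, hMR,
          Subgroup.map_top_of_surjective q (QuotientGroup.mk'_surjective P)]
      obtain ⟨u, hu, v, hv, rfl⟩ := Subgroup.mem_sup_of_normal_right.mp
        (htop ▸ Subgroup.mem_top x : x ∈ M.map q ⊔ Subgroup.center (G ⧸ P))
      obtain ⟨u', hu', v', hv', rfl⟩ := Subgroup.mem_sup_of_normal_right.mp
        (htop ▸ Subgroup.mem_top y : y ∈ M.map q ⊔ Subgroup.center (G ⧸ P))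
      have h2 : Commute u u' := mul_comm_of_isMulCommutative hab hu hu'
      have h3 : ∀ w, Commute v w := fun w => (Subgroup.mem_center_iff.mp hv w).symm
      have h4 : ∀ w, Commute v' w := fun w => (Subgroup.mem_center_iff.mp hv' w).symm
      exact ((h2.mul_right (h4 u).symm).mul_left (h3 _)).eq
    · intro hRM
      have hlt : R < M := lt_of_le_of_ne hRM fun h => by rw [h] at hRi; omega
      obtain ⟨x, hxM, hxR⟩ := SetLike.exists_of_lt hlt
      have heq : R ⊔ Subgroup.zpowers x = M := by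
        have := normal_of_frattini_le hG hRΦ
        refine Subgroup.eq_of_le_of_card_ge (sup_le hRM (Subgroup.zpowers_le.mpr hxM)) (le_of_eq ?_)
        rw [card_sup_zpowers (p := 2) R hxR (hRΦ (pow_mem_frattini hG x))]
        have h := Subgroup.card_mul_index R
        rw [hRi, ← Subgroup.card_mul_index M, hM] at h
        omega
      rw [← heq, Subgroup.map_sup, hR,
        Subgroup.map_comap_eq_self_of_surjective (QuotientGroup.mk'_surjective P),
        MonoidHom.map_zpowers]
      exact isMulCommutative_sup_zpowers inferInstance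
        (fun w hw => (Subgroup.mem_center_iff.mp hw _).symm)
  rw [Nat.card_congr (Equiv.subtypeEquivRight fun M => and_congr_right fun hM => hiff M hM)]
  exact card_not_le_hyperplanes hG hRΦ fun h => by rw [h, Subgroup.index_top] at hRi; omega

/-- In a 2-group of maximal class of order at least 16 the maximal subgroups other than the cyclic
one are of maximal class; for order 8 the number of cyclic ones is odd. -/
theorem hyperplanes_of_maxClass [Finite G] {n : ℕ} (hn : 2 ≤ n) (hcard : Nat.card G = 2 ^ (n + 1))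
    (hc : (commutator G).index = 4) :
    (Nat.card {M : Subgroup G // M.index = 2 ∧ IsCyclic ↥M} : ZMod 2) = 1 ∧
      (3 ≤ n → ∀ M : Subgroup G, M.index = 2 → IsCyclic ↥M ∨ (commutator ↥M).index = 4) := by
  have : Fact (Nat.Prime 2) := ⟨Nat.prime_two⟩
  have hG := IsPGroup.of_card hcard
  obtain ⟨a, b, ha, hba, -, hrel⟩ := two_group_commutator_index_four hn hcard hc
  obtain ⟨r, v, hr, hrv, hv⟩ := two_group_relations hrel
  have hidx := eq_zpowers_mul_of_index hcard ha
  have hcardM : ∀ M : Subgroup G, M.index = 2 → Nat.card ↥M = 2 ^ n := fun M hM => by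
    have h := Subgroup.card_mul_index M
    rw [hM, hcard, pow_succ] at h
    exact Nat.eq_of_mul_eq_mul_right two_pos h
  have hout : ∀ i : ℤ, ((b * a ^ i) ^ 2) ^ 2 = 1 := by
    intro i
    obtain ⟨t, ht⟩ : (b * a ^ i) ^ 2 ∈ Subgroup.zpowers a := by
      have := Subgroup.normal_of_index_eq_two hidx
      exact pow_mem_of_index_eq _ hidx _
    simp only at ht
    rw [← ht]
    refine sq_eq_one_of_fixed ha hr hrv hv ?_
    have h1 : Commute (b * a ^ i) (a ^ t) := ht ▸ (Commute.refl _).pow_right 2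
    calc b * a ^ t * b⁻¹ = b * a ^ i * a ^ t * (b * a ^ i)⁻¹ := by group
      _ = a ^ t := by rw [h1.eq, mul_inv_cancel_right]
  have hbig : 3 ≤ n → ∀ M : Subgroup G, M.index = 2 → M ≠ Subgroup.zpowers a →
      (commutator ↥M).index = 4 ∧ ¬ IsCyclic ↥M := by
    intro hn3 M hM hne
    obtain ⟨x, hxM, hxA⟩ : ∃ x ∈ M, x ∉ Subgroup.zpowers a := by
      by_contra! hall
      exact hne (Subgroup.eq_of_le_of_card_ge hall
        (by rw [Nat.card_zpowers, ha, hcardM M hM]))
    obtain ⟨i, rfl | rfl⟩ := two_group_elements hcard ha hba x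
    · exact absurd (Subgroup.zpow_mem _ (Subgroup.mem_zpowers a) i) hxA
    have hMn := Subgroup.normal_of_index_eq_two hM
    have ha2 : a ^ 2 ∈ M := pow_mem_of_index_eq M hM a
    have h4 : a ^ (4 : ℤ) ∈ ⁅M, M⁆ := by
      refine Subgroup.zpowers_le.mpr ?_ (mem_zpowers_zpow_of_odd ha 4 hv)
      have : a ^ (4 * v) = ⁅b * a ^ i, a ^ 2⁆ := by
        rw [commutatorElement_def]
        have h1 : b * a ^ i * a ^ 2 * (b * a ^ i)⁻¹ = a ^ (r * 2) := by
          rw [← PGroup.conj_zpow hr, ← zpow_natCast a 2]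
          group
        rw [h1, ← zpow_natCast a 2, ← zpow_sub]
        congr 1
        push_cast
        linear_combination -2 * hrv
      rw [this]
      exact Subgroup.commutator_mem_commutator hxM ha2
    have hncyc : ¬ IsCyclic ↥M := by
      intro hcy
      have hcom := hcy.isMulCommutative
      have hbot : (⁅M, M⁆ : Subgroup G) = ⊥ := by
        rw [← Subgroup.map_subtype_commutator, (commutator_eq_bot_iff ↥M).mpr hcom, Subgroup.map_bot]
      rw [hbot, Subgroup.mem_bot, ← orderOf_dvd_iff_zpow_eq_one, ha] at h4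
      have h8 : 2 ^ 3 ∣ 2 ^ n := pow_dvd_pow 2 hn3
      have := (Int.natCast_dvd_natCast.mpr h8).trans h4
      omega
    refine ⟨?_, hncyc⟩
    rw [card_commutator_eq_iff M (by omega) (hcardM M hM)]
    rw [zpow_ofNat] at h4
    have h5 := Subgroup.card_le_of_le (Subgroup.zpowers_le.mpr h4)
    rw [Nat.card_zpowers, orderOf_pow, ha,
      Nat.gcd_eq_right (show 4 ∣ 2 ^ n from pow_dvd_pow 2 (show 2 ≤ n by omega)),
      show 2 ^ n = 2 ^ (n - 2) * 4 by
        rw [show (4 : ℕ) = 2 ^ 2 by norm_num, ← pow_add]; congr 1; omega,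
      Nat.mul_div_cancel _ (by norm_num : 0 < 4)] at h5
    refine le_antisymm ?_ h5
    have h6 := sq_le_index_commutator (IsPGroup.of_card (hcardM M hM)) hncyc
    have h7 := Subgroup.card_mul_index (commutator ↥M)
    rw [← Subgroup.map_subtype_commutator, Subgroup.card_map_of_injective M.subtype_injective]
    rw [hcardM M hM, show 2 ^ n = 2 ^ (n - 2) * 4 by
      rw [show (4 : ℕ) = 2 ^ 2 by norm_num, ← pow_add]; congr 1; omega] at h7
    nlinarith
  refine ⟨?_, fun hn3 M hM => ?_⟩
  swap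
  · by_cases hne : M = Subgroup.zpowers a
    · subst hne; exact Or.inl inferInstance
    · exact Or.inr (hbig hn3 M hM hne).1
  have hone : (∀ M : Subgroup G, M.index = 2 → IsCyclic ↥M → M = Subgroup.zpowers a) →
      (Nat.card {M : Subgroup G // M.index = 2 ∧ IsCyclic ↥M} : ZMod 2) = 1 := fun h => by
    have : Unique {M : Subgroup G // M.index = 2 ∧ IsCyclic ↥M} :=
      { default := ⟨Subgroup.zpowers a, hidx, inferInstance⟩
        uniq := fun M => Subtype.ext (h M.1 M.2.1 M.2.2) }
    rw [Nat.card_unique, Nat.cast_one]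
  by_cases hn3 : 3 ≤ n
  · exact hone fun M hM hcy => by_contra fun hne => (hbig hn3 M hM hne).2 hcy
  obtain rfl : n = 2 := by omega
  rcases hrel with ⟨hb2, hconj⟩ | ⟨hb2, hconj⟩ | ⟨h3, -⟩
  pick_goal 3
  · omega
  · -- dihedral of order 8 : the outside elements are involutions
    refine hone fun M hM hcy => ?_
    obtain ⟨g, hg⟩ := (Subgroup.isCyclic_iff_exists_zpowers_eq_top M).mp hcy
    have hog : orderOf g = 4 := by rw [← Nat.card_zpowers, hg, hcardM M hM]; norm_num
    obtain ⟨i, rfl | rfl⟩ := two_group_elements hcard ha hba g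
    · refine Subgroup.eq_of_le_of_card_ge (hg ▸ Subgroup.zpowers_le.mpr
        (Subgroup.zpow_mem _ (Subgroup.mem_zpowers a) i)) ?_
      rw [Nat.card_zpowers, ha, hcardM M hM]
    · exfalso
      have : (b * a ^ i) ^ 2 = 1 := by
        replace hconj : b * a * b⁻¹ = a ^ (-1 : ℤ) := by rw [hconj, zpow_neg_one]
        calc (b * a ^ i) ^ 2 = b * a ^ i * b⁻¹ * b ^ 2 * a ^ i := by simp [pow_two, mul_assoc]
          _ = 1 := by rw [PGroup.conj_zpow hconj, hb2, mul_one, ← zpow_add]; simp
      have h2 := orderOf_dvd_of_pow_eq_one this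
      rw [hog] at h2
      norm_num at h2
  · -- quaternion of order 8 : every maximal subgroup is cyclic
    have hall : ∀ M : Subgroup G, M.index = 2 → IsCyclic ↥M := by
      intro M hM
      by_cases hne : M = Subgroup.zpowers a
      · subst hne; infer_instance
      obtain ⟨x, hxM, hxA⟩ : ∃ x ∈ M, x ∉ Subgroup.zpowers a := by
        by_contra! hall
        exact hne (Subgroup.eq_of_le_of_card_ge hall (by rw [Nat.card_zpowers, ha, hcardM M hM]))
      obtain ⟨i, rfl | rfl⟩ := two_group_elements hcard ha hba x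
      · exact absurd (Subgroup.zpow_mem _ (Subgroup.mem_zpowers a) i) hxA
      refine isCyclic_of_orderOf_eq_card ⟨_, hxM⟩ ?_
      rw [Subgroup.orderOf_mk, hcardM M hM]
      refine orderOf_eq_prime_pow (p := 2) (n := 1) (fun h => ?_) ?_
      · replace hconj : b * a * b⁻¹ = a ^ (-1 : ℤ) := by rw [hconj, zpow_neg_one]
        have h1 : (b * a ^ i) ^ 2 = a ^ 2 := by
          calc (b * a ^ i) ^ 2 = b * a ^ i * b⁻¹ * b ^ 2 * a ^ i := by simp [pow_two, mul_assoc]
            _ = a ^ 2 := by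
              rw [PGroup.conj_zpow hconj, hb2, ← zpow_natCast, ← zpow_add, ← zpow_add,
                ← zpow_natCast]
              congr 1
              push_cast
              ring
        rw [pow_one, h1] at h
        have h2 := orderOf_dvd_of_pow_eq_one h
        rw [ha] at h2
        norm_num at h2
      · rw [pow_succ, pow_one, pow_mul]; exact hout i
    have h1 := one_le_of_hyperplanes hG (N := frattini G) le_rfl fun h => by
      have h3 := frattini_le_of_index_eq (p := 2) hidx
      rw [h, top_le_iff] at h3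
      exact hba (h3 ▸ Subgroup.mem_top b)
    rw [← h1, hyperplanes]
    congr 1
    exact Nat.card_congr (Equiv.subtypeEquivRight fun M =>
      ⟨fun h => ⟨frattini_le_of_index_eq h.1, h.1⟩, fun h => ⟨h.2, hall M h.2⟩⟩)

end Cfsg.Agent.PGroup
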