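import Cfsg.Agent.Lib.PGroup.Extraspecial

/-!
# Subgroups of extraspecial groups that are again extraspecial

* `isExtraspecial_of_le`: a non-abelian `H ≤ Q` with `H ∩ C(H) ≤ Z(Q)` is extraspecial, `Z(H) = Z(Q)`.
-/

set_option autoImplicit false

namespace Cfsg.Agent.PGroup

open scoped commutatorElement

universe u

variable {G : Type u} [Group G] {p : ℕ}

/-- A non-abelian subgroup `H` of the extraspecial group `Q` whose centre lies in `Z(Q)` is extraspecial. -/
theorem isExtraspecial_of_le [Fact p.Prime] {Q H : Subgroup G} [Finite ↥Q]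
    (hQ : IsExtraspecial p ↥Q) (hHQ : H ≤ Q)
    (hcent : H ⊓ Subgroup.centralizer (H : Set G) ≤ (Subgroup.center ↥Q).map Q.subtype)
    (hne : ¬ H ≤ Subgroup.centralizer (H : Set G)) :
    IsExtraspecial p ↥H ∧
      (Subgroup.center ↥H).map H.subtype = (Subgroup.center ↥Q).map Q.subtype := by
  have hp := (Fact.out (p := p.Prime))
  haveI : Finite ↥H := Finite.of_injective _ (Subgroup.inclusion_injective hHQ)
  have hHp : IsPGroup p ↥H := hQ.1.1.to_le hHQ
  set Z := (Subgroup.center ↥Q).map Q.subtype with hZ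
  have hZc : Nat.card ↥Z = p := by
    rw [hZ, Subgroup.card_map_of_injective Q.subtype_injective, hQ.2]
  haveI : Finite ↥Z := Nat.finite_of_card_ne_zero (hZc ▸ hp.ne_zero)
  have hle : (Subgroup.center ↥H).map H.subtype ≤ Z := by
    rintro _ ⟨z, hz, rfl⟩
    exact hcent ⟨z.2, fun a ha => congrArg Subtype.val (Subgroup.mem_center_iff.mp hz ⟨a, ha⟩)⟩
  have hcomm : ∀ a ∈ H, ∀ b ∈ H, ⁅a, b⁆ ∈ Z := fun a ha b hb =>
    ⟨⁅⟨a, hHQ ha⟩, ⟨b, hHQ hb⟩⁆, special_commutator_mem_center hQ.1 _ _, rfl⟩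
  have hsub : (commutator ↥H).map H.subtype ≤ Z := by
    rw [commutator_def, Subgroup.map_le_iff_le_comap, Subgroup.commutator_le]
    exact fun a _ b _ => hcomm a a.2 b b.2
  have heq : ∀ K : Subgroup ↥H, K ≠ ⊥ → K.map H.subtype ≤ Z → K.map H.subtype = Z := by
    intro K hK hKZ
    refine Subgroup.eq_of_le_of_card_ge hKZ ?_
    have hd : Nat.card ↥(K.map H.subtype) ∣ p := hZc ▸ Subgroup.card_dvd_of_le hKZ
    rcases (Nat.dvd_prime hp).mp hd with h | h
    · exact absurd ((Subgroup.map_eq_bot_iff_of_injective K H.subtype_injective).mp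
        (Subgroup.card_eq_one.mp h)) hK
    · rw [h, hZc]
  have hder : commutator ↥H ≠ ⊥ := by
    intro h
    refine hne fun a ha b hb => ?_
    have h1 : ⁅(⟨b, hb⟩ : ↥H), ⟨a, ha⟩⁆ ∈ commutator ↥H :=
      Subgroup.commutator_mem_commutator (Subgroup.mem_top _) (Subgroup.mem_top _)
    rw [h, Subgroup.mem_bot] at h1
    exact congrArg Subtype.val (commutatorElement_eq_one_iff_mul_comm.mp h1)
  have hderZ := heq _ hder hsub
  have hZH : Z ≤ H := hderZ ▸ Subgroup.map_subtype_le _
  have hZle : Z ≤ (Subgroup.center ↥H).map H.subtype := by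
    intro z hz
    refine ⟨⟨z, hZH hz⟩, Subgroup.mem_center_iff.mpr fun a => Subtype.ext ?_, rfl⟩
    obtain ⟨w, hw, hwz⟩ := hz
    have := congrArg Subtype.val (Subgroup.mem_center_iff.mp hw ⟨a, hHQ a.2⟩)
    show (a : G) * z = z * a
    rw [← hwz]; exact this
  have hcenter := le_antisymm hle hZle
  refine ⟨⟨⟨hHp, ?_, ?_⟩, ?_⟩, hcenter⟩
  · refine Subgroup.map_injective H.subtype_injective (le_antisymm ?_ ?_)
    · refine Subgroup.map_mono (frattini_le (p := p) ?_ ?_)
      · exact fun x hx => by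
          rw [← Subgroup.mem_map_iff_mem H.subtype_injective, hcenter, ← hderZ]
          exact Subgroup.mem_map_of_mem _ hx
      · intro x
        rw [← Subgroup.mem_map_iff_mem H.subtype_injective, hcenter]
        exact ⟨⟨x, hHQ x.2⟩ ^ p, special_pow_mem_center hQ.1 _, rfl⟩
    · rw [hcenter, ← hderZ]
      exact Subgroup.map_mono (commutator_le_frattini hHp)
  · exact Subgroup.map_injective H.subtype_injective (hderZ.trans hcenter.symm)
  · rw [← Subgroup.card_map_of_injective H.subtype_injective, hcenter, hZc]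

end Cfsg.Agent.PGroup
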