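import Cfsg.Agent.Lib.PGroup.ExtraspecialClassify

/-!
# Invariants of the two types of extraspecial 2-groups

* `sqCount`: the number of elements with `g ^ 2 = 1`; `sqCount_sympSys`: it is `2^(2n) ± 2^n`
  according to the type `ε` of a symplectic system.
* `exists_elementary_of_sympSys`: elementary abelian subgroups of order `2^(n+1)` (type `+`) or
  `2^n` (both types); `two_mul_sqCount_of_elementary`: an elementary abelian subgroup of order
  `2^(n+1)` forces type `+`.
* `nonempty_mulEquiv_of_type`: equal order and equal type give isomorphic groups.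
-/

set_option autoImplicit false

namespace Cfsg.Agent.PGroup

open scoped commutatorElement

universe u v

variable {E : Type u} [Group E]

/-- The number of elements of `H` squaring to the identity. -/
noncomputable def sqCount (H : Subgroup E) : ℕ := Nat.card {g : ↥H // g ^ 2 = 1}

theorem sqCount_top : sqCount (⊤ : Subgroup E) = Nat.card {g : E // g ^ 2 = 1} := by
  refine Nat.card_congr (Equiv.subtypeEquiv Subgroup.topEquiv.toEquiv fun g => ?_)
  change g ^ 2 = 1 ↔ (g : E) ^ 2 = 1
  exact ⟨fun h => congrArg Subtype.val h, fun h => Subtype.ext h⟩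

/-- `(h c)^2 = h^2 c^2` for `c` centralizing `h`. -/
theorem sq_mul_of_commute {h c : E} (hc : h * c = c * h) : (h * c) ^ 2 = h ^ 2 * c ^ 2 :=
  Commute.mul_pow hc 2

/-- How the number of elements squaring to `1` changes when a pair is adjoined. -/
theorem sqCount_step [Finite E] (h : IsExtraspecial 2 E) {z : E} (hz : z ∈ Subgroup.center E)
    (hz1 : z ≠ 1) {H : Subgroup E} (hH : Subgroup.center E ≤ H)
    (hinf : H ⊓ Subgroup.centralizer (H : Set E) ≤ Subgroup.center E) {a b : E}
    (ha : a ∈ Subgroup.centralizer (H : Set E)) (hb : b ∈ Subgroup.centralizer (H : Set E))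
    (hab : ⁅a, b⁆ = z) {e : Bool} (ha2 : a ^ 2 = cond e z 1) (hb2 : b ^ 2 = cond e z 1) :
    sqCount (H ⊔ Subgroup.zpowers a ⊔ Subgroup.zpowers b) + cond e (2 * sqCount H) 0 =
      cond e (3 * Nat.card ↥H) (2 * sqCount H + Nat.card ↥H) := by
  classical
  have : Fact (Nat.Prime 2) := ⟨Nat.prime_two⟩
  have := Fintype.ofFinite ↥H
  set K := H ⊔ Subgroup.zpowers a ⊔ Subgroup.zpowers b with hK
  have haK : a ∈ K := Subgroup.mem_sup_left (Subgroup.mem_sup_right (Subgroup.mem_zpowers a))
  have hbK : b ∈ K := Subgroup.mem_sup_right (Subgroup.mem_zpowers b)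
  have hHK : H ≤ K := le_sup_left.trans le_sup_left
  have hzz : z * z = 1 := by rw [← pow_two]; exact special_center_pow h.1 hz
  have hha : ∀ g ∈ H, g * a = a * g := ha
  have hhb : ∀ g ∈ H, g * b = b * g := hb
  let w : Bool × Bool → E := fun q => cond q.1 a 1 * cond q.2 b 1
  have hwK : ∀ q, w q ∈ K := fun q => Subgroup.mul_mem _
    (by cases q.1 <;> first | exact haK | exact K.one_mem)
    (by cases q.2 <;> first | exact hbK | exact K.one_mem)
  have hwc : ∀ q, ∀ g ∈ H, g * w q = w q * g := fun q g hg => by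
    have h1 : Commute g (cond q.1 a 1) := by
      cases q.1
      · exact Commute.one_right g
      · exact hha g hg
    have h2 : Commute g (cond q.2 b 1) := by
      cases q.2
      · exact Commute.one_right g
      · exact hhb g hg
    exact (h1.mul_right h2).eq
  have hba : ⁅b, a⁆ = z := by
    rw [← commutatorElement_inv, hab]
    exact inv_eq_of_mul_eq_one_right hzz
  have hinv : z ≠ 1 := hz1
  have hda : ∀ g ∈ H, ∀ q, ⁅g * w q, a⁆ = cond q.2 z 1 := fun g hg q => by
    rw [commutator_mul_left (special_commutator_mem_center h.1 _ _),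
      commutatorElement_eq_one_iff_mul_comm.mpr (hha g hg), one_mul]
    show ⁅cond q.1 a 1 * cond q.2 b 1, a⁆ = _
    rw [commutator_mul_left (special_commutator_mem_center h.1 _ _)]
    cases q.1 <;> cases q.2 <;> simp [hba]
  have hdb : ∀ g ∈ H, ∀ q, ⁅g * w q, b⁆ = cond q.1 z 1 := fun g hg q => by
    rw [commutator_mul_left (special_commutator_mem_center h.1 _ _),
      commutatorElement_eq_one_iff_mul_comm.mpr (hhb g hg), one_mul]
    show ⁅cond q.1 a 1 * cond q.2 b 1, b⁆ = _
    rw [commutator_mul_left (special_commutator_mem_center h.1 _ _)]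
    cases q.1 <;> cases q.2 <;> simp [hab]
  let F : ↥H × (Bool × Bool) → ↥K := fun r =>
    ⟨(r.1 : E) * w r.2, Subgroup.mul_mem _ (hHK r.1.2) (hwK r.2)⟩
  have hinj : Function.Injective F := by
    rintro ⟨g, i, j⟩ ⟨g', i', j'⟩ heq
    have hv : (g : E) * w (i, j) = (g' : E) * w (i', j') := congrArg Subtype.val heq
    have h1 := congrArg (fun x => ⁅x, a⁆) hv
    have h2 := congrArg (fun x => ⁅x, b⁆) hv
    simp only [hda _ g.2, hda _ g'.2, hdb _ g.2, hdb _ g'.2] at h1 h2
    have hj : j = j' := by cases j <;> cases j' <;> simp_all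
    have hi : i = i' := by cases i <;> cases i' <;> simp_all
    subst hi hj
    exact Prod.ext (Subtype.ext (mul_right_cancel hv)) rfl
  have hbij : Function.Bijective F := by
    refine Function.Injective.bijective_of_nat_card_le hinj ?_
    rw [hK, (symp_step h hH hinf ha hb (hab ▸ hz1)).1, Nat.card_prod, Nat.card_prod,
      Nat.card_eq_fintype_card (α := Bool), Fintype.card_bool, mul_assoc]
  have hcount : sqCount K = ∑ g : ↥H, ∑ i : Bool, ∑ j : Bool,
      if ((g : E) * w (i, j)) ^ 2 = 1 then 1 else 0 := by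
    have e1 : {r : ↥H × (Bool × Bool) // ((r.1 : E) * w r.2) ^ 2 = 1} ≃ {g : ↥K // g ^ 2 = 1} :=
      Equiv.subtypeEquiv (Equiv.ofBijective F hbij) fun r =>
        ⟨fun hr => Subtype.ext hr, fun hr => congrArg Subtype.val hr⟩
    rw [sqCount, ← Nat.card_congr e1, Nat.card_eq_fintype_card, Fintype.card_subtype,
      Finset.card_filter, Fintype.sum_prod_type]
    exact Finset.sum_congr rfl fun g _ => Fintype.sum_prod_type _
  have hterm : ∀ g : ↥H, (∑ i : Bool, ∑ j : Bool, if ((g : E) * w (i, j)) ^ 2 = 1 then 1 else 0) +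
      cond e (2 * if g ^ 2 = 1 then 1 else 0) 0 =
      cond e 3 (2 * (if g ^ 2 = 1 then 1 else 0) + 1) := by
    intro g
    simp only [Fintype.sum_bool, sq_mul_of_commute (hwc _ g g.2)]
    have hg1 : g ^ 2 = 1 ↔ (g : E) ^ 2 = 1 :=
      ⟨fun hh => congrArg Subtype.val hh, fun hh => Subtype.ext hh⟩
    have hgc := eq_or_eq_of_mem_center h hz hz1 (special_pow_mem_center h.1 (g : E))
    have hw3 : (a * b) ^ 2 = a ^ 2 * b ^ 2 * z := by
      rw [mul_pow_of_central (hba ▸ hz), hba, Nat.choose_self, pow_one]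
    simp only [w, cond_true, cond_false, one_mul, mul_one, one_pow, hw3, ha2, hb2, hg1]
    cases e <;> rcases hgc with hg | hg <;> simp [hg, hzz, hz1]
  have htot : ∑ g : ↥H, ((∑ i : Bool, ∑ j : Bool,
      if ((g : E) * w (i, j)) ^ 2 = 1 then 1 else 0) +
      cond e (2 * if g ^ 2 = 1 then 1 else 0) 0) =
      ∑ g : ↥H, cond e 3 (2 * (if g ^ 2 = 1 then 1 else 0) + 1) :=
    Finset.sum_congr rfl fun g _ => hterm g
  have hsqH : sqCount H = ∑ g : ↥H, if g ^ 2 = 1 then 1 else 0 := by
    rw [sqCount, Nat.card_eq_fintype_card, Fintype.card_subtype, Finset.card_filter]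
  rw [hcount, hsqH, Nat.card_eq_fintype_card (α := ↥H)]
  cases e
  · simp only [cond_false, add_zero] at htot ⊢
    rw [htot, Finset.sum_add_distrib, ← Finset.mul_sum, Finset.sum_const, Finset.card_univ,
      smul_eq_mul, mul_one]
  · simp only [cond_true] at htot ⊢
    rw [Finset.mul_sum, ← Finset.sum_add_distrib, htot, Finset.sum_const, Finset.card_univ,
      smul_eq_mul, mul_comm]

theorem sympSpan_succ (k : ℕ) (x y : ℕ → E) :
    sympSpan (k + 1) x y = sympSpan k x y ⊔ Subgroup.zpowers (x k) ⊔ Subgroup.zpowers (y k) := by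
  rw [← sympSpan_update, Function.update_eq_self, Function.update_eq_self]

theorem mem_centralizer_sympSpan {z : E} {n : ℕ} {x y : ℕ → E} (hs : IsSympSys z n x y) {k : ℕ}
    (hk : k < n) :
    x k ∈ Subgroup.centralizer (sympSpan k x y : Set E) ∧
      y k ∈ Subgroup.centralizer (sympSpan k x y : Set E) := by
  suffices hh : sympSpan k x y ≤ Subgroup.centralizer ({x k} : Set E) ∧
      sympSpan k x y ≤ Subgroup.centralizer ({y k} : Set E) from
    ⟨fun g hg => Subgroup.mem_centralizer_singleton_iff.mp (hh.1 hg),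
      fun g hg => Subgroup.mem_centralizer_singleton_iff.mp (hh.2 hg)⟩
  constructor <;>
    refine sup_le (fun c hc => Subgroup.mem_centralizer_singleton_iff.mpr
      (Subgroup.mem_center_iff.mp hc _).symm) ((Subgroup.closure_le _).mpr ?_) <;>
    rintro _ (⟨i, hi, rfl⟩ | ⟨i, hi, rfl⟩) <;>
    have hi' : i < k := Set.mem_Iio.mp hi <;>
    have h1 := hs i (hi'.trans hk) k hk <;>
    have h2 := hs k hk i (hi'.trans hk) <;>
    rw [if_neg hi'.ne] at h1 <;>
    rw [if_neg hi'.ne'] at h2
  · exact Subgroup.mem_centralizer_singleton_iff.mpr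
      (commutatorElement_eq_one_iff_mul_comm.mp h1.1)
  · exact Subgroup.mem_centralizer_singleton_iff.mpr
      (commutatorElement_eq_one_iff_mul_comm.mp h2.2.2).symm
  · exact Subgroup.mem_centralizer_singleton_iff.mpr
      (commutatorElement_eq_one_iff_mul_comm.mp h1.2.2)
  · exact Subgroup.mem_centralizer_singleton_iff.mpr
      (commutatorElement_eq_one_iff_mul_comm.mp h1.2.1)

/-- The initial spans of a symplectic system and their number of square roots of `1`. -/
theorem sympSys_span_two [Finite E] (h : IsExtraspecial 2 E) {z : E} (hz : z ∈ Subgroup.center E)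
    (hz1 : z ≠ 1) {n : ℕ} {ε : Bool} {x y : ℕ → E} (hs : IsSympSys z n x y)
    (he : ∀ i, i < n → x i ^ 2 = z ^ sympExp n ε i ∧ y i ^ 2 = z ^ sympExp n ε i) :
    ∀ k, k ≤ n → Nat.card ↥(sympSpan k x y) = 2 ^ (2 * k + 1) ∧
      sympSpan k x y ⊓ Subgroup.centralizer (sympSpan k x y : Set E) ≤ Subgroup.center E ∧
      ((ε = true ∧ 0 < k ∧ k = n → sqCount (sympSpan k x y) + 2 ^ k = 2 ^ (2 * k)) ∧
        (¬(ε = true ∧ 0 < k ∧ k = n) → sqCount (sympSpan k x y) = 2 ^ (2 * k) + 2 ^ k)) := by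
  have : Fact (Nat.Prime 2) := ⟨Nat.prime_two⟩
  intro k
  induction k with
  | zero =>
    intro _
    refine ⟨by rw [sympSpan_zero, h.2]; norm_num, by rw [sympSpan_zero]; exact inf_le_left,
      fun hh => absurd hh.2.1 (lt_irrefl 0), fun _ => ?_⟩
    rw [sympSpan_zero, sqCount]
    have hall : ∀ g : ↥(Subgroup.center E), g ^ 2 = 1 := fun g =>
      Subtype.ext (special_center_pow h.1 g.2)
    rw [Nat.card_congr (Equiv.subtypeUnivEquiv hall), h.2]
    norm_num
  | succ k ih =>
    intro hk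
    obtain ⟨hc, hinf, -, hcnt⟩ := ih (Nat.le_of_succ_le hk)
    have hN := hcnt (fun hh => by omega)
    obtain ⟨hxk, hyk⟩ := mem_centralizer_sympSpan hs (show k < n by omega)
    have hxy : ⁅x k, y k⁆ = z := by
      rw [(hs k (by omega) k (by omega)).2.2, if_pos rfl]
    have hst := symp_step h (center_le_sympSpan k x y) hinf hxk hyk (hxy ▸ hz1)
    rw [sympSpan_succ]
    refine ⟨by rw [hst.1, hc]; ring, hst.2, ?_⟩
    have hP : (2 : ℕ) ^ (2 * k + 1) = 2 * 2 ^ (2 * k) := by ring
    have hP2 : (2 : ℕ) ^ (2 * (k + 1)) = 4 * 2 ^ (2 * k) := by ring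
    have hQ : (2 : ℕ) ^ (k + 1) = 2 * 2 ^ k := by ring
    by_cases hlast : ε = true ∧ k + 1 = n
    · have he' : ∀ i, i = k → sympExp n ε i = 1 := fun i hi => if_pos ⟨hlast.1, by omega⟩
      obtain ⟨hx2, hy2⟩ := he k (by omega)
      rw [he' k rfl, pow_one] at hx2 hy2
      have hcs := sqCount_step h hz hz1 (center_le_sympSpan k x y) hinf hxk hyk hxy (e := true)
        hx2 hy2
      simp only [cond_true] at hcs
      rw [hc, hN, hP] at hcs
      refine ⟨fun _ => ?_, fun hh => absurd ⟨hlast.1, Nat.succ_pos k, hlast.2⟩ hh⟩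
      rw [hP2, hQ]
      omega
    · obtain ⟨hx2, hy2⟩ := he k (by omega)
      have he0 : sympExp n ε k = 0 := if_neg hlast
      rw [he0, pow_zero] at hx2 hy2
      have hcs := sqCount_step h hz hz1 (center_le_sympSpan k x y) hinf hxk hyk hxy (e := false)
        hx2 hy2
      simp only [cond_false, add_zero] at hcs
      rw [hc, hN, hP] at hcs
      refine ⟨fun hh => absurd ⟨hh.1, hh.2.2⟩ hlast, fun _ => ?_⟩
      rw [hP2, hQ]
      omega

/-- The number of square roots of `1` in an extraspecial 2-group of type `ε`. -/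
theorem sqCount_sympSys [Finite E] (h : IsExtraspecial 2 E) {z : E} (hz : z ∈ Subgroup.center E)
    (hz1 : z ≠ 1) {n : ℕ} (hn1 : 1 ≤ n) (hn : Nat.card E = 2 ^ (2 * n + 1)) {ε : Bool}
    {x y : ℕ → E} (hs : IsSympSys z n x y)
    (he : ∀ i, i < n → x i ^ 2 = z ^ sympExp n ε i ∧ y i ^ 2 = z ^ sympExp n ε i) :
    (ε = true → Nat.card {g : E // g ^ 2 = 1} + 2 ^ n = 2 ^ (2 * n)) ∧
      (ε = false → Nat.card {g : E // g ^ 2 = 1} = 2 ^ (2 * n) + 2 ^ n) := by
  obtain ⟨hc, -, h1, h2⟩ := sympSys_span_two h hz hz1 hs he n le_rfl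
  rw [Subgroup.eq_top_of_card_eq _ (hc.trans hn.symm), sqCount_top] at h1 h2
  exact ⟨fun hε => h1 ⟨hε, hn1, rfl⟩, fun hε => h2 fun hh => by simp [hε] at hh⟩

/-- Equal order and equal number of square roots of `1` give isomorphic groups. -/
theorem nonempty_mulEquiv_of_sqCount {E' : Type v} [Group E'] [Finite E] [Finite E']
    (h : IsExtraspecial 2 E) (h' : IsExtraspecial 2 E') (hc : Nat.card E' = Nat.card E)
    (hsq : Nat.card {g : E' // g ^ 2 = 1} = Nat.card {g : E // g ^ 2 = 1}) :
    Nonempty (E ≃* E') := by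
  have : Fact (Nat.Prime 2) := ⟨Nat.prime_two⟩
  obtain ⟨n, hn1, hn, -⟩ := extraspecial_card h
  obtain ⟨z, hz, hz'⟩ := exists_center_ne_one h
  obtain ⟨z₂, hz₂, hz₂'⟩ := exists_center_ne_one h'
  obtain ⟨e, x, y, hs, hg, hq⟩ := exists_sympSys_two h hn hz hz'
  obtain ⟨e', x', y', hs', hg', hq'⟩ := exists_sympSys_two h' (hc.trans hn) hz₂ hz₂'
  obtain ⟨hc1, hc2⟩ := sqCount_sympSys h hz hz' hn1 hn hs hq
  obtain ⟨hd1, hd2⟩ := sqCount_sympSys h' hz₂ hz₂' hn1 (hc.trans hn) hs' hq'
  have hpos : 0 < (2 : ℕ) ^ n := Nat.pow_pos two_pos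
  have hee : e = e' := by
    cases e <;> cases e'
    · rfl
    · have := hc2 rfl; have := hd1 rfl; omega
    · have := hc1 rfl; have := hd2 rfl; omega
    · rfl
  subst hee
  exact nonempty_mulEquiv_of_sympSys h h' hz hz' hz₂ hz₂' hn (hc.trans hn) hs hs' hg hg' hq hq'

/-- Elementary abelian subgroups built from the first members of the pairs. -/
theorem exists_elementary_of_sympSys [Finite E] (h : IsExtraspecial 2 E) {z : E}
    (hz : z ∈ Subgroup.center E) (hz1 : z ≠ 1) {n : ℕ} {ε : Bool} {x y : ℕ → E}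
    (hs : IsSympSys z n x y)
    (he : ∀ i, i < n → x i ^ 2 = z ^ sympExp n ε i ∧ y i ^ 2 = z ^ sympExp n ε i)
    {m : ℕ} (hmn : m ≤ n) (hm : ∀ i, i < m → x i ^ 2 = 1) :
    ∃ A : Subgroup E, A ≤ sympSpan m x y ∧ Subgroup.center E ≤ A ∧ IsMulCommutative A ∧
      (∀ a ∈ A, a ^ 2 = 1) ∧ Nat.card ↥A = 2 ^ (m + 1) := by
  have : Fact (Nat.Prime 2) := ⟨Nat.prime_two⟩
  induction m with
  | zero =>
    exact ⟨Subgroup.center E, center_le_sympSpan 0 x y, le_rfl, inferInstance,
      fun a ha => special_center_pow h.1 ha, h.2⟩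
  | succ m ih =>
    obtain ⟨A, hA, hZA, hAc, hA2, hAcard⟩ := ih (by omega) (fun i hi => hm i (by omega))
    obtain ⟨-, hinf, -⟩ := sympSys_span_two h hz hz1 hs he m (by omega)
    obtain ⟨hxk, hyk⟩ := mem_centralizer_sympSpan hs (show m < n by omega)
    have hxA : x m ∈ Subgroup.centralizer (A : Set E) := fun g hg => hxk g (hA hg)
    have hxn : x m ∉ A := fun hh => by
      have hxy : ⁅x m, y m⁆ = z := by
        rw [(hs m (by omega) m (by omega)).2.2, if_pos rfl]
      refine hz1 ?_
      rw [← hxy]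
      exact commutatorElement_eq_one_iff_mul_comm.mpr (hyk _ (hA hh))
    have := normal_of_center_le h hZA
    refine ⟨A ⊔ Subgroup.zpowers (x m), ?_, hZA.trans le_sup_left,
      isMulCommutative_sup_zpowers hAc hxA, fun a ha => ?_, ?_⟩
    · rw [sympSpan_succ]
      exact sup_le_sup_right hA _ |>.trans le_sup_left
    · obtain ⟨g, hg, c, hc, rfl⟩ := Subgroup.mem_sup_of_normal_left.mp ha
      obtain ⟨k, hk⟩ := Subgroup.mem_zpowers_iff.mp hc
      have hcomm : Commute g c := by
        rw [← hk]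
        exact (Commute.zpow_right (hxA g hg : Commute g (x m)) k)
      rw [hcomm.mul_pow, hA2 g hg, one_mul, ← hk, ← zpow_natCast, zpow_comm, zpow_natCast,
        hm m (Nat.lt_succ_self m), one_zpow]
    · rw [card_sup_zpowers A hxn (hZA (special_pow_mem_center h.1 (x m))), hAcard]
      ring

/-- An elementary abelian subgroup of order `2^(n+1)` determines the number of square roots of
`1`: `2 N = |E| + |A|`. -/
theorem two_mul_sqCount_of_elementary [Finite E] (h : IsExtraspecial 2 E) {A : Subgroup E}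
    (hA : IsMulCommutative A) (hA2 : ∀ a ∈ A, a ^ 2 = 1) {n : ℕ}
    (hn : Nat.card E = 2 ^ (2 * n + 1)) (hAn : 2 ^ (n + 1) ≤ Nat.card ↥A) :
    2 * Nat.card {g : E // g ^ 2 = 1} = Nat.card E + Nat.card ↥A := by
  classical
  have : Fact (Nat.Prime 2) := ⟨Nat.prime_two⟩
  have := Fintype.ofFinite E
  obtain ⟨z, hz, hz1⟩ := exists_center_ne_one h
  obtain ⟨B, hAB, hBc, hBmax⟩ := exists_le_maximal_abelian hA
  have hsq := extraspecial_maximal_abelian_sq h hBc hBmax
  rw [hn, ← pow_succ'] at hsq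
  have hBA : B = A := by
    refine (Subgroup.eq_of_le_of_card_ge hAB ?_).symm
    refine le_trans ?_ hAn
    refine Nat.le_of_lt_succ (Nat.lt_succ_of_le ?_)
    by_contra hcon
    have hlt : (2 ^ (n + 1)) ^ 2 < Nat.card ↥B ^ 2 :=
      Nat.pow_lt_pow_left (not_le.mp hcon) two_ne_zero
    rw [hsq, ← pow_mul] at hlt
    exact absurd hlt (by rw [show (n + 1) * 2 = 2 * n + 1 + 1 by ring]; exact lt_irrefl _)
  subst hBA
  have hcent := centralizer_eq_of_maximal_abelian hBc hBmax
  have hfix : ∀ x : E, (∑ a : ↥B, if (x * (a : E)) ^ 2 = 1 then 2 else 0) =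
      if x ∈ B then 2 * Nat.card ↥B else Nat.card ↥B := by
    intro x
    by_cases hx : x ∈ B
    · rw [if_pos hx, Finset.sum_congr rfl fun a _ => if_pos (hA2 _ (Subgroup.mul_mem _ hx a.2)),
        Finset.sum_const, Finset.card_univ, smul_eq_mul, mul_comm, Nat.card_eq_fintype_card]
    · rw [if_neg hx]
      have hxsq : ∀ a : ↥B, (x * (a : E)) ^ 2 = x ^ 2 * ⁅(a : E), x⁆ := fun a => by
        rw [mul_pow_of_central (special_commutator_mem_center h.1 _ _), hA2 _ a.2, mul_one,
          Nat.choose_self, pow_one]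
      obtain ⟨a₀, ha₀, ha₀x⟩ : ∃ a ∈ B, ⁅a, x⁆ ≠ 1 := by
        by_contra hcon
        push Not at hcon
        refine hx (hcent ▸ fun a ha => ?_)
        exact commutatorElement_eq_one_iff_mul_comm.mp (hcon a ha)
      have hflip : ∀ a : ↥B, ⁅(a : E) * a₀, x⁆ = ⁅(a : E), x⁆ * z := fun a => by
        rw [commutator_mul_left (special_commutator_mem_center h.1 _ _)]
        exact congrArg _ ((eq_or_eq_of_mem_center h hz hz1
          (special_commutator_mem_center h.1 a₀ x)).resolve_left ha₀x)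
      have hone : ∀ a : ↥B, (if (x * (a : E)) ^ 2 = 1 then 1 else 0) +
          (if (x * ((a : E) * a₀)) ^ 2 = 1 then 1 else 0) = 1 := fun a => by
        rw [hxsq a, show ((a : E) * a₀) = ((a * ⟨a₀, ha₀⟩ : ↥B) : E) from rfl, hxsq,
          show (((a * ⟨a₀, ha₀⟩ : ↥B) : E)) = (a : E) * a₀ from rfl, hflip]
        have hzz : z * z = 1 := by rw [← pow_two]; exact special_center_pow h.1 hz
        rcases eq_or_eq_of_mem_center h hz hz1 (special_pow_mem_center h.1 x) with hx2 | hx2 <;>
          rcases eq_or_eq_of_mem_center h hz hz1 (special_commutator_mem_center h.1 (a : E) x)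
            with hax | hax <;> simp [hx2, hax, hzz, hz1]
      have hshift : (∑ a : ↥B, if (x * ((a : E) * a₀)) ^ 2 = 1 then 1 else 0) =
          ∑ a : ↥B, if (x * (a : E)) ^ 2 = 1 then 1 else 0 :=
        Fintype.sum_equiv (Equiv.mulRight ⟨a₀, ha₀⟩) _ _ fun a => rfl
      have hs : ∑ a : ↥B, ((if (x * (a : E)) ^ 2 = 1 then 1 else 0) +
          (if (x * ((a : E) * a₀)) ^ 2 = 1 then 1 else 0)) = ∑ a : ↥B, 1 :=
        Finset.sum_congr rfl fun a _ => hone a
      rw [Finset.sum_add_distrib, hshift, ← Finset.sum_add_distrib] at hs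
      rw [Finset.sum_congr rfl (fun (a : ↥B) _ => show (if (x * (a : E)) ^ 2 = 1 then 2 else 0) =
        (if (x * (a : E)) ^ 2 = 1 then 1 else 0) + (if (x * (a : E)) ^ 2 = 1 then 1 else 0) by
          split_ifs <;> rfl), hs, Nat.card_eq_fintype_card]
      simp
  have hleft : (∑ x : E, ∑ a : ↥B, if (x * (a : E)) ^ 2 = 1 then 2 else 0) =
      Nat.card ↥B * (2 * Nat.card {g : E // g ^ 2 = 1}) := by
    rw [Finset.sum_comm]
    have hin : ∀ a : ↥B, (∑ x : E, if (x * (a : E)) ^ 2 = 1 then 2 else 0) =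
        2 * Nat.card {g : E // g ^ 2 = 1} := fun a => by
      rw [Fintype.sum_equiv (Equiv.mulRight (a : E)) (fun x => if (x * (a : E)) ^ 2 = 1 then 2 else 0) (fun x => if x ^ 2 = 1 then 2 else 0)
        (fun x => rfl), ← Finset.sum_filter, Finset.sum_const, smul_eq_mul, mul_comm,
        Nat.card_eq_fintype_card, Fintype.card_subtype]
    rw [Finset.sum_congr rfl fun a _ => hin a, Finset.sum_const, Finset.card_univ, smul_eq_mul,
      Nat.card_eq_fintype_card (α := ↥B)]
  rw [Finset.sum_congr rfl fun x _ => hfix x] at hleft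
  have hright : (∑ x : E, if x ∈ B then 2 * Nat.card ↥B else Nat.card ↥B) =
      Nat.card ↥B * (Nat.card E + Nat.card ↥B) := by
    rw [Finset.sum_congr rfl (fun x _ => show (if x ∈ B then 2 * Nat.card ↥B else Nat.card ↥B) =
      Nat.card ↥B + (if x ∈ B then Nat.card ↥B else 0) by split_ifs <;> ring),
      Finset.sum_add_distrib, Finset.sum_const, Finset.card_univ, smul_eq_mul, ← Finset.sum_filter,
      Finset.sum_const, smul_eq_mul, Nat.card_eq_fintype_card (α := E),
      Nat.card_eq_fintype_card (α := ↥B), Fintype.card_subtype]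
    ring
  exact Nat.eq_of_mul_eq_mul_left Nat.card_pos (hleft.symm.trans hright)

end Cfsg.Agent.PGroup
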