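import Cfsg.Agent.Lib.PGroup.ExtraspecialTwo
import Cfsg.Agent.Lib.QFormF2.Classify
import Cfsg.Agent.Lib.Forms.SmallOrth
import Cfsg.Prelude.Def_KGroupFacts

/-!
# The quadratic space of an extraspecial 2-group and its outer automorphism group

* `bit`: the ZMod 2 value of an element of a centre of order two
* `IsCoord E χ q`: `χ : E → (ι → ZMod 2)` is onto with kernel the centre and `q (χ a) = bit (a^2)`
* `exists_lift`: every isometry of `q` is induced by an automorphism of `E`
* `outEquiv`: `Out E ≃* isometryGroup q`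
* `exists_coord`: every extraspecial 2-group has coordinates with `q` a `formOf w`
-/

set_option autoImplicit false

namespace Cfsg.Agent.PGroup.TwoOut

open scoped commutatorElement
open Matrix

universe u v w

/-- An isomorphism matching two systems of generators with the same relations. -/
theorem exists_mulEquiv_of_generators {E₁ : Type u} {E₂ : Type v} [Group E₁] [Group E₂]
    [Finite E₁] [Finite E₂] {p : ℕ} [Fact p.Prime] {ι : Type w} [Fintype ι] (s : ι → E₁)
    (t : ι → E₂) {z₁ : E₁} {z₂ : E₂} (hz₁ : z₁ ∈ Subgroup.center E₁)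
    (hz₂ : z₂ ∈ Subgroup.center E₂) (hz₁p : z₁ ^ p = 1) (hz₂p : z₂ ^ p = 1)
    (hs : Subgroup.closure (insert z₁ (Set.range s)) = ⊤)
    (ht : Subgroup.closure (insert z₂ (Set.range t)) = ⊤)
    (c : ι → ι → ℤ) (hcs : ∀ i j, ⁅s i, s j⁆ = z₁ ^ c i j) (hct : ∀ i j, ⁅t i, t j⁆ = z₂ ^ c i j)
    (e : ι → ℤ) (hes : ∀ i, s i ^ p = z₁ ^ e i) (het : ∀ i, t i ^ p = z₂ ^ e i)
    (h₁ : p ^ (Fintype.card ι + 1) ≤ Nat.card E₁) (h₂ : p ^ (Fintype.card ι + 1) ≤ Nat.card E₂) :
    ∃ φ : E₁ ≃* E₂, φ z₁ = z₂ ∧ ∀ i, φ (s i) = t i := by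
  classical
  have hp := (Fact.out (p := p.Prime))
  set gens : Set (E₁ × E₂) := insert (z₁, z₂) (Set.range fun i => (s i, t i)) with hgens
  set K := Subgroup.closure gens with hK
  let w : ↥K := ⟨(z₁, z₂), Subgroup.subset_closure (Set.mem_insert _ _)⟩
  let g : ι → ↥K := fun i =>
    ⟨(s i, t i), Subgroup.subset_closure (Set.mem_insert_of_mem _ ⟨i, rfl⟩)⟩
  have hw : Subgroup.zpowers w ≤ Subgroup.center ↥K :=
    Subgroup.zpowers_le.mpr (Subgroup.mem_center_iff.mpr fun a => Subtype.ext (Prod.ext
      (Subgroup.mem_center_iff.mp hz₁ _) (Subgroup.mem_center_iff.mp hz₂ _)))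
  have hgen : Subgroup.closure ((Subgroup.zpowers w : Set ↥K) ∪ Set.range g) = ⊤ := by
    rw [eq_top_iff, ← Subgroup.map_le_map_iff_of_injective K.subtype_injective,
      MonoidHom.map_closure, ← MonoidHom.range_eq_map, Subgroup.range_subtype]
    refine (Subgroup.closure_le _).mpr ?_
    rintro x (rfl | ⟨i, rfl⟩)
    · exact Subgroup.subset_closure ⟨w, Or.inl (Subgroup.mem_zpowers w), rfl⟩
    · exact Subgroup.subset_closure ⟨g i, Or.inr ⟨i, rfl⟩, rfl⟩
  have hcomm : ∀ i j, ⁅g i, g j⁆ ∈ Subgroup.zpowers w := fun i j =>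
    ⟨c i j, (Subtype.ext (Prod.ext (hcs i j) (hct i j))).symm⟩
  have hpow : ∀ i, g i ^ p ∈ Subgroup.zpowers w := fun i =>
    ⟨e i, (Subtype.ext (Prod.ext (hes i) (het i))).symm⟩
  have hcard : Nat.card ↥K ≤ p ^ (Fintype.card ι + 1) := by
    have h := card_le_of_generators (Subgroup.zpowers w) hw g hgen hcomm hpow Finset.univ
    rw [Finset.coe_univ, Set.image_univ, ← Subgroup.closure_eq (Subgroup.zpowers w),
      ← Subgroup.closure_union, hgen, Subgroup.card_top, Subgroup.closure_eq,
      Finset.card_univ] at h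
    refine h.trans ?_
    rw [pow_succ']
    refine Nat.mul_le_mul_right _ ?_
    rw [Nat.card_zpowers]
    have hwp : w ^ p = 1 := Subtype.ext (Prod.ext hz₁p hz₂p)
    exact Nat.le_of_dvd hp.pos (orderOf_dvd_of_pow_eq_one hwp)
  let f₁ : ↥K →* E₁ := (MonoidHom.fst E₁ E₂).comp K.subtype
  let f₂ : ↥K →* E₂ := (MonoidHom.snd E₁ E₂).comp K.subtype
  have hsurj₁ : Function.Surjective f₁ := by
    rw [← MonoidHom.range_eq_top, eq_top_iff, ← hs, Subgroup.closure_le]
    rintro x (rfl | ⟨i, rfl⟩)
    · exact ⟨w, rfl⟩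
    · exact ⟨g i, rfl⟩
  have hsurj₂ : Function.Surjective f₂ := by
    rw [← MonoidHom.range_eq_top, eq_top_iff, ← ht, Subgroup.closure_le]
    rintro x (rfl | ⟨i, rfl⟩)
    · exact ⟨w, rfl⟩
    · exact ⟨g i, rfl⟩
  have hb₁ : Function.Bijective f₁ :=
    Function.Surjective.bijective_of_nat_card_le hsurj₁ (hcard.trans h₁)
  have hb₂ : Function.Bijective f₂ :=
    Function.Surjective.bijective_of_nat_card_le hsurj₂ (hcard.trans h₂)
  refine ⟨(MulEquiv.ofBijective f₁ hb₁).symm.trans (MulEquiv.ofBijective f₂ hb₂), ?_, fun i => ?_⟩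
  · exact congrArg f₂ ((MulEquiv.ofBijective f₁ hb₁).symm_apply_apply w)
  · exact congrArg f₂ ((MulEquiv.ofBijective f₁ hb₁).symm_apply_apply (g i))

variable {E : Type u} [Group E]

open Classical in
/-- The value in ZMod 2 of a central element. -/
noncomputable def bit (c : E) : ZMod 2 := if c = 1 then 0 else 1

theorem bit_one : bit (1 : E) = 0 := by simp [bit]

theorem bit_map (α : E ≃* E) (c : E) : bit (α c) = bit c := by
  classical
  simp [bit]

variable [Finite E]

theorem bit_mul (hE : IsExtraspecial 2 E) {c d : E} (hc : c ∈ Subgroup.center E)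
    (hd : d ∈ Subgroup.center E) : bit (c * d) = bit c + bit d := by
  classical
  have : Fact (Nat.Prime 2) := ⟨Nat.prime_two⟩
  obtain ⟨z, hz, hz1⟩ := exists_center_ne_one hE
  have hzz : z * z = 1 := by rw [← pow_two]; exact special_center_pow hE.1 hz
  rcases eq_or_eq_of_mem_center hE hz hz1 hc with rfl | rfl <;>
    rcases eq_or_eq_of_mem_center hE hz hz1 hd with rfl | rfl <;>
      simp [bit, hz1, hzz, show (1 : ZMod 2) + 1 = 0 from rfl]

theorem bit_inj (hE : IsExtraspecial 2 E) {c d : E} (hc : c ∈ Subgroup.center E)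
    (hd : d ∈ Subgroup.center E) (h : bit c = bit d) : c = d := by
  classical
  obtain ⟨z, hz, hz1⟩ := exists_center_ne_one hE
  rcases eq_or_eq_of_mem_center hE hz hz1 hc with rfl | rfl <;>
    rcases eq_or_eq_of_mem_center hE hz hz1 hd with rfl | rfl <;>
      simp_all [bit]

theorem bit_sq_mul (hE : IsExtraspecial 2 E) (a b : E) :
    bit ((a * b) ^ 2) = bit (a ^ 2) + bit (b ^ 2) + bit ⁅b, a⁆ := by
  have : Fact (Nat.Prime 2) := ⟨Nat.prime_two⟩
  have h1 := special_pow_mem_center hE.1 a
  have h2 := special_pow_mem_center hE.1 b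
  have h3 := special_commutator_mem_center hE.1 b a
  rw [mul_pow_of_central h3, Nat.choose_self, pow_one, bit_mul hE (Subgroup.mul_mem _ h1 h2) h3,
    bit_mul hE h1 h2]

variable {ι : Type} [Fintype ι] [DecidableEq ι]

/-- Coordinates on the quadratic space of `E`. -/
structure IsCoord (χ : E →* Multiplicative (ι → ZMod 2)) (q : (ι → ZMod 2) → ZMod 2) : Prop where
  surj : Function.Surjective χ
  ker : χ.ker = Subgroup.center E
  sq : ∀ a, q (χ a).toAdd = bit (a ^ 2)

variable {χ : E →* Multiplicative (ι → ZMod 2)} {q : (ι → ZMod 2) → ZMod 2}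

theorem IsCoord.comm (h : IsCoord χ q) (hE : IsExtraspecial 2 E) (a b : E) :
    bit ⁅b, a⁆ = q ((χ a).toAdd + (χ b).toAdd) + q (χ a).toAdd + q (χ b).toAdd := by
  rw [← toAdd_mul, ← map_mul, h.sq, h.sq, h.sq, bit_sq_mul hE]
  have h2 : ∀ x : ZMod 2, x + x = 0 := by decide
  linear_combination -h2 (bit (a ^ 2)) - h2 (bit (b ^ 2))

omit [DecidableEq ι] in
theorem IsCoord.card (h : IsCoord χ q) (hE : IsExtraspecial 2 E) :
    Nat.card E = 2 ^ (Fintype.card ι + 1) := by
  rw [← χ.ker.card_mul_index, Subgroup.index_ker, MonoidHom.range_eq_top.2 h.surj, Subgroup.card_top,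
    h.ker, hE.2]
  simp [Nat.card_congr Multiplicative.toAdd, Nat.card_fun, pow_succ']

theorem IsCoord.closure_eq (h : IsCoord χ q) (hE : IsExtraspecial 2 E) {z : E}
    (hz : z ∈ Subgroup.center E) (hz1 : z ≠ 1) (M : GL ι (ZMod 2)) (t : ι → E)
    (ht : ∀ i, (χ (t i)).toAdd = (M : Matrix ι ι (ZMod 2)) *ᵥ Pi.single i 1) :
    Subgroup.closure (insert z (Set.range t)) = ⊤ := by
  set K := Subgroup.closure (insert z (Set.range t))
  have hZ : Subgroup.center E ≤ K := fun c hc => by
    rcases eq_or_eq_of_mem_center hE hz hz1 hc with rfl | rfl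
    · exact K.one_mem
    · exact Subgroup.subset_closure (Set.mem_insert _ _)
  have hmap : K.map χ = ⊤ := by
    rw [eq_top_iff]
    intro v _
    have hv : ∀ x : ι → ZMod 2,
        Multiplicative.ofAdd ((M : Matrix ι ι (ZMod 2)) *ᵥ x) ∈ K.map χ := by
      intro x
      rw [← Finset.univ_sum_single x, Matrix.mulVec_sum, ofAdd_sum]
      refine Subgroup.prod_mem _ fun i _ => ?_
      rcases (show x i = 0 ∨ x i = 1 by generalize x i = y; revert y; decide) with hx | hx <;> rw [hx]
      · rw [Pi.single_zero, Matrix.mulVec_zero, ofAdd_zero]; exact one_mem _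
      · rw [← ht i, ofAdd_toAdd]
        exact Subgroup.mem_map_of_mem χ (Subgroup.subset_closure (Set.mem_insert_of_mem _ ⟨i, rfl⟩))
    have h1 := hv ((↑M⁻¹ : Matrix ι ι (ZMod 2)) *ᵥ v.toAdd)
    rwa [Matrix.mulVec_mulVec, ← Units.val_mul, mul_inv_cancel, Units.val_one, Matrix.one_mulVec,
      ofAdd_toAdd] at h1
  rw [eq_top_iff]
  intro a _
  obtain ⟨k, hk, hka⟩ := (hmap ▸ Subgroup.mem_top (χ a) : χ a ∈ K.map χ)
  have h2 : k⁻¹ * a ∈ χ.ker := by rw [MonoidHom.mem_ker, map_mul, map_inv, hka, inv_mul_cancel]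
  rw [h.ker] at h2
  simpa using K.mul_mem hk (hZ h2)

/-- Every isometry is induced by an automorphism. -/
theorem IsCoord.exists_lift (h : IsCoord χ q) (hE : IsExtraspecial 2 E) (M : GL ι (ZMod 2))
    (hM : ∀ v, q ((M : Matrix ι ι (ZMod 2)) *ᵥ v) = q v) :
    ∃ α : MulAut E, ∀ a, (χ (α a)).toAdd = (M : Matrix ι ι (ZMod 2)) *ᵥ (χ a).toAdd := by
  have : Fact (Nat.Prime 2) := ⟨Nat.prime_two⟩
  obtain ⟨z, hz, hz1⟩ := exists_center_ne_one hE
  choose s hs using fun i => h.surj (Multiplicative.ofAdd (Pi.single i (1 : ZMod 2)))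
  choose t ht using fun i =>
    h.surj (Multiplicative.ofAdd ((M : Matrix ι ι (ZMod 2)) *ᵥ Pi.single i (1 : ZMod 2)))
  have hs' : ∀ i, (χ (s i)).toAdd = Pi.single i (1 : ZMod 2) := fun i => by rw [hs, toAdd_ofAdd]
  have ht' : ∀ i, (χ (t i)).toAdd = (M : Matrix ι ι (ZMod 2)) *ᵥ Pi.single i (1 : ZMod 2) :=
    fun i => by rw [ht, toAdd_ofAdd]
  have hexp : ∀ c ∈ Subgroup.center E, c = z ^ ((bit c).val : ℤ) := by
    intro c hc
    rcases eq_or_eq_of_mem_center hE hz hz1 hc with rfl | rfl
    · simp [bit]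
    · simp [bit, hz1, ZMod.val_one]
  obtain ⟨φ, hφz, hφ⟩ := exists_mulEquiv_of_generators (p := 2) s t hz hz
    (special_center_pow hE.1 hz) (special_center_pow hE.1 hz)
    (h.closure_eq hE hz hz1 1 s (fun i => by rw [hs', Units.val_one, Matrix.one_mulVec]))
    (h.closure_eq hE hz hz1 M t ht')
    (fun i j => ((bit ⁅s i, s j⁆).val : ℤ))
    (fun i j => hexp _ (special_commutator_mem_center hE.1 _ _))
    (fun i j => by
      have he : bit ⁅s i, s j⁆ = bit ⁅t i, t j⁆ := by
        rw [h.comm hE, h.comm hE, hs', hs', ht', ht', ← Matrix.mulVec_add, hM, hM, hM]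
      show _ = z ^ ((bit ⁅s i, s j⁆).val : ℤ)
      rw [he]; exact hexp _ (special_commutator_mem_center hE.1 _ _))
    (fun i => ((bit (s i ^ 2)).val : ℤ)) (fun i => hexp _ (special_pow_mem_center hE.1 _))
    (fun i => by
      have he : bit (s i ^ 2) = bit (t i ^ 2) := by rw [← h.sq, ← h.sq, hs', ht', hM]
      show _ = z ^ ((bit (s i ^ 2)).val : ℤ)
      rw [he]; exact hexp _ (special_pow_mem_center hE.1 _))
    (le_of_eq (h.card hE).symm) (le_of_eq (h.card hE).symm)
  refine ⟨φ, fun a => ?_⟩
  let f₁ : E →* Multiplicative (ι → ZMod 2) := χ.comp φ.toMonoidHom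
  let f₂ : E →* Multiplicative (ι → ZMod 2) :=
    { toFun := fun a => Multiplicative.ofAdd ((M : Matrix ι ι (ZMod 2)) *ᵥ (χ a).toAdd)
      map_one' := by simp
      map_mul' := fun a b => by rw [map_mul, toAdd_mul, Matrix.mulVec_add, ofAdd_add] }
  have hf : f₁ = f₂ := by
    refine MonoidHom.eq_of_eqOn_dense
      (h.closure_eq hE hz hz1 1 s (fun i => by rw [hs', Units.val_one, Matrix.one_mulVec])) ?_
    rintro x (rfl | ⟨i, rfl⟩)
    · have hzk : χ x = 1 := by rw [← MonoidHom.mem_ker, h.ker]; exact hz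
      show χ (φ x) = Multiplicative.ofAdd _
      rw [hφz, hzk]; simp
    · show χ (φ (s i)) = Multiplicative.ofAdd _
      rw [hφ, hs', ht]
  exact congrArg Multiplicative.toAdd (DFunLike.congr_fun hf a)

/-- An automorphism trivial on the quadratic space is inner. -/
theorem IsCoord.inner_of_trivial (h : IsCoord χ q) (hE : IsExtraspecial 2 E) {α : MulAut E}
    (hα : ∀ a, χ (α a) = χ a) : α ∈ Inn E := by
  classical
  have : Fact (Nat.Prime 2) := ⟨Nat.prime_two⟩
  let T : Set (MulAut E) := {α | ∀ a, χ (α a) = χ a}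
  have hconj : ∀ g : E, MulAut.conj g ∈ T := fun g a => by
    rw [MulAut.conj_apply, map_mul, map_mul, map_inv, mul_comm (χ g) (χ a), mul_inv_cancel_right]
  choose s hs using fun i => h.surj (Multiplicative.ofAdd (Pi.single i (1 : ZMod 2)))
  obtain ⟨z, hz, hz1⟩ := exists_center_ne_one hE
  have hcen : ∀ (β : T) (a : E), a⁻¹ * (β : MulAut E) a ∈ Subgroup.center E := fun β a => by
    rw [← h.ker, MonoidHom.mem_ker, map_mul, map_inv, β.2 a, inv_mul_cancel]
  let F : T → ι → Subgroup.center E := fun β i => ⟨_, hcen β (s i)⟩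
  have hF : Function.Injective F := by
    intro β γ he
    refine Subtype.ext (MulEquiv.ext fun a => ?_)
    refine DFunLike.congr_fun (MonoidHom.eq_of_eqOn_dense (f := (β : MulAut E).toMonoidHom)
      (g := (γ : MulAut E).toMonoidHom)
      (h.closure_eq hE hz hz1 1 s (fun i => by rw [hs, toAdd_ofAdd, Units.val_one, Matrix.one_mulVec])) ?_) a
    rintro x (rfl | ⟨i, rfl⟩)
    · show (β : MulAut E) x = (γ : MulAut E) x
      have hc : ∀ δ : MulAut E, δ x = x := fun δ => by
        refine bit_inj hE ?_ hz (bit_map δ x)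
        rw [Subgroup.mem_center_iff] at hz ⊢
        intro g
        have := congrArg δ (hz (δ⁻¹ g))
        simpa using this
      rw [hc, hc]
    · exact mul_left_cancel (congrArg Subtype.val (congrFun he i) :
        (s i)⁻¹ * (β : MulAut E) (s i) = (s i)⁻¹ * (γ : MulAut E) (s i))
  let G : E ⧸ Subgroup.center E → T := Quotient.lift (fun g => ⟨MulAut.conj g, hconj g⟩) (by
    intro a b hab
    refine Subtype.ext (MulEquiv.ext fun x => ?_)
    have h1 := Subgroup.mem_center_iff.1 (QuotientGroup.leftRel_apply.1 hab) x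
    show a * x * a⁻¹ = b * x * b⁻¹
    calc a * x * a⁻¹ = a * (x * (a⁻¹ * b)) * b⁻¹ := by group
      _ = b * x * b⁻¹ := by rw [h1]; group)
  have hG : Function.Injective G := by
    intro a b
    induction a using QuotientGroup.induction_on with
    | _ a =>
      induction b using QuotientGroup.induction_on with
      | _ b =>
        intro he
        refine QuotientGroup.eq.2 (Subgroup.mem_center_iff.2 fun x => ?_)
        have h1 : a * x * a⁻¹ = b * x * b⁻¹ := MulEquiv.congr_fun (congrArg Subtype.val he) x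
        calc x * (a⁻¹ * b) = a⁻¹ * (a * x * a⁻¹) * b := by group
          _ = a⁻¹ * b * x := by rw [h1]; group
  have hle : Nat.card T ≤ Nat.card (E ⧸ Subgroup.center E) := by
    refine (Nat.card_le_card_of_injective F hF).trans (le_of_eq ?_)
    have h1 := (Subgroup.center E).card_mul_index
    rw [h.card hE, Subgroup.index_eq_card, hE.2, pow_succ'] at h1
    rw [Nat.card_fun, hE.2, Nat.eq_of_mul_eq_mul_left two_pos h1, Nat.card_eq_fintype_card]
  have : Finite T := Finite.of_injective F hF
  have hbij : Function.Surjective G := (Function.Injective.bijective_of_nat_card_le hG hle).2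
  obtain ⟨g, hg⟩ := hbij ⟨α, hα⟩
  induction g using QuotientGroup.induction_on with
  | _ g => exact ⟨g, congrArg Subtype.val hg⟩

/-- `Out E` is the isometry group of the quadratic space. -/
theorem IsCoord.outEquiv (h : IsCoord χ q) (hE : IsExtraspecial 2 E) :
    Nonempty (Cfsg.Out E ≃* Cfsg.isometryGroup (ZMod 2) q) := by
  classical
  have : Fact (Nat.Prime 2) := ⟨Nat.prime_two⟩
  choose lift hlift using fun M : Cfsg.isometryGroup (ZMod 2) q =>
    h.exists_lift hE M.1 (Cfsg.Agent.Forms.SmallOrth.mem_isometryGroup_iff.1 M.2)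
  have hsame : ∀ α β : MulAut E, (∀ a, χ (α a) = χ (β a)) →
      (QuotientGroup.mk α : Cfsg.Out E) = QuotientGroup.mk β := fun α β he => by
    refine QuotientGroup.eq.2 (h.inner_of_trivial hE fun a => ?_)
    have h1 := he (α⁻¹ (β a))
    rw [MulAut.apply_inv_self] at h1
    -- `χ` of `α⁻¹ (β a)` is determined by `χ a`
    rw [MulAut.mul_apply]
    have hker : ∀ (δ : MulAut E) (x y : E), χ x = χ y → χ (δ x) = χ (δ y) := fun δ x y hxy => by
      have h2 : x⁻¹ * y ∈ Subgroup.center E := by
        rw [← h.ker, MonoidHom.mem_ker, map_mul, map_inv, hxy, inv_mul_cancel]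
      have h3 : δ (x⁻¹ * y) ∈ χ.ker := by
        rw [h.ker, Subgroup.mem_center_iff]
        intro g
        have := congrArg δ (Subgroup.mem_center_iff.1 h2 (δ⁻¹ g))
        simpa using this
      rw [MonoidHom.mem_ker, map_mul, map_inv, map_mul, map_inv] at h3
      exact inv_mul_eq_one.1 h3
    have h4 := hker α⁻¹ _ _ (he a).symm
    rw [MulAut.inv_apply_self] at h4
    exact h4
  let Θ : Cfsg.isometryGroup (ZMod 2) q →* Cfsg.Out E :=
    { toFun := fun M => QuotientGroup.mk (lift M)
      map_one' := hsame _ _ fun a => Multiplicative.toAdd.injective (by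
        rw [hlift, MulAut.one_apply]; simp)
      map_mul' := fun M N => hsame _ _ fun a => Multiplicative.toAdd.injective (by
        rw [hlift, MulAut.mul_apply, hlift, hlift, Matrix.mulVec_mulVec]; simp) }
  refine ⟨(MulEquiv.ofBijective Θ ⟨?_, ?_⟩).symm⟩
  · rw [← MonoidHom.ker_eq_bot_iff, eq_bot_iff]
    intro M hM
    obtain ⟨g, hg⟩ := (QuotientGroup.eq_one_iff _).1 hM
    refine Subgroup.mem_bot.2 (Subtype.ext (Units.ext (Matrix.ext_iff_mulVec.2 fun v => ?_)))
    obtain ⟨a, ha⟩ := h.surj (Multiplicative.ofAdd v)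
    have h1 := hlift M a
    rw [← hg, MulAut.conj_apply, map_mul χ, map_mul χ, map_inv χ, mul_comm (χ g), mul_inv_cancel_right, ha,
      toAdd_ofAdd] at h1
    rw [← h1]; simp
  · intro x
    induction x using QuotientGroup.induction_on with
    | _ α =>
      let C : MulAut E → Matrix ι ι (ZMod 2) := fun β => Matrix.of fun i j =>
        (χ (β (h.surj (Multiplicative.ofAdd (Pi.single j (1 : ZMod 2)))).choose)).toAdd i
      have hC : ∀ β a, C β *ᵥ (χ a).toAdd = (χ (β a)).toAdd := by
        intro β a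
        obtain ⟨z, hz, hz1⟩ := exists_center_ne_one hE
        let f₂ : E →* Multiplicative (ι → ZMod 2) :=
          { toFun := fun a => Multiplicative.ofAdd (C β *ᵥ (χ a).toAdd)
            map_one' := by simp
            map_mul' := fun a b => by rw [map_mul, toAdd_mul, Matrix.mulVec_add, ofAdd_add] }
        set s := fun j => (h.surj (Multiplicative.ofAdd (Pi.single j (1 : ZMod 2)))).choose
        have hs : ∀ j, (χ (s j)).toAdd = Pi.single j 1 := fun j => by
          rw [(h.surj (Multiplicative.ofAdd (Pi.single j (1 : ZMod 2)))).choose_spec, toAdd_ofAdd]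
        have hf : f₂ = χ.comp β.toMonoidHom := by
          refine MonoidHom.eq_of_eqOn_dense (h.closure_eq hE hz hz1 1 s
            (fun i => by rw [hs, Units.val_one, Matrix.one_mulVec])) ?_
          rintro x (rfl | ⟨i, rfl⟩)
          · have hzk : χ x = 1 := by rw [← MonoidHom.mem_ker, h.ker]; exact hz
            have hzb : β x ∈ χ.ker := by
              rw [h.ker, Subgroup.mem_center_iff]
              intro g
              have := congrArg β (Subgroup.mem_center_iff.1 hz (β⁻¹ g))
              simpa using this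
            show Multiplicative.ofAdd _ = χ (β x)
            rw [MonoidHom.mem_ker.1 hzb, hzk]; simp
          · show Multiplicative.ofAdd _ = χ (β (s i))
            rw [hs, Matrix.mulVec_single_one]
            rfl
        exact congrArg Multiplicative.toAdd (DFunLike.congr_fun hf a)
      have hmul : ∀ β γ, (∀ a, β (γ a) = a) → C β * C γ = 1 := by
        intro β γ hb
        refine Matrix.ext_iff_mulVec.2 fun v => ?_
        obtain ⟨a, ha⟩ := h.surj (Multiplicative.ofAdd v)
        rw [← toAdd_ofAdd v, ← ha, ← Matrix.mulVec_mulVec, hC, hC, hb, Matrix.one_mulVec]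
      let M : GL ι (ZMod 2) := ⟨C α, C α⁻¹, hmul _ _ (MulAut.apply_inv_self _ α),
        hmul _ _ (MulAut.inv_apply_self _ α)⟩
      have hM : M ∈ Cfsg.isometryGroup (ZMod 2) q :=
        Cfsg.Agent.Forms.SmallOrth.mem_isometryGroup_iff.2 fun v => by
          obtain ⟨a, ha⟩ := h.surj (Multiplicative.ofAdd v)
          rw [← toAdd_ofAdd v, ← ha]
          show q (C α *ᵥ _) = _
          rw [hC, h.sq, h.sq, ← map_pow, bit_map]
      exact ⟨⟨M, hM⟩, hsame _ _ fun a => Multiplicative.toAdd.injective (by rw [hlift]; exact hC α a)⟩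

open QFormF2 in
/-- Coordinates exist, with form `formOf w`. -/
theorem exists_coord (hE : IsExtraspecial 2 E) {n : ℕ} (hcard : Nat.card E = 2 ^ (2 * n + 1)) :
    ∃ (χ : E →* Multiplicative (Fin n ⊕ Fin n → ZMod 2)) (w : Fin n ⊕ Fin n → ZMod 2),
      IsCoord χ (formOf w) := by
  classical
  have : Fact (Nat.Prime 2) := ⟨Nat.prime_two⟩
  obtain ⟨z, hz, hz1⟩ := exists_center_ne_one hE
  obtain ⟨ε, x, y, hs, hg, -⟩ := exists_sympSys_two hE hcard hz hz1
  have hc := special_commutator_mem_center hE.1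
  let χ : E →* Multiplicative (Fin n ⊕ Fin n → ZMod 2) :=
    { toFun := fun g => Multiplicative.ofAdd
        (Sum.elim (fun i : Fin n => bit ⁅g, y i⁆) (fun i : Fin n => bit ⁅g, x i⁆))
      map_one' := by
        refine congrArg Multiplicative.ofAdd (funext fun j => ?_)
        rcases j with i | i <;> simp [bit_one]
      map_mul' := fun a b => by
        rw [← ofAdd_add]
        refine congrArg Multiplicative.ofAdd (funext fun j => ?_)
        rcases j with i | i <;>
          simp [commutator_mul_left (hc _ _), bit_mul hE (hc _ _) (hc _ _)] }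
  have htop : sympSpan n x y = ⊤ := Subgroup.eq_top_of_card_eq _ (hg.trans hcard.symm)
  have hker : χ.ker = Subgroup.center E := by
    refine le_antisymm (fun g hg' => ?_) fun g hg' => ?_
    · have hv : Sum.elim (fun i : Fin n => bit ⁅g, y i⁆) (fun i : Fin n => bit ⁅g, x i⁆) = 0 :=
        congrArg Multiplicative.toAdd hg'
      have hle : sympSpan n x y ≤ Subgroup.centralizer {g} := by
        refine sup_le (Subgroup.center_le_centralizer _) ((Subgroup.closure_le _).2 ?_)
        rintro _ (⟨i, hi, rfl⟩ | ⟨i, hi, rfl⟩)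
        · refine Subgroup.mem_centralizer_singleton_iff.2 (commutatorElement_eq_one_iff_mul_comm.1 ?_).symm
          exact bit_inj hE (hc _ _) (Subgroup.one_mem _)
            ((congrFun hv (.inr ⟨i, hi⟩)).trans bit_one.symm)
        · refine Subgroup.mem_centralizer_singleton_iff.2 (commutatorElement_eq_one_iff_mul_comm.1 ?_).symm
          exact bit_inj hE (hc _ _) (Subgroup.one_mem _)
            ((congrFun hv (.inl ⟨i, hi⟩)).trans bit_one.symm)
      exact Subgroup.mem_center_iff.2 fun a =>
        Subgroup.mem_centralizer_singleton_iff.1 (hle (htop ▸ Subgroup.mem_top a))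
    · refine congrArg Multiplicative.ofAdd (funext fun j => ?_)
      rcases j with i | i <;>
        simp [commutatorElement_eq_one_iff_mul_comm.2 (Subgroup.mem_center_iff.1 hg' _).symm, bit_one]
  have hsurj : Function.Surjective χ := by
    rw [← MonoidHom.range_eq_top]
    refine Subgroup.eq_top_of_card_eq _ ?_
    have h1 := χ.ker.card_mul_index
    rw [Subgroup.index_ker, hker, hE.2, hcard, pow_succ'] at h1
    rw [Nat.eq_of_mul_eq_mul_left two_pos h1]
    simp [Nat.card_congr Multiplicative.toAdd, Nat.card_fun, two_mul]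
  have halt : ∀ g h : E, bit ⁅g, h⁆ = alt (χ g).toAdd (χ h).toAdd := by
    intro g h
    let f : E →* Multiplicative (ZMod 2) :=
      { toFun := fun g => Multiplicative.ofAdd (bit ⁅g, h⁆)
        map_one' := by simp [bit_one]
        map_mul' := fun a b => by
          rw [← ofAdd_add, commutator_mul_left (hc _ _), bit_mul hE (hc _ _) (hc _ _)] }
    let f' : E →* Multiplicative (ZMod 2) :=
      { toFun := fun g => Multiplicative.ofAdd (alt (χ g).toAdd (χ h).toAdd)
        map_one' := by simp [alt_eq]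
        map_mul' := fun a b => by rw [← ofAdd_add, map_mul, toAdd_mul, alt_add_left] }
    have hz1' : bit z = 1 := by simp [bit, hz1]
    have hzz : z⁻¹ = z := inv_eq_of_mul_eq_one_right (by rw [← pow_two]; exact special_center_pow hE.1 hz)
    have hsw : ∀ a b : E, bit ⁅a, b⁆ = bit ⁅b, a⁆ := fun a b => by
      rcases eq_or_eq_of_mem_center hE hz hz1 (hc a b) with e | e <;>
        rw [← commutatorElement_inv a b, e]
      · simp
      · rw [hzz]
    have hle : sympSpan n x y ≤ f.eqLocus f' := by
      refine sup_le (fun c hc' => ?_) ((Subgroup.closure_le _).2 ?_)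
      · show Multiplicative.ofAdd _ = Multiplicative.ofAdd _
        rw [commutatorElement_eq_one_iff_mul_comm.2 (Subgroup.mem_center_iff.1 hc' _).symm,
          MonoidHom.mem_ker.1 (hker ▸ hc' : c ∈ χ.ker)]
        simp [bit_one, alt_eq]
      · rintro _ (⟨i, hi, rfl⟩ | ⟨i, hi, rfl⟩)
        · show Multiplicative.ofAdd _ = Multiplicative.ofAdd _
          have hv : (χ (x i)).toAdd = Pi.single (Sum.inl ⟨i, hi⟩) 1 := by
            refine funext fun j => ?_
            rcases j with j | j
            · show bit ⁅x i, y j⁆ = _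
              rw [(hs i hi j j.2).2.2]
              by_cases hij : i = (j : ℕ)
              · rw [if_pos hij, hz1']; subst hij; simp
              · rw [if_neg hij, bit_one, Pi.single_eq_of_ne]
                exact fun he => hij (congrArg Fin.val (Sum.inl_injective he)).symm
            · show bit ⁅x i, x j⁆ = _
              rw [(hs i hi j j.2).1, bit_one, Pi.single_eq_of_ne]
              simp
          rw [hv, alt_single_inl]
          exact congrArg _ (hsw (x i) h)
        · show Multiplicative.ofAdd _ = Multiplicative.ofAdd _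
          have hv : (χ (y i)).toAdd = Pi.single (Sum.inr ⟨i, hi⟩) 1 := by
            refine funext fun j => ?_
            rcases j with j | j
            · show bit ⁅y i, y j⁆ = _
              rw [(hs i hi j j.2).2.1, bit_one, Pi.single_eq_of_ne]
              simp
            · show bit ⁅y i, x j⁆ = _
              rw [hsw, (hs j j.2 i hi).2.2]
              by_cases hij : (j : ℕ) = i
              · rw [if_pos hij, hz1']; subst hij; simp
              · rw [if_neg hij, bit_one, Pi.single_eq_of_ne]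
                exact fun he => hij (congrArg Fin.val (Sum.inr_injective he))
          rw [hv, alt_single_inr]
          exact congrArg _ (hsw (y i) h)
    exact Multiplicative.ofAdd.injective (hle (htop ▸ Subgroup.mem_top g) : f g = f' g)
  let q : (Fin n ⊕ Fin n → ZMod 2) → ZMod 2 := fun v => bit ((hsurj (Multiplicative.ofAdd v)).choose ^ 2)
  have hq : ∀ a, q (χ a).toAdd = bit (a ^ 2) := by
    intro a
    show bit ((hsurj (Multiplicative.ofAdd (χ a).toAdd)).choose ^ 2) = _
    set b := (hsurj (Multiplicative.ofAdd (χ a).toAdd)).choose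
    have hb : χ b = χ a := (hsurj (Multiplicative.ofAdd (χ a).toAdd)).choose_spec
    have h1 : a⁻¹ * b ∈ Subgroup.center E := by
      rw [← hker, MonoidHom.mem_ker, map_mul, map_inv, hb, inv_mul_cancel]
    have h2 : b = a * (a⁻¹ * b) := (mul_inv_cancel_left a b).symm
    rw [h2, bit_sq_mul hE, special_center_pow hE.1 h1,
      commutatorElement_eq_one_iff_mul_comm.2 (Subgroup.mem_center_iff.1 h1 a).symm, bit_one]
    simp
  have hpol : Polarizes q := by
    intro u v
    obtain ⟨a, ha⟩ := hsurj (Multiplicative.ofAdd u)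
    obtain ⟨b, hb⟩ := hsurj (Multiplicative.ofAdd v)
    rw [← toAdd_ofAdd u, ← toAdd_ofAdd v, ← ha, ← hb, ← toAdd_mul, ← map_mul, hq, hq, hq,
      bit_sq_mul hE, halt, alt_comm]
  obtain ⟨w, hw⟩ := exists_formOf hpol
  exact ⟨χ, w, ⟨hsurj, hker, fun a => hw ▸ hq a⟩⟩

omit [DecidableEq ι] in
/-- Change of coordinates. -/
theorem IsCoord.congr {κ : Type} [Fintype κ] (h : IsCoord χ q)
    (e : (ι → ZMod 2) ≃ₗ[ZMod 2] (κ → ZMod 2)) {q' : (κ → ZMod 2) → ZMod 2}
    (he : ∀ v, q v = q' (e v)) :
    IsCoord ((AddMonoidHom.toMultiplicative e.toAddEquiv.toAddMonoidHom).comp χ) q' where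
  surj := fun v => by
    obtain ⟨a, ha⟩ := h.surj (Multiplicative.ofAdd (e.symm v.toAdd))
    exact ⟨a, by show Multiplicative.ofAdd (e (χ a).toAdd) = v; rw [ha]; simp⟩
  ker := by
    rw [← h.ker]
    ext a
    refine ⟨fun ha => ?_, fun ha => ?_⟩
    · have h1 : e (χ a).toAdd = 0 := congrArg Multiplicative.toAdd ha
      exact Multiplicative.toAdd.injective ((LinearEquiv.map_eq_zero_iff e).1 h1)
    · show Multiplicative.ofAdd (e (χ a).toAdd) = 1
      rw [MonoidHom.mem_ker.1 ha]; simp
  sq := fun a => (he _).symm.trans (h.sq a)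

end Cfsg.Agent.PGroup.TwoOut
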