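import Mathlib.Algebra.BigOperators.Group.Finset.Piecewise
import Mathlib.Algebra.Ring.Int.Units
import Mathlib.GroupTheory.Index
import Cfsg.Agent.Lib.PGroup.Class2
import Cfsg.Agent.Lib.PGroup.Frattini

/-!
# Signed sums of quadratic maps on 2-groups

* `quadSum_dvd`: if `s : H → {±1}` is quadratic on a 2-group `H` and `Z` is in its radical then
  `S = ∑ s` is `0` or `± 2^j` with `2^(2j) = |H| |R|`, `R` the radical.
* `exists_sign_of_ne_one`, `sum_sign_apply`, `card_sign_hom`: sign characters of elementary abelian 2-groups.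
* `sqForm`: `x ↦ χ (x²)` as a quadratic map when squares lie in a central subgroup.
-/

set_option autoImplicit false

namespace Cfsg.Agent.PGroup

open scoped commutatorElement

universe u

variable {H : Type u} [Group H]

/-- The polar form of a sign valued map. -/
def signPolar (s : H → ℤˣ) (a b : H) : ℤˣ := s (a * b) * s a * s b

theorem quadSum_eq [Finite H] [Fintype H] (hH : IsPGroup 2 H) (s : H → ℤˣ) (h1 : s 1 = 1)
    (hl : ∀ a b c, signPolar s (a * b) c = signPolar s a c * signPolar s b c)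
    (hr : ∀ a b c, signPolar s a (b * c) = signPolar s a b * signPolar s a c) :
    (∑ x, (s x : ℤ)) = 0 ∨ ∃ R : Subgroup H, (∀ u, u ∈ R ↔ ∀ v, signPolar s u v = 1) ∧
      ∃ j : ℕ, 2 ^ (2 * j) = Nat.card H * Nat.card R ∧ (∑ x, (s x : ℤ)).natAbs = 2 ^ j := by
  classical
  let R : Subgroup H :=
    { carrier := {u | ∀ v, signPolar s u v = 1}
      one_mem' := fun v => by simp [signPolar, h1, Int.units_mul_self]
      mul_mem' := fun {a b} ha hb v => by rw [hl, ha, hb, one_mul]
      inv_mem' := fun {a} ha v => by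
        have h := hl a⁻¹ a v
        rw [inv_mul_cancel, ha v, mul_one] at h
        rw [← h]
        simp [signPolar, h1, Int.units_mul_self] }
  set S : ℤ := ∑ x, (s x : ℤ) with hS
  have hshift : ∀ u v, s (u * v) * s v = s u * signPolar s u v := fun u v => by
    simp only [signPolar]
    rw [mul_comm (s (u * v)) (s u), mul_assoc, ← mul_assoc (s u) (s u), Int.units_mul_self, one_mul]
  have hsq : S * S = ∑ u : H, (s u : ℤ) * ∑ v : H, (signPolar s u v : ℤ) := by
    calc S * S = ∑ v, (s v : ℤ) * ∑ u, (s (u * v) : ℤ) := by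
          rw [hS, Finset.sum_mul]
          refine Finset.sum_congr rfl fun v _ => ?_
          congr 1
          exact (Fintype.sum_equiv (Equiv.mulRight v) _ _ fun _ => rfl).symm
      _ = ∑ u, ∑ v, (s v : ℤ) * (s (u * v) : ℤ) := by
          simp_rw [Finset.mul_sum]
          exact Finset.sum_comm
      _ = _ := by
          refine Finset.sum_congr rfl fun u _ => ?_
          rw [Finset.mul_sum]
          refine Finset.sum_congr rfl fun v _ => ?_
          rw [← Units.val_mul, ← Units.val_mul, mul_comm (s v), hshift]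
  have hinner : ∀ u : H, ∑ v, (signPolar s u v : ℤ) = if u ∈ R then (Nat.card H : ℤ) else 0 := by
    intro u
    split_ifs with hu
    · rw [Finset.sum_congr rfl (fun v _ => by rw [(hu : ∀ v, signPolar s u v = 1) v, Units.val_one])]
      simp [Nat.card_eq_fintype_card]
    · obtain ⟨w, hw⟩ : ∃ w, signPolar s u w ≠ 1 := not_forall.1 hu
      have hw' : signPolar s u w = -1 := (Int.units_eq_one_or _).resolve_left hw
      have h2 : ∑ v, (signPolar s u v : ℤ) = -∑ v, (signPolar s u v : ℤ) := by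
        rw [← Finset.sum_neg_distrib]
        refine Fintype.sum_equiv (Equiv.mulRight w) _ _ fun v => ?_
        rw [Equiv.coe_mulRight, hr, hw', mul_neg, mul_one, Units.val_neg, neg_neg]
      omega
  simp_rw [hinner, mul_ite, mul_zero] at hsq
  rw [← Finset.sum_filter, ← Finset.sum_mul] at hsq
  have hsR : ∀ a ∈ R, ∀ b, s (a * b) = s a * s b := fun a ha b => by
    have h := ha b
    simp only [signPolar, mul_assoc] at h
    rw [mul_eq_one_iff_eq_inv, Int.units_inv_eq_self] at h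
    exact h
  by_cases hall : ∀ a ∈ R, s a = 1
  · right
    refine ⟨R, fun u => Iff.rfl, ?_⟩
    have hsum : (∑ a ∈ Finset.univ.filter (· ∈ R), (s a : ℤ)) = Nat.card R := by
      rw [Finset.sum_congr rfl (fun a ha => by rw [hall a (Finset.mem_filter.1 ha).2, Units.val_one])]
      simp [Nat.card_eq_fintype_card, Fintype.card_subtype]
    rw [hsum] at hsq
    have hnat : S.natAbs * S.natAbs = Nat.card R * Nat.card H := by
      rw [← Int.natAbs_mul, hsq, ← Nat.cast_mul, Int.natAbs_natCast]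
    obtain ⟨g, hg⟩ := IsPGroup.iff_card.mp hH
    obtain ⟨r, hr⟩ := IsPGroup.iff_card.mp (hH.to_subgroup R)
    have hd : S.natAbs ∣ 2 ^ (r + g) := ⟨S.natAbs, by rw [pow_add, hnat, hr, hg]⟩
    obtain ⟨j, -, hj⟩ := (Nat.dvd_prime_pow Nat.prime_two).1 hd
    refine ⟨j, ?_, hj⟩
    rw [mul_comm (Nat.card H), ← hnat, hj, ← pow_add, two_mul]
  · left
    push Not at hall
    obtain ⟨a, ha, ha1⟩ := hall
    have ha' : s a = -1 := (Int.units_eq_one_or _).resolve_left ha1
    have hsum : (∑ b ∈ Finset.univ.filter (· ∈ R), (s b : ℤ)) =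
        -(∑ b ∈ Finset.univ.filter (· ∈ R), (s b : ℤ)) := by
      rw [← Finset.sum_neg_distrib]
      refine Finset.sum_equiv (Equiv.mulLeft a) (fun b => ?_) fun b hb => ?_
      · simp only [Finset.mem_filter, Finset.mem_univ, true_and, Equiv.coe_mulLeft]
        exact (R.mul_mem_cancel_left ha).symm
      · rw [Equiv.coe_mulLeft, hsR a ha, ha', neg_mul, one_mul, Units.val_neg, neg_neg]
    have h0 : (∑ b ∈ Finset.univ.filter (· ∈ R), (s b : ℤ)) = 0 := by omega
    rw [h0, zero_mul] at hsq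
    exact mul_self_eq_zero.1 hsq

section Sign

variable {U : Type u} [Group U]

/-- A sign character which is `-1` exactly outside a subgroup of index two. -/
theorem exists_sign_of_index_two {M : Subgroup U} (hM : M.index = 2) :
    ∃ χ : U →* ℤˣ, ∀ u, χ u = 1 ↔ u ∈ M := by
  classical
  refine ⟨MonoidHom.mk' (fun u => if u ∈ M then 1 else -1) fun a b => ?_, fun u => ?_⟩
  · have := Subgroup.mul_mem_iff_of_index_two hM (a := a) (b := b)
    by_cases ha : a ∈ M <;> by_cases hb : b ∈ M <;> simp [ha, hb, this]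
  · by_cases hu : u ∈ M <;> simp [hu]

/-- A proper subgroup of a 2-group is killed by a nontrivial sign character. -/
theorem exists_sign_of_ne_top [Finite U] (hU : IsPGroup 2 U) {W : Subgroup U} (hW : W ≠ ⊤) :
    ∃ χ : U →* ℤˣ, χ ≠ 1 ∧ ∀ u ∈ W, χ u = 1 := by
  obtain ⟨M, hM, hWM⟩ := (eq_top_or_exists_le_coatom W).resolve_left hW
  obtain ⟨χ, hχ⟩ := exists_sign_of_index_two (index_of_isCoatom hU hM)
  refine ⟨χ, fun h => hM.1 (eq_top_iff.2 fun u _ => (hχ u).1 (by rw [h, MonoidHom.one_apply])),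
    fun u hu => (hχ u).2 (hWM hu)⟩

/-- Sign characters separate the points of an elementary abelian 2-group. -/
theorem exists_sign_of_ne_one [Finite U] (hU : IsPGroup 2 U) (hab : IsMulCommutative U)
    (hexp : ∀ u : U, u ^ 2 = 1) {u : U} (hu : u ≠ 1) : ∃ χ : U →* ℤˣ, χ u = -1 := by
  have hbot : frattini U = ⊥ := (frattini_eq_bot_iff hU).2 ⟨hab, hexp⟩
  by_contra hcon
  push Not at hcon
  refine hu (Subgroup.mem_bot.1 (hbot ▸ ?_))
  refine (le_frattini_of_forall_coatom (H := Subgroup.zpowers u) fun M hM => ?_) (Subgroup.mem_zpowers u)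
  obtain ⟨χ, hχ⟩ := exists_sign_of_index_two (index_of_isCoatom hU hM)
  exact Subgroup.zpowers_le.2 ((hχ u).1 ((Int.units_eq_one_or _).resolve_right (hcon χ)))

theorem sum_sign_eq [Fintype U] (χ : U →* ℤˣ) [Decidable (χ = 1)] :
    ∑ u : U, (χ u : ℤ) = if χ = 1 then (Nat.card U : ℤ) else 0 := by
  split_ifs with h
  · simp [h, Nat.card_eq_fintype_card]
  · obtain ⟨w, hw⟩ : ∃ w, χ w ≠ 1 := by
      by_contra hcon
      push Not at hcon
      exact h (MonoidHom.ext hcon)
    have hw' : χ w = -1 := (Int.units_eq_one_or _).resolve_left hw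
    have h2 : ∑ v, (χ v : ℤ) = -∑ v, (χ v : ℤ) := by
      rw [← Finset.sum_neg_distrib]
      refine Fintype.sum_equiv (Equiv.mulRight w) _ _ fun v => ?_
      rw [Equiv.coe_mulRight, map_mul, hw', mul_neg, mul_one, Units.val_neg, neg_neg]
    omega

instance finite_signHom [Finite U] : Finite (U →* ℤˣ) :=
  Finite.of_injective (fun χ => (χ : U → ℤˣ)) DFunLike.coe_injective

theorem sum_sign_apply [Finite U] [Fintype (U →* ℤˣ)] (hU : IsPGroup 2 U) (hab : IsMulCommutative U)
    (hexp : ∀ u : U, u ^ 2 = 1) {u : U} (hu : u ≠ 1) : ∑ χ : U →* ℤˣ, (χ u : ℤ) = 0 := by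
  obtain ⟨ψ, hψ⟩ := exists_sign_of_ne_one hU hab hexp hu
  have h2 : ∑ χ : U →* ℤˣ, (χ u : ℤ) = -∑ χ : U →* ℤˣ, (χ u : ℤ) := by
    rw [← Finset.sum_neg_distrib]
    refine Fintype.sum_equiv (Equiv.mulRight ψ) _ _ fun χ => ?_
    rw [Equiv.coe_mulRight, MonoidHom.mul_apply, hψ, mul_neg, mul_one, Units.val_neg, neg_neg]
  omega

/-- An elementary abelian 2-group has as many sign characters as elements. -/
theorem card_sign_hom [Finite U] (hU : IsPGroup 2 U) (hab : IsMulCommutative U)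
    (hexp : ∀ u : U, u ^ 2 = 1) : Nat.card (U →* ℤˣ) = Nat.card U := by
  classical
  have := Fintype.ofFinite U
  have := Fintype.ofFinite (U →* ℤˣ)
  have h1 : (∑ u : U, ∑ χ : U →* ℤˣ, (χ u : ℤ)) = Nat.card (U →* ℤˣ) := by
    rw [Finset.sum_eq_single 1 (fun u _ hu => sum_sign_apply hU hab hexp hu) (by simp)]
    simp [Nat.card_eq_fintype_card]
  rw [Finset.sum_comm] at h1
  simp_rw [sum_sign_eq] at h1
  rw [Finset.sum_ite_eq' Finset.univ (1 : U →* ℤˣ)] at h1
  simp only [Finset.mem_univ, if_true] at h1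
  exact_mod_cast h1.symm

end Sign

section Square

variable {U : Subgroup H}

/-- The quadratic map `x ↦ χ (x²)`. -/
def sqForm (hsq : ∀ x : H, x ^ 2 ∈ U) (χ : ↥U →* ℤˣ) (x : H) : ℤˣ := χ ⟨x ^ 2, hsq x⟩

theorem signPolar_sqForm (hU : U ≤ Subgroup.center H) (hsq : ∀ x : H, x ^ 2 ∈ U)
    (hc : ∀ a b : H, ⁅a, b⁆ ∈ U) (χ : ↥U →* ℤˣ) (a b : H) :
    signPolar (sqForm hsq χ) a b = χ ⟨⁅b, a⁆, hc b a⟩ := by
  have h : (⟨(a * b) ^ 2, hsq _⟩ : ↥U) = ⟨a ^ 2, hsq a⟩ * ⟨b ^ 2, hsq b⟩ * ⟨⁅b, a⁆, hc b a⟩ := by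
    refine Subtype.ext ?_
    show (a * b) ^ 2 = a ^ 2 * b ^ 2 * ⁅b, a⁆
    rw [mul_pow_of_central (hU (hc b a)), show Nat.choose 2 2 = 1 from rfl, pow_one]
  simp only [signPolar, sqForm, h, map_mul]
  have key : ∀ x y z : ℤˣ, x * y * z * x * y = z := fun x y z => by
    rw [mul_right_comm (x * y) z x, mul_right_comm (x * y * x) z y, mul_right_comm x y x,
      Int.units_mul_self, one_mul, Int.units_mul_self, one_mul]
  exact key _ _ _

theorem signPolar_sqForm_mul_left (hU : U ≤ Subgroup.center H) (hsq : ∀ x : H, x ^ 2 ∈ U)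
    (hc : ∀ a b : H, ⁅a, b⁆ ∈ U) (χ : ↥U →* ℤˣ) (a b c : H) :
    signPolar (sqForm hsq χ) (a * b) c =
      signPolar (sqForm hsq χ) a c * signPolar (sqForm hsq χ) b c := by
  simp only [signPolar_sqForm hU hsq hc, ← map_mul]
  exact congrArg χ (Subtype.ext (commutator_mul_right (hU (hc c b))))

theorem signPolar_sqForm_mul_right (hU : U ≤ Subgroup.center H) (hsq : ∀ x : H, x ^ 2 ∈ U)
    (hc : ∀ a b : H, ⁅a, b⁆ ∈ U) (χ : ↥U →* ℤˣ) (a b c : H) :
    signPolar (sqForm hsq χ) a (b * c) =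
      signPolar (sqForm hsq χ) a b * signPolar (sqForm hsq χ) a c := by
  simp only [signPolar_sqForm hU hsq hc, ← map_mul]
  exact congrArg χ (Subtype.ext (commutator_mul_left (hU (hc c a))))

/-- For `x ↦ χ (x²)` the sum is `0` or `± 2^j`, where `2^(2j) = |H| |R|` and the radical `R`
contains the centre. -/
theorem sqSum_eq [Finite H] [Fintype H] (hH : IsPGroup 2 H) (hU : U ≤ Subgroup.center H)
    (hsq : ∀ x : H, x ^ 2 ∈ U) (hc : ∀ a b : H, ⁅a, b⁆ ∈ U) (χ : ↥U →* ℤˣ) :
    (∑ x, (sqForm hsq χ x : ℤ)) = 0 ∨ ∃ R : Subgroup H, Subgroup.center H ≤ R ∧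
      (∀ u ∈ R, ∀ v, χ ⟨⁅v, u⁆, hc v u⟩ = 1) ∧
      ∃ j : ℕ, 2 ^ (2 * j) = Nat.card H * Nat.card R ∧
        (∑ x, (sqForm hsq χ x : ℤ)).natAbs = 2 ^ j := by
  have h1 : sqForm hsq χ 1 = 1 := by
    simp only [sqForm, one_pow]
    exact map_one χ
  rcases quadSum_eq hH _ h1 (signPolar_sqForm_mul_left hU hsq hc χ)
    (signPolar_sqForm_mul_right hU hsq hc χ) with h | ⟨R, hR, hj⟩
  · exact Or.inl h
  · refine Or.inr ⟨R, fun z hz => (hR z).2 fun v => ?_, fun u hu v => ?_, hj⟩
    · rw [signPolar_sqForm hU hsq hc]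
      have : (⟨⁅v, z⁆, hc v z⟩ : ↥U) = 1 := Subtype.ext
        (commutatorElement_eq_one_iff_mul_comm.2 (Subgroup.mem_center_iff.1 hz v))
      rw [this, map_one]
    · rw [← signPolar_sqForm hU hsq hc]
      exact (hR u).1 hu v

end Square

end Cfsg.Agent.PGroup
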