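import Cfsg.Agent.Lib.PGroup.CyclicHyperplanes

/-!
# Kulakoff's theorem

* `numSub p k G` : the number of subgroups of order `p^k`.
* `numSub_zmod` : in a group of order `p^m`, for `1 ≤ k < m`, it is `1` modulo `p²` for cyclic
  groups and for 2-groups of maximal class with `k + 2 ≤ m`, and `1 + p` otherwise.
-/

set_option autoImplicit false

namespace Cfsg.Agent.PGroup

universe u

/-- The number of subgroups of order `p^k`. -/
noncomputable def numSub (p k : ℕ) (G : Type u) [Group G] : ℕ :=
  Nat.card {H : Subgroup G // Nat.card ↥H = p ^ k}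

/-- The groups with `1 (mod p²)` subgroups of order `p^k`. -/
def KulakoffOne (p k : ℕ) (G : Type u) [Group G] : Prop :=
  IsCyclic G ∨ (p = 2 ∧ (commutator G).index = 4 ∧ p ^ (k + 2) ≤ Nat.card G)

variable {G : Type u} [Group G] {p : ℕ}

theorem numSub_subgroup (k : ℕ) (M : Subgroup G) :
    Nat.card {H : Subgroup G // Nat.card ↥H = p ^ k ∧ H ≤ M} = numSub p k ↥M :=
  Nat.card_congr
    { toFun := fun H => ⟨H.1.subgroupOf M, by
        rw [Nat.card_congr (Subgroup.subgroupOfEquivOfLe H.2.2).toEquiv, H.2.1]⟩
      invFun := fun L => ⟨L.1.map M.subtype, by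
        rw [Subgroup.card_map_of_injective M.subtype_injective, L.2], Subgroup.map_subtype_le L.1⟩
      left_inv := fun H => Subtype.ext (by
        simp only [Subgroup.map_subgroupOf_eq_of_le H.2.2])
      right_inv := fun L => Subtype.ext
        (Subgroup.comap_map_eq_self_of_injective M.subtype_injective L.1) }

/-- `p * x` modulo `p²` only depends on `x` modulo `p`. -/
theorem mul_eq_self_of_cast_eq_one [Fact p.Prime] {x : ℕ} (h : (x : ZMod p) = 1) :
    (p : ZMod (p ^ 2)) * x = p := by
  have hsq : (p : ZMod (p ^ 2)) ^ 2 = 0 := by rw [← Nat.cast_pow, ZMod.natCast_self]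
  have h1 : (((x : ℤ) - 1 : ℤ) : ZMod p) = 0 := by push_cast; rw [h, sub_self]
  obtain ⟨q, hq⟩ := (ZMod.intCast_zmod_eq_zero_iff_dvd _ p).mp h1
  have h2 := congrArg (fun z : ℤ => (z : ZMod (p ^ 2))) hq
  push_cast at h2
  linear_combination (p : ZMod (p ^ 2)) * h2 + (q : ZMod (p ^ 2)) * hsq

theorem numSub_of_isCyclic [Finite G] [Fact p.Prime] {m k : ℕ} (hcard : Nat.card G = p ^ m)
    (hk : k ≤ m) (hc : IsCyclic G) : numSub p k G = 1 := by
  obtain ⟨g, hg⟩ := isCyclic_iff_exists_zpowers_eq_top.mp hc
  have hog : orderOf g = p ^ m := by rw [← Nat.card_zpowers, hg, Subgroup.card_top, hcard]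
  have hsub : Subsingleton {H : Subgroup G // Nat.card ↥H = p ^ k} := ⟨fun H K => by
    obtain ⟨u, hu, huc⟩ := exists_eq_zpowers_pow (IsPGroup.of_card hcard) (g := g) (H := H.1) (by rw [hg]; exact le_top)
    obtain ⟨v, hv, hvc⟩ := exists_eq_zpowers_pow (IsPGroup.of_card hcard) (g := g) (H := K.1) (by rw [hg]; exact le_top)
    rw [H.2, ← pow_add] at huc
    rw [K.2, ← pow_add] at hvc
    have := Nat.pow_right_injective (Fact.out (p := p.Prime)).two_le (huc.trans hvc.symm)
    have huv : u = v := by omega
    exact Subtype.ext (by rw [hu, hv, huv])⟩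
  obtain ⟨H, hH⟩ := Sylow.exists_subgroup_card_pow_prime (G := G) p (hcard ▸ pow_dvd_pow p hk)
  have : Nonempty {H : Subgroup G // Nat.card ↥H = p ^ k} := ⟨⟨H, hH⟩⟩
  exact Nat.card_eq_one_iff_unique.mpr ⟨hsub, this⟩

/-- The enumeration principle modulo `p²`. -/
theorem numSub_recursion [Finite G] [Fact p.Prime] [Fintype (Subgroup G)] {m k : ℕ}
    (hcard : Nat.card G = p ^ m) (hnc : ¬ IsCyclic G) (hkm : k + 2 ≤ m) :
    (numSub p k G : ZMod (p ^ 2)) = (∑ M ∈ Finset.univ.filter (fun M : Subgroup G => M.index = p),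
      (numSub p k ↥M : ZMod (p ^ 2))) - p := by
  classical
  have hp := (Fact.out (p := p.Prime))
  have hG := IsPGroup.of_card hcard
  have := normal_of_frattini_le hG (le_refl (frattini G))
  set S := Finset.univ.filter (fun H : Subgroup G => Nat.card ↥H = p ^ k) with hS
  set T := Finset.univ.filter (fun M : Subgroup G => M.index = p) with hT
  set U := Finset.univ.filter (fun K : Subgroup G => frattini G ≤ K ∧ K.index = p ^ 2) with hU
  have hcnt : ∀ M : Subgroup G, numSub p k ↥M = (S.filter (fun H => H ≤ M)).card := fun M => by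
    rw [← numSub_subgroup, Nat.card_eq_fintype_card, Fintype.card_subtype, hS, Finset.filter_filter]
  have hswap : ∀ X : Finset (Subgroup G), ∑ M ∈ X, (numSub p k ↥M : ZMod (p ^ 2)) =
      ∑ H ∈ S, ((X.filter (fun M => H ≤ M)).card : ZMod (p ^ 2)) := fun X => by
    simp only [hcnt, Finset.card_filter, Nat.cast_sum, Nat.cast_ite, Nat.cast_one, Nat.cast_zero]
    exact Finset.sum_comm
  have hmain : ∀ H ∈ S, ((T.filter (fun M => H ≤ M)).card : ZMod (p ^ 2)) -
      p * ((U.filter (fun K => H ≤ K)).card : ZMod (p ^ 2)) = 1 := by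
    intro H hH
    set N := frattini G ⊔ H with hN
    have hNn := normal_of_frattini_le hG (le_sup_left : frattini G ≤ N)
    have hA : (T.filter (fun M => H ≤ M)).card = hyperplanes p N := by
      rw [hyperplanes, Nat.card_eq_fintype_card, Fintype.card_subtype, hT, Finset.filter_filter]
      refine congrArg Finset.card (Finset.filter_congr fun M _ => ?_)
      rw [hN, sup_le_iff]
      exact ⟨fun h => ⟨⟨frattini_le_of_index_eq h.1, h.2⟩, h.1⟩, fun h => ⟨h.2, h.1.2⟩⟩
    have hB : (U.filter (fun K => H ≤ K)).card =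
        Nat.card {K : Subgroup G // N ≤ K ∧ K.index = p ^ 2} := by
      rw [Nat.card_eq_fintype_card, Fintype.card_subtype, hU, Finset.filter_filter]
      refine congrArg Finset.card (Finset.filter_congr fun K _ => ?_)
      rw [hN, sup_le_iff]
      tauto
    obtain ⟨e, he⟩ := index_eq_pow hG N
    have hHlt : H ≠ ⊤ := fun h => by
      have h1 := (Finset.mem_filter.mp hH).2
      rw [h, Subgroup.card_top, hcard] at h1
      have := Nat.pow_right_injective hp.two_le h1
      omega
    have he0 : e ≠ 0 := fun h => hHlt (by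
      have h1 : N = ⊤ := Subgroup.index_eq_one.mp (by rw [he, h, pow_zero])
      rw [hN, sup_comm, ← Subgroup.closure_eq H] at h1
      rw [← Subgroup.closure_eq H]
      exact closure_eq_top_of_sup_frattini h1)
    rw [hA, hB]
    rcases Nat.lt_or_ge e 2 with he1 | he2
    · obtain rfl : e = 1 := by omega
      have h1 := hyperplanes_mul hG 1 N le_sup_left he
      have hA1 : hyperplanes p N = 1 := by
        have : ((hyperplanes p N : ℤ) - 1) * ((p : ℤ) - 1) = 0 := by linear_combination h1
        rcases mul_eq_zero.mp this with h | h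
        · omega
        · have := hp.two_le; omega
      have : IsEmpty {K : Subgroup G // N ≤ K ∧ K.index = p ^ 2} := ⟨fun K => by
        have h2 := Subgroup.index_dvd_of_le K.2.1
        rw [K.2.2, he] at h2
        have := (Nat.pow_dvd_pow_iff_le_right hp.one_lt).mp h2
        omega⟩
      rw [hA1, Nat.card_of_isEmpty]
      simp
    · have hdvd : p ^ 2 ∣ N.index := he ▸ pow_dvd_pow p he2
      rw [hyperplanes_zmod hG le_sup_left hdvd, mul_eq_self_of_cast_eq_one (card_index_sq_zmod hG N hdvd)]
      ring
  have hUcnt : ∀ K ∈ U, (p : ZMod (p ^ 2)) * (numSub p k ↥K) = p := by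
    intro K hK
    have hKc : Nat.card ↥K = p ^ (m - 2) := by
      have h1 := Subgroup.card_mul_index K
      rw [(Finset.mem_filter.mp hK).2.2, hcard, show p ^ m = p ^ (m - 2) * p ^ 2 by
        rw [← pow_add]; congr 1; omega] at h1
      exact Nat.eq_of_mul_eq_mul_right (pow_pos hp.pos _) h1
    refine mul_eq_self_of_cast_eq_one ?_
    have h2 := S3975.result (G := ↥K) p k hp (hKc ▸ pow_dvd_pow p (by omega))
    rw [← ZMod.natCast_eq_natCast_iff, Nat.cast_one] at h2
    exact h2
  have hUc : (p : ZMod (p ^ 2)) * U.card = p := by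
    refine mul_eq_self_of_cast_eq_one ?_
    have h2 := card_index_sq_zmod hG (frattini G) (by
      obtain ⟨e, he⟩ := index_eq_pow hG (frattini G)
      rw [he]
      refine pow_dvd_pow p (le_of_not_gt fun he1 => hnc ?_)
      refine isCyclic_of_index_commutator_le hG ?_
      have hle : (frattini G).index ≤ p := by
        rw [he]
        calc p ^ e ≤ p ^ 1 := Nat.pow_le_pow_right hp.pos (by omega)
          _ = p := pow_one p
      by_contra hgt
      refine hnc ?_
      obtain ⟨x, hx⟩ : ∃ x : G, frattini G ⊔ Subgroup.zpowers x = ⊤ := by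
        by_cases htop : frattini G = ⊤
        · exact ⟨1, by rw [htop, top_sup_eq]⟩
        obtain ⟨x, -, hx⟩ := SetLike.exists_of_lt (lt_top_iff_ne_top.mpr htop)
        refine ⟨x, Subgroup.eq_top_of_le_card _ ?_⟩
        rw [card_sup_zpowers (frattini G) hx (pow_mem_frattini hG x),
          ← Subgroup.card_mul_index (frattini G)]
        exact Nat.mul_le_mul_left _ hle
      exact absurd hx (frattini_ne_top hG hnc))
    rwa [Nat.card_eq_fintype_card, Fintype.card_subtype] at h2
  have hsum : ∑ H ∈ S, (((T.filter (fun M => H ≤ M)).card : ZMod (p ^ 2)) -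
      p * ((U.filter (fun K => H ≤ K)).card : ZMod (p ^ 2))) = (S.card : ZMod (p ^ 2)) := by
    rw [Finset.sum_congr rfl hmain, Finset.sum_const, nsmul_one]
  rw [Finset.sum_sub_distrib, ← hswap, ← Finset.mul_sum, ← hswap, Finset.mul_sum,
    Finset.sum_congr rfl hUcnt, Finset.sum_const, nsmul_eq_mul, mul_comm, hUc] at hsum
  rw [hsum, hS, numSub, Nat.card_eq_fintype_card, Fintype.card_subtype]

/-- The number of maximal subgroups of the exceptional type is the indicator of the exceptional type,
modulo `p`. -/
theorem card_kulakoffOne_hyperplanes [Finite G] [Fact p.Prime] {m k : ℕ}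
    (hcard : Nat.card G = p ^ m) (hnc : ¬ IsCyclic G) (hk : 1 ≤ k) (hkm : k + 2 ≤ m) :
    (Nat.card {M : Subgroup G // M.index = p ∧ KulakoffOne p k ↥M} : ZMod p) =
      open Classical in if KulakoffOne p k G then 1 else 0 := by
  classical
  have := Fintype.ofFinite (Subgroup G)
  have hp := (Fact.out (p := p.Prime))
  obtain ⟨n, rfl⟩ : ∃ n, m = n + 1 := ⟨m - 1, by omega⟩
  have hcM : ∀ M : Subgroup G, M.index = p → Nat.card ↥M = p ^ n := fun M hM => by
    have h := Subgroup.card_mul_index M
    rw [hM, hcard, pow_succ] at h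
    exact Nat.eq_of_mul_eq_mul_right hp.pos h
  by_cases h2 : p = 2
  swap
  · have hiff : ∀ M : Subgroup G, KulakoffOne p k ↥M ↔ IsCyclic ↥M := fun M =>
      ⟨fun h => h.resolve_right fun h' => h2 h'.1, Or.inl⟩
    rw [if_neg (fun h : KulakoffOne p k G => h.elim hnc fun h' => h2 h'.1),
      Nat.card_congr (Equiv.subtypeEquivRight fun M => and_congr_right fun _ => hiff M)]
    exact card_cyclic_hyperplanes hnc (by omega) hcard fun h => absurd h h2
  subst h2
  have hsmall : k + 2 ≤ n → ∀ M : Subgroup G, M.index = 2 →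
      (KulakoffOne 2 k ↥M ↔ IsCyclic ↥M ∨ (commutator ↥M).index = 4) := fun hkn M hM =>
    or_congr_right ⟨fun h => h.2.1, fun h =>
      ⟨rfl, h, by rw [hcM M hM]; exact Nat.pow_le_pow_right two_pos hkn⟩⟩
  have hbig : ¬ k + 2 ≤ n → ∀ M : Subgroup G, M.index = 2 → (KulakoffOne 2 k ↥M ↔ IsCyclic ↥M) :=
    fun hkn M hM => ⟨fun h => h.resolve_right fun h' => hkn
      ((Nat.pow_le_pow_iff_right (by norm_num : 1 < 2)).mp (hcM M hM ▸ h'.2.2)), Or.inl⟩
  by_cases hmax : (commutator G).index = 4
  · rw [if_pos (show KulakoffOne 2 k G from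
      Or.inr ⟨rfl, hmax, hcard ▸ Nat.pow_le_pow_right two_pos hkm⟩)]
    obtain ⟨hodd, hall⟩ := hyperplanes_of_maxClass (by omega : 2 ≤ n) hcard hmax
    by_cases hkn : k + 2 ≤ n
    · have hG := IsPGroup.of_card hcard
      have hΦ : frattini G ≠ ⊤ := fun h => frattini_ne_top (b := (1 : G)) hG hnc (by rw [h, top_sup_eq])
      rw [← one_le_of_hyperplanes hG le_rfl hΦ, hyperplanes]
      congr 1
      exact Nat.card_congr (Equiv.subtypeEquivRight fun M =>
        ⟨fun h => ⟨frattini_le_of_index_eq h.1, h.1⟩,
          fun h => ⟨h.2, (hsmall hkn M h.2).mpr (hall (by omega) M h.2)⟩⟩)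
    · rw [Nat.card_congr (Equiv.subtypeEquivRight fun M => and_congr_right fun hM => hbig hkn M hM)]
      exact hodd
  · rw [if_neg (fun h : KulakoffOne 2 k G => h.elim hnc fun h' => hmax h'.2.1)]
    have hcyc := card_cyclic_hyperplanes (p := 2) hnc (by omega : 2 ≤ n) hcard fun _ => hmax
    by_cases hkn : k + 2 ≤ n
    · have hmc := card_maxClass_hyperplanes (by omega : 3 ≤ n) hcard hmax
      rw [Nat.card_eq_fintype_card, Fintype.card_subtype] at hcyc hmc ⊢
      have hsplit : Finset.univ.filter (fun M : Subgroup G => M.index = 2 ∧ KulakoffOne 2 k ↥M) =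
          Finset.univ.filter (fun M : Subgroup G => M.index = 2 ∧ IsCyclic ↥M) ∪
            Finset.univ.filter (fun M : Subgroup G => M.index = 2 ∧ (commutator ↥M).index = 4) := by
        rw [← Finset.filter_or]
        refine Finset.filter_congr fun M _ => ?_
        rw [← and_or_left]
        exact and_congr_right fun hM => hsmall hkn M hM
      have hdisj : Disjoint (Finset.univ.filter (fun M : Subgroup G => M.index = 2 ∧ IsCyclic ↥M))
          (Finset.univ.filter (fun M : Subgroup G => M.index = 2 ∧ (commutator ↥M).index = 4)) := by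
        refine Finset.disjoint_filter.mpr fun M _ hc hm => ?_
        have hcom := hc.2.isMulCommutative
        have h4 := hm.2
        rw [(commutator_eq_bot_iff ↥M).mpr hcom, Subgroup.index_bot, hcM M hm.1] at h4
        have : 2 ^ 3 ≤ 2 ^ n := Nat.pow_le_pow_right two_pos (by omega)
        omega
      rw [hsplit, Finset.card_union_of_disjoint hdisj]
      push_cast
      rw [hcyc, hmc, add_zero]
    · rw [Nat.card_congr (Equiv.subtypeEquivRight fun M => and_congr_right fun hM => hbig hkn M hM)]
      exact hcyc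

/-- Kulakoff's theorem. -/
theorem numSub_zmod [Fact p.Prime] (m : ℕ) :
    ∀ (G : Type u) [Group G] [Finite G], Nat.card G = p ^ m → ∀ k, 1 ≤ k → k < m →
      (numSub p k G : ZMod (p ^ 2)) =
        open Classical in if KulakoffOne p k G then 1 else 1 + (p : ZMod (p ^ 2)) := by
  classical
  have hp := (Fact.out (p := p.Prime))
  have hsq : (p : ZMod (p ^ 2)) ^ 2 = 0 := by rw [← Nat.cast_pow, ZMod.natCast_self]
  induction m with
  | zero => intro G _ _ _ k _ hk; omega
  | succ n ih =>
    intro G _ _ hcard k hk hkm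
    by_cases hc : IsCyclic G
    · rw [if_pos (show KulakoffOne p k G from Or.inl hc), numSub_of_isCyclic hcard (by omega) hc,
        Nat.cast_one]
    have hG := IsPGroup.of_card hcard
    have := Fintype.ofFinite (Subgroup G)
    have hcM : ∀ M : Subgroup G, M.index = p → Nat.card ↥M = p ^ n := fun M hM => by
      have h := Subgroup.card_mul_index M
      rw [hM, hcard, pow_succ] at h
      exact Nat.eq_of_mul_eq_mul_right hp.pos h
    have hA : ((Finset.univ.filter (fun M : Subgroup G => M.index = p)).card : ZMod (p ^ 2)) = 1 + p := by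
      have hdvd : p ^ 2 ∣ (frattini G).index := by
        obtain ⟨e, he⟩ := index_eq_pow hG (frattini G)
        rw [he]
        refine pow_dvd_pow p (le_of_not_gt fun he1 => ?_)
        by_cases htop : frattini G = ⊤
        · exact frattini_ne_top (b := (1 : G)) hG hc (by rw [htop, top_sup_eq])
        obtain ⟨x, -, hx⟩ := SetLike.exists_of_lt (lt_top_iff_ne_top.mpr htop)
        have := normal_of_frattini_le hG (le_refl (frattini G))
        refine frattini_ne_top (b := x) hG hc (Subgroup.eq_top_of_le_card _ ?_)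
        rw [card_sup_zpowers (frattini G) hx (pow_mem_frattini hG x),
          ← Subgroup.card_mul_index (frattini G), he]
        exact Nat.mul_le_mul_left _
          ((Nat.pow_le_pow_right hp.pos (by omega : e ≤ 1)).trans (pow_one p).le)
      rw [← hyperplanes_zmod hG le_rfl hdvd, hyperplanes, Nat.card_eq_fintype_card, Fintype.card_subtype]
      refine congrArg _ (congrArg Finset.card (Finset.filter_congr fun M _ => ?_))
      exact ⟨fun h => ⟨frattini_le_of_index_eq h, h⟩, fun h => h.2⟩
    by_cases hkn : k = n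
    · subst hkn
      rw [if_neg (fun h : KulakoffOne p k G => h.elim hc fun h' => by
        have := (Nat.pow_le_pow_iff_right hp.one_lt).mp (hcard ▸ h'.2.2)
        omega)]
      rw [numSub, Nat.card_congr (Equiv.subtypeEquivRight fun H : Subgroup G => (?_ : Nat.card ↥H = p ^ k ↔ H.index = p)),
        Nat.card_eq_fintype_card, Fintype.card_subtype]
      · exact hA
      · constructor
        · intro h
          have h1 := Subgroup.card_mul_index H
          rw [h, hcard, pow_succ] at h1
          exact Nat.eq_of_mul_eq_mul_left (pow_pos hp.pos _) h1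
        · exact hcM H
    have hkn' : k + 2 ≤ n + 1 := by omega
    rw [numSub_recursion hcard hc hkn']
    set T := Finset.univ.filter (fun M : Subgroup G => M.index = p) with hT
    have hval : ∀ M ∈ T, (numSub p k ↥M : ZMod (p ^ 2)) =
        (1 + p) - (p : ZMod (p ^ 2)) * (if KulakoffOne p k ↥M then 1 else 0) := by
      intro M hM
      rw [ih ↥M (hcM M (Finset.mem_filter.mp hM).2) k hk (by omega)]
      split_ifs <;> ring
    rw [Finset.sum_congr rfl hval, Finset.sum_sub_distrib, Finset.sum_const, nsmul_eq_mul, hA,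
      ← Finset.mul_sum, Finset.sum_boole]
    have hc1 := card_kulakoffOne_hyperplanes hcard hc hk hkn'
    rw [Nat.card_eq_fintype_card, Fintype.card_subtype] at hc1
    rw [hT, Finset.filter_filter]
    split_ifs at hc1 ⊢ with hT'
    · rw [mul_eq_self_of_cast_eq_one hc1]
      linear_combination hsq
    · have h1 : (((Finset.univ.filter (fun M : Subgroup G => M.index = p ∧ KulakoffOne p k ↥M)).card + 1 : ℕ) :
          ZMod p) = 1 := by rw [Nat.cast_add, hc1, zero_add, Nat.cast_one]
      have h2 := mul_eq_self_of_cast_eq_one h1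
      push_cast at h2
      linear_combination hsq - h2

end Cfsg.Agent.PGroup
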