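import Cfsg.Agent.Lib.PGroup.Kulakoff

/-!
# Counting subgroups of order `p^a` modulo `p²` in an arbitrary finite group

* `card_not_le_sylow` : the subgroups of order `p^a` (`a` below the Sylow exponent) outside a
  given Sylow subgroup number `0` modulo `p²`.
-/

set_option autoImplicit false
set_option linter.style.haveILetI false

namespace Cfsg.Agent.PGroup

universe u

variable {G : Type u} [Group G] {p : ℕ}

open scoped Pointwise

theorem mem_conj_smul_iff (g : G) (H : Subgroup G) (x : G) :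
    x ∈ MulAut.conj g • H ↔ g⁻¹ * x * g ∈ H := by
  rw [← Subgroup.inv_mem_iff (H := H), Subgroup.inv_mem_iff, Subgroup.mem_pointwise_smul_iff_inv_smul_mem]
  simp [MulAut.smul_def, MulAut.inv_apply, MulAut.conj_symm_apply]

/-- In a `p`-group acting on a finite set, the orbits of size less than `p²` decide the cardinality
modulo `p²`. -/
theorem card_zmod_sq_eq_sum [Fact p.Prime] {P : Type*} [Group P] [Finite P] (hP : IsPGroup p P)
    {α : Type*} [MulAction P α] [Finite α]
    (hfix : ∀ a : α, ∃ g : P, g • a ≠ a) :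
    (Nat.card α : ZMod (p ^ 2)) =
      (Nat.card {a : α // (MulAction.stabilizer P a).index = p} : ZMod (p ^ 2)) := by
  classical
  have := Fintype.ofFinite α
  have hp := (Fact.out (p := p.Prime))
  let B : SubMulAction P α :=
    { carrier := {a | (MulAction.stabilizer P a).index ≠ p}
      smul_mem' := fun g a ha => by
        rw [Set.mem_ofPred_eq, MulAction.stabilizer_smul_eq_stabilizer_map_conj]
        rwa [Subgroup.index_map_of_bijective (MulAut.conj g).bijective] }
  have hB : p ^ 2 ∣ Nat.card ↥B := by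
    rw [Nat.card_congr (MulAction.selfEquivSigmaOrbits P ↥B), Nat.card_sigma]
    refine Finset.dvd_sum fun ω _ => ?_
    rw [Nat.card_congr (MulAction.orbitEquivQuotientStabilizer P ω.out),
      SubMulAction.stabilizer_of_subMul, ← Subgroup.index_eq_card]
    obtain ⟨k, hk⟩ := index_eq_pow hP (MulAction.stabilizer P (ω.out : α))
    rw [hk]
    refine pow_dvd_pow p (le_of_not_gt fun hlt => ?_)
    rcases (show k = 0 ∨ k = 1 by omega) with rfl | rfl
    · obtain ⟨g, hg⟩ := hfix (ω.out : α)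
      have h1 : MulAction.stabilizer P (ω.out : α) = ⊤ := Subgroup.index_eq_one.mp (by rw [hk, pow_zero])
      exact hg (h1.symm ▸ Subgroup.mem_top g : g ∈ MulAction.stabilizer P (ω.out : α))
    · exact ω.out.2 (by rw [hk, pow_one])
  have hsplit : Nat.card α =
      Nat.card {a : α // (MulAction.stabilizer P a).index = p} + Nat.card ↥B := by
    rw [← Nat.card_sum]
    exact Nat.card_congr (Equiv.sumCompl (fun a : α => (MulAction.stabilizer P a).index = p)).symm
  rw [hsplit, Nat.cast_add, (ZMod.natCast_eq_zero_iff _ _).mpr hB, add_zero]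

/-- A `p`-group acting without fixed points: a function constant on orbits sums to `0` modulo `p`. -/
theorem sum_zmod_eq_zero [Fact p.Prime] {P : Type*} [Group P] [Finite P] (hP : IsPGroup p P)
    {α : Type*} [MulAction P α] [Fintype α] (hfix : ∀ a : α, ∃ g : P, g • a ≠ a) (u : α → ℕ)
    (hu : ∀ (g : P) (a : α), u (g • a) = u a) (hdvd : ∀ a, p ∣ u a) :
    ((∑ a, u a : ℕ) : ZMod (p ^ 2)) = 0 := by
  classical
  have := Fintype.ofFinite (Quotient (MulAction.orbitRel P α))
  rw [ZMod.natCast_eq_zero_iff,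
    ← Finset.sum_fiberwise Finset.univ (fun a => (⟦a⟧ : Quotient (MulAction.orbitRel P α))) u]
  refine Finset.dvd_sum fun ω _ => ?_
  obtain ⟨a, rfl⟩ := Quotient.exists_rep ω
  have hconst : ∀ b ∈ Finset.univ.filter
      (fun b => (⟦b⟧ : Quotient (MulAction.orbitRel P α)) = ⟦a⟧), u b = u a := by
    intro b hb
    obtain ⟨g, hg⟩ := Quotient.exact (Finset.mem_filter.mp hb).2
    simp only at hg
    rw [← hg, hu]
  rw [Finset.sum_congr rfl hconst, Finset.sum_const, smul_eq_mul, sq]
  refine Nat.mul_dvd_mul ?_ (hdvd a)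
  have h1 : (Finset.univ.filter (fun b => (⟦b⟧ : Quotient (MulAction.orbitRel P α)) = ⟦a⟧)).card =
      (MulAction.stabilizer P a).index := by
    rw [Subgroup.index_eq_card, ← Nat.card_congr (MulAction.orbitEquivQuotientStabilizer P a),
      Nat.card_eq_fintype_card, Fintype.card_of_subtype]
    intro b
    rw [Finset.mem_filter, Quotient.eq]
    exact ⟨fun h => h.2, fun h => ⟨Finset.mem_univ b, h⟩⟩
  obtain ⟨k, hk⟩ := index_eq_pow hP (MulAction.stabilizer P a)
  rw [h1, hk]
  refine dvd_pow_self p fun h0 => ?_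
  obtain ⟨g, hg⟩ := hfix a
  have h2 : MulAction.stabilizer P a = ⊤ := Subgroup.index_eq_one.mp (by rw [hk, h0, pow_zero])
  exact hg (h2.symm ▸ Subgroup.mem_top g : g ∈ MulAction.stabilizer P a)

/-- `#{H ≤ P' : H ⊄ Q, Q normalizes H}` is divisible by `p` when `Q` is a maximal subgroup of `P'`. -/
theorem dvd_card_normalized [Finite G] [Fact p.Prime] {a : ℕ} {Q P' : Subgroup G}
    (hQp : IsPGroup p ↥Q) (hQP : Q ≤ P') (ha : p ^ a ∣ Nat.card ↥Q) :
    p ∣ Nat.card {H : Subgroup G // Nat.card ↥H = p ^ a ∧ H ≤ P' ∧ ¬ H ≤ Q ∧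
      Q ≤ Subgroup.normalizer (H : Set G)} := by
  classical
  have := Fintype.ofFinite (Subgroup G)
  have hp := (Fact.out (p := p.Prime))
  -- `Q` acts by conjugation on the subgroups of order `p^a` of a subgroup it normalizes
  have key : ∀ R : Subgroup G, Q ≤ R → p ^ a ∣ Nat.card ↥R →
      (Nat.card {H : Subgroup G // Nat.card ↥H = p ^ a ∧ H ≤ R ∧ Q ≤ Subgroup.normalizer (H : Set G)} :
        ZMod p) = 1 := by
    intro R hQR hR
    let X : SubMulAction ↥(Q.map (MulAut.conj : G →* MulAut G)) (Subgroup G) :=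
      { carrier := {H | Nat.card ↥H = p ^ a ∧ H ≤ R}
        smul_mem' := fun g H hH => by
          obtain ⟨q, hq, hqg⟩ := g.2
          rw [show g • H = MulAut.conj q • H by rw [hqg]; rfl]
          refine ⟨(Subgroup.card_map_of_injective (MulAut.conj q).injective).trans hH.1, fun x hx => ?_⟩
          rw [mem_conj_smul_iff] at hx
          have := R.mul_mem (R.mul_mem (hQR hq) (hH.2 hx)) (R.inv_mem (hQR hq))
          simpa [mul_assoc] using this }
    have hQ' : IsPGroup p ↥(Q.map (MulAut.conj : G →* MulAut G)) := hQp.map _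
    have h1 := hQ'.card_modEq_card_fixedPoints ↥X
    rw [← ZMod.natCast_eq_natCast_iff] at h1
    have hX : (Nat.card ↥X : ZMod p) = 1 := by
      have h2 := S3975.result (G := ↥R) p a hp hR
      rw [← ZMod.natCast_eq_natCast_iff, Nat.cast_one] at h2
      rw [← h2]
      exact congrArg _ (numSub_subgroup (p := p) a R)
    rw [hX] at h1
    rw [h1]
    congr 1
    refine (Nat.card_congr ?_).symm
    refine
      { toFun := fun H => ⟨H.1.1, H.1.2.1, H.1.2.2, fun q hq => ?_⟩
        invFun := fun H => ⟨⟨H.1, H.2.1, H.2.2.1⟩, fun g => ?_⟩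
        left_inv := fun _ => rfl
        right_inv := fun _ => rfl }
    · have h3 : (⟨MulAut.conj q, q, hq, rfl⟩ : ↥(Q.map (MulAut.conj : G →* MulAut G))) • H.1 = H.1 :=
        H.2 _
      have h4 : MulAut.conj q • (H.1.1 : Subgroup G) = H.1.1 := congrArg Subtype.val h3
      rw [Subgroup.mem_normalizer_iff]
      intro x
      conv_rhs => rw [← h4, mem_conj_smul_iff]
      simp [mul_assoc]
    · obtain ⟨q, hq, hqg⟩ := g.2
      refine Subtype.ext ?_
      show (g : MulAut G) • H.1 = H.1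
      rw [← hqg]
      ext x
      rw [mem_conj_smul_iff, Subgroup.mem_normalizer_iff.mp (H.2.2.2 hq) (q⁻¹ * x * q)]
      simp [mul_assoc]
  have h1 := key P' hQP (ha.trans (Subgroup.card_dvd_of_le hQP))
  have h2 := key Q le_rfl ha
  rw [Nat.card_eq_fintype_card, Fintype.card_subtype] at h1 h2 ⊢
  set S := Finset.univ.filter (fun H : Subgroup G => Nat.card ↥H = p ^ a ∧ H ≤ P' ∧
    Q ≤ Subgroup.normalizer (H : Set G)) with hS
  have h3 := Finset.card_filter_add_card_filter_not (s := S) (fun H => H ≤ Q)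
  have e1 : S.filter (fun H => H ≤ Q) = Finset.univ.filter (fun H : Subgroup G =>
      Nat.card ↥H = p ^ a ∧ H ≤ Q ∧ Q ≤ Subgroup.normalizer (H : Set G)) := by
    ext H
    simp only [hS, Finset.mem_filter, Finset.mem_univ, true_and]
    exact ⟨fun h => ⟨h.1.1, h.2, h.1.2.2⟩, fun h => ⟨⟨h.1, h.2.1.trans hQP, h.2.2⟩, h.2.1⟩⟩
  have e2 : S.filter (fun H => ¬ H ≤ Q) = Finset.univ.filter (fun H : Subgroup G =>
      Nat.card ↥H = p ^ a ∧ H ≤ P' ∧ ¬ H ≤ Q ∧ Q ≤ Subgroup.normalizer (H : Set G)) := by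
    ext H
    simp only [hS, Finset.mem_filter, Finset.mem_univ, true_and]
    exact ⟨fun h => ⟨h.1.1, h.1.2.1, h.2, h.1.2.2⟩, fun h => ⟨⟨h.1, h.2.1, h.2.2.2⟩, h.2.2.1⟩⟩
  rw [e1, e2] at h3
  have h4 := congrArg (fun z : ℕ => (z : ZMod p)) h3
  push_cast at h4
  rw [h1, h2] at h4
  rw [← ZMod.natCast_eq_zero_iff]
  linear_combination h4

/-- The subgroups of order `p^a` not inside a given Sylow subgroup. -/
theorem card_not_le_sylow [Finite G] [Fact p.Prime] {n a : ℕ} (P : Sylow p G)
    (hP : Nat.card ↥(P : Subgroup G) = p ^ n) (han : a < n) :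
    (Nat.card {H : Subgroup G // Nat.card ↥H = p ^ a ∧ ¬ H ≤ (P : Subgroup G)} : ZMod (p ^ 2)) = 0 := by
  classical
  have := Fintype.ofFinite (Subgroup G)
  have hp := (Fact.out (p := p.Prime))
  set P₀ : Subgroup G := (P : Subgroup G) with hP₀
  have hPp : IsPGroup p ↥P₀ := P.isPGroup'
  let X : SubMulAction ↥(P₀.map (MulAut.conj : G →* MulAut G)) (Subgroup G) :=
    { carrier := {H | Nat.card ↥H = p ^ a ∧ ¬ H ≤ P₀}
      smul_mem' := fun g H hH => by
        obtain ⟨q, hq, hqg⟩ := g.2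
        rw [show g • H = MulAut.conj q • H by rw [hqg]; rfl]
        refine ⟨(Subgroup.card_map_of_injective (MulAut.conj q).injective).trans hH.1, fun hle => hH.2 ?_⟩
        intro x hx
        have h1 : q * x * q⁻¹ ∈ P₀ := hle (by rw [mem_conj_smul_iff]; simpa [mul_assoc] using hx)
        have := P₀.mul_mem (P₀.mul_mem (P₀.inv_mem hq) h1) hq
        simpa [mul_assoc] using this }
  have hnorm : ∀ (H : Subgroup G) (q : G), MulAut.conj q • H = H ↔ q ∈ Subgroup.normalizer (H : Set G) := by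
    intro H q
    rw [Subgroup.mem_normalizer_iff]
    constructor
    · intro h x
      conv_rhs => rw [← h, mem_conj_smul_iff]
      simp [mul_assoc]
    · intro h
      ext x
      rw [mem_conj_smul_iff, h (q⁻¹ * x * q)]
      simp [mul_assoc]
  -- a `p`-subgroup over `P` is `P`
  have hsup : ∀ (H Q : Subgroup G), IsPGroup p ↥H → IsPGroup p ↥Q →
      Q ≤ Subgroup.normalizer (H : Set G) → IsPGroup p ↥(Q ⊔ H) := fun H Q hH hQ hn =>
    IsPGroup.to_sup_of_normal_right' hQ hH hn
  have hfix : ∀ H : ↥X, ∃ g : ↥(P₀.map (MulAut.conj : G →* MulAut G)), g • H ≠ H := by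
    intro H
    by_contra! hall
    refine H.2.2 ?_
    have hn : P₀ ≤ Subgroup.normalizer ((H : Subgroup G) : Set G) := fun q hq =>
      (hnorm _ q).mp (congrArg Subtype.val (hall ⟨MulAut.conj q, q, hq, rfl⟩))
    have h1 := hsup H P₀ (IsPGroup.of_card H.2.1) hPp hn
    exact le_sup_right.trans (P.is_maximal' h1 le_sup_left).le
  have hX : Nat.card {H : Subgroup G // Nat.card ↥H = p ^ a ∧ ¬ H ≤ P₀} = Nat.card ↥X := rfl
  rw [hX, card_zmod_sq_eq_sum (hPp.map _) hfix]
  -- the stabilizer of `H` as a subgroup of `G`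
  let st : ↥X → Subgroup G := fun H => P₀ ⊓ Subgroup.normalizer ((H : Subgroup G) : Set G)
  have hst : ∀ H : ↥X, (MulAction.stabilizer ↥(P₀.map (MulAut.conj : G →* MulAut G)) H).index =
      ((st H).subgroupOf P₀).index := by
    intro H
    rw [← Subgroup.index_comap_of_surjective _
      ((MulAut.conj : G →* MulAut G).subgroupMap_surjective P₀)]
    congr 1
    ext q
    rw [Subgroup.mem_comap, MulAction.mem_stabilizer_iff, Subgroup.mem_subgroupOf, Subgroup.mem_inf,
      and_iff_right q.2]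
    exact ⟨fun h => (hnorm _ _).mp (congrArg Subtype.val h), fun h => Subtype.ext ((hnorm _ _).mpr h)⟩
  have hQcard : ∀ Q : Subgroup G, Q ≤ P₀ → (Q.subgroupOf P₀).index = p → Nat.card ↥Q = p ^ (n - 1) := by
    intro Q hQ hi
    have h := Subgroup.card_mul_index (Q.subgroupOf P₀)
    rw [Nat.card_congr (Subgroup.subgroupOfEquivOfLe hQ).toEquiv, hi, hP,
      show p ^ n = p ^ (n - 1) * p by rw [← pow_succ]; congr 1; omega] at h
    exact Nat.eq_of_mul_eq_mul_right hp.pos h
  -- the Sylow subgroup through `H` and its stabilizer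
  let up : ↥X → Subgroup G := fun H => st H ⊔ (H : Subgroup G)
  have hup : ∀ H : ↥X, ((st H).subgroupOf P₀).index = p →
      Nat.card ↥(up H) = p ^ n ∧ up H ≠ P₀ := by
    intro H hi
    have hQp : IsPGroup p ↥(st H) := hPp.to_le inf_le_left
    have h1 := hsup H (st H) (IsPGroup.of_card H.2.1) hQp inf_le_right
    obtain ⟨R, hR⟩ := h1.exists_le_sylow
    have hne : up H ≠ P₀ := fun h => H.2.2 ((le_sup_right : (H : Subgroup G) ≤ up H).trans h.le)
    refine ⟨?_, hne⟩
    obtain ⟨e, he⟩ := IsPGroup.iff_card.mp h1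
    have hle : Nat.card ↥(up H) ∣ p ^ n := by
      rw [← hP, hP₀, P.card_eq_multiplicity, ← R.card_eq_multiplicity]
      exact Subgroup.card_dvd_of_le hR
    have hlt : st H < up H := lt_of_le_of_ne le_sup_left fun h => H.2.2 (by
      have h2 : (H : Subgroup G) ≤ up H := le_sup_right
      rw [← h] at h2
      exact h2.trans inf_le_left)
    show Nat.card ↥(up H) = _
    rw [show Nat.card ↥(up H) = p ^ e from he] at hle ⊢
    have hen := (Nat.pow_dvd_pow_iff_le_right hp.one_lt).mp hle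
    have h3 : p ^ (n - 1) < p ^ e := by
      rw [← hQcard _ inf_le_left hi, ← he]
      exact lt_of_le_of_ne (Subgroup.card_le_of_le hlt.le)
        fun h => hlt.ne (Subgroup.eq_of_le_of_card_ge hlt.le h.ge)
    have := (Nat.pow_lt_pow_iff_right hp.one_lt).mp h3
    congr 1
    omega
  -- fibre over `(Q, P')`
  let Y := {q : Subgroup G × Subgroup G //
    q.1 ≤ P₀ ∧ (q.1.subgroupOf P₀).index = p ∧ q.1 ≤ q.2 ∧ Nat.card ↥q.2 = p ^ n ∧ q.2 ≠ P₀}
  let N : Y → ℕ := fun y => Nat.card {H : Subgroup G // Nat.card ↥H = p ^ a ∧ H ≤ y.1.2 ∧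
    ¬ H ≤ y.1.1 ∧ y.1.1 ≤ Subgroup.normalizer (H : Set G)}
  have := Fintype.ofFinite Y
  have hcap : ∀ y : Y, y.1.2 ⊓ P₀ = y.1.1 := by
    intro y
    obtain ⟨hQP, hi, hQR, hR, hne⟩ := y.2
    refine (Subgroup.eq_of_le_of_card_ge (le_inf hQR hQP) ?_).symm
    rw [hQcard _ hQP hi]
    obtain ⟨e, he⟩ := IsPGroup.iff_card.mp (hPp.to_le (inf_le_right : y.1.2 ⊓ P₀ ≤ P₀))
    rw [he]
    refine Nat.pow_le_pow_right hp.pos ?_
    have h1 := Subgroup.card_dvd_of_le (inf_le_left : y.1.2 ⊓ P₀ ≤ y.1.2)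
    rw [he, hR] at h1
    have hen := (Nat.pow_dvd_pow_iff_le_right hp.one_lt).mp h1
    by_contra hgt
    have hen' : e = n := by omega
    have h2 : y.1.2 ⊓ P₀ = y.1.2 := Subgroup.eq_of_le_of_card_ge inf_le_left (by rw [he, hen', hR])
    exact hne (Subgroup.eq_of_le_of_card_ge (inf_eq_left.mp h2) (by rw [hR, hP]))
  have hbij : Nat.card {H : ↥X // (MulAction.stabilizer ↥(P₀.map (MulAut.conj : G →* MulAut G)) H).index = p} =
      ∑ y : Y, N y := by
    simp only [N]
    rw [← Nat.card_sigma]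
    refine Nat.card_eq_of_bijective
      (fun H => ⟨⟨(st H.1, up H.1), inf_le_left, (hst H.1).symm.trans H.2, le_sup_left,
          hup H.1 ((hst H.1).symm.trans H.2)⟩,
        ⟨(H.1 : Subgroup G), H.1.2.1, le_sup_right, fun h => H.1.2.2 (h.trans inf_le_left),
          inf_le_right⟩⟩) ⟨?_, ?_⟩
    · intro H K h
      refine Subtype.ext (Subtype.ext ?_)
      exact congrArg (fun z : Σ y : Y, {H : Subgroup G // Nat.card ↥H = p ^ a ∧ H ≤ y.1.2 ∧
        ¬ H ≤ y.1.1 ∧ y.1.1 ≤ Subgroup.normalizer (H : Set G)} => (z.2.1 : Subgroup G)) h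
    · rintro ⟨y, H, hHc, hHR, hHQ, hQN⟩
      obtain ⟨hQP, hi, hQR, hR, hne⟩ := y.2
      have hHP : ¬ H ≤ P₀ := fun h => hHQ (hcap y ▸ le_inf hHR h)
      have hstH : st ⟨H, hHc, hHP⟩ = y.1.1 := by
        refine (Subgroup.eq_of_le_of_card_ge (le_inf hQP hQN) ?_).symm
        obtain ⟨e, he⟩ := IsPGroup.iff_card.mp (hPp.to_le (inf_le_left : st ⟨H, hHc, hHP⟩ ≤ P₀))
        rw [he, hQcard _ hQP hi]
        refine Nat.pow_le_pow_right hp.pos ?_
        have h1 := Subgroup.card_dvd_of_le (inf_le_left : st ⟨H, hHc, hHP⟩ ≤ P₀)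
        rw [he, hP] at h1
        have hen := (Nat.pow_dvd_pow_iff_le_right hp.one_lt).mp h1
        by_contra hgt
        have hen' : e = n := by omega
        have h2 : st ⟨H, hHc, hHP⟩ = P₀ :=
          Subgroup.eq_of_le_of_card_ge inf_le_left (by rw [he, hen', hP])
        refine hHP ?_
        have h3 := hsup H P₀ (IsPGroup.of_card hHc) hPp (h2 ▸ inf_le_right)
        exact le_sup_right.trans (P.is_maximal' h3 le_sup_left).le
      have hstab : (MulAction.stabilizer ↥(P₀.map (MulAut.conj : G →* MulAut G)) (⟨H, hHc, hHP⟩ : ↥X)).index = p := by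
        rw [hst, hstH, hi]
      refine ⟨⟨⟨H, hHc, hHP⟩, hstab⟩, ?_⟩
      have hupH : up ⟨H, hHc, hHP⟩ = y.1.2 := by
        refine Subgroup.eq_of_le_of_card_ge ?_ (by rw [hR, (hup _ (by rw [hstH, hi])).1])
        show st ⟨H, hHc, hHP⟩ ⊔ H ≤ y.1.2
        rw [hstH]
        exact sup_le hQR hHR
      obtain ⟨⟨Q, R⟩, hy⟩ := y
      simp only at hstH hupH
      subst hstH
      subst hupH
      rfl
  rw [hbij]
  -- `P` acts on the pairs
  let act : ↥P₀ → Y → Y := fun g y => ⟨(MulAut.conj (g : G) • y.1.1, MulAut.conj (g : G) • y.1.2), by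
    obtain ⟨hQP, hi, hQR, hR, hne⟩ := y.2
    have hgP : MulAut.conj (g : G) • P₀ = P₀ := (hnorm _ _).mpr (Subgroup.le_normalizer g.2)
    refine ⟨(Subgroup.pointwise_smul_le_pointwise_smul_iff.mpr hQP).trans hgP.le, ?_,
      Subgroup.pointwise_smul_le_pointwise_smul_iff.mpr hQR,
      (Subgroup.card_map_of_injective (MulAut.conj (g : G)).injective).trans hR, fun h => hne ?_⟩
    · have h1 := Subgroup.card_mul_index (y.1.1.subgroupOf P₀)
      have h2 := Subgroup.card_mul_index ((MulAut.conj (g : G) • y.1.1).subgroupOf P₀)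
      rw [Nat.card_congr (Subgroup.subgroupOfEquivOfLe hQP).toEquiv, hi] at h1
      rw [Nat.card_congr (Subgroup.subgroupOfEquivOfLe
        (show MulAut.conj (g : G) • y.1.1 ≤ P₀ from
          (Subgroup.pointwise_smul_le_pointwise_smul_iff.mpr hQP).trans hgP.le)).toEquiv,
        show Nat.card ↥(MulAut.conj (g : G) • y.1.1) = Nat.card ↥y.1.1 from
          Subgroup.card_map_of_injective (MulAut.conj (g : G)).injective, ← h1] at h2
      exact Nat.eq_of_mul_eq_mul_left Nat.card_pos h2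
    · exact smul_left_cancel (MulAut.conj (g : G)) (h.trans hgP.symm)⟩
  letI : MulAction ↥P₀ Y :=
    { smul := act
      one_smul := fun y => Subtype.ext (Prod.ext
        (show MulAut.conj ((1 : ↥P₀) : G) • y.1.1 = y.1.1 by rw [Subgroup.coe_one, map_one, one_smul])
        (show MulAut.conj ((1 : ↥P₀) : G) • y.1.2 = y.1.2 by rw [Subgroup.coe_one, map_one, one_smul]))
      mul_smul := fun g h y => Subtype.ext (Prod.ext
        (show MulAut.conj ((g * h : ↥P₀) : G) • y.1.1 = MulAut.conj (g : G) • MulAut.conj (h : G) • y.1.1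
          by rw [Subgroup.coe_mul, map_mul, mul_smul])
        (show MulAut.conj ((g * h : ↥P₀) : G) • y.1.2 = MulAut.conj (g : G) • MulAut.conj (h : G) • y.1.2
          by rw [Subgroup.coe_mul, map_mul, mul_smul])) }
  refine sum_zmod_eq_zero hPp (fun y => ?_) N (fun g y => ?_) fun y => ?_
  · by_contra! hall
    obtain ⟨hQP, hi, hQR, hR, hne⟩ := y.2
    have hn : P₀ ≤ Subgroup.normalizer (y.1.2 : Set G) := fun g hg =>
      (hnorm _ g).mp (congrArg (fun z : Y => z.1.2) (hall ⟨g, hg⟩))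
    have h3 := hsup y.1.2 P₀ (IsPGroup.of_card hR) hPp hn
    exact hne (Subgroup.eq_of_le_of_card_ge
      (le_sup_right.trans (P.is_maximal' h3 le_sup_left).le) (by rw [hR, hP]))
  · show Nat.card {H : Subgroup G // Nat.card ↥H = p ^ a ∧ H ≤ MulAut.conj (g : G) • y.1.2 ∧
      ¬ H ≤ MulAut.conj (g : G) • y.1.1 ∧
      MulAut.conj (g : G) • y.1.1 ≤ Subgroup.normalizer (H : Set G)} = _
    refine (Nat.card_congr ((MulAction.toPerm (MulAut.conj (g : G)) : Equiv.Perm (Subgroup G)).subtypeEquiv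
      fun H => ?_)).symm
    simp only [MulAction.toPerm_apply, Subgroup.pointwise_smul_le_pointwise_smul_iff]
    refine and_congr (Iff.of_eq ?_) (and_congr_right fun _ => and_congr_right fun _ => ?_)
    · rw [show Nat.card ↥(MulAut.conj (g : G) • H) = Nat.card ↥H from
        Subgroup.card_map_of_injective (MulAut.conj (g : G)).injective]
    · constructor
      · intro h x hx
        rw [mem_conj_smul_iff] at hx
        have h1 := (hnorm _ _).mpr (h hx)
        refine (hnorm _ _).mp ?_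
        rw [show x = (g : G) * ((g : G)⁻¹ * x * g) * (g : G)⁻¹ by group, map_mul, map_mul, mul_smul,
          mul_smul, map_inv, inv_smul_smul, h1]
      · intro h x hx
        have h1 := (hnorm _ _).mpr (h (show (g : G) * x * (g : G)⁻¹ ∈ MulAut.conj (g : G) • y.1.1 by
          rw [mem_conj_smul_iff]; simpa [mul_assoc] using hx))
        rw [map_mul, map_mul, mul_smul, mul_smul, map_inv, inv_smul_smul] at h1
        exact (hnorm _ _).mp (smul_left_cancel _ h1)
  · refine dvd_card_normalized (hPp.to_le y.2.1) y.2.2.2.1 ?_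
    rw [hQcard _ y.2.1 y.2.2.1]
    exact pow_dvd_pow p (by omega)

end Cfsg.Agent.PGroup
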