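import Cfsg.Agent.Lib.Fusion.SupersolubleChain
import Cfsg.Agent.Lib.Fusion.MetacyclicClosed

/-!
A metacyclic `p`-group, `p` odd, that is not homocyclic of rank two has a series of
characteristic subgroups with cyclic steps.
-/

set_option autoImplicit false

namespace Cfsg.Agent.PGroup.MetacyclicSeries

open Cfsg Cfsg.Agent.PGroup Cfsg.Agent.Fusion.Supersoluble
open scoped commutatorElement

variable {G : Type*} [Group G] {p : ℕ}

local notation "π" => (Abelianization.of : G →* Abelianization G)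

theorem exists_of (y : Abelianization G) : ∃ x : G, π x = y :=
  QuotientGroup.mk'_surjective (commutator G) y

theorem not_int_dvd_one [hp : Fact p.Prime] : ¬ (p : ℤ) ∣ 1 := fun h =>
  hp.out.one_lt.ne' (by exact_mod_cast Int.eq_one_of_dvd_one (Int.natCast_nonneg p) h)

/-- Invariant under the automorphisms of `G`. -/
def Inv (B : Subgroup (Abelianization G)) : Prop :=
  ∀ (α : MulAut G), ∀ y ∈ B, Abelianization.map α.toMonoidHom y ∈ B

/-- The preimage in `G` of the `n`-th powers in `B`. -/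
def powSub (B : Subgroup (Abelianization G)) (n : ℕ) : Subgroup G :=
  (B.map (powMonoidHom n)).comap π

theorem mem_powSub {B : Subgroup (Abelianization G)} {n : ℕ} {x : G} :
    x ∈ powSub B n ↔ ∃ y ∈ B, y ^ n = π x := Iff.rfl

theorem powSub_characteristic {B : Subgroup (Abelianization G)} (hB : Inv B) (n : ℕ) :
    (powSub B n).Characteristic := by
  refine Subgroup.characteristic_iff_le_comap.2 fun α x hx => ?_
  obtain ⟨y, hy, hyx⟩ := mem_powSub.1 hx
  refine mem_powSub.2 ⟨_, hB α y hy, ?_⟩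
  rw [← map_pow, hyx, Abelianization.map_of]

theorem inv_top : Inv (⊤ : Subgroup (Abelianization G)) := fun _ _ _ => trivial

theorem powSub_eq_sup {B C : Subgroup (Abelianization G)} {n m : ℕ} {g : G}
    (hle : ∀ y ∈ C, ∃ z ∈ B, z ^ n = y ^ m) (hg : π g ∈ B)
    (hgen : ∀ y ∈ B, ∃ (t : ℤ) (c : Abelianization G), c ∈ C ∧ y ^ n = (π g ^ n) ^ t * c ^ m) :
    powSub B n = powSub C m ⊔ Subgroup.zpowers (g ^ n) := by
  refine le_antisymm (fun x hx => ?_) (sup_le (fun x hx => ?_) (Subgroup.zpowers_le.2 ?_))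
  · obtain ⟨y, hy, hyx⟩ := mem_powSub.1 hx
    obtain ⟨t, c, hc, he⟩ := hgen y hy
    rw [show x = x * ((g ^ n) ^ t)⁻¹ * (g ^ n) ^ t by group]
    refine Subgroup.mul_mem _ (Subgroup.mem_sup_left (mem_powSub.2 ⟨c, hc, ?_⟩))
      (Subgroup.mem_sup_right ⟨t, rfl⟩)
    rw [map_mul, map_inv, map_zpow, map_pow, ← hyx, he, mul_comm ((π g ^ n) ^ t),
      mul_inv_cancel_right]
  · obtain ⟨y, hy, hyx⟩ := mem_powSub.1 hx
    obtain ⟨z, hz, hze⟩ := hle y hy
    exact mem_powSub.2 ⟨z, hz, hze.trans hyx⟩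
  · exact mem_powSub.2 ⟨π g, hg, (map_pow _ _ _).symm⟩

/-- Generators modulo `p`-th powers from one element outside them. -/
theorem exists_split {A : Type*} [CommGroup A] [hp : Fact p.Prime] {a b : A}
    (hgen : ∀ y : A, ∃ r s : ℤ, y = a ^ r * b ^ s) {B : Subgroup A} (hpB : ∀ y : A, y ^ p ∈ B)
    (hBne : B ≠ ⊤) {i j : ℤ} (hi : ¬ (p : ℤ) ∣ i) (hw : a ^ i * b ^ j ∈ B) :
    (∀ y : A, ∃ t : ℤ, ∃ v ∈ B, y = b ^ t * v) ∧
      ∀ y ∈ B, ∃ (t : ℤ) (z : A), y = (a ^ i * b ^ j) ^ t * z ^ p := by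
  obtain ⟨u, v, huv⟩ :=
    ((Nat.prime_iff_prime_int.1 hp.out).coprime_iff_not_dvd.2 hi).symm
  have hy : ∀ r s : ℤ, a ^ r * b ^ s =
      b ^ (s - j * (u * r)) * ((a ^ i * b ^ j) ^ (u * r) * (a ^ (v * r)) ^ p) := by
    intro r s
    rw [mul_zpow, ← zpow_natCast (a ^ (v * r)), ← zpow_mul, ← zpow_mul, ← zpow_mul,
      show b ^ (s - j * (u * r)) * (a ^ (i * (u * r)) * b ^ (j * (u * r)) * a ^ (v * r * p)) =
        (a ^ (i * (u * r)) * a ^ (v * r * p)) * (b ^ (s - j * (u * r)) * b ^ (j * (u * r))) by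
          ac_rfl, ← zpow_add, ← zpow_add, sub_add_cancel,
      show i * (u * r) + v * r * p = r by linear_combination r * huv]
  have hbB : b ∉ B := fun hb => hBne (eq_top_iff.2 fun y _ => by
    obtain ⟨r, s, rfl⟩ := hgen y
    rw [hy]
    exact B.mul_mem (B.zpow_mem hb _) (B.mul_mem (B.zpow_mem hw _) (hpB _)))
  refine ⟨fun y => ?_, fun y hyB => ?_⟩
  · obtain ⟨r, s, rfl⟩ := hgen y
    exact ⟨_, _, B.mul_mem (B.zpow_mem hw _) (hpB _), hy r s⟩
  · obtain ⟨r, s, rfl⟩ := hgen y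
    have h1 : b ^ (s - j * (u * r)) ∈ B := by
      rw [hy] at hyB
      exact (Subgroup.mul_mem_cancel_right B (B.mul_mem (B.zpow_mem hw _) (hpB _))).1 hyB
    obtain ⟨k, hk⟩ : (p : ℤ) ∣ s - j * (u * r) := by
      by_contra hd
      obtain ⟨u', v', h'⟩ :=
        ((Nat.prime_iff_prime_int.1 hp.out).coprime_iff_not_dvd.2 hd).symm
      refine hbB ?_
      rw [← zpow_one b, ← h', zpow_add, mul_comm u', zpow_mul, zpow_mul, zpow_natCast]
      exact B.mul_mem (B.zpow_mem h1 _) (hpB _)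
    refine ⟨u * r, b ^ k * a ^ (v * r), ?_⟩
    rw [hy, hk, mul_comm (p : ℤ) k, zpow_mul, zpow_natCast, mul_pow, mul_left_comm]

variable [Finite G] [hp : Fact p.Prime]

omit [Finite G] in
theorem isCyclic_of_zpowers_eq_top {g : G} (h : Subgroup.zpowers g = ⊤) : IsCyclic G :=
  ⟨g, fun x => (h.symm ▸ Subgroup.mem_top x : x ∈ Subgroup.zpowers g)⟩

/-- In a non-cyclic group the two generators are independent modulo `Φ`. -/
theorem dvd_of_mem_pow (hG : IsPGroup p G) {a b : G} (H : MetaGen a b) (hnc : ¬ IsCyclic G)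
    {i j : ℤ} {y : Abelianization G} (h : π a ^ i * π b ^ j = y ^ p) :
    (p : ℤ) ∣ i ∧ (p : ℤ) ∣ j := by
  have key : ∀ c d : G, Subgroup.closure ({c, d} : Set G) = ⊤ → ∀ k l : ℤ,
      π c ^ k * π d ^ l = y ^ p → (p : ℤ) ∣ k := by
    intro c d hcd k l hkl
    by_contra hk
    obtain ⟨u, v, huv⟩ := ((Nat.prime_iff_prime_int.1 hp.out).coprime_iff_not_dvd.2 hk).symm
    obtain ⟨z, hy'⟩ := exists_of y
    refine hnc (isCyclic_of_zpowers_eq_top (g := d) (frattini_nongenerating ?_))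
    rw [eq_top_iff, ← hcd, Subgroup.closure_le]
    rintro e (rfl | rfl)
    swap
    · exact Subgroup.mem_sup_left (Subgroup.mem_zpowers e)
    have hmem : (d ^ (l * -u) * (z ^ u * e ^ v) ^ p)⁻¹ * e ∈ frattini G := by
      refine commutator_le_frattini hG ?_
      have hyu : (y ^ u) ^ p = π e ^ (k * u) * π d ^ (l * u) := by
        rw [zpow_mul, zpow_mul, ← mul_zpow, hkl, ← zpow_natCast y, ← zpow_natCast (y ^ u),
          ← zpow_mul, ← zpow_mul, mul_comm]
      rw [← Abelianization.ker_of, MonoidHom.mem_ker, map_mul, map_inv, inv_mul_eq_one, map_mul,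
        map_zpow, map_pow, map_mul, map_zpow, map_zpow, hy', mul_pow, hyu,
        ← zpow_natCast (π e ^ v), ← zpow_mul,
        show π d ^ (l * -u) * (π e ^ (k * u) * π d ^ (l * u) * π e ^ (v * p)) =
          (π d ^ (l * -u) * π d ^ (l * u)) * (π e ^ (k * u) * π e ^ (v * p)) by ac_rfl,
        ← zpow_add, ← zpow_add, show l * -u + l * u = 0 by ring, zpow_zero, one_mul,
        show k * u + v * p = 1 by linear_combination huv, zpow_one]
    have h2 := Subgroup.mul_mem (Subgroup.zpowers d ⊔ frattini G)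
      (Subgroup.mul_mem _ (Subgroup.mem_sup_left (⟨l * -u, rfl⟩ : d ^ (l * -u) ∈ Subgroup.zpowers d))
        (Subgroup.mem_sup_right (pow_mem_frattini hG (z ^ u * e ^ v))))
      (Subgroup.mem_sup_right hmem)
    rwa [mul_inv_cancel_left] at h2
  exact ⟨key a b H.closure_eq i j h,
    key b a (by rw [Set.pair_comm]; exact H.closure_eq) j i (by rw [mul_comm]; exact h)⟩

/-- A characteristic subgroup strictly between `G'⟨x^p⟩` and `G`. -/
theorem exists_inv_between (hG : IsPGroup p G) (hp2 : p ≠ 2) {a b : G} (H : MetaGen a b)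
    (hnc : ¬ IsCyclic G)
    (hhom : ¬ ∃ n : ℕ, 0 < n ∧
      Nonempty (G ≃* Multiplicative (ZMod (p ^ n)) × Multiplicative (ZMod (p ^ n)))) :
    ∃ B : Subgroup (Abelianization G), Inv B ∧ (∀ y, y ^ p ∈ B) ∧ B ≠ ⊤ ∧
      ∃ w ∈ B, ∀ y, w ≠ y ^ p := by
  classical
  have hgen : ∀ y : Abelianization G, ∃ r s : ℤ, y = π a ^ r * π b ^ s := by
    intro y
    obtain ⟨x, rfl⟩ := exists_of y
    obtain ⟨r, s, rfl⟩ := H.gen x
    exact ⟨r, s, by rw [map_mul, map_zpow, map_zpow]⟩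
  have hex : ∃ e, ∀ y : Abelianization G, y ^ p ^ e = 1 := by
    obtain ⟨k, hk⟩ := IsPGroup.iff_card.1 hG
    refine ⟨k, fun y => ?_⟩
    obtain ⟨x, rfl⟩ := exists_of y
    rw [← map_pow, ← hk, pow_card_eq_one', map_one]
  set e := Nat.find hex with he
  have hexp : ∀ y : Abelianization G, y ^ p ^ e = 1 := Nat.find_spec hex
  obtain ⟨f, hf⟩ : ∃ f, e = f + 1 := by
    refine Nat.exists_eq_succ_of_ne_zero fun h0 => ?_
    have h1 : π a ^ (1 : ℤ) * π b ^ (0 : ℤ) = (1 : Abelianization G) ^ p := by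
      have := hexp (π a); rw [h0, pow_zero, pow_one] at this
      rw [this, one_zpow, zpow_zero, one_mul, one_pow]
    exact not_int_dvd_one (dvd_of_mem_pow hG H hnc h1).1
  have hmin : ∃ y : Abelianization G, y ^ p ^ f ≠ 1 := by
    by_contra hcon
    push Not at hcon
    exact Nat.find_min hex (show f < e by omega) hcon
  by_cases hx : ∃ x : Abelianization G, x ^ p ^ f = 1 ∧ ∀ y, x ≠ y ^ p
  · obtain ⟨x, hx1, hx2⟩ := hx
    refine ⟨(powMonoidHom (p ^ f) : Abelianization G →* _).ker, fun α y hy => ?_, fun y => ?_,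
      fun h => ?_, x, hx1, hx2⟩
    · rw [MonoidHom.mem_ker, powMonoidHom_apply] at hy ⊢
      rw [← map_pow, hy, map_one]
    · rw [MonoidHom.mem_ker, powMonoidHom_apply, ← pow_mul, ← pow_succ', ← hf, hexp]
    · obtain ⟨y, hy⟩ := hmin
      exact hy (MonoidHom.mem_ker.1 (h ▸ Subgroup.mem_top y))
  push Not at hx
  -- `G / G'` is homocyclic
  set N := p ^ e with hN
  have hdvd : ∀ k ≤ e, ∀ i j : ℤ, π a ^ i * π b ^ j = 1 →
      ((p : ℤ) ^ k) ∣ i ∧ ((p : ℤ) ^ k) ∣ j := by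
    intro k
    induction k with
    | zero => intro _ i j _; exact ⟨one_dvd _, one_dvd _⟩
    | succ k ih =>
      intro hk i j hij
      obtain ⟨⟨i', rfl⟩, ⟨j', rfl⟩⟩ := ih (by omega) i j hij
      obtain ⟨y, hy⟩ := hx (π a ^ i' * π b ^ j') (by
        have h1 := congrArg (· ^ p ^ (f - k)) hij
        simp only [one_pow] at h1
        rw [mul_comm _ i', mul_comm _ j', zpow_mul, zpow_mul, ← mul_zpow, ← Nat.cast_pow,
          zpow_natCast, ← pow_mul, ← pow_add, show k + (f - k) = f by omega] at h1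
        exact h1)
      obtain ⟨h1, h2⟩ := dvd_of_mem_pow hG H hnc hy
      exact ⟨by rw [pow_succ]; exact mul_dvd_mul_left _ h1,
        by rw [pow_succ]; exact mul_dvd_mul_left _ h2⟩
  have hNd : ∀ i j : ℤ, π a ^ i * π b ^ j = 1 → (N : ℤ) ∣ i ∧ (N : ℤ) ∣ j := fun i j h => by
    rw [hN, Nat.cast_pow]; exact hdvd e le_rfl i j h
  have : NeZero N := ⟨(pow_pos hp.out.pos e).ne'⟩
  -- `G'` is generated by `a ^ N`
  have hcomm : commutator G = Subgroup.zpowers (a ^ N) := by
    refine le_antisymm (fun c hc => ?_) (Subgroup.zpowers_le.2 ?_)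
    · obtain ⟨k, rfl⟩ := H.commutator_le hc
      rw [← Abelianization.ker_of, MonoidHom.mem_ker] at hc
      obtain ⟨⟨k', hk'⟩, -⟩ := hNd k 0 (by rw [zpow_zero, mul_one, ← map_zpow]; exact hc)
      exact ⟨k', by show (a ^ N) ^ k' = a ^ k; rw [hk', zpow_mul, zpow_natCast]⟩
    · rw [← Abelianization.ker_of, MonoidHom.mem_ker, map_pow]
      exact hexp _
  by_cases haN : a ^ N = 1
  · exfalso
    refine hhom ⟨e, by omega, ?_⟩
    have hbot : commutator G = ⊥ := by rw [hcomm, haN, Subgroup.zpowers_one_eq_bot]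
    have hinj : Function.Injective π := by
      rw [← MonoidHom.ker_eq_bot_iff, Abelianization.ker_of, hbot]
    have hc : ∀ g h : G, g * h = h * g := fun g h =>
      hinj (by rw [map_mul, map_mul, mul_comm])
    have hexpG : ∀ g : G, g ^ N = 1 := fun g => hinj (by rw [map_pow, map_one]; exact hexp _)
    have hcard : Nat.card G = N * N := by
      rw [Nat.card_eq_of_bijective (fun q : ZMod N × ZMod N => a ^ q.1.val * b ^ q.2.val) ?_ |>.symm,
        Nat.card_prod, Nat.card_zmod]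
      constructor
      · intro q q' hq
        have h1 := congrArg π hq
        rw [map_mul, map_mul, map_pow, map_pow, map_pow, map_pow] at h1
        have h2 := hNd ((q.1.val : ℤ) - q'.1.val) ((q.2.val : ℤ) - q'.2.val) (by
          simp only [zpow_sub, zpow_natCast]
          rw [show π a ^ q.1.val * (π a ^ q'.1.val)⁻¹ * (π b ^ q.2.val * (π b ^ q'.2.val)⁻¹) =
            (π a ^ q.1.val * π b ^ q.2.val) * (π a ^ q'.1.val * π b ^ q'.2.val)⁻¹ by
              rw [mul_inv]; ac_rfl, h1, mul_inv_cancel])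
        refine Prod.ext ?_ ?_
        · simpa [sub_eq_zero] using (ZMod.intCast_zmod_eq_zero_iff_dvd _ _).2 h2.1
        · simpa [sub_eq_zero] using (ZMod.intCast_zmod_eq_zero_iff_dvd _ _).2 h2.2
      · intro g
        obtain ⟨r, s, rfl⟩ := H.gen g
        refine ⟨((r : ZMod N), (s : ZMod N)), ?_⟩
        have hval : ∀ (c : G) (t : ℤ), c ^ (t : ZMod N).val = c ^ t := fun c t => by
          rw [← zpow_natCast, ZMod.val_intCast, zpow_eq_zpow_iff_modEq]
          exact (Int.mod_modEq t N).of_dvd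
            (Int.natCast_dvd_natCast.2 (orderOf_dvd_of_pow_eq_one (hexpG c)))
        simp only [hval]
    exact (Cfsg.Agent.Fusion.MetacyclicClosed.homocyclic_basis hc hcard hexpG H.closure_eq).2.2
  -- modulo `R = ⟨a ^ (N p)⟩` the `N`-th power is a homomorphism
  set R := Subgroup.zpowers (a ^ (N * p)) with hR
  have hRn : R.Normal := normal_of_le_isCyclic H.normal inferInstance
    (Subgroup.zpowers_le.2 (Subgroup.pow_mem _ (Subgroup.mem_zpowers a) _))
  set q := QuotientGroup.mk' R with hq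
  have hconj : ∀ g : G, ∃ s : ℤ, g * a * g⁻¹ = a ^ s ∧ (p : ℤ) ∣ s - 1 := by
    intro g
    obtain ⟨s, hs⟩ := H.exists_conj g 1
    rw [zpow_one] at hs
    refine ⟨s, hs, ?_⟩
    obtain ⟨k, hk⟩ := hG g
    have hit : ∀ n : ℕ, g ^ n * a * (g ^ n)⁻¹ = a ^ s ^ n := by
      intro n
      induction n with
      | zero => simp
      | succ n ih =>
        calc g ^ (n + 1) * a * (g ^ (n + 1))⁻¹
            = g * (g ^ n * a * (g ^ n)⁻¹) * g⁻¹ := by rw [pow_succ']; group
          _ = (g * a * g⁻¹) ^ (s ^ n) := by rw [ih, _root_.conj_zpow]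
          _ = a ^ (s * s ^ n) := by rw [hs, ← zpow_mul]
          _ = _ := by rw [pow_succ']
    have h1 := hit (p ^ k)
    rw [hk, one_mul, inv_one, mul_one] at h1
    have h2 : (orderOf a : ℤ) ∣ s ^ p ^ k - 1 := by
      rw [orderOf_dvd_iff_zpow_eq_one, zpow_sub, zpow_one, ← h1, mul_inv_cancel]
    have h3 : (p : ℤ) ∣ orderOf a := by
      obtain ⟨m, hm⟩ := IsPGroup.iff_orderOf.1 hG a
      rcases m with - | m
      · exact absurd (by rw [orderOf_eq_one_iff.1 (show orderOf a = 1 by rw [hm, pow_zero]), one_pow]) haN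
      · rw [hm]; push_cast; exact dvd_pow_self _ (Nat.succ_ne_zero m)
    have h4 := (ZMod.intCast_zmod_eq_zero_iff_dvd _ p).2 (h3.trans h2)
    refine (ZMod.intCast_zmod_eq_zero_iff_dvd _ p).1 ?_
    push_cast at h4 ⊢
    rwa [ZMod.pow_card_pow] at h4
  have hcz : ∀ x y : G, ⁅q y, q x⁆ ∈ Subgroup.center (G ⧸ R) ∧ ⁅q y, q x⁆ ^ p = 1 := by
    intro x y
    have hm : ⁅y, x⁆ ∈ commutator G :=
      Subgroup.commutator_mem_commutator (Subgroup.mem_top y) (Subgroup.mem_top x)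
    rw [hcomm] at hm
    obtain ⟨k, hk⟩ := Subgroup.mem_zpowers_iff.1 hm
    rw [← map_commutatorElement, ← hk, map_zpow]
    refine ⟨Subgroup.zpow_mem _ (Subgroup.mem_center_iff.2 fun g => ?_) k, ?_⟩
    · obtain ⟨g, rfl⟩ := QuotientGroup.mk'_surjective R g
      obtain ⟨s, hs, t, ht⟩ := hconj g
      rw [← mul_inv_eq_iff_eq_mul, ← map_inv, ← map_mul, ← map_mul, ← mul_inv_eq_one, ← map_inv,
        ← map_mul]
      refine (QuotientGroup.eq_one_iff _).2 (Subgroup.mem_zpowers_iff.2 ⟨t, ?_⟩)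
      rw [← _root_.conj_pow, hs, ← zpow_natCast, ← zpow_natCast, ← zpow_natCast, ← zpow_mul, ← zpow_mul,
        ← zpow_sub]
      congr 1
      push_cast
      linear_combination (-(N : ℤ)) * ht
    · rw [← zpow_natCast, ← zpow_mul, mul_comm, zpow_mul, zpow_natCast, ← map_pow, ← pow_mul,
        show q (a ^ (N * p)) = 1 from (QuotientGroup.eq_one_iff _).2 (Subgroup.mem_zpowers _),
        one_zpow]
  have hpN : p ∣ N.choose 2 := by
    have hodd : Odd N := (hp.out.odd_of_ne_two hp2).pow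
    rw [Nat.choose_two_right]
    obtain ⟨c, hc⟩ := hodd
    rw [show N * (N - 1) / 2 = N * c by
      rw [hc, show 2 * c + 1 - 1 = 2 * c by omega, mul_left_comm, Nat.mul_div_cancel_left _ two_pos]]
    exact Dvd.dvd.mul_right (dvd_pow_self p (by omega)) _
  let φ : G →* G ⧸ R := MonoidHom.mk' (fun x => q x ^ N) fun x y => by
    obtain ⟨k, hk⟩ := hpN
    show q (x * y) ^ N = q x ^ N * q y ^ N
    rw [map_mul, mul_pow_of_central (hcz x y).1, hk, pow_mul, (hcz x y).2, one_pow, mul_one]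
  have hφ : ∀ x : G, φ x = 1 ↔ x ^ N ∈ R := fun x => by
    show q x ^ N = 1 ↔ _
    rw [← map_pow]; exact QuotientGroup.eq_one_iff _
  have hRinv : ∀ (α : MulAut G), ∀ x ∈ R, α x ∈ R := by
    intro α x hx
    obtain ⟨k, rfl⟩ := Subgroup.mem_zpowers_iff.1 hx
    rw [map_zpow, pow_mul, map_pow]
    refine Subgroup.zpow_mem _ ?_ k
    have hm : α (a ^ N) ∈ commutator G :=
      (Subgroup.characteristic_iff_le_comap.1 (inferInstance : (commutator G).Characteristic) α)
        (hcomm ▸ Subgroup.mem_zpowers _)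
    rw [hcomm] at hm
    obtain ⟨t, ht⟩ := Subgroup.mem_zpowers_iff.1 hm
    refine Subgroup.mem_zpowers_iff.2 ⟨t, ?_⟩
    rw [← ht, ← zpow_natCast ((a ^ N) ^ t) p, ← zpow_mul, mul_comm t, zpow_mul, zpow_natCast,
      ← pow_mul]
  have hker : commutator G ≤ φ.ker := by
    rw [hcomm, Subgroup.zpowers_le, MonoidHom.mem_ker, hφ]
    obtain ⟨c, hc⟩ : p ∣ N := dvd_pow_self p (by omega)
    refine Subgroup.mem_zpowers_iff.2 ⟨c, ?_⟩
    rw [zpow_natCast, ← pow_mul, ← pow_mul]
    congr 1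
    rw [mul_assoc, ← hc]
  refine ⟨φ.ker.map π, fun α y hy => ?_, fun y => ?_, fun h => ?_, ?_⟩
  · obtain ⟨x, hx, rfl⟩ := hy
    refine ⟨α x, MonoidHom.mem_ker.2 ((hφ _).2 ?_), (Abelianization.map_of α.toMonoidHom x).symm⟩
    rw [← map_pow]
    exact hRinv α _ ((hφ x).1 hx)
  · obtain ⟨x, rfl⟩ := exists_of y
    refine ⟨x ^ p, MonoidHom.mem_ker.2 ((hφ _).2 ?_), map_pow π x p⟩
    have h1 : x ^ N ∈ commutator G := by
      rw [← Abelianization.ker_of, MonoidHom.mem_ker, map_pow]; exact hexp _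
    rw [hcomm] at h1
    obtain ⟨k, hk⟩ := Subgroup.mem_zpowers_iff.1 h1
    refine Subgroup.mem_zpowers_iff.2 ⟨k, ?_⟩
    rw [← pow_mul, mul_comm p, pow_mul x, ← hk, ← zpow_natCast ((a ^ N) ^ k) p, ← zpow_mul,
      mul_comm k, zpow_mul, zpow_natCast, ← pow_mul]
  · obtain ⟨x, hx, hxa⟩ := (h ▸ Subgroup.mem_top (π a) : π a ∈ φ.ker.map π)
    have hxa' : x⁻¹ * a ∈ φ.ker := hker (by
      rw [← Abelianization.ker_of, MonoidHom.mem_ker, map_mul, map_inv, hxa, inv_mul_cancel])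
    have ha : a ∈ φ.ker := by simpa using φ.ker.mul_mem hx hxa'
    obtain ⟨k, hk⟩ := Subgroup.mem_zpowers_iff.1 ((hφ a).1 ha)
    refine haN ?_
    have h1 : (a ^ N) ^ (1 - (p : ℤ) * k) = 1 := by
      rw [zpow_sub, zpow_one, zpow_mul, zpow_natCast, ← pow_mul, hk, mul_inv_cancel]
    rw [← orderOf_eq_one_iff]
    obtain ⟨m, hm⟩ := IsPGroup.iff_orderOf.1 hG (a ^ N)
    rcases m with - | m
    · rw [hm, pow_zero]
    · exfalso
      rw [← orderOf_dvd_iff_zpow_eq_one, hm] at h1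
      push_cast at h1
      have h2 := dvd_trans (dvd_pow_self (p : ℤ) (Nat.succ_ne_zero m)) h1
      have h3 : (p : ℤ) ∣ 1 := (dvd_sub_left (dvd_mul_right _ k)).1 h2
      exact not_int_dvd_one h3
  · have h1 : b ^ N ∈ commutator G := by
      rw [← Abelianization.ker_of, MonoidHom.mem_ker, map_pow]; exact hexp _
    rw [hcomm] at h1
    obtain ⟨k, hk⟩ := Subgroup.mem_zpowers_iff.1 h1
    refine ⟨π (b * a ^ (-k)), ⟨_, MonoidHom.mem_ker.2 ?_, rfl⟩, fun y hy => ?_⟩
    · rw [map_mul]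
      show q b ^ N * q (a ^ (-k)) ^ N = 1
      rw [← map_pow, ← map_pow, ← map_mul, ← hk, ← zpow_natCast (a ^ (-k)), ← zpow_natCast a N,
        ← zpow_mul, ← zpow_mul, ← zpow_add, show (N : ℤ) * k + -k * N = 0 by ring, zpow_zero,
        map_one]
    · have h2 := (dvd_of_mem_pow hG H hnc (i := -k) (j := 1) (y := y) (by
        rw [← hy, map_mul, map_zpow, zpow_one, mul_comm])).2
      exact not_int_dvd_one h2

/-- The characteristic series. -/
theorem cycSeries_top (hG : IsPGroup p G) (hp2 : p ≠ 2) (hm : Cfsg.IsMetacyclic G)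
    (hnc : ¬ IsCyclic G)
    (hhom : ¬ ∃ n : ℕ, 0 < n ∧
      Nonempty (G ≃* Multiplicative (ZMod (p ^ n)) × Multiplicative (ZMod (p ^ n)))) :
    CycSeries (fun U : Subgroup G => U.Characteristic) ⊤ := by
  obtain ⟨a, b, H⟩ := exists_metaGen hm
  obtain ⟨B, hBinv, hpB, hBne, w, hwB, hw⟩ := exists_inv_between hG hp2 H hnc hhom
  have hgen : ∀ y : Abelianization G, ∃ r s : ℤ, y = π a ^ r * π b ^ s := by
    intro y
    obtain ⟨x, rfl⟩ := exists_of y
    obtain ⟨r, s, rfl⟩ := H.gen x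
    exact ⟨r, s, by rw [map_mul, map_zpow, map_zpow]⟩
  obtain ⟨g, l, hl, hg', hl'⟩ : ∃ g l : G, π l ∈ B ∧
      (∀ y : Abelianization G, ∃ t : ℤ, ∃ v ∈ B, y = π g ^ t * v) ∧
      ∀ y ∈ B, ∃ (t : ℤ) (z : Abelianization G), y = π l ^ t * z ^ p := by
    obtain ⟨i, j, rfl⟩ := hgen w
    by_cases hi : (p : ℤ) ∣ i
    · have hj : ¬ (p : ℤ) ∣ j := by
        rintro ⟨j', rfl⟩
        obtain ⟨i', rfl⟩ := hi
        refine hw (π a ^ i' * π b ^ j') ?_
        rw [mul_pow, ← zpow_natCast, ← zpow_natCast (π b ^ j'), ← zpow_mul, ← zpow_mul,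
          mul_comm i', mul_comm j']
      have := exists_split (a := π b) (b := π a)
        (fun y => by obtain ⟨r, s, h⟩ := hgen y; exact ⟨s, r, h.trans (mul_comm _ _)⟩) hpB hBne
        (i := j) (j := i) hj (by rwa [mul_comm])
      refine ⟨a, b ^ j * a ^ i, by rwa [map_mul, map_zpow, map_zpow, mul_comm], this.1, ?_⟩
      rw [map_mul, map_zpow, map_zpow]
      exact this.2
    · have := exists_split hgen hpB hBne hi hwB
      refine ⟨b, a ^ i * b ^ j, by rwa [map_mul, map_zpow, map_zpow], this.1, ?_⟩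
      rw [map_mul, map_zpow, map_zpow]
      exact this.2
  obtain ⟨e, he⟩ := IsPGroup.iff_card.1 hG
  have hexp : ∀ x : G, π x ^ p ^ e = 1 := fun x => by rw [← map_pow, ← he, pow_card_eq_one', map_one]
  have hbase : CycSeries (fun U : Subgroup G => U.Characteristic)
      (powSub (⊤ : Subgroup (Abelianization G)) (p ^ e)) := by
    refine CycSeries.bot.step' ⁅b, a⁆ ?_ (powSub_characteristic inv_top _)
    rw [bot_sup_eq, ← H.commutator_eq, ← Abelianization.ker_of]
    ext x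
    rw [mem_powSub, MonoidHom.mem_ker]
    refine ⟨?_, fun h => ⟨1, trivial, by rw [one_pow, h]⟩⟩
    rintro ⟨y, -, hy⟩
    obtain ⟨z, rfl⟩ := exists_of y
    rw [← hy]; exact hexp z
  have hmain : ∀ k ≤ e, CycSeries (fun U : Subgroup G => U.Characteristic)
      (powSub (⊤ : Subgroup (Abelianization G)) (p ^ (e - k))) := by
    intro k
    induction k with
    | zero => intro _; simpa using hbase
    | succ k ih =>
      intro hk
      obtain ⟨i, hi⟩ : ∃ i, e - k = i + 1 := ⟨e - k - 1, by omega⟩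
      have hi' : e - (k + 1) = i := by omega
      rw [hi']
      have h1 := ih (by omega)
      rw [hi] at h1
      have h2 := h1.step' (l ^ p ^ i) (powSub_eq_sup (B := B) (C := ⊤) (n := p ^ i)
        (m := p ^ (i + 1)) (g := l)
        (fun y _ => ⟨y ^ p, hpB y, by rw [← pow_mul, ← pow_succ']⟩) hl fun y hy => ?_)
        (powSub_characteristic hBinv _)
      · refine h2.step' (g ^ p ^ i) (powSub_eq_sup (fun y _ => ⟨y, trivial, rfl⟩) trivial
          fun y _ => ?_) (powSub_characteristic inv_top _)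
        obtain ⟨t, v, hv, rfl⟩ := hg' y
        exact ⟨t, v, hv, by rw [mul_pow, ← zpow_natCast, ← zpow_mul, mul_comm t, zpow_mul,
          zpow_natCast]⟩
      · obtain ⟨t, z, rfl⟩ := hl' y hy
        exact ⟨t, z, trivial, by rw [mul_pow, ← zpow_natCast, ← zpow_mul, mul_comm t, zpow_mul,
          zpow_natCast, ← pow_mul, ← pow_succ']⟩
  have htop := hmain e le_rfl
  rw [Nat.sub_self, pow_zero] at htop
  rwa [show powSub (⊤ : Subgroup (Abelianization G)) 1 = ⊤ from
    eq_top_iff.2 fun x _ => mem_powSub.2 ⟨π x, trivial, pow_one _⟩] at htop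

end Cfsg.Agent.PGroup.MetacyclicSeries
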