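import Cfsg.Agent.Lib.PGroup.AlperinOmega
import Cfsg.Agent.S1337
import Cfsg.Agent.Lib.Coprime.Basic

/-!
# An odd `p`-group of rank at least 4 has a normal elementary abelian subgroup of order at least `p⁴`
-/

set_option autoImplicit false

namespace Cfsg.Agent.PGroup

open scoped commutatorElement

universe u

variable {G : Type u} [Group G] [Finite G] {p : ℕ} [hp : Fact p.Prime]

/-- An elementary abelian group of order `≥ p^k` has a subgroup of order exactly `p^k` above a given smaller one. -/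
theorem exists_elementary_card (hG : IsPGroup p G) {U E : Subgroup G} (hE : IsElementaryAbelian p E)
    (hUE : U ≤ E) (k : ℕ) (hU : Nat.card ↥U ≤ p ^ k) (hk : p ^ k ≤ Nat.card ↥E) :
    ∃ E' : Subgroup G, U ≤ E' ∧ IsElementaryAbelian p E' ∧ Nat.card ↥E' = p ^ k := by
  have hnor : ∀ M : Subgroup ↥E, M.Normal := fun M => ⟨fun a ha g => by
    have h : g * a = a * g := hE.1.is_comm.comm g a
    rwa [h, mul_inv_cancel_right]⟩
  haveI := hnor (U.subgroupOf E)
  obtain ⟨L, -, h1, -, h2⟩ := exists_normal_card_between (hG.to_subgroup E) (U.subgroupOf E) ⊤ le_top k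
    (by rw [Nat.card_congr (Subgroup.subgroupOfEquivOfLe hUE).toEquiv]; exact hU)
    (by rw [Subgroup.card_top]; exact hk)
  refine ⟨L.map E.subtype, fun u hu => ⟨⟨u, hUE hu⟩, h1 hu, rfl⟩,
    isElementaryAbelian_mono hE (Subgroup.map_subtype_le L), ?_⟩
  rw [Subgroup.card_map_of_injective E.subtype_injective, h2]

/-- **Normal rank four.** -/
theorem exists_normal_elementary_card_ge_four (hG : IsPGroup p G) (h2 : p ≠ 2)
    (hrk : ¬ Cfsg.PRankLE p 3 G) :
    ∃ N : Subgroup G, N.Normal ∧ IsElementaryAbelian p N ∧ p ^ 4 ≤ Nat.card ↥N := by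
  by_contra hno
  push Not at hno
  rw [Cfsg.PRankLE] at hrk
  push Not at hrk
  obtain ⟨E₀, hE₀c, hE₀p, hE₀card⟩ := hrk
  have hpow : ∀ {a b : ℕ}, p ^ a < p ^ b → a < b := fun h => (Nat.pow_lt_pow_iff_right hp.out.one_lt).mp h
  have hpow' : ∀ {a b : ℕ}, p ^ a ≤ p ^ b → a ≤ b := fun h => (Nat.pow_le_pow_iff_right hp.out.one_lt).mp h
  have hrk2 : ¬ Cfsg.PRankLE p 2 G := fun h => by
    have h1 := h E₀ hE₀c hE₀p
    have h2' : p ^ 2 ≤ p ^ 3 := Nat.pow_le_pow_right hp.out.pos (by omega)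
    omega
  obtain ⟨U, hUn, hU, hUc⟩ := S1337.exists_normal_sq hG hrk2
  -- an elementary abelian subgroup of order `p⁴` through `U`
  have hjoin : ∀ F : Subgroup G, IsElementaryAbelian p F → p ^ 4 ≤ Nat.card ↥F →
      ∃ E : Subgroup G, U ≤ E ∧ IsElementaryAbelian p E ∧ Nat.card ↥E = p ^ 4 := by
    intro F hF hFc
    by_cases hUF : U ≤ F
    · exact exists_elementary_card hG hF hUF 4
        (hUc ▸ Nat.pow_le_pow_right hp.out.pos (by omega)) hFc
    have hE' := isElementaryAbelian_sup hU (isElementaryAbelian_mono hF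
      (inf_le_left : F ⊓ Subgroup.centralizer (U : Set G) ≤ F))
      (fun a ha b hb => Subgroup.mem_centralizer_iff.mp hb.2 a ha)
    refine exists_elementary_card hG hE' le_sup_left 4
      (hUc ▸ Nat.pow_le_pow_right hp.out.pos (by omega)) ?_
    have hlt : F ⊓ Subgroup.centralizer (U : Set G) < U ⊔ F ⊓ Subgroup.centralizer (U : Set G) :=
      right_lt_sup.mpr fun h => hUF (h.trans inf_le_left)
    obtain ⟨a, ha⟩ := card_eq_pow hG F
    obtain ⟨b, hb⟩ := card_eq_pow hG (F ⊓ Subgroup.centralizer (U : Set G))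
    obtain ⟨c, hc⟩ := card_eq_pow hG (U ⊔ F ⊓ Subgroup.centralizer (U : Set G))
    have h1 := S1337.card_le_mul_inf_centralizer hG U hUc F
    have h3 : Nat.card ↥(F ⊓ Subgroup.centralizer (U : Set G)) <
        Nat.card ↥(U ⊔ F ⊓ Subgroup.centralizer (U : Set G)) :=
      lt_of_le_of_ne (Subgroup.card_le_of_le hlt.le)
        fun h => hlt.ne (Subgroup.eq_of_le_of_card_ge hlt.le h.ge)
    rw [ha, hb, ← pow_succ'] at h1
    rw [hb, hc] at h3
    rw [ha] at hFc
    rw [hc]
    have := hpow' h1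
    have := hpow h3
    have := hpow' hFc
    exact Nat.pow_le_pow_right hp.out.pos (by omega)
  -- a maximal normal elementary abelian `V ⊇ U`
  obtain ⟨V, hV⟩ := (Set.toFinite {V : Subgroup G | U ≤ V ∧ V.Normal ∧ IsElementaryAbelian p V}).exists_maximal
    ⟨U, le_rfl, hUn, hU⟩
  obtain ⟨hUV, hVn, hVel⟩ := hV.1
  have hmax : ∀ W : Subgroup G, W.Normal → IsElementaryAbelian p W → V ≤ W → W = V := fun W hW hW' hle =>
    le_antisymm (hV.2 ⟨hUV.trans hle, hW, hW'⟩ hle) hle
  have hcent : ∀ {g : G}, g ∈ Subgroup.centralizer (V : Set G) → g ^ p = 1 → g ∈ V := fun hg hgp =>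
    mem_of_pow_eq_one_of_mem_centralizer hG h2 hVel hmax hg hgp
  obtain ⟨v', hVc⟩ := card_eq_pow hG V
  have hv3 : v' < 4 := hpow (hVc ▸ hno V hVn hVel)
  have hv2 : 2 ≤ v' := hpow' (by rw [← hUc, ← hVc]; exact Subgroup.card_le_of_le hUV)
  obtain ⟨E, hUE, hE, hEc⟩ := hjoin E₀ ⟨hE₀c, hE₀p⟩ (by
    obtain ⟨a, ha⟩ := card_eq_pow hG E₀
    rw [ha] at hE₀card ⊢
    exact Nat.pow_le_pow_right hp.out.pos (hpow hE₀card))
  have hEU : ∀ {F : Subgroup G}, IsElementaryAbelian p F → U ≤ F → F ≤ Subgroup.centralizer (U : Set G) :=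
    fun hF hle f hf u hu => mul_comm_of_elementaryAbelian hF (hle hu) hf
  -- `V = U⟨v⟩` of order `p³`
  obtain ⟨v, hvV, hvU⟩ : ∃ v ∈ V, v ∉ U := by
    by_contra hh
    push Not at hh
    obtain rfl : V = U := le_antisymm hh hUV
    have hle : E ≤ V := fun g hg => hcent (hEU hE hUE hg) (hE.2 g hg)
    have h1 := Subgroup.card_le_of_le hle
    rw [hEc, hUc] at h1
    have := hpow' h1
    omega
  have hv : v' = 3 := by
    by_contra hne
    have : Nat.card ↥U = Nat.card ↥V := by rw [hUc, hVc, show v' = 2 by omega]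
    exact hvU (Subgroup.eq_of_le_of_card_ge hUV this.ge ▸ hvV)
  subst hv
  set C := Subgroup.centralizer (U : Set G) with hC
  have hvC : v ∈ C := hEU hVel hUV hvV
  have hVgen : U ⊔ Subgroup.zpowers v = V := by
    refine Subgroup.eq_of_le_of_card_ge (sup_le hUV (Subgroup.zpowers_le.mpr hvV)) ?_
    rw [card_sup_zpowers U hvU (by rw [hVel.2 v hvV]; exact one_mem _), hUc, hVc, pow_succ]
  have hφU : ∀ g : G, ⁅g, v⁆ ∈ U := by
    intro g
    have hlt : ⁅V, (⊤ : Subgroup G)⁆ ⊔ U ≤ V :=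
      sup_le (Subgroup.commutator_le_left _ _) hUV
    have hK : (⁅V, (⊤ : Subgroup G)⁆ ⊔ U) = U := by
      by_contra hne
      have hU' : U < ⁅V, (⊤ : Subgroup G)⁆ ⊔ U := lt_of_le_of_ne le_sup_right (Ne.symm hne)
      have heqV : ⁅V, (⊤ : Subgroup G)⁆ ⊔ U = V := by
        refine Subgroup.eq_of_le_of_card_ge hlt ?_
        rw [hVc]
        obtain ⟨c, hc⟩ := card_eq_pow hG (⁅V, (⊤ : Subgroup G)⁆ ⊔ U)
        rw [hc]
        refine Nat.pow_le_pow_right hp.out.pos ?_
        have h1 := Subgroup.card_le_of_le hU'.le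
        have h3 : Nat.card ↥U ≠ Nat.card ↥(⁅V, (⊤ : Subgroup G)⁆ ⊔ U) := fun h =>
          hU'.ne (Subgroup.eq_of_le_of_card_ge hU'.le h.ge)
        rw [hUc, hc] at h1 h3
        have h4 := hpow' h1
        have h5 : c ≠ 2 := fun h => h3 (by rw [h])
        omega
      -- `[V,G] ≤ U` as `V/U` has order `p`
      have : (V.map (QuotientGroup.mk' U)).Normal :=
        hVn.map _ (QuotientGroup.mk'_surjective U)
      have hcard : Nat.card ↥(V.map (QuotientGroup.mk' U)) = p := by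
        have h1 := Subgroup.card_mul_index (U.subgroupOf V)
        have h2' : Nat.card ↥(V.map (QuotientGroup.mk' U)) = (U.subgroupOf V).index := by
          rw [show V.map (QuotientGroup.mk' U) = ((QuotientGroup.mk' U).comp V.subtype).range by
            rw [MonoidHom.range_comp, Subgroup.range_subtype], ← Subgroup.index_ker]
          congr 1
          ext a
          simp [Subgroup.mem_subgroupOf]
        rw [h2']
        rw [Nat.card_congr (Subgroup.subgroupOfEquivOfLe hUV).toEquiv, hUc, hVc, pow_succ p 2] at h1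
        exact Nat.eq_of_mul_eq_mul_left (pow_pos hp.out.pos _) h1
      have hc := le_center_of_card_eq (hG.to_quotient U) _ hcard
      have : ⁅V, (⊤ : Subgroup G)⁆ ≤ U := by
        rw [Subgroup.commutator_le]
        intro a ha b _
        rw [← QuotientGroup.eq_one_iff, ← QuotientGroup.mk'_apply, map_commutatorElement,
          commutatorElement_eq_one_iff_mul_comm]
        exact (Subgroup.mem_center_iff.mp (hc (Subgroup.mem_map_of_mem _ ha)) _).symm
      exact hne (sup_eq_right.mpr this)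
    rw [← hK, ← inv_mem_iff, commutatorElement_inv]
    exact Subgroup.mem_sup_left (Subgroup.commutator_mem_commutator hvV (Subgroup.mem_top g))
  have hconjv : ∀ g, g * v * g⁻¹ = ⁅g, v⁆ * v := fun g => by
    rw [commutatorElement_def, inv_mul_cancel_right]
  -- the homomorphism `g ↦ ⁅g, v⁆` on `C(U)`
  let φ : ↥C →* ↥U :=
    { toFun := fun g => ⟨⁅(g : G), v⁆, hφU g⟩
      map_one' := Subtype.ext (commutatorElement_one_left v)
      map_mul' := fun g h => Subtype.ext (by
        show ⁅(g : G) * h, v⁆ = ⁅(g : G), v⁆ * ⁅(h : G), v⁆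
        have h1 : (g : G) * ⁅(h : G), v⁆ * (g : G)⁻¹ = ⁅(h : G), v⁆ := by
          rw [← Subgroup.mem_centralizer_iff.mp g.2 _ (hφU h), mul_inv_cancel_right]
        have h3 : ⁅(g : G) * h, v⁆ * v = ⁅(h : G), v⁆ * (⁅(g : G), v⁆ * v) := by
          rw [← hconjv ((g : G) * h), ← hconjv (g : G)]
          calc (g : G) * h * v * ((g : G) * h)⁻¹ = (g : G) * ((h : G) * v * (h : G)⁻¹) * (g : G)⁻¹ := by group
            _ = (g : G) * (⁅(h : G), v⁆ * v) * (g : G)⁻¹ := by rw [hconjv (h : G)]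
            _ = (g : G) * ⁅(h : G), v⁆ * (g : G)⁻¹ * ((g : G) * v * (g : G)⁻¹) := by group
            _ = _ := by rw [h1]
        rw [← mul_assoc, mul_comm_of_elementaryAbelian hU (hφU h) (hφU g)] at h3
        exact mul_right_cancel h3) }
  have hker : ∀ g : ↥C, φ g = 1 → (g : G) ∈ Subgroup.centralizer (V : Set G) := by
    intro g hg
    have hg' : ⁅(g : G), v⁆ = 1 := congrArg Subtype.val hg
    have hle : V ≤ Subgroup.centralizer ({(g : G)} : Set G) := by
      rw [← hVgen]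
      exact sup_le (fun u hu => Subgroup.mem_centralizer_singleton_iff.mpr
          (Subgroup.mem_centralizer_iff.mp g.2 u hu))
        (Subgroup.zpowers_le.mpr (Subgroup.mem_centralizer_singleton_iff.mpr
          (commutatorElement_eq_one_iff_mul_comm.mp hg').symm))
    intro a ha
    exact Subgroup.mem_centralizer_singleton_iff.mp (hle ha)
  -- `⁅·, v⁆` maps such subgroups onto `U`
  have hsurj : ∀ F : Subgroup G, U ≤ F → IsElementaryAbelian p F → Nat.card ↥F = p ^ 4 →
      ∀ u ∈ U, ∃ f ∈ F, ⁅f, v⁆ = u := by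
    intro F hUF hF hFc
    let ψ : ↥F →* ↥U := φ.comp (Subgroup.inclusion (hEU hF hUF))
    have hψ : ψ.ker ≤ U.subgroupOf F := by
      intro f hf
      have hfV : (f : G) ∈ V := hcent (hker _ (MonoidHom.mem_ker.mp hf)) (hF.2 _ f.2)
      rw [Subgroup.mem_subgroupOf]
      by_contra hfU
      have hle : V ≤ F := by
        have heq : U ⊔ Subgroup.zpowers (f : G) = V := by
          refine Subgroup.eq_of_le_of_card_ge (sup_le hUV (Subgroup.zpowers_le.mpr hfV)) ?_
          rw [card_sup_zpowers U hfU (by rw [hF.2 _ f.2]; exact one_mem _), hUc, hVc, pow_succ]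
        rw [← heq]
        exact sup_le hUF (Subgroup.zpowers_le.mpr f.2)
      have : F ≤ V := fun g hg =>
        hcent (fun a ha => mul_comm_of_elementaryAbelian hF (hle ha) hg) (hF.2 g hg)
      have h1 := Subgroup.card_le_of_le this
      rw [hFc, hVc] at h1
      have := hpow' h1
      omega
    have hk : Nat.card ↥ψ.ker ≤ p ^ 2 := by
      refine le_trans (Subgroup.card_le_of_le hψ) ?_
      rw [Nat.card_congr (Subgroup.subgroupOfEquivOfLe hUF).toEquiv, hUc]
    have h1 := Subgroup.card_mul_index ψ.ker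
    rw [Subgroup.index_ker, hFc] at h1
    have hr : ψ.range = ⊤ := by
      refine Subgroup.eq_top_of_le_card _ ?_
      rw [hUc]
      refine Nat.le_of_mul_le_mul_left ?_ (pow_pos hp.out.pos 2)
      rw [← pow_add, ← h1]
      exact Nat.mul_le_mul_right _ hk
    intro u hu
    obtain ⟨f, hf⟩ : (⟨u, hu⟩ : ↥U) ∈ ψ.range := hr ▸ Subgroup.mem_top _
    exact ⟨f, f.2, congrArg Subtype.val hf⟩
  -- `E` is not normal: take a conjugate in its normalizer
  have hEn : ¬ E.Normal := fun h => by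
    have := hno E h hE
    rw [hEc] at this
    exact lt_irrefl _ this
  have hN : Subgroup.normalizer (E : Set G) < ⊤ :=
    lt_top_iff_ne_top.mpr fun h => hEn (Subgroup.normalizer_eq_top_iff.mp h)
  obtain ⟨g, hgNN, hgN⟩ := SetLike.exists_of_lt (lt_normalizer hG hN.ne)
  set E' := E.map (MulAut.conj g).toMonoidHom with hE'def
  have hE' : IsElementaryAbelian p E' := isElementaryAbelian_map hE _
  have hE'c : Nat.card ↥E' = p ^ 4 := by
    rw [hE'def, Subgroup.card_map_of_injective (MulAut.conj g).injective, hEc]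
  have hUE' : U ≤ E' := fun u hu => ⟨g⁻¹ * u * g, hUE (by simpa using hUn.conj_mem u hu g⁻¹), by
    simp only [MulEquiv.coe_toMonoidHom, MulAut.conj_apply]; group⟩
  have hE'N : E' ≤ Subgroup.normalizer (E : Set G) := by
    rintro _ ⟨e, he, rfl⟩
    exact (Subgroup.mem_normalizer_iff.mp hgNN e).mp (Subgroup.le_normalizer he)
  have hEN' : E ≤ Subgroup.normalizer (E' : Set G) := by
    intro e he
    have h1 : g⁻¹ * e * g ∈ Subgroup.normalizer (E : Set G) :=
      (Subgroup.mem_normalizer_iff''.mp hgNN e).mp (Subgroup.le_normalizer he)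
    rw [Subgroup.mem_normalizer_iff]
    intro a
    rw [hE'def, Subgroup.mem_map_equiv, Subgroup.mem_map_equiv, MulAut.conj_symm_apply,
      MulAut.conj_symm_apply, Subgroup.mem_normalizer_iff.mp h1 (g⁻¹ * a * g),
      show g⁻¹ * e * g * (g⁻¹ * a * g) * (g⁻¹ * e * g)⁻¹ = g⁻¹ * (e * a * e⁻¹) * g by group]
  obtain ⟨e', he', he'E⟩ : ∃ e' ∈ E', e' ∉ E := by
    by_contra hh
    push Not at hh
    have hEE : E' = E := Subgroup.eq_of_le_of_card_ge hh (by rw [hE'c, hEc])
    refine hgN (Subgroup.mem_normalizer_iff.mpr fun a => ?_)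
    constructor
    · intro ha
      have : MulAut.conj g a ∈ E' := ⟨a, ha, rfl⟩
      rw [hEE] at this
      exact this
    · intro ha
      have : g * a * g⁻¹ ∈ E' := hEE.symm ▸ ha
      rwa [hE'def, Subgroup.mem_map_equiv, MulAut.conj_symm_apply,
        show g⁻¹ * (g * a * g⁻¹) * g = a by group] at this
  -- elements with the same image differ by an element of `V`
  have hdiff : ∀ f' ∈ E', ∀ f ∈ E, ⁅f, v⁆ = ⁅f', v⁆ → ∃ c ∈ V, f' = f * c := by
    intro f' hf' f hf he
    refine ⟨f⁻¹ * f', ?_, by group⟩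
    have hmem : f⁻¹ * f' ∈ C := mul_mem (inv_mem (hEU hE hUE hf)) (hEU hE' hUE' hf')
    refine hcent (hker ⟨_, hmem⟩ ?_) ?_
    · have h1 : φ ⟨f, hEU hE hUE hf⟩ = φ ⟨f', hEU hE' hUE' hf'⟩ := Subtype.ext he
      rw [show (⟨_, hmem⟩ : ↥C) = (⟨f, hEU hE hUE hf⟩ : ↥C)⁻¹ * ⟨f', hEU hE' hUE' hf'⟩ from rfl,
        map_mul, map_inv, h1, inv_mul_cancel]
    · -- class two
      set K := E ⊔ E' with hK
      have hfK : f⁻¹ ∈ K := Subgroup.mem_sup_left (inv_mem hf)
      have hfK' : f' ∈ K := Subgroup.mem_sup_right hf'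
      have hcomE : ⁅f', f⁻¹⁆ ∈ E :=
        mul_mem ((Subgroup.mem_normalizer_iff.mp (hE'N hf') _).mp (inv_mem hf)) (inv_mem (inv_mem hf))
      have hcomE' : ⁅f', f⁻¹⁆ ∈ E' := by
        rw [commutatorElement_def, mul_assoc, mul_assoc]
        refine mul_mem hf' ?_
        rw [← mul_assoc]
        exact (Subgroup.mem_normalizer_iff.mp (hEN' (inv_mem hf)) _).mp (inv_mem hf')
      have hcen : ⁅(⟨f', hfK'⟩ : ↥K), (⟨f⁻¹, hfK⟩ : ↥K)⁆ ∈ Subgroup.center ↥K := by
        refine Subgroup.mem_center_iff.mpr fun w => Subtype.ext ?_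
        have hle : K ≤ Subgroup.centralizer ({⁅f', f⁻¹⁆} : Set G) :=
          sup_le (fun a ha => Subgroup.mem_centralizer_singleton_iff.mpr
              (mul_comm_of_elementaryAbelian hE ha hcomE))
            (fun a ha => Subgroup.mem_centralizer_singleton_iff.mpr
              (mul_comm_of_elementaryAbelian hE' ha hcomE'))
        exact Subgroup.mem_centralizer_singleton_iff.mp (hle w.2)
      have h := mul_pow_prime hp.out h2 hcen (Subtype.ext (hE.2 _ hcomE))
      have h' := congrArg (fun w : ↥K => (w : G)) h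
      simpa [hE.2 f hf, hE'.2 f' hf'] using h'
  obtain ⟨e, he, hee⟩ := hsurj E hUE hE hEc _ (hφU e')
  obtain ⟨c, hc, rfl⟩ := hdiff e' he' e he hee
  have hcU : c ∉ U := fun h => he'E (mul_mem he (hUE h))
  -- a second element with independent image
  obtain ⟨u, hu, hu'⟩ : ∃ u ∈ U, u ∉ Subgroup.zpowers ⁅e, v⁆ := by
    by_contra hh
    push Not at hh
    have h1 := Subgroup.card_le_of_le (show U ≤ Subgroup.zpowers ⁅e, v⁆ from hh)
    have h3 : orderOf ⁅e, v⁆ ≤ p := Nat.le_of_dvd hp.out.pos (orderOf_dvd_of_pow_eq_one (hU.2 _ (hφU e)))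
    rw [Nat.card_zpowers, hUc, sq] at h1
    nlinarith [hp.out.two_le]
  obtain ⟨f, hf, rfl⟩ := hsurj E hUE hE hEc u hu
  obtain ⟨f', hf', hff⟩ := hsurj E' hUE' hE' hE'c _ (hφU f)
  obtain ⟨d, hd, rfl⟩ := hdiff f' hf' f hf hff.symm
  -- commutators with elements of `V` are powers of the one with `v`
  have hlin : ∀ x ∈ C, ∀ w ∈ V, ∃ i : ℤ, ⁅x, w⁆ = ⁅x, v⁆ ^ i ∧ (¬ (p : ℤ) ∣ i ∨ w ∈ U) := by
    intro x hx w hw
    rw [← hVgen, sup_comm, Coprime.mem_sup_iff_of_le_normalizer] at hw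
    swap
    · exact Subgroup.normalizer_eq_top_iff.mpr hUn ▸ le_top
    obtain ⟨_, ⟨i, rfl⟩, a, ha, rfl⟩ := hw
    refine ⟨i, ?_, ?_⟩
    · have h1 : x * a * x⁻¹ = a := by rw [← Subgroup.mem_centralizer_iff.mp hx a ha, mul_inv_cancel_right]
      have h3 : x * v ^ i * x⁻¹ = ⁅x, v⁆ ^ i * v ^ i := by
        rw [← conj_zpow, hconjv, (show Commute ⁅x, v⁆ v from mul_comm_of_elementaryAbelian hVel (hUV (hφU x)) hvV).mul_zpow]
      calc ⁅x, v ^ i * a⁆ = x * v ^ i * x⁻¹ * (x * a * x⁻¹) * a⁻¹ * (v ^ i)⁻¹ := by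
            rw [commutatorElement_def]; group
        _ = _ := by rw [h1, h3]; group
    · by_cases hi : (p : ℤ) ∣ i
      · right
        obtain ⟨j, rfl⟩ := hi
        simp only
        rw [zpow_mul, zpow_natCast, hVel.2 v hvV, one_zpow, one_mul]
        exact ha
      · exact Or.inl hi
  obtain ⟨i, hi, hi'⟩ := hlin f⁻¹ (inv_mem (hEU hE hUE hf)) c hc
  obtain ⟨j, hj, -⟩ := hlin e⁻¹ (inv_mem (hEU hE hUE he)) d hd
  have hcom : e * c * (f * d) = f * d * (e * c) := mul_comm_of_elementaryAbelian hE' he' hf'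
  have hkey : ⁅f⁻¹, c⁆ = ⁅e⁻¹, d⁆ := by
    have hef : e * f = f * e := mul_comm_of_elementaryAbelian hE he hf
    have hcd : c * d = d * c := mul_comm_of_elementaryAbelian hVel hc hd
    have h1 : e * f * (⁅f⁻¹, c⁆ * (c * d)) = e * f * (⁅e⁻¹, d⁆ * (d * c)) := by
      calc e * f * (⁅f⁻¹, c⁆ * (c * d)) = e * c * (f * d) := by rw [commutatorElement_def]; group
        _ = f * d * (e * c) := hcom
        _ = f * e * (⁅e⁻¹, d⁆ * (d * c)) := by rw [commutatorElement_def]; group
        _ = _ := by rw [hef]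
    rw [hcd] at h1
    exact mul_right_cancel (mul_left_cancel h1)
  rw [hi, hj] at hkey
  have hinv : ∀ x ∈ C, ⁅x⁻¹, v⁆ = ⁅x, v⁆⁻¹ := fun x hx => congrArg Subtype.val (map_inv φ ⟨x, hx⟩)
  rw [hinv f (hEU hE hUE hf), hinv e (hEU hE hUE he), inv_zpow', inv_zpow'] at hkey
  rcases hi' with hi' | hi'
  · apply hu'
    obtain ⟨a, b, hab⟩ : IsCoprime (i : ℤ) (p : ℤ) :=
      ((Nat.prime_iff_prime_int.mp hp.out).coprime_iff_not_dvd.mpr hi').symm
    have hpi : ⁅f, v⁆ ^ (-i) ∈ Subgroup.zpowers ⁅e, v⁆ := hkey ▸ zpow_mem (Subgroup.mem_zpowers _) _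
    have : ⁅f, v⁆ = (⁅f, v⁆ ^ (-i)) ^ (-a) := by
      rw [← zpow_mul, show -i * -a = 1 - (p : ℤ) * b by linear_combination hab, zpow_sub, zpow_one,
        zpow_mul, zpow_natCast, hU.2 _ (hφU f), one_zpow, inv_one, mul_one]
    rw [this]
    exact zpow_mem hpi _
  · exact hcU hi'

end Cfsg.Agent.PGroup
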