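import Cfsg.Agent.Lib.Coprime.IndexBound

/-!
# Conjugation windows

`P` meets `g⁻¹ P g` in a normal subgroup of prime index `p` of the latter and `g` normalises no
nontrivial normal subgroup of `P`. Then `|P| = p ^ t`, `P = ⟨x 0, …, x (t - 1)⟩` with
`x i = g ^ i x g ^ (-i)`, and the windows `⟨x i, …, x (i + len - 1)⟩`, `len ≤ t`, have order
`p ^ len` (`exists_windows`). With `a` the range of commutation, `3 a ≥ 2 t`
(`Windows.two_mul_le`).
-/

set_option autoImplicit false

open scoped Pointwise commutatorElement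

namespace Cfsg.Agent.ShiftWindows

open Subgroup Coprime

variable {G : Type*} [Group G]

/-- A family of windows for `g` of length at most `t`. -/
structure Windows (g : G) (p t : ℕ) where
  x : ℤ → G
  W : ℤ → ℕ → Subgroup G
  x_shift : ∀ i j : ℤ, g ^ i * x j * (g ^ i)⁻¹ = x (i + j)
  card : ∀ i len, len ≤ t → Nat.card (W i len) = p ^ len
  one : ∀ i, W i 1 = zpowers (x i)
  left_le : ∀ i len, len < t → W i len ≤ W i (len + 1)
  right_le : ∀ i len, len < t → W (i + 1) len ≤ W i (len + 1)
  sup : ∀ i len, 1 ≤ len → len < t → W i (len + 1) = W i len ⊔ W (i + 1) len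

theorem conj_smul_conj_zpow (g : G) (i j : ℤ) (H : Subgroup G) :
    MulAut.conj (g ^ i) • MulAut.conj (g ^ j) • H = MulAut.conj (g ^ (i + j)) • H := by
  rw [smul_smul, ← map_mul, ← zpow_add]

theorem exists_windows [Finite G] (P : Subgroup G) (g : G) {p : ℕ} (hp : p.Prime)
    (hN : ((P ⊓ MulAut.conj g⁻¹ • P).subgroupOf (MulAut.conj g⁻¹ • P)).Normal)
    (hidx : (P ⊓ MulAut.conj g⁻¹ • P).relIndex (MulAut.conj g⁻¹ • P) = p)
    (h1 : ∀ Q : Subgroup G, Q ≤ P → (Q.subgroupOf P).Normal → MulAut.conj g • Q = Q → Q = ⊥) :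
    ∃ t, 1 ≤ t ∧ ∃ w : Windows g p t, w.W 0 t = P := by
  classical
  have hcg : ∀ H : Subgroup G, MulAut.conj g • MulAut.conj g⁻¹ • H = H := fun H => by
    rw [conj_smul_smul, mul_inv_cancel, map_one, one_smul]
  have hcg' : ∀ H : Subgroup G, MulAut.conj g⁻¹ • MulAut.conj g • H = H := fun H => by
    rw [conj_smul_smul, inv_mul_cancel, map_one, one_smul]
  set P' := MulAut.conj g⁻¹ • P with hP'
  set Q := P ⊓ P' with hQ
  have hQn : P' ≤ normalizer (Q : Set G) :=
    (normal_subgroupOf_iff_le_normalizer (inf_le_right : Q ≤ P')).1 hN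
  -- the descending chain
  let R : ℕ → Subgroup G := fun k =>
    Nat.rec (motive := fun _ => Subgroup G) P (fun _ H => P ⊓ MulAut.conj g⁻¹ • H) k
  have R0 : R 0 = P := rfl
  have Rs : ∀ k, R (k + 1) = P ⊓ MulAut.conj g⁻¹ • R k := fun k => rfl
  have RP : ∀ k, R k ≤ P := fun k => by
    cases k with
    | zero => exact le_rfl
    | succ k => exact (Rs k).le.trans inf_le_left
  have Ranti : ∀ k, R (k + 1) ≤ R k := by
    intro k
    induction k with
    | zero => exact RP 1
    | succ k ih =>
      rw [Rs (k + 1), Rs k]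
      exact inf_le_inf_left _ (Subgroup.pointwise_smul_le_pointwise_smul_iff.2 ih)
  have RQ : ∀ k, Q ⊓ MulAut.conj g⁻¹ • R k = R (k + 1) := fun k => by
    rw [Rs, hQ, inf_assoc, inf_eq_right.2 (Subgroup.pointwise_smul_le_pointwise_smul_iff.2 (RP k))]
  have Rpre : ∀ k, MulAut.conj g • R (k + 1) ≤ R k := fun k => by
    rw [Rs]
    exact (Subgroup.pointwise_smul_le_pointwise_smul_iff.2 (inf_le_right : _ ≤ MulAut.conj g⁻¹ • R k)).trans (hcg _).le
  have Ridx : ∀ k, Nat.card (R k) = Nat.card (R (k + 1)) ∨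
      Nat.card (R k) = Nat.card (R (k + 1)) * p := by
    intro k
    set H := MulAut.conj g⁻¹ • R k with hH
    have hHP : H ≤ P' := Subgroup.pointwise_smul_le_pointwise_smul_iff.2 (RP k)
    have h2 : Q.relIndex H ∣ p := by
      rw [← relIndex_sup_right_of_le_normalizer (hHP.trans hQn), ← hidx,
        ← relIndex_mul_relIndex Q (H ⊔ Q) P' le_sup_right (sup_le hHP inf_le_right)]
      exact dvd_mul_right _ _
    have h3 : Nat.card (R k) = Nat.card (R (k + 1)) * Q.relIndex H := by
      rw [← inf_relIndex_right, RQ k,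
        card_mul_relIndex ((RQ k).symm.le.trans inf_le_right), card_conj_smul]
    rcases (Nat.dvd_prime hp).1 h2 with h | h
    · exact Or.inl (by rw [h3, h, mul_one])
    · exact Or.inr (by rw [h3, h])
  -- the chain stabilises
  have hex : ∃ k, R (k + 1) = R k := by
    by_contra hne
    push Not at hne
    have : ∀ k, Nat.card (R k) + k ≤ Nat.card P := by
      intro k
      induction k with
      | zero => exact le_rfl
      | succ k ih =>
        have hlt : Nat.card (R (k + 1)) < Nat.card (R k) :=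
          lt_of_le_of_ne (card_le_of_le (Ranti k))
            fun h => hne k (eq_of_le_of_card_ge (Ranti k) h.ge)
        omega
    have h := this (Nat.card P + 1)
    omega
  set t := Nat.find hex with ht
  have hstab : R (t + 1) = R t := Nat.find_spec hex
  have hlt : ∀ k < t, R (k + 1) ≠ R k := fun k hk => Nat.find_min hex hk
  have hcardstep : ∀ k < t, Nat.card (R k) = Nat.card (R (k + 1)) * p := fun k hk =>
    (Ridx k).resolve_left fun h => hlt k hk (eq_of_le_of_card_ge (Ranti k) h.le)
  have hfix : MulAut.conj g⁻¹ • R t = R t := by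
    have h : R t ≤ MulAut.conj g⁻¹ • R t := hstab.ge.trans ((Rs t).le.trans inf_le_right)
    exact (eq_of_le_of_card_ge h (card_conj_smul _ _).le).symm
  have hfix' : MulAut.conj g • R t = R t := by
    conv_lhs => rw [← hfix]
    rw [hcg]
  have Rsup : ∀ k, k + 1 < t → R k = R (k + 1) ⊔ MulAut.conj g • R (k + 1) := by
    intro k hk
    refine le_antisymm ?_ (sup_le (Ranti k) (Rpre k))
    set S := R (k + 1) ⊔ MulAut.conj g • R (k + 1) with hS
    have hne : ¬ MulAut.conj g • R (k + 1) ≤ R (k + 1) := by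
      intro hle
      have he := eq_of_le_of_card_ge hle (card_conj_smul _ _).ge
      refine hlt (k + 1) hk ?_
      rw [Rs (k + 1)]
      have : MulAut.conj g⁻¹ • R (k + 1) = R (k + 1) := by
        conv_lhs => rw [← he]
        rw [hcg']
      rw [this, inf_eq_right.2 (RP (k + 1))]
    have hSk : S ≤ R k := sup_le (Ranti k) (Rpre k)
    have h4 : (R (k + 1)).relIndex S * S.relIndex (R k) = p := by
      rw [relIndex_mul_relIndex _ _ _ le_sup_left hSk]
      have h5 := card_mul_relIndex (Ranti k)
      rw [hcardstep k (by omega)] at h5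
      exact Nat.eq_of_mul_eq_mul_left Nat.card_pos h5
    rcases (Nat.dvd_prime hp).1 (Dvd.intro _ h4) with h | h
    · exact absurd (le_sup_right.trans (relIndex_eq_one.1 h)) hne
    · rw [h] at h4
      exact relIndex_eq_one.1 (Nat.eq_of_mul_eq_mul_left hp.pos (h4.trans (mul_one p).symm))
  -- the limit is trivial
  have ht1 : 1 ≤ t := by
    rw [Nat.one_le_iff_ne_zero]
    intro h0
    have h2 := hstab
    rw [h0, Rs, R0] at h2
    have hPP : P = P' := eq_of_le_of_card_ge (h2.ge.trans inf_le_right) (card_conj_smul _ _).le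
    rw [hQ, ← hPP, inf_idem, relIndex_self] at hidx
    exact hp.one_lt.ne hidx
  obtain ⟨s, hs⟩ : ∃ s, t = s + 1 := ⟨t - 1, by omega⟩
  have hRbot : R t = ⊥ := by
    set N := normalizer ((R t : Subgroup G) : Set G) with hNdef
    have hNg : ∀ H : Subgroup G, H ≤ N → MulAut.conj g • H ≤ N := by
      intro H hH y hy
      rw [mem_conj_smul_iff] at hy
      have hg : g ∈ N := mem_normalizer_of_conj_smul_eq hfix'
      have := N.mul_mem (N.mul_mem hg (hH hy)) (N.inv_mem hg)
      simpa [mul_assoc] using this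
    have h0 : ∀ d k, k + d = s → R k ≤ N := by
      intro d
      induction d with
      | zero =>
        intro k hk
        obtain rfl : k = s := by omega
        have hn : MulAut.conj g⁻¹ • R k ≤ N := by
          refine LE.le.trans ?_ (le_of_eq (congrArg (fun H : Subgroup G => normalizer (H : Set G))
            ((RQ k).trans (hs ▸ rfl))))
          exact le_normalizer_inf_of_le ((Subgroup.pointwise_smul_le_pointwise_smul_iff.2 (RP k)).trans hQn) le_normalizer
        have := hNg _ hn
        rwa [hcg] at this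
      | succ d ih =>
        intro k hk
        rw [Rsup k (by omega)]
        exact sup_le (ih (k + 1) (by omega)) (hNg _ (ih (k + 1) (by omega)))
    refine h1 (R t) (RP t) ?_ hfix'
    exact Coprime.normal_subgroupOf_of_le_normalizer (R0 ▸ h0 s 0 (by omega))
  have hcard : ∀ d k, k + d = t → Nat.card (R k) = p ^ d := by
    intro d
    induction d with
    | zero =>
      intro k hk
      rw [show k = t by omega, hRbot, Subgroup.card_bot, pow_zero]
    | succ d ih =>
      intro k hk
      rw [hcardstep k (by omega), ih (k + 1) (by omega), pow_succ]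
  obtain ⟨x, hx⟩ : ∃ x, R s = zpowers x := by
    have := Fact.mk hp
    have hc : IsCyclic (R s) := isCyclic_of_prime_card (p := p) (by rw [hcard 1 s (by omega), pow_one])
    exact ((Subgroup.isCyclic_iff_exists_zpowers_eq_top _).1 hc).imp fun _ h => h.symm
  refine ⟨t, ht1,
    { x := fun i => g ^ i * x * (g ^ i)⁻¹
      W := fun i len => MulAut.conj (g ^ i) • R (t - len)
      x_shift := fun i j => by rw [zpow_add, mul_inv_rev]; group
      card := fun i len hlen => by rw [card_conj_smul]; exact hcard len _ (by omega)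
      one := fun i => by
        rw [show t - 1 = s by omega, hx]
        exact (MonoidHom.map_zpowers (MulAut.conj (g ^ i)).toMonoidHom x).trans rfl
      left_le := fun i len hlen => by
        refine Subgroup.pointwise_smul_le_pointwise_smul_iff.2 ?_
        rw [show t - len = t - (len + 1) + 1 by omega]
        exact Ranti _
      right_le := fun i len hlen => by
        rw [← conj_smul_conj_zpow g i 1, zpow_one]
        refine Subgroup.pointwise_smul_le_pointwise_smul_iff.2 ?_
        rw [show t - len = t - (len + 1) + 1 by omega]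
        exact Rpre _
      sup := fun i len h1 h2 => by
        rw [← conj_smul_conj_zpow g i 1, zpow_one, ← Subgroup.smul_sup,
          show t - len = t - (len + 1) + 1 by omega]
        rw [← Rsup _ (by omega)] }, ?_⟩
  show MulAut.conj (g ^ (0 : ℤ)) • R (t - t) = P
  rw [zpow_zero, map_one, one_smul, Nat.sub_self]
  exact R0

namespace Windows

variable {g : G} {p t : ℕ} (w : Windows g p t)

theorem mem {i k : ℤ} {len : ℕ} (hlen : len ≤ t) (h1 : i ≤ k) (h2 : k < i + len) :
    w.x k ∈ w.W i len := by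
  induction len generalizing i with
  | zero => omega
  | succ n ih =>
    rcases Nat.eq_zero_or_pos n with rfl | hn
    · obtain rfl : k = i := by omega
      rw [w.one]
      exact mem_zpowers _
    rcases eq_or_lt_of_le h1 with rfl | h
    · exact w.left_le i n (by omega) (ih (by omega) le_rfl (by omega))
    · exact w.right_le i n (by omega) (ih (by omega) (by omega) (by omega))

theorem bot (i : ℤ) : w.W i 0 = ⊥ :=
  Subgroup.card_eq_one.1 (by rw [w.card i 0 (Nat.zero_le _), pow_zero])

theorem le {i : ℤ} {len : ℕ} (hlen : len ≤ t) {H : Subgroup G}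
    (h : ∀ k : ℤ, i ≤ k → k < i + len → w.x k ∈ H) : w.W i len ≤ H := by
  induction len generalizing i with
  | zero => rw [w.bot]; exact bot_le
  | succ n ih =>
    rcases Nat.eq_zero_or_pos n with rfl | hn
    · rw [w.one, zpowers_le]
      exact h i le_rfl (by omega)
    rw [w.sup i n hn (by omega)]
    exact sup_le (ih (by omega) fun k h1 h2 => h k h1 (by omega))
      (ih (by omega) fun k h1 h2 => h k (by omega) (by omega))

theorem mono {i j : ℤ} {m len : ℕ} (hlen : len ≤ t) (h1 : i ≤ j) (h2 : j + m ≤ i + len) :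
    w.W j m ≤ w.W i len :=
  w.le (by omega) fun k hk1 hk2 => w.mem hlen (by omega) (by omega)

theorem commute_of_forall {i : ℤ} {len : ℕ} (hlen : len ≤ t) {y z : G} (hy : y ∈ w.W i len)
    (h : ∀ k : ℤ, i ≤ k → k < i + len → Commute z (w.x k)) : Commute z y :=
  (mem_centralizer_singleton_iff.1 (w.le (H := centralizer {z}) hlen
    (fun k h1 h2 => mem_centralizer_singleton_iff.2 (h k h1 h2).eq.symm) hy)).symm

theorem pos_x (i : ℤ) (_hp : p.Prime) (ht : 1 ≤ t) : orderOf (w.x i) = p := by
  rw [← Nat.card_zpowers, ← w.one, w.card i 1 ht, pow_one]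

theorem commutator_mem [Finite G] (hp : p.Prime) {i : ℤ} {len : ℕ} (hlen : len + 2 ≤ t) :
    ⁅w.x i, w.x (i + (len + 1 : ℕ))⁆ ∈ w.W (i + 1) len := by
  have := Fact.mk hp
  set A := w.W i (len + 1) with hA
  set B := w.W (i + 1) (len + 1) with hB
  set C := w.W i (len + 2) with hC
  have hAC : A ≤ C := w.left_le i (len + 1) (by omega)
  have hBC : B ≤ C := w.right_le i (len + 1) (by omega)
  have hCp : IsPGroup p C := IsPGroup.of_card (w.card i (len + 2) hlen)
  have hnorm : ∀ {H : Subgroup G}, H ≤ C → Nat.card H = p ^ (len + 1) → C ≤ normalizer (H : Set G) := by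
    intro H hH hc
    refine (normal_subgroupOf_iff_le_normalizer hH).1 ?_
    have hi : (H.subgroupOf C).index = p := by
      have h := card_mul_relIndex hH
      rw [hc, w.card i (len + 2) hlen, pow_succ _ (len + 1)] at h
      exact Nat.eq_of_mul_eq_mul_left (pow_pos hp.pos _) h
    refine Subgroup.normal_of_index_eq_minFac_card ?_
    rw [hi, w.card i (len + 2) hlen, Nat.pow_minFac (by omega), hp.minFac_eq]
  have hu : w.x i ∈ A := w.mem (by omega) le_rfl (by omega)
  have hv : w.x (i + (len + 1 : ℕ)) ∈ B := w.mem (by omega) (by omega) (by omega)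
  have h1 : ⁅w.x i, w.x (i + (len + 1 : ℕ))⁆ ∈ A ⊓ B := by
    rw [commutatorElement_def]
    refine ⟨?_, B.mul_mem ((mem_normalizer_iff.1 (hnorm hBC (w.card _ _ (by omega)) (hAC hu)) _).1 hv)
      (B.inv_mem hv)⟩
    rw [mul_assoc, mul_assoc, ← mul_assoc (w.x (i + (len + 1 : ℕ)))]
    exact A.mul_mem hu
      ((mem_normalizer_iff.1 (hnorm hAC (w.card _ _ (by omega)) (hBC hv)) _).1 (A.inv_mem hu))
  have hle : w.W (i + 1) len ≤ A ⊓ B :=
    le_inf (w.mono (by omega) (by omega) (by omega)) (w.mono (by omega) le_rfl (by omega))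
  have hlt : A ⊓ B < A := by
    refine lt_of_le_of_ne inf_le_left fun h => ?_
    have hAB : A = B := eq_of_le_of_card_ge (h.ge.trans inf_le_right)
      (by rw [w.card _ _ (by omega), w.card _ _ (by omega)])
    have h2 := w.card i (len + 2) hlen
    rw [w.sup i (len + 1) (by omega) (by omega), ← hA, ← hB, ← hAB, sup_idem,
      w.card _ _ (by omega)] at h2
    have := Nat.pow_right_injective hp.two_le h2
    omega
  have hcard : Nat.card (A ⊓ B : Subgroup G) ≤ p ^ len := by
    obtain ⟨k, hk, hk'⟩ := (Nat.dvd_prime_pow hp).1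
      ((w.card i (len + 1) (by omega)) ▸ card_dvd_of_le (inf_le_left : A ⊓ B ≤ A))
    rw [hk']
    refine Nat.pow_le_pow_right hp.pos ?_
    by_contra hc
    refine hlt.ne (eq_of_le_of_card_ge inf_le_left ?_)
    rw [hk', w.card i (len + 1) (by omega), show k = len + 1 by omega]
  rw [eq_of_le_of_card_ge hle (hcard.trans (w.card _ _ (by omega)).ge)]
  exact h1

theorem disjoint [Finite G] (hp : p.Prime) {i : ℤ} {u v : ℕ} (h : u + v ≤ t)
    (hcomm : ∀ y ∈ w.W i u, ∀ z ∈ w.W (i + u) v, Commute y z) :
    w.W i u ⊓ w.W (i + u) v = ⊥ := by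
  have hn : w.W (i + u) v ≤ normalizer ((w.W i u : Subgroup G) : Set G) := fun z hz =>
    centralizer_le_normalizer _ (mem_centralizer_iff.2 fun y hy => (hcomm y hy z hz).eq)
  have hsup : w.W (i + u) v ⊔ w.W i u = w.W i (u + v) := by
    refine le_antisymm (sup_le (w.mono h (by omega) (by omega)) (w.mono h le_rfl (by omega)))
      (w.le h fun k h1 h2 => ?_)
    rcases lt_or_ge k (i + u) with hk | hk
    · exact mem_sup_right (w.mem (by omega) h1 hk)
    · exact mem_sup_left (w.mem (by omega) hk (by omega))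
  have h1 := card_mul_relIndex (le_sup_right : w.W i u ≤ w.W (i + u) v ⊔ w.W i u)
  rw [relIndex_sup_right_of_le_normalizer hn, hsup, w.card i _ h, w.card i u (by omega), pow_add]
    at h1
  have h2 := Nat.eq_of_mul_eq_mul_left (pow_pos hp.pos _) h1
  have h3 := card_mul_relIndex (inf_le_right : w.W i u ⊓ w.W (i + u) v ≤ w.W (i + u) v)
  rw [inf_relIndex_right, h2, w.card _ v (by omega)] at h3
  exact Subgroup.card_eq_one.1
    (Nat.eq_of_mul_eq_mul_right (pow_pos hp.pos v) (h3.trans (one_mul _).symm))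

/-- Commutation at all distances below `a` and failure at distance `a < t` give `3 a ≥ 2 t`. -/
theorem two_mul_le [Finite G] (hp : p.Prime) {a : ℕ} (hat : a < t)
    (hcom : ∀ i j : ℤ, j - i < a → i - j < a → Commute (w.x i) (w.x j))
    (hnc : ∀ i : ℤ, ¬ Commute (w.x i) (w.x (i + a))) : 2 * t ≤ 3 * a := by
  classical
  obtain ⟨b, rfl⟩ : ∃ b, a = b + 1 := by
    refine ⟨a - 1, ?_⟩
    rcases Nat.eq_zero_or_pos a with rfl | h
    · exact absurd (Commute.refl (w.x 0)) (by simpa using hnc 0)
    · omega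
  set c := ⁅w.x 0, w.x (0 + (b + 1 : ℕ))⁆ with hc
  have hcW : c ∈ w.W (0 + 1) b := w.commutator_mem hp (by omega)
  rw [zero_add] at hcW
  have hc1 : c ≠ 1 := fun h => hnc 0 (commutatorElement_eq_one_iff_commute.1 h)
  -- commutation inside short windows
  have hshort : ∀ {i j : ℤ} {u v : ℕ} {y z : G}, u ≤ t → v ≤ t → y ∈ w.W i u → z ∈ w.W j v →
      (∀ k l : ℤ, i ≤ k → k < i + u → j ≤ l → l < j + v → l - k < (b + 1 : ℕ) ∧ k - l < (b + 1 : ℕ)) →
      Commute y z := by
    intro i j u v y z hu hv hy hz h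
    exact (w.commute_of_forall hu hy fun k hk1 hk2 => (w.commute_of_forall hv hz fun l hl1 hl2 =>
      hcom k l (h k l hk1 hk2 hl1 hl2).1 (h k l hk1 hk2 hl1 hl2).2).symm).symm
  -- an element whose difference from a power of `x l` commutes with `y` cannot commute with `y`
  have hpow : ∀ {l : ℤ} {e d y : G}, e ∈ zpowers (w.x l) → e ≠ 1 → Commute d y →
      Commute (e * d) y → Commute (w.x l) y := by
    intro l e d y he he1 hd hed
    have h1 : Commute e y := by
      have := hed.mul_left hd.inv_left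
      rwa [mul_inv_cancel_right] at this
    have := Fact.mk hp
    have hz : zpowers e = zpowers (w.x l) := by
      refine eq_of_le_of_card_ge (zpowers_le.2 he) ?_
      rw [Nat.card_zpowers, Nat.card_zpowers, w.pos_x l hp (by omega)]
      refine Nat.le_of_dvd (orderOf_pos e) ?_
      rcases (Nat.dvd_prime hp).1
        (w.pos_x l hp (by omega) ▸ orderOf_dvd_of_mem_zpowers he) with h | h
      · exact absurd (orderOf_eq_one_iff.1 h) he1
      · rw [h]
    obtain ⟨n, hn⟩ := (hz ▸ mem_zpowers (w.x l) : w.x l ∈ zpowers e)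
    rw [← hn]
    exact h1.zpow_left n
  -- lowest index
  have hexl : ∃ l : ℕ, l + 1 ≤ b ∧ c ∈ w.W (1 + l) (b - l) ∧ c ∉ w.W (1 + (l + 1 : ℕ)) (b - (l + 1)) := by
    by_contra hne
    push Not at hne
    have : ∀ l, l ≤ b → c ∈ w.W (1 + (l : ℕ)) (b - l) := by
      intro l
      induction l with
      | zero => intro _; simpa using hcW
      | succ l ih => intro hl; exact hne l hl (ih (by omega))
    have h := this b le_rfl
    rw [Nat.sub_self, w.bot, mem_bot] at h
    exact hc1 h
  obtain ⟨l, hl, hcl, hcl'⟩ := hexl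
  -- highest index
  have hexr : ∃ r : ℕ, r + 1 ≤ b ∧ c ∈ w.W 1 (r + 1) ∧ c ∉ w.W 1 r := by
    by_contra hne
    push Not at hne
    have : ∀ d, d ≤ b → c ∈ w.W 1 (b - d) := by
      intro d
      induction d with
      | zero => intro _; exact hcW
      | succ d ih =>
        intro hd
        refine hne (b - (d + 1)) (by omega) ?_
        rw [show b - (d + 1) + 1 = b - d by omega]
        exact ih (by omega)
    have h := this b le_rfl
    rw [Nat.sub_self, w.bot, mem_bot] at h
    exact hc1 h
  obtain ⟨r, hr, hcr, hcr'⟩ := hexr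
  -- `c` commutes with `x k` for `k` just above the window
  have hup : t ≤ (1 + l) + (b + 1) := by
    by_contra hlt
    set k : ℤ := ((1 + l + (b + 1) : ℕ) : ℤ) with hk
    have hxa : Commute (w.x k) (w.x (0 + (b + 1 : ℕ))) := hcom _ _ (by omega) (by omega)
    have hd : ⁅w.x k, w.x 0⁆ ∈ w.W (0 + 1) (1 + l + b) := by
      rw [← commutatorElement_inv]
      refine inv_mem ?_
      rw [show k = 0 + ((1 + l + b) + 1 : ℕ) by omega]
      exact w.commutator_mem hp (by omega)
    have hda : Commute ⁅w.x k, w.x 0⁆ (w.x (0 + (b + 1 : ℕ))) :=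
      (w.commute_of_forall (by omega) hd fun m h1 h2 => hcom _ _ (by omega) (by omega)).symm
    have hck : Commute c (w.x k) := by
      have e0 : w.x k * w.x 0 * (w.x k)⁻¹ = ⁅w.x k, w.x 0⁆ * w.x 0 := by
        rw [commutatorElement_def, inv_mul_cancel_right]
      have ea : w.x k * w.x (0 + (b + 1 : ℕ)) * (w.x k)⁻¹ = w.x (0 + (b + 1 : ℕ)) := by
        rw [hxa.eq, mul_inv_cancel_right]
      have h : w.x k * c * (w.x k)⁻¹ = c := by
        calc w.x k * c * (w.x k)⁻¹
            = ⁅w.x k * w.x 0 * (w.x k)⁻¹, w.x k * w.x (0 + (b + 1 : ℕ)) * (w.x k)⁻¹⁆ := by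
              rw [hc, commutatorElement_def, commutatorElement_def]; group
          _ = ⁅⁅w.x k, w.x 0⁆ * w.x 0, w.x (0 + (b + 1 : ℕ))⁆ := by rw [e0, ea]
          _ = ⁅w.x k, w.x 0⁆ * c * ⁅w.x k, w.x 0⁆⁻¹ := by
              rw [commutatorElement_mul_left_eq_conj_mul, commutatorElement_eq_one_iff_commute.2 hda,
                mul_one, ← hc]
          _ = c := by
              rw [(hshort (by omega) (by omega) hd hcl fun _ _ _ _ _ _ => by constructor <;> omega).eq,
                mul_inv_cancel_right]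
      exact (mul_inv_eq_iff_eq_mul.1 h).symm
    -- split `c`
    have hsplit : w.W (1 + l) (b - l) ≤ zpowers (w.x (1 + l)) ⊔ w.W (1 + (l + 1 : ℕ)) (b - (l + 1)) :=
      w.le (by omega) fun m h1 h2 => by
        rcases eq_or_lt_of_le h1 with rfl | h
        · exact mem_sup_left (mem_zpowers _)
        · exact mem_sup_right (w.mem (by omega) (by omega) (by omega))
    have hn : zpowers (w.x (1 + l)) ≤
        normalizer ((w.W (1 + (l + 1 : ℕ)) (b - (l + 1)) : Subgroup G) : Set G) := by
      rw [zpowers_le]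
      refine centralizer_le_normalizer _ (mem_centralizer_iff.2 fun y hy => ?_)
      exact ((w.commute_of_forall (by omega) hy fun m h1 h2 => hcom _ _ (by omega) (by omega))).eq.symm
    obtain ⟨e, he, d, hd', hed⟩ := (mem_sup_iff_of_le_normalizer hn).1 (hsplit hcl)
    have he1 : e ≠ 1 := fun h => hcl' (by rw [← hed, h, one_mul]; exact hd')
    refine hnc (1 + l) ?_
    rw [show (1 + l : ℤ) + (b + 1 : ℕ) = k by omega]
    exact hpow he he1
      (w.commute_of_forall (by omega) hd' fun m h1 h2 => hcom _ _ (by omega) (by omega)).symm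
      (hed ▸ hck)
  -- `c` commutes with `x k` for `k` just below the window
  have hdown : t < (b + 1) + ((b + 1) - (r + 1)) + 1 := by
    by_contra hge
    set k : ℤ := (r + 1 : ℤ) - (b + 1 : ℕ) with hk
    have hx0 : Commute (w.x k) (w.x 0) := hcom _ _ (by omega) (by omega)
    have hd : ⁅w.x k, w.x (0 + (b + 1 : ℕ))⁆ ∈ w.W (k + 1) ((b + 1) + (b - r) - 1) := by
      rw [show (0 + (b + 1 : ℕ) : ℤ) = k + (((b + 1) + (b - r) - 1) + 1 : ℕ) by omega]
      exact w.commutator_mem hp (by omega)
    have hd0 : Commute (w.x 0) ⁅w.x k, w.x (0 + (b + 1 : ℕ))⁆ :=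
      w.commute_of_forall (by omega) hd fun m h1 h2 => hcom _ _ (by omega) (by omega)
    have hck : Commute c (w.x k) := by
      have e0 : w.x k * w.x 0 * (w.x k)⁻¹ = w.x 0 := by rw [hx0.eq, mul_inv_cancel_right]
      have ea : w.x k * w.x (0 + (b + 1 : ℕ)) * (w.x k)⁻¹ =
          ⁅w.x k, w.x (0 + (b + 1 : ℕ))⁆ * w.x (0 + (b + 1 : ℕ)) := by
        rw [commutatorElement_def (w.x k), inv_mul_cancel_right]
      have h : w.x k * c * (w.x k)⁻¹ = c := by
        calc w.x k * c * (w.x k)⁻¹
            = ⁅w.x k * w.x 0 * (w.x k)⁻¹, w.x k * w.x (0 + (b + 1 : ℕ)) * (w.x k)⁻¹⁆ := by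
              rw [hc, commutatorElement_def, commutatorElement_def]; group
          _ = ⁅w.x 0, ⁅w.x k, w.x (0 + (b + 1 : ℕ))⁆ * w.x (0 + (b + 1 : ℕ))⁆ := by rw [e0, ea]
          _ = ⁅w.x k, w.x (0 + (b + 1 : ℕ))⁆ * c * ⁅w.x k, w.x (0 + (b + 1 : ℕ))⁆⁻¹ := by
              rw [commutatorElement_mul_right_eq_mul_conj,
                commutatorElement_eq_one_iff_commute.2 hd0, one_mul, ← hc]
          _ = c := by
              rw [(hshort (by omega) (by omega) hd hcr fun _ _ _ _ _ _ => by constructor <;> omega).eq,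
                mul_inv_cancel_right]
      exact (mul_inv_eq_iff_eq_mul.1 h).symm
    have hsplit : w.W 1 (r + 1) ≤ zpowers (w.x (r + 1)) ⊔ w.W 1 r :=
      w.le (by omega) fun m h1 h2 => by
        rcases eq_or_lt_of_le (show m ≤ (r : ℤ) + 1 by omega) with rfl | h
        · exact mem_sup_left (mem_zpowers _)
        · exact mem_sup_right (w.mem (by omega) h1 (by omega))
    have hn : zpowers (w.x (r + 1)) ≤ normalizer ((w.W 1 r : Subgroup G) : Set G) := by
      rw [zpowers_le]
      refine centralizer_le_normalizer _ (mem_centralizer_iff.2 fun y hy => ?_)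
      exact ((w.commute_of_forall (by omega) hy fun m h1 h2 => hcom _ _ (by omega) (by omega))).eq.symm
    obtain ⟨e, he, d, hd', hed⟩ := (mem_sup_iff_of_le_normalizer hn).1 (hsplit hcr)
    have he1 : e ≠ 1 := fun h => hcr' (by rw [← hed, h, one_mul]; exact hd')
    refine hnc k ?_
    rw [show k + (b + 1 : ℕ) = (r + 1 : ℤ) by omega]
    exact (hpow he he1
      (w.commute_of_forall (by omega) hd' fun m h1 h2 => hcom _ _ (by omega) (by omega)).symm
      (hed ▸ hck)).symm
  -- the two bounds overlap
  have hlr : l ≤ r := by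
    by_contra hrl
    have h := w.disjoint hp (i := 1) (u := r + 1) (v := b - (r + 1)) (by omega) fun y hy z hz =>
      hshort (by omega) (by omega) hy hz fun _ _ _ _ _ _ => by constructor <;> omega
    have hc2 : c ∈ w.W (1 + (r + 1 : ℕ)) (b - (r + 1)) := w.mono (by omega) (by omega) (by omega) hcl
    have hmem : c ∈ w.W 1 (r + 1) ⊓ w.W (1 + (r + 1 : ℕ)) (b - (r + 1)) := ⟨hcr, hc2⟩
    rw [h, mem_bot] at hmem
    exact hc1 hmem
  omega

end Windows

end Cfsg.Agent.ShiftWindows
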