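import Mathlib.Data.Matrix.Mul
import Mathlib.Data.ZMod.Basic
import Mathlib.Data.Fin.Basic
import Mathlib.GroupTheory.Subgroup.Center
import Mathlib.Algebra.Field.ZMod
import Mathlib.Combinatorics.SimpleGraph.Extremal.Turan
import Mathlib.Order.Interval.Finset.Fin
import Mathlib.Tactic.Group
import Mathlib.Tactic.Abel
import Mathlib.Tactic.LinearCombination

/-!
# Groups of unitriangular matrices are generated by `n²/4` elements

The leading positions of the elements form a strict order on `Fin n`; lifts of its covering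
relations generate, and the covering graph has no triangle, so Mantel bounds their number.
-/

set_option autoImplicit false

namespace Cfsg.Agent.PGroup.UniRank

variable {X : Type*} [Group X] {n p : ℕ} (M : X →* Matrix (Fin n) (Fin n) (ZMod p))

/-- The position number: by distance from the diagonal, then by row. -/
def lv (a c : Fin n) : ℕ := ((c : ℕ) - a) * n + a

theorem lv_lt_of_diff {a c i l : Fin n} (h : (c : ℕ) - a < (l : ℕ) - i) : lv a c < lv i l := by
  have h1 : ((c : ℕ) - a + 1) * n ≤ ((l : ℕ) - i) * n := Nat.mul_le_mul_right n h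
  rw [add_mul, one_mul] at h1
  have := a.isLt
  simp only [lv]
  omega

theorem diff_le {a c i l : Fin n} (h : lv a c ≤ lv i l) : (c : ℕ) - a ≤ (l : ℕ) - i :=
  le_of_not_gt fun h' => (lv_lt_of_diff h').not_ge h

theorem row_le {a c i l : Fin n} (h : lv a c ≤ lv i l) (he : (c : ℕ) - a = (l : ℕ) - i) :
    (a : ℕ) ≤ i := by
  simp only [lv, he] at h
  omega

theorem lv_inj {a c i l : Fin n} (hac : a < c) (hil : i < l) (h : lv a c = lv i l) :
    a = i ∧ c = l := by
  have h1 := le_antisymm (diff_le h.le) (diff_le h.ge)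
  have h2 : (a : ℕ) = i := le_antisymm (row_le h.le h1) (row_le h.ge h1.symm)
  refine ⟨Fin.ext h2, Fin.ext ?_⟩
  rw [Fin.lt_def] at hac hil
  omega

theorem lv_lt_sq {a c : Fin n} (h : a < c) : lv a c < n * n := by
  rw [Fin.lt_def] at h
  have h1 : ((c : ℕ) - a + 1) * n ≤ n * n := Nat.mul_le_mul_right n (by have := c.isLt; omega)
  rw [add_mul, one_mul] at h1
  have := a.isLt
  simp only [lv]
  omega

theorem lv_left_lt {a b c : Fin n} (hab : a < b) (hbc : b < c) : lv a b < lv a c := by
  rw [Fin.lt_def] at hab hbc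
  exact lv_lt_of_diff (by omega)

/-- All entries before position `m` vanish. -/
def Van (x : X) (m : ℕ) : Prop := ∀ a c, a < c → lv a c < m → M x a c = 0

variable (hM : ∀ x i j, j ≤ i → M x i j = if i = j then 1 else 0)
include hM

theorem entry_mul (x y : X) {a c : Fin n} (hac : a < c) :
    M (x * y) a c = M x a c + M y a c + ∑ b ∈ Finset.Ioo a c, M x a b * M y b c := by
  rw [map_mul, Matrix.mul_apply, ← Finset.sum_subset (Finset.subset_univ (insert a (insert c (Finset.Ioo a c)))) ?_]
  · rw [Finset.sum_insert (by simp [hac.ne]), Finset.sum_insert (by simp), hM x a a le_rfl, hM y c c le_rfl,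
      if_pos rfl, if_pos rfl, one_mul, mul_one]
    abel
  · intro b _ hb
    simp only [Finset.mem_insert, Finset.mem_Ioo, not_or, not_and] at hb
    obtain ⟨hba, hbc, hb⟩ := hb
    rcases lt_or_gt_of_ne hba with h | h
    · rw [hM x a b h.le, if_neg (Ne.symm hba), zero_mul]
    · rw [hM y b c (not_lt.1 (hb h)), if_neg hbc, mul_zero]

theorem entry_add {x y : X} {a c : Fin n} (hac : a < c) (hx : Van M x (lv a c)) :
    M (x * y) a c = M x a c + M y a c := by
  rw [entry_mul M hM x y hac, Finset.sum_eq_zero, add_zero]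
  intro b hb
  rw [Finset.mem_Ioo] at hb
  rw [hx a b hb.1 (lv_left_lt hb.1 hb.2), zero_mul]

omit hM in
theorem van_one (m : ℕ) : Van M 1 m := fun a c hac _ => by
  rw [map_one, Matrix.one_apply_ne hac.ne]

theorem van_mul {x y : X} {m : ℕ} (hx : Van M x m) (hy : Van M y m) : Van M (x * y) m :=
  fun a c hac h => by
    rw [entry_add M hM hac fun a' c' h' hl => hx a' c' h' (hl.trans h), hx a c hac h, hy a c hac h, add_zero]

theorem van_pow {x : X} {i l : Fin n} (hil : i < l) (hx : Van M x (lv i l)) (k : ℕ) :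
    Van M (x ^ k) (lv i l) ∧ M (x ^ k) i l = k • M x i l := by
  induction k with
  | zero => exact ⟨by simpa using van_one M _, by rw [pow_zero, map_one, Matrix.one_apply_ne hil.ne, zero_smul]⟩
  | succ k ih =>
    rw [pow_succ]
    exact ⟨van_mul M hM ih.1 hx, by rw [entry_add M hM hil ih.1, ih.2, succ_nsmul]⟩

theorem leading_commutator {x y : X} {i j l : Fin n} (hij : i < j) (hjl : j < l)
    (hx : Van M x (lv i j)) (hy : Van M y (lv j l)) :
    Van M (x * y * x⁻¹ * y⁻¹) (lv i l) ∧ M (x * y * x⁻¹ * y⁻¹) i l = M x i j * M y j l := by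
  set g := x * y * x⁻¹ * y⁻¹ with hg
  have hgyx : g * (y * x) = x * y := by rw [hg]; group
  rw [Fin.lt_def] at hij hjl
  have key : ∀ k, ∀ a c, a < c → lv a c = k → lv a c ≤ lv i l →
      M g a c = if a = i ∧ c = l then M x i j * M y j l else 0 := by
    intro k
    induction k using Nat.strong_induction_on with
    | _ k ih =>
      intro a c hac hk hle
      have h0 := congrArg (fun z => M z a c) hgyx
      rw [entry_mul M hM g (y * x) hac, entry_mul M hM y x hac, entry_mul M hM x y hac] at h0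
      have hd := diff_le hle
      rw [Fin.lt_def] at hac
      have hg0 : ∑ b ∈ Finset.Ioo a c, M g a b * M (y * x) b c = 0 := by
        refine Finset.sum_eq_zero fun b hb => ?_
        rw [Finset.mem_Ioo] at hb
        have hlt := lv_left_lt hb.1 hb.2
        rw [ih _ (hk ▸ hlt) a b hb.1 rfl (hlt.le.trans hle), if_neg, zero_mul]
        rintro ⟨rfl, rfl⟩
        exact (hlt.trans_le hle).false
      -- the terms with `y` first vanish
      have hyx : ∑ b ∈ Finset.Ioo a c, M y a b * M x b c = 0 := by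
        refine Finset.sum_eq_zero fun b hb => ?_
        rw [Finset.mem_Ioo] at hb
        by_cases h1 : lv a b < lv j l
        · rw [hy a b hb.1 h1, zero_mul]
        by_cases h2 : lv b c < lv i j
        · rw [hx b c hb.2 h2, mul_zero]
        exfalso
        have e1 := diff_le (not_lt.1 h1)
        have e2 := diff_le (not_lt.1 h2)
        rw [Fin.lt_def, Fin.lt_def] at hb
        have e3 := row_le (not_lt.1 h1) (by omega)
        have e4 := row_le hle (by omega)
        omega
      have hxy : ∑ b ∈ Finset.Ioo a c, M x a b * M y b c =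
          if a = i ∧ c = l then M x i j * M y j l else 0 := by
        have huniq : ∀ b ∈ Finset.Ioo a c, M x a b * M y b c ≠ 0 → a = i ∧ c = l ∧ b = j := by
          intro b hb hne
          rw [Finset.mem_Ioo] at hb
          have h1 : ¬ lv a b < lv i j := fun h => hne (by rw [hx a b hb.1 h, zero_mul])
          have h2 : ¬ lv b c < lv j l := fun h => hne (by rw [hy b c hb.2 h, mul_zero])
          have e1 := diff_le (not_lt.1 h1)
          have e2 := diff_le (not_lt.1 h2)
          rw [Fin.lt_def, Fin.lt_def] at hb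
          have e3 := row_le (not_lt.1 h1) (by omega)
          have e4 := row_le hle (by omega)
          exact ⟨Fin.ext (by omega), Fin.ext (by omega), Fin.ext (by omega)⟩
        split_ifs with h
        · obtain ⟨rfl, rfl⟩ := h
          rw [Finset.sum_eq_single j]
          · intro b hb hbj
            by_contra hne
            exact hbj (huniq b hb hne).2.2
          · intro hj
            exact absurd (Finset.mem_Ioo.2 ⟨Fin.lt_def.2 hij, Fin.lt_def.2 hjl⟩) hj
        · refine Finset.sum_eq_zero fun b hb => ?_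
          by_contra hne
          exact h ⟨(huniq b hb hne).1, (huniq b hb hne).2.1⟩
      rw [hg0, hyx, hxy] at h0
      linear_combination h0
  refine ⟨fun a c hac h => ?_, ?_⟩
  · rw [key _ a c hac rfl h.le, if_neg]
    rintro ⟨rfl, rfl⟩
    exact h.false
  · rw [key _ i l (hij.trans hjl) rfl le_rfl, if_pos ⟨rfl, rfl⟩]

omit hM in
/-- A leading position of some element. -/
def Good (i j : Fin n) : Prop := i < j ∧ ∃ x, Van M x (lv i j) ∧ M x i j ≠ 0

omit hM in
/-- A leading position which is no composite of two. -/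
def Cov (i j : Fin n) : Prop := Good M i j ∧ ¬ ∃ b, Good M i b ∧ Good M b j

variable [Fact p.Prime]

omit hM [Fact p.Prime] in
theorem card_cov_le : 4 * Nat.card {q : Fin n × Fin n // Cov M q.1 q.2} ≤ n * n := by
  classical
  let Gr : SimpleGraph (Fin n) := SimpleGraph.fromRel (Cov M)
  have hcf : Gr.CliqueFree 3 := by
    intro t ht
    obtain ⟨a, b, c, hab, hac, hbc, -⟩ := SimpleGraph.is3Clique_iff.1 ht
    simp only [Gr, SimpleGraph.fromRel_adj] at hab hac hbc
    rcases hab.2 with h1 | h1 <;> rcases hac.2 with h2 | h2 <;> rcases hbc.2 with h3 | h3 <;>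
      first
        | exact h2.2 ⟨_, h1.1, h3.1⟩
        | exact h1.2 ⟨_, h2.1, h3.1⟩
        | exact h3.2 ⟨_, h1.1, h2.1⟩
        | exact h3.2 ⟨_, h2.1, h1.1⟩
        | exact h2.2 ⟨_, h3.1, h1.1⟩
        | exact h1.2 ⟨_, h3.1, h2.1⟩
        | exact absurd (h1.1.1.trans h3.1.1) h2.1.1.asymm
        | exact absurd (h3.1.1.trans h1.1.1) h2.1.1.asymm
  have h1 := SimpleGraph.CliqueFree.card_edgeFinset_le (r := 2) hcf
  simp only [Fintype.card_fin] at h1
  have h2 : Nat.card {q : Fin n × Fin n // Cov M q.1 q.2} ≤ Gr.edgeFinset.card := by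
    rw [← Nat.card_eq_finsetCard]
    refine Nat.card_le_card_of_injective
      (fun q => (⟨s(q.1.1, q.1.2), ?_⟩ : {e // e ∈ Gr.edgeFinset})) ?_
    · rw [SimpleGraph.mem_edgeFinset, SimpleGraph.mem_edgeSet, SimpleGraph.fromRel_adj]
      exact ⟨q.2.1.1.ne, Or.inl q.2⟩
    · rintro ⟨⟨a, b⟩, hab⟩ ⟨⟨c, d⟩, hcd⟩ h
      have h' : s(a, b) = s(c, d) := congrArg Subtype.val h
      rcases Sym2.eq_iff.1 h' with ⟨rfl, rfl⟩ | ⟨rfl, rfl⟩
      · rfl
      · exact absurd hab.1.1 hcd.1.1.asymm
  have h3 : n % 2 < 2 := Nat.mod_lt _ two_pos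
  rw [Nat.choose_eq_zero_of_lt h3, pow_two, pow_two] at h1
  generalize n * n = N at *
  omega

/-- A group of unitriangular `n × n` matrices over `ZMod p` is generated by at most `n²/4` of them. -/
theorem exists_generators :
    ∃ S : Finset X, 4 * S.card ≤ n * n ∧
      ∀ x, ∃ y ∈ Subgroup.closure (S : Set X), M x = M y := by
  classical
  have hw : ∀ q : {q : Fin n × Fin n // Cov M q.1 q.2},
      ∃ x, Van M x (lv q.1.1 q.1.2) ∧ M x q.1.1 q.1.2 ≠ 0 := fun q => q.2.1.2
  choose w hwv hwn using hw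
  refine ⟨Finset.univ.image w, ?_, ?_⟩
  · refine le_trans (Nat.mul_le_mul_left 4 Finset.card_image_le) ?_
    rw [Finset.card_univ, ← Nat.card_eq_fintype_card]
    exact card_cov_le M
  set Y := Subgroup.closure ((Finset.univ.image w : Finset X) : Set X) with hY
  have hgood : ∀ d, ∀ i j : Fin n, (j : ℕ) - i = d → Good M i j →
      ∃ y ∈ Y, Van M y (lv i j) ∧ M y i j ≠ 0 := by
    intro d
    induction d using Nat.strong_induction_on with
    | _ d ih =>
      intro i j hd hg
      by_cases hc : Cov M i j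
      · exact ⟨w ⟨(i, j), hc⟩, Subgroup.subset_closure (by simp), hwv ⟨(i, j), hc⟩, hwn ⟨(i, j), hc⟩⟩
      obtain ⟨b, hib, hbj⟩ : ∃ b, Good M i b ∧ Good M b j := by
        by_contra h
        exact hc ⟨hg, h⟩
      have hi := Fin.lt_def.1 hib.1
      have hj := Fin.lt_def.1 hbj.1
      obtain ⟨u, huY, huv, hun⟩ := ih _ (by omega) i b rfl hib
      obtain ⟨v, hvY, hvv, hvn⟩ := ih _ (by omega) b j rfl hbj
      obtain ⟨h1, h2⟩ := leading_commutator M hM hib.1 hbj.1 huv hvv
      exact ⟨_, mul_mem (mul_mem (mul_mem huY hvY) (inv_mem huY)) (inv_mem hvY), h1,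
        h2 ▸ mul_ne_zero hun hvn⟩
  intro x
  suffices h : ∀ m, ∃ y ∈ Y, Van M (y⁻¹ * x) m by
    obtain ⟨y, hy, hv⟩ := h (n * n)
    refine ⟨y, hy, ?_⟩
    have h1 : M (y⁻¹ * x) = 1 := by
      ext a c
      rcases le_or_gt c a with h | h
      · rw [hM _ a c h, Matrix.one_apply]
      · rw [hv a c h (lv_lt_sq h), Matrix.one_apply_ne h.ne]
    calc M x = M (y * (y⁻¹ * x)) := by rw [mul_inv_cancel_left]
      _ = M y := by rw [map_mul, h1, mul_one]
  intro m
  induction m with
  | zero => exact ⟨1, one_mem _, fun a c _ h => absurd h (Nat.not_lt_zero _)⟩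
  | succ m ih =>
    obtain ⟨y, hy, hv⟩ := ih
    by_cases h : ∃ i l, i < l ∧ lv i l = m ∧ M (y⁻¹ * x) i l ≠ 0
    swap
    · push Not at h
      exact ⟨y, hy, fun a c hac hlt => (Nat.lt_succ_iff_lt_or_eq.1 hlt).elim (hv a c hac) (h a c hac)⟩
    obtain ⟨i, l, hil, rfl, hne⟩ := h
    obtain ⟨z, hzY, hzv, hzn⟩ := hgood _ i l rfl ⟨hil, _, hv, hne⟩
    set k := (-(M (y⁻¹ * x) i l) * (M z i l)⁻¹).val
    obtain ⟨hkv, hkn⟩ := van_pow M hM hil hzv k
    refine ⟨y * (z ^ k)⁻¹, mul_mem hy (inv_mem (pow_mem hzY k)), ?_⟩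
    rw [mul_inv_rev, inv_inv, mul_assoc]
    intro a c hac hlt
    rcases Nat.lt_succ_iff_lt_or_eq.1 hlt with hlt | heq
    · exact van_mul M hM hkv hv a c hac hlt
    · obtain ⟨rfl, rfl⟩ := lv_inj hac hil heq
      rw [entry_add M hM hac hkv, hkn, nsmul_eq_mul, ZMod.natCast_val, ZMod.cast_id, mul_assoc,
        inv_mul_cancel₀ hzn, mul_one, neg_add_cancel]

end Cfsg.Agent.PGroup.UniRank
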